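/-
The hyperfocal subgroup theorem: `hyp(F_S(G)) = S ∩ O^p(G)`.
-/
import Mathlib
import Cfsg.Prelude.Def_FusionSystem
import Cfsg.Agent.Lib.Fusion.Basic
import Cfsg.Agent.Lib.Fusion.GroupSylow
import Cfsg.Agent.Lib.Fusion.GroupNormal
import Cfsg.Agent.Lib.Fusion.Transport
import Cfsg.Agent.Lib.Fusion.Focal
import Cfsg.Agent.Lib.Fusion.Hyperfocal
import Cfsg.Agent.Lib.Basic.ElementFusion
import Cfsg.Agent.Lib.Transfer.Basic

set_option autoImplicit false

namespace Cfsg.Agent.Lib.Fusion.HyperfocalThm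

open Cfsg Cfsg.FusionSystem Cfsg.Agent.Lib.Fusion.Basic Cfsg.Agent.Lib.Fusion.Hyperfocal
open Cfsg.Agent.Lib.Fusion.Focal Cfsg.Agent.Lib.Fusion.GroupSylow
open scoped commutatorElement

/-- A `p`-group with `T = D [T, T]`, `D` normal in `T`, has `T = D`. -/
theorem le_of_le_sup_commutator {Ω : Type*} [Group Ω] {p : ℕ} [Fact p.Prime] {T D : Subgroup Ω}
    [Finite T] (hT : IsPGroup p T) (hDT : D ≤ T) (hn : ∀ t ∈ T, ∀ d ∈ D, t * d * t⁻¹ ∈ D)
    (h : T ≤ D ⊔ ⁅T, T⁆) : T ≤ D := by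
  classical
  let D' : Subgroup T := D.subgroupOf T
  have hD' : D'.Normal := ⟨fun d hd t => hn t t.2 d hd⟩
  let Q := T ⧸ D'
  let π : T →* Q := QuotientGroup.mk' D'
  have hQp : IsPGroup p Q := hT.to_quotient D'
  haveI : Finite Q := inferInstance
  have hnil : Group.IsNilpotent Q := hQp.isNilpotent
  let W : Subgroup Ω := ((commutator Q).comap π).map T.subtype
  have hle : D ⊔ ⁅T, T⁆ ≤ W := by
    refine sup_le ?_ ?_
    · intro d hd
      refine ⟨⟨d, hDT hd⟩, ?_, rfl⟩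
      have h1 : π ⟨d, hDT hd⟩ = 1 := (QuotientGroup.eq_one_iff _).2 hd
      show π ⟨d, hDT hd⟩ ∈ commutator Q
      rw [h1]
      exact one_mem _
    · rw [Subgroup.commutator_le]
      intro a ha b hb
      refine ⟨⁅(⟨a, ha⟩ : T), (⟨b, hb⟩ : T)⁆, ?_, rfl⟩
      show π _ ∈ commutator Q
      rw [map_commutatorElement]
      exact Subgroup.commutator_mem_commutator (Subgroup.mem_top _) (Subgroup.mem_top _)
  have htop : commutator Q = ⊤ := by
    rw [eq_top_iff]
    intro q _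
    obtain ⟨t, rfl⟩ := QuotientGroup.mk'_surjective D' q
    obtain ⟨t', ht', he⟩ := hle (h t.2)
    have : t' = t := Subtype.ext he
    rw [← this]
    exact ht'
  have hlcs : ∀ n, Subgroup.lowerCentralSeries (⊤ : Subgroup Q) n = ⊤ := by
    intro n
    induction n with
    | zero => rfl
    | succ n ih =>
      show ⁅Subgroup.lowerCentralSeries (⊤ : Subgroup Q) n, ⊤⁆ = ⊤
      rw [ih]
      exact htop
  obtain ⟨n, hn'⟩ := Subgroup.nilpotent_iff_lowerCentralSeries.1 hnil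
  have hbot : (⊤ : Subgroup Q) = ⊥ := (hlcs n).symm.trans hn'
  intro t ht
  have h1 : π ⟨t, ht⟩ ∈ (⊥ : Subgroup Q) := hbot ▸ Subgroup.mem_top _
  have h2 : π ⟨t, ht⟩ = 1 := h1
  have h3 : (⟨t, ht⟩ : T) ∈ D' := (QuotientGroup.eq_one_iff (N := D') _).1 h2
  exact h3

variable {G : Type*} [Group G] [Finite G] {p : ℕ} [hp : Fact p.Prime]

/-- A `p'`-automorphism induced by `g` is induced by a `p'`-power of `g`. -/
theorem exists_coprime_conj {P : Subgroup G} (α : MulAut P)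
    (hα : (orderOf α).Coprime p) {g : G}
    (hg : ∀ x : P, ((α x : P) : G) = g * x * g⁻¹) :
    ∃ h : G, (orderOf h).Coprime p ∧ ∀ x : P, ((α x : P) : G) = h * x * h⁻¹ := by
  obtain ⟨a, b, hb, hfac⟩ := Nat.exists_eq_pow_mul_and_not_dvd (orderOf_pos g).ne' p hp.out.ne_one
  have hcop : (orderOf α).Coprime (p ^ a) := hα.pow_right a
  let u : ℕ := Nat.chineseRemainder hcop 1 0
  have hu : u ≡ 1 [MOD orderOf α] ∧ u ≡ 0 [MOD p ^ a] := (Nat.chineseRemainder hcop 1 0).2
  have h1 : α ^ u = α := by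
    have := (pow_eq_pow_iff_modEq (x := α)).2 hu.1
    simpa using this
  have hpow : ∀ (k : ℕ) (x : P), (((α ^ k) x : P) : G) = g ^ k * x * (g ^ k)⁻¹ := by
    intro k
    induction k with
    | zero => intro x; simp
    | succ k ih =>
      intro x
      rw [pow_succ', MulAut.mul_apply, hg, ih, pow_succ']
      group
  obtain ⟨t, ht⟩ := (Nat.modEq_zero_iff_dvd).1 hu.2
  refine ⟨g ^ u, ?_, fun x => ?_⟩
  · have hd : orderOf (g ^ u) ∣ b := by
      apply orderOf_dvd_of_pow_eq_one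
      have e : (g ^ u) ^ b = (g ^ orderOf g) ^ t := by
        rw [← pow_mul, ← pow_mul, ht, hfac]
        congr 1
        ring
      rw [e, pow_orderOf_eq_one, one_pow]
    have hbc : b.Coprime p := ((Nat.Prime.coprime_iff_not_dvd hp.out).2 hb).symm
    exact Nat.Coprime.coprime_dvd_left hd hbc
  · have := hpow u x
    rwa [h1] at this

theorem hyperfocal_le_inf (S : Sylow p G) :
    (groupFusionSystem (S : Subgroup G)).hyperfocalSubgroup p ≤
      (S : Subgroup G) ⊓ pResidual p G := by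
  refine le_inf hyperfocal_le_S (hyperfocal_le fun P hP α hα x => ?_)
  have h1 := autGroup_mem_hom hP α.2
  obtain ⟨-, -, g, hg⟩ := h1
  have hα' : (orderOf (α : MulAut P)).Coprime p := by rwa [Subgroup.orderOf_coe]
  obtain ⟨h, hh, hhc⟩ := exists_coprime_conj (α : MulAut P) hα' (g := g) hg
  rw [hhc]
  have hhm : h ∈ pResidual p G := Subgroup.subset_closure hh
  have hn : (pResidual p G).Normal := inferInstance
  have h2 : (x : G)⁻¹ * h * ((x : G)⁻¹)⁻¹ ∈ pResidual p G := hn.conj_mem h hhm _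
  have e : (x : G)⁻¹ * (h * x * h⁻¹) = ((x : G)⁻¹ * h * ((x : G)⁻¹)⁻¹) * h⁻¹ := by group
  rw [e]
  exact Subgroup.mul_mem _ h2 (Subgroup.inv_mem _ hhm)

/-- The hyperfocal subgroup of the fusion system of a normal subgroup is inside that of `G`. -/
theorem hyperfocal_mono (S : Sylow p G) {H T : Subgroup G} (hTH : T ≤ H)
    (hTS : T ≤ (S : Subgroup G)) :
    (fusionSystemOfSubgroup H T hTH).hyperfocalSubgroup p ≤
      (groupFusionSystem (S : Subgroup G)).hyperfocalSubgroup p := by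
  refine hyperfocal_le fun Q hQ α hα x => ?_
  have h1 := autGroup_mem_hom hQ α.2
  obtain ⟨h2, h3, g, -, hg⟩ := h1
  have hαF : (α : MulAut Q) ∈ (groupFusionSystem (S : Subgroup G)).autGroup Q := by
    apply mem_autGroup_of_mem
    exact ⟨h2.trans hTS, fun y => hTS (h3 y), g, hg⟩
  refine mem_hyperfocal_of_coprime (h2.trans hTS) (α := ⟨(α : MulAut Q), hαF⟩) ?_ x
  rw [← Subgroup.orderOf_coe] at hα ⊢
  exact hα

theorem inf_le_hyperfocal (S : Sylow p G) :
    (S : Subgroup G) ⊓ pResidual p G ≤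
      (groupFusionSystem (S : Subgroup G)).hyperfocalSubgroup p := by
  classical
  set H : Subgroup G := pResidual p G with hH
  set T : Subgroup G := (S : Subgroup G) ⊓ H with hT
  have hHn : H.Normal := inferInstance
  have hTH : T ≤ H := inf_le_right
  have hTS : T ≤ (S : Subgroup G) := inf_le_left
  have hsyl : IsSylowIn p T H := Cfsg.Agent.Lib.Fusion.GroupNormal.isSylowIn_inf S H
  have hTp : IsPGroup p T := hsyl.isPGroup hTH
  have hF₀ := Cfsg.Agent.Lib.Fusion.Transport.isSaturated_fusionSystemOfSubgroup H T hTH hsyl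
  obtain ⟨R, hR⟩ := hsyl
  set F₀ := fusionSystemOfSubgroup H T hTH with hF₀def
  -- the focal subgroup theorem for `H`
  have hfoc := Cfsg.Agent.Lib.Basic.ElementFusion.focalSubgroupOf_eq_top_of_pResidual R
    (Cfsg.Agent.Lib.Basic.ElementFusion.pResidual_pResidual_eq_top p)
  have hfoc2 : (R : Subgroup H).focalSubgroup ≤ (F₀.focalSubgroup).comap H.subtype := by
    rw [Subgroup.focalSubgroup_def, Subgroup.closure_le]
    rintro g ⟨hg, x, hx, u, rfl⟩
    have hgT : ((⁅x, u⁆ : H) : G) ∈ T := by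
      have : (⁅x, u⁆ : H) ∈ T.subgroupOf H := hR ▸ hg
      exact this
    have hxT : (x : G) ∈ T := by
      have : x ∈ T.subgroupOf H := hR ▸ hx
      exact this
    let P : Subgroup G := T ⊓ T.comap (MulAut.conj (u : G)).toMonoidHom
    have hxP : ((x : G))⁻¹ ∈ P := by
      refine ⟨T.inv_mem hxT, ?_⟩
      show (u : G) * (x : G)⁻¹ * (u : G)⁻¹ ∈ T
      have e : (u : G) * (x : G)⁻¹ * (u : G)⁻¹ = (x : G)⁻¹ * ((⁅x, u⁆ : H) : G) := by
        have ec : ((⁅x, u⁆ : H) : G) = (x : G) * u * (x : G)⁻¹ * (u : G)⁻¹ := rfl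
        rw [ec]
        group
      rw [e]
      exact T.mul_mem (T.inv_mem hxT) hgT
    have hφ : conjHom P (u : G) ∈ F₀.Hom P := by
      refine ⟨inf_le_left, fun y => y.2.2, u, u.2, fun y => rfl⟩
    refine Subgroup.subset_closure ⟨P, conjHom P (u : G), ⟨_, hxP⟩, hφ, ?_⟩
    show ((⁅x, u⁆ : H) : G) = ((x : G)⁻¹)⁻¹ * ((u : G) * (x : G)⁻¹ * (u : G)⁻¹)
    have ec : ((⁅x, u⁆ : H) : G) = (x : G) * u * (x : G)⁻¹ * (u : G)⁻¹ := rfl
    rw [ec]
    group
  have h1 : T ≤ F₀.focalSubgroup := by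
    intro y hy
    have h2 : (⟨y, hTH hy⟩ : H) ∈ (R : Subgroup H) := by
      rw [hR]
      exact hy
    have h3 : (⟨y, hTH hy⟩ : H) ∈ (R : Subgroup H).focalSubgroup := by
      rw [← Subgroup.map_focalSubgroupOf, hfoc]
      exact ⟨⟨_, h2⟩, Subgroup.mem_top _, rfl⟩
    exact hfoc2 h3
  haveI : Finite T := inferInstance
  rw [focal_eq hTp hF₀] at h1
  have h2 : F₀.hyperfocalSubgroup p ≤ (groupFusionSystem (S : Subgroup G)).hyperfocalSubgroup p :=
    hyperfocal_mono S hTH hTS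
  have h3 : T ≤ (groupFusionSystem (S : Subgroup G)).hyperfocalSubgroup p ⊔ ⁅T, T⁆ :=
    h1.trans (sup_le_sup_right h2 _)
  refine le_of_le_sup_commutator hTp ?_ ?_ h3
  · exact hyperfocal_le_inf S
  · intro t ht d hd
    exact conj_mem_hyperfocal (hTS ht) hd

/-- **Hyperfocal subgroup theorem**. -/
theorem hyperfocal_eq (S : Sylow p G) :
    (groupFusionSystem (S : Subgroup G)).hyperfocalSubgroup p =
      (S : Subgroup G) ⊓ pResidual p G :=
  le_antisymm (hyperfocal_le_inf S) (inf_le_hyperfocal S)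

end Cfsg.Agent.Lib.Fusion.HyperfocalThm
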