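/-
Marks of finite `Γ`-sets: finite `Γ`-sets with the same marks are isomorphic, and the congruence
between fixed point counts.  Generic group theory, used for the characteristic biset.
-/
import Mathlib

set_option autoImplicit false

namespace Cfsg.Agent.Lib.Fusion.Burnside

open MulAction

variable {Γ : Type*} [Group Γ]

/-- The set of points fixed by `K`. -/
def fix (K : Subgroup Γ) (X : Type*) [MulAction Γ X] : Set X := {x | ∀ g ∈ K, g • x = x}

theorem mem_fix {K : Subgroup Γ} {X : Type*} [MulAction Γ X] {x : X} :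
    x ∈ fix K X ↔ ∀ g ∈ K, g • x = x := Iff.rfl

theorem mem_fix_iff_le {K : Subgroup Γ} {X : Type*} [MulAction Γ X] {x : X} :
    x ∈ fix K X ↔ K ≤ stabilizer Γ x :=
  ⟨fun h _ hg => mem_stabilizer_iff.mpr (h _ hg), fun h _ hg => mem_stabilizer_iff.mp (h hg)⟩

/-- The mark of `K` on `X`: the number of fixed points. -/
noncomputable def mark (K : Subgroup Γ) (X : Type*) [MulAction Γ X] : ℕ := (fix K X).ncard

/-- A bijective equivariant relation between two subsets. -/
structure EqRel {X Y : Type*} [MulAction Γ X] [MulAction Γ Y] (A : Set X) (B : Set Y)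
    (R : X → Y → Prop) : Prop where
  left : ∀ x ∈ A, ∃ y, y ∈ B ∧ R x y
  left_uniq : ∀ x ∈ A, ∀ y ∈ B, ∀ y' ∈ B, R x y → R x y' → y = y'
  right : ∀ y ∈ B, ∃ x, x ∈ A ∧ R x y
  right_uniq : ∀ y ∈ B, ∀ x ∈ A, ∀ x' ∈ A, R x y → R x' y → x = x'
  smul : ∀ (g : Γ) (x : X) (y : Y), x ∈ A → y ∈ B → R x y → R (g • x) (g • y)

/-- An invariant subset. -/
def Inv {X : Type*} [MulAction Γ X] (A : Set X) : Prop := ∀ (g : Γ) (x : X), x ∈ A → g • x ∈ A

section
variable {X Y : Type*} [MulAction Γ X] [MulAction Γ Y] {A : Set X} {B : Set Y} {R : X → Y → Prop}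

theorem EqRel.ncard_inter_fix (h : EqRel (Γ := Γ) A B R) (hA : Inv (Γ := Γ) A) (hB : Inv (Γ := Γ) B)
    (K : Subgroup Γ) : (A ∩ fix K X).ncard = (B ∩ fix K Y).ncard := by
  classical
  have key : ∀ x ∈ A ∩ fix K X, ∃ y, y ∈ B ∩ fix K Y ∧ R x y := by
    rintro x ⟨hx, hxK⟩
    obtain ⟨y, hy, hR⟩ := h.left x hx
    refine ⟨y, ⟨hy, fun g hg => ?_⟩, hR⟩
    have h1 := h.smul g x y hx hy hR
    rw [hxK g hg] at h1
    exact h.left_uniq x hx _ (hB g y hy) _ hy h1 hR
  choose f hf hfR using key
  refine Set.ncard_congr (fun x hx => f x hx) (fun x hx => hf x hx) ?_ ?_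
  · intro a b ha hb hab
    exact h.right_uniq (f a ha) (hf a ha).1 a ha.1 b hb.1 (hfR a ha) (hab ▸ hfR b hb)
  · rintro y ⟨hy, hyK⟩
    obtain ⟨x, hx, hR⟩ := h.right y hy
    have hxK : x ∈ fix K X := by
      intro g hg
      have h1 := h.smul g x y hx hy hR
      rw [hyK g hg] at h1
      exact h.right_uniq y hy _ (hA g x hx) _ hx h1 hR
    refine ⟨x, ⟨hx, hxK⟩, ?_⟩
    exact h.left_uniq x hx _ (hf x ⟨hx, hxK⟩).1 _ hy (hfR x ⟨hx, hxK⟩) hR

theorem EqRel.ncard_eq (h : EqRel (Γ := Γ) A B R) (hA : Inv (Γ := Γ) A) (hB : Inv (Γ := Γ) B) :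
    A.ncard = B.ncard := by
  have h1 := h.ncard_inter_fix hA hB ⊥
  have hX : fix (⊥ : Subgroup Γ) X = Set.univ := by
    ext x; simp [fix]
  have hY : fix (⊥ : Subgroup Γ) Y = Set.univ := by
    ext x; simp [fix]
  simpa [hX, hY] using h1

end

/-- **Marks determine invariant sets** (in a form allowing only some of the marks). -/
theorem exists_eqRel {X Y : Type*} [MulAction Γ X] [MulAction Γ Y] [Finite Γ] [Finite X] [Finite Y]
    (U : Set (Subgroup Γ)) (A : Set X) (B : Set Y) (hA : Inv (Γ := Γ) A) (hB : Inv (Γ := Γ) B)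
    (hAU : ∀ x ∈ A, stabilizer Γ x ∈ U) (hBU : ∀ y ∈ B, stabilizer Γ y ∈ U)
    (hm : ∀ K ∈ U, (A ∩ fix K X).ncard = (B ∩ fix K Y).ncard) :
    ∃ R : X → Y → Prop, EqRel (Γ := Γ) A B R := by
  classical
  induction hn : A.ncard using Nat.strong_induction_on generalizing A B with
  | _ n ih =>
    by_cases hAe : A = ∅
    · subst hAe
      have hBe : B = ∅ := by
        by_contra hne
        obtain ⟨y, hy⟩ := Set.nonempty_iff_ne_empty.mpr hne
        have h1 := hm _ (hBU y hy)
        rw [Set.empty_inter, Set.ncard_empty] at h1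
        have h2 : (B ∩ fix (stabilizer Γ y) Y).Nonempty := ⟨y, hy, mem_fix_iff_le.mpr le_rfl⟩
        have h3 := (Set.ncard_pos (Set.toFinite _)).mpr h2
        omega
      subst hBe
      exact ⟨fun _ _ => False, by constructor <;> simp⟩
    · obtain ⟨a, haA, hamax⟩ := Set.exists_max_image A (fun x => Nat.card (stabilizer Γ x))
        (Set.toFinite _) (Set.nonempty_iff_ne_empty.mpr hAe)
      -- find `b`
      have hK := hm _ (hAU a haA)
      have h2 : (A ∩ fix (stabilizer Γ a) X).Nonempty := ⟨a, haA, mem_fix_iff_le.mpr le_rfl⟩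
      have h3 := (Set.ncard_pos (Set.toFinite _)).mpr h2
      rw [hK] at h3
      obtain ⟨b, hbB, hb⟩ := (Set.ncard_pos (Set.toFinite _)).mp h3
      have hab : stabilizer Γ a ≤ stabilizer Γ b := mem_fix_iff_le.mp hb
      have hstab : stabilizer Γ a = stabilizer Γ b := by
        have hle : Nat.card (stabilizer Γ b) ≤ Nat.card (stabilizer Γ a) := by
          have h4 := hm _ (hBU b hbB)
          have h5 : (B ∩ fix (stabilizer Γ b) Y).Nonempty := ⟨b, hbB, mem_fix_iff_le.mpr le_rfl⟩
          have h6 := (Set.ncard_pos (Set.toFinite _)).mpr h5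
          rw [← h4] at h6
          obtain ⟨a', ha'A, ha'⟩ := (Set.ncard_pos (Set.toFinite _)).mp h6
          exact (Subgroup.card_le_of_le (mem_fix_iff_le.mp ha')).trans (hamax a' ha'A)
        exact Subgroup.eq_of_le_of_card_ge hab hle
      -- the orbit relation
      let Oa : Set X := orbit Γ a
      let Ob : Set Y := orbit Γ b
      let RO : X → Y → Prop := fun x y => ∃ g : Γ, x = g • a ∧ y = g • b
      have hOaA : Oa ⊆ A := by
        rintro _ ⟨g, rfl⟩
        exact hA g a haA
      have hObB : Ob ⊆ B := by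
        rintro _ ⟨g, rfl⟩
        exact hB g b hbB
      have hOaI : Inv (Γ := Γ) Oa := by
        rintro g _ ⟨h, rfl⟩
        exact ⟨g * h, mul_smul g h a⟩
      have hObI : Inv (Γ := Γ) Ob := by
        rintro g _ ⟨h, rfl⟩
        exact ⟨g * h, mul_smul g h b⟩
      have hRO : EqRel (Γ := Γ) Oa Ob RO := by
        refine ⟨?_, ?_, ?_, ?_, ?_⟩
        · rintro _ ⟨g, rfl⟩
          exact ⟨g • b, ⟨g, rfl⟩, g, rfl, rfl⟩
        · rintro x - y - y' - ⟨g, rfl, rfl⟩ ⟨g', h, rfl⟩
          have : g'⁻¹ * g ∈ stabilizer Γ a := by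
            rw [mem_stabilizer_iff, mul_smul, h]; simp
          rw [hstab, mem_stabilizer_iff, mul_smul, inv_smul_eq_iff] at this
          exact this
        · rintro _ ⟨g, rfl⟩
          exact ⟨g • a, ⟨g, rfl⟩, g, rfl, rfl⟩
        · rintro y - x - x' - ⟨g, rfl, rfl⟩ ⟨g', rfl, h⟩
          have : g'⁻¹ * g ∈ stabilizer Γ b := by
            rw [mem_stabilizer_iff, mul_smul, h]; simp
          rw [← hstab, mem_stabilizer_iff, mul_smul, inv_smul_eq_iff] at this
          exact this
        · rintro g x y - - ⟨h, rfl, rfl⟩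
          exact ⟨g * h, (mul_smul g h a).symm, (mul_smul g h b).symm⟩
      -- remove the orbits
      have hA' : Inv (Γ := Γ) (A \ Oa) := by
        rintro g x ⟨hx, hxO⟩
        refine ⟨hA g x hx, fun h => hxO ?_⟩
        have := hOaI g⁻¹ _ h
        simpa using this
      have hB' : Inv (Γ := Γ) (B \ Ob) := by
        rintro g x ⟨hx, hxO⟩
        refine ⟨hB g x hx, fun h => hxO ?_⟩
        have := hObI g⁻¹ _ h
        simpa using this
      have hlt : (A \ Oa).ncard < n := by
        rw [← hn]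
        refine Set.ncard_lt_ncard ?_ (Set.toFinite _)
        refine ⟨Set.sdiff_subset, fun h => ?_⟩
        exact (h haA).2 ⟨1, by simp⟩
      have hm' : ∀ K ∈ U, ((A \ Oa) ∩ fix K X).ncard = ((B \ Ob) ∩ fix K Y).ncard := by
        intro K hKU
        have h1 := hm K hKU
        have h2 := hRO.ncard_inter_fix hOaI hObI K
        have e1 : (A ∩ fix K X).ncard = ((A \ Oa) ∩ fix K X).ncard + (Oa ∩ fix K X).ncard := by
          rw [← Set.ncard_union_eq _ (Set.toFinite _) (Set.toFinite _)]
          · congr 1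
            ext x
            simp only [Set.mem_inter_iff, Set.mem_union, Set.mem_sdiff]
            constructor
            · rintro ⟨hx, hf⟩
              by_cases hxO : x ∈ Oa
              · exact Or.inr ⟨hxO, hf⟩
              · exact Or.inl ⟨⟨hx, hxO⟩, hf⟩
            · rintro (⟨⟨hx, -⟩, hf⟩ | ⟨hx, hf⟩)
              · exact ⟨hx, hf⟩
              · exact ⟨hOaA hx, hf⟩
          · rw [Set.disjoint_left]
            rintro x ⟨⟨-, hx⟩, -⟩ ⟨hx', -⟩
            exact hx hx'
        have e2 : (B ∩ fix K Y).ncard = ((B \ Ob) ∩ fix K Y).ncard + (Ob ∩ fix K Y).ncard := by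
          rw [← Set.ncard_union_eq _ (Set.toFinite _) (Set.toFinite _)]
          · congr 1
            ext x
            simp only [Set.mem_inter_iff, Set.mem_union, Set.mem_sdiff]
            constructor
            · rintro ⟨hx, hf⟩
              by_cases hxO : x ∈ Ob
              · exact Or.inr ⟨hxO, hf⟩
              · exact Or.inl ⟨⟨hx, hxO⟩, hf⟩
            · rintro (⟨⟨hx, -⟩, hf⟩ | ⟨hx, hf⟩)
              · exact ⟨hx, hf⟩
              · exact ⟨hObB hx, hf⟩
          · rw [Set.disjoint_left]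
            rintro x ⟨⟨-, hx⟩, -⟩ ⟨hx', -⟩
            exact hx hx'
        omega
      obtain ⟨R', hR'⟩ := ih _ hlt (A \ Oa) (B \ Ob) hA' hB' (fun x hx => hAU x hx.1)
        (fun y hy => hBU y hy.1) hm' rfl
      refine ⟨fun x y => (x ∈ Oa ∧ y ∈ Ob ∧ RO x y) ∨ (x ∉ Oa ∧ y ∉ Ob ∧ R' x y), ?_, ?_, ?_, ?_, ?_⟩
      · intro x hx
        by_cases hxO : x ∈ Oa
        · obtain ⟨y, hy, hR⟩ := hRO.left x hxO
          exact ⟨y, hObB hy, Or.inl ⟨hxO, hy, hR⟩⟩
        · obtain ⟨y, hy, hR⟩ := hR'.left x ⟨hx, hxO⟩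
          exact ⟨y, hy.1, Or.inr ⟨hxO, hy.2, hR⟩⟩
      · rintro x hx y hy y' hy' (⟨hxO, hyO, h⟩ | ⟨hxO, hyO, h⟩) (⟨hxO', hyO', h'⟩ | ⟨hxO', hyO', h'⟩)
        · exact hRO.left_uniq x hxO y hyO y' hyO' h h'
        · exact absurd hxO hxO'
        · exact absurd hxO' hxO
        · exact hR'.left_uniq x ⟨hx, hxO⟩ y ⟨hy, hyO⟩ y' ⟨hy', hyO'⟩ h h'
      · intro y hy
        by_cases hyO : y ∈ Ob
        · obtain ⟨x, hx, hR⟩ := hRO.right y hyO
          exact ⟨x, hOaA hx, Or.inl ⟨hx, hyO, hR⟩⟩
        · obtain ⟨x, hx, hR⟩ := hR'.right y ⟨hy, hyO⟩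
          exact ⟨x, hx.1, Or.inr ⟨hx.2, hyO, hR⟩⟩
      · rintro y hy x hx x' hx' (⟨hxO, hyO, h⟩ | ⟨hxO, hyO, h⟩) (⟨hxO', hyO', h'⟩ | ⟨hxO', hyO', h'⟩)
        · exact hRO.right_uniq y hyO x hxO x' hxO' h h'
        · exact absurd hyO hyO'
        · exact absurd hyO' hyO
        · exact hR'.right_uniq y ⟨hy, hyO⟩ x ⟨hx, hxO⟩ x' ⟨hx', hxO'⟩ h h'
      · rintro g x y hx hy (⟨hxO, hyO, h⟩ | ⟨hxO, hyO, h⟩)
        · exact Or.inl ⟨hOaI g x hxO, hObI g y hyO, hRO.smul g x y hxO hyO h⟩
        · have hx' : x ∈ A \ Oa := ⟨hx, hxO⟩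
          have hy' : y ∈ B \ Ob := ⟨hy, hyO⟩
          exact Or.inr ⟨(hA' g x hx').2, (hB' g y hy').2, hR'.smul g x y hx' hy' h⟩

/-- Finite `Γ`-sets with the same marks are isomorphic. -/
theorem exists_equiv_of_mark_eq {X Y : Type*} [MulAction Γ X] [MulAction Γ Y] [Finite Γ] [Finite X]
    [Finite Y] (hm : ∀ K : Subgroup Γ, mark K X = mark K Y) :
    ∃ f : X ≃ Y, ∀ (g : Γ) (x : X), f (g • x) = g • f x := by
  classical
  obtain ⟨R, hR⟩ := exists_eqRel (Γ := Γ) (Set.univ : Set (Subgroup Γ)) (Set.univ : Set X)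
    (Set.univ : Set Y) (fun _ _ _ => trivial) (fun _ _ _ => trivial) (fun _ _ => trivial)
    (fun _ _ => trivial) (fun K _ => by simpa [mark] using hm K)
  have h1 : ∀ x, ∃ y, R x y := fun x => by
    obtain ⟨y, -, h⟩ := hR.left x trivial
    exact ⟨y, h⟩
  have h2 : ∀ y, ∃ x, R x y := fun y => by
    obtain ⟨x, -, h⟩ := hR.right y trivial
    exact ⟨x, h⟩
  choose f hf using h1
  choose f' hf' using h2
  refine ⟨⟨f, f', fun x => ?_, fun y => ?_⟩, fun g x => ?_⟩
  · exact hR.right_uniq _ trivial _ trivial _ trivial (hf' (f x)) (hf x)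
  · exact hR.left_uniq _ trivial _ trivial _ trivial (hf (f' y)) (hf' y)
  · exact hR.left_uniq (g • x) trivial _ trivial _ trivial (hf _)
      (hR.smul g x (f x) trivial trivial (hf x))

/-- Stabilizer of a translate, in elementwise form. -/
theorem mem_stabilizer_smul_iff {X : Type*} [MulAction Γ X] (g y : Γ) (x : X) :
    y ∈ stabilizer Γ (g • x) ↔ g⁻¹ * y * g ∈ stabilizer Γ x := by
  simp only [mem_stabilizer_iff, mul_smul]
  rw [inv_smul_eq_iff]

/-- For a normal `D`, the points with stabilizer `D` form an invariant set. -/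
theorem inv_stabilizer_eq {X : Type*} [MulAction Γ X] (D : Subgroup Γ) [hD : D.Normal] :
    Inv (Γ := Γ) {x : X | stabilizer Γ x = D} := by
  intro g x hx
  ext y
  rw [mem_stabilizer_smul_iff]
  change stabilizer Γ x = D at hx
  rw [hx]
  constructor
  · intro h
    have := hD.conj_mem _ h g
    simpa [mul_assoc] using this
  · intro h
    have := hD.conj_mem _ h g⁻¹
    simpa [mul_assoc] using this

/-- For a normal `D`, the fixed point set of `D` is invariant. -/
theorem inv_fix {X : Type*} [MulAction Γ X] (D : Subgroup Γ) [hD : D.Normal] :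
    Inv (Γ := Γ) (fix D X) := by
  intro g x hx d hd
  have h1 := hx _ (hD.conj_mem d hd g⁻¹)
  have h2 : g⁻¹ * d * g⁻¹⁻¹ = g⁻¹ * d * g := by simp
  rw [h2, mul_smul, mul_smul, inv_smul_eq_iff] at h1
  exact h1

/-- The points with stabilizer exactly a normal subgroup `D`: their number is divisible by the
index of `D`. -/
theorem index_dvd_ncard_stabilizer_eq {X : Type*} [MulAction Γ X] [Finite Γ] [Finite X]
    (D : Subgroup Γ) [D.Normal] : D.index ∣ {x : X | stabilizer Γ x = D}.ncard := by
  classical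
  let E : SubMulAction Γ X :=
    { carrier := {x : X | stabilizer Γ x = D}
      smul_mem' := fun g x hx => inv_stabilizer_eq (X := X) D g x hx }
  have hstab : ∀ w : E, stabilizer Γ w = D := by
    intro w
    have h1 : stabilizer Γ (w : X) = D := w.2
    rw [← h1]
    ext y
    simp only [mem_stabilizer_iff]
    constructor
    · intro h
      have := congrArg Subtype.val h
      simpa using this
    · intro h
      exact Subtype.ext (by simpa using h)
  have h1 : Nat.card E = {x : X | stabilizer Γ x = D}.ncard := rfl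
  rw [← h1]
  let e := MulAction.selfEquivSigmaOrbitsQuotientStabilizer Γ E
  rw [Nat.card_congr e]
  haveI : Fintype (MulAction.orbitRel.Quotient Γ E) := Fintype.ofFinite _
  haveI : ∀ ω : MulAction.orbitRel.Quotient Γ E, Finite (Γ ⧸ stabilizer Γ ω.out) := fun _ =>
    inferInstance
  rw [Nat.card_sigma]
  refine Finset.dvd_sum fun ω _ => ?_
  rw [hstab]
  rfl

section congruence
variable {Z : Type*} [MulAction Γ Z] (D : Subgroup Γ)

theorem ncard_fix_decomp [Finite Z] :
    (fix D Z).ncard = (fix D Z \ {x : Z | stabilizer Γ x = D}).ncard +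
      {x : Z | stabilizer Γ x = D}.ncard := by
  refine (Set.ncard_sdiff_add_ncard_of_subset ?_).symm
  intro x hx
  exact mem_fix_iff_le.mpr (le_of_eq (Eq.symm hx))

theorem inv_fix_sdiff [hD : D.Normal] :
    Inv (Γ := Γ) (fix D Z \ {x : Z | stabilizer Γ x = D}) := by
  intro g x hx
  refine ⟨inv_fix D g x hx.1, fun h => hx.2 ?_⟩
  have := inv_stabilizer_eq (X := Z) D g⁻¹ _ h
  simpa using this

theorem stabilizer_mem_of_fix_sdiff : ∀ x ∈ (fix D Z \ {x : Z | stabilizer Γ x = D}),
    stabilizer Γ x ∈ {K : Subgroup Γ | D < K} := by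
  intro x hx
  exact lt_of_le_of_ne (mem_fix_iff_le.mp hx.1) (fun h => hx.2 h.symm)

theorem fix_sdiff_inter_fix (K : Subgroup Γ) (hK : D < K) :
    (fix D Z \ {x : Z | stabilizer Γ x = D}) ∩ fix K Z = fix K Z := by
  refine Set.inter_eq_right.mpr fun x hx => ?_
  have h1 : K ≤ stabilizer Γ x := mem_fix_iff_le.mp hx
  refine ⟨mem_fix_iff_le.mpr (hK.le.trans h1), fun h => ?_⟩
  have h2 : stabilizer Γ x = D := h
  rw [h2] at h1
  exact absurd h1 (not_le_of_gt hK)

end congruence

/-- **The congruence**: for a normal subgroup `D`, two `Γ`-sets whose marks agree on all subgroups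
strictly above `D` have numbers of `D`-fixed points which agree modulo the index of `D`. -/
theorem ncard_fix_modEq {X Y : Type*} [MulAction Γ X] [MulAction Γ Y] [Finite Γ] [Finite X]
    [Finite Y] (D : Subgroup Γ) [hD : D.Normal]
    (hm : ∀ K : Subgroup Γ, D < K → mark K X = mark K Y) :
    mark D X ≡ mark D Y [MOD D.index] := by
  classical
  obtain ⟨R, hR⟩ := exists_eqRel (Γ := Γ) {K : Subgroup Γ | D < K}
    (fix D X \ {x : X | stabilizer Γ x = D}) (fix D Y \ {x : Y | stabilizer Γ x = D})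
    (inv_fix_sdiff D) (inv_fix_sdiff D) (stabilizer_mem_of_fix_sdiff D)
    (stabilizer_mem_of_fix_sdiff D)
    (fun K hK => by rw [fix_sdiff_inter_fix D K hK, fix_sdiff_inter_fix D K hK]; exact hm K hK)
  have hcard := hR.ncard_eq (inv_fix_sdiff D) (inv_fix_sdiff D)
  have hX := index_dvd_ncard_stabilizer_eq (X := X) D
  have hY := index_dvd_ncard_stabilizer_eq (X := Y) D
  unfold mark
  rw [ncard_fix_decomp (Z := X) D, ncard_fix_decomp (Z := Y) D, hcard]
  exact Nat.ModEq.add_left _ (((Nat.modEq_zero_iff_dvd).mpr hX).trans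
    ((Nat.modEq_zero_iff_dvd).mpr hY).symm)

/-! ### Twisting by homomorphisms -/

section Tw
variable {G : Type*} [Group G]

/-- `X`, as a `Γ`-set through `φ : Γ →* G`. -/
def Tw (φ : Γ →* G) (X : Type*) : Type _ := X

instance Tw.instMulAction (φ : Γ →* G) (X : Type*) [MulAction G X] : MulAction Γ (Tw φ X) :=
  (MulAction.compHom X φ : MulAction Γ X)

instance Tw.instFinite (φ : Γ →* G) (X : Type*) [Finite X] : Finite (Tw φ X) :=
  inferInstanceAs (Finite X)

theorem mark_tw (φ : Γ →* G) (X : Type*) [MulAction G X] (K : Subgroup Γ) :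
    mark K (Tw φ X) = mark (K.map φ) X := by
  have : fix K (Tw φ X) = fix (K.map φ) X := by
    ext x
    constructor
    · rintro h _ ⟨g, hg, rfl⟩
      exact h g hg
    · intro h g hg
      exact h _ ⟨g, hg, rfl⟩
  unfold mark
  rw [this]
  rfl

/-- Two homomorphisms `φ θ : Γ →* G` with the same marks give an equivariant bijection. -/
theorem exists_equiv_of_mark_map_eq [Finite Γ] (φ θ : Γ →* G) (X : Type*) [MulAction G X] [Finite X]
    (hm : ∀ K : Subgroup Γ, mark (K.map φ) X = mark (K.map θ) X) :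
    ∃ f : X ≃ X, ∀ (g : Γ) (x : X), f (φ g • x) = θ g • f x := by
  obtain ⟨f, hf⟩ := exists_equiv_of_mark_eq (Γ := Γ) (X := Tw φ X) (Y := Tw θ X)
    (fun K => by rw [mark_tw, mark_tw]; exact hm K)
  exact ⟨f, hf⟩

end Tw

/-! ### Marks of conjugates, sums and coset spaces -/

section Coset

variable {G : Type*} [Group G]

/-- The conjugate `g H g⁻¹`. -/
abbrev conjS (g : G) (H : Subgroup G) : Subgroup G := H.map (MulAut.conj g).toMonoidHom

theorem mem_conjS {g x : G} {H : Subgroup G} : x ∈ conjS g H ↔ g⁻¹ * x * g ∈ H := by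
  constructor
  · rintro ⟨h, hh, rfl⟩
    simpa [mul_assoc] using hh
  · intro h
    exact ⟨_, h, by simp [mul_assoc]⟩

theorem card_conjS (g : G) (H : Subgroup G) : Nat.card (conjS g H) = Nat.card H :=
  Subgroup.card_map_of_injective (MulEquiv.injective _)

theorem mark_conj (g : G) (H : Subgroup G) (X : Type*) [MulAction G X] :
    mark (conjS g H) X = mark H X := by
  have : fix (conjS g H) X = (fun x => g • x) '' fix H X := by
    ext y
    constructor
    · intro hy
      refine ⟨g⁻¹ • y, fun h hh => ?_, by simp⟩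
      have h1 : g * h * g⁻¹ ∈ conjS g H := mem_conjS.mpr (by simpa [mul_assoc] using hh)
      have h2 := hy _ h1
      rw [mul_smul, mul_smul] at h2
      rw [smul_eq_iff_eq_inv_smul] at h2
      simpa using h2
    · rintro ⟨x, hx, rfl⟩ h hh
      have h1 := hx _ (mem_conjS.mp hh)
      change h • g • x = g • x
      have h2 : h • g • x = g • ((g⁻¹ * h * g) • x) := by simp [mul_smul]
      rw [h2, h1]
  unfold mark
  rw [this, Set.ncard_image_of_injective _ (MulAction.injective g)]

theorem mark_sum (K : Subgroup G) (X Y : Type*) [MulAction G X] [MulAction G Y] [Finite X]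
    [Finite Y] : mark K (X ⊕ Y) = mark K X + mark K Y := by
  have : fix K (X ⊕ Y) = Sum.inl '' fix K X ∪ Sum.inr '' fix K Y := by
    ext z
    cases z with
    | inl x =>
      constructor
      · intro h
        refine Or.inl ⟨x, fun g hg => ?_, rfl⟩
        have := h g hg
        simpa using this
      · rintro (⟨x', hx', h⟩ | ⟨y', -, h⟩) g hg
        · cases h
          have := hx' g hg
          simp [this]
        · cases h
    | inr y =>
      constructor
      · intro h
        refine Or.inr ⟨y, fun g hg => ?_, rfl⟩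
        have := h g hg
        simpa using this
      · rintro (⟨x', -, h⟩ | ⟨y', hy', h⟩) g hg
        · cases h
        · cases h
          have := hy' g hg
          simp [this]
  unfold mark
  rw [this, Set.ncard_union_eq _ (Set.toFinite _) (Set.toFinite _),
    Set.ncard_image_of_injective _ Sum.inl_injective,
    Set.ncard_image_of_injective _ Sum.inr_injective]
  rw [Set.disjoint_left]
  rintro _ ⟨x, -, rfl⟩ ⟨y, -, h⟩
  cases h

theorem mark_sigma (K : Subgroup G) {ι : Type*} [Fintype ι] (X : ι → Type*)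
    [∀ i, MulAction G (X i)] [∀ i, Finite (X i)] :
    mark K (Σ i, X i) = ∑ i, mark K (X i) := by
  let e : fix K (Σ i, X i) ≃ Σ i, fix K (X i) :=
    { toFun := fun z => ⟨z.1.1, ⟨z.1.2, fun g hg => by
        have h := z.2 g hg
        obtain ⟨⟨i, x⟩, hz⟩ := z
        simpa using h⟩⟩
      invFun := fun z => ⟨⟨z.1, z.2.1⟩, fun g hg => by
        have h := z.2.2 g hg
        simp [h]⟩
      left_inv := fun z => by
        obtain ⟨⟨i, x⟩, hz⟩ := z
        rfl
      right_inv := fun z => by
        obtain ⟨i, ⟨x, hz⟩⟩ := z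
        rfl }
  unfold mark
  change Nat.card (fix K (Σ i, X i)) = ∑ i, Nat.card (fix K (X i))
  rw [Nat.card_congr e, Nat.card_sigma]

theorem mark_sigma_fin (K : Subgroup G) (m : ℕ) (X : Type*) [MulAction G X] [Finite X] :
    mark K (Σ _ : Fin m, X) = m * mark K X := by
  rw [mark_sigma]
  simp

theorem stabilizer_coe (D : Subgroup G) (g : G) :
    stabilizer G ((g : G) : G ⧸ D) = conjS g D := by
  ext x
  rw [mem_stabilizer_iff, mem_conjS, MulAction.Quotient.smul_coe, QuotientGroup.eq]
  constructor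
  · intro h
    have := D.inv_mem h
    simpa [mul_assoc] using this
  · intro h
    have := D.inv_mem h
    simpa [mul_assoc] using this

theorem exists_le_conj_of_mark_ne_zero (K D : Subgroup G) (h : mark K (G ⧸ D) ≠ 0) [Finite (G ⧸ D)] :
    ∃ g : G, K ≤ conjS g D := by
  obtain ⟨q, hq⟩ := (Set.ncard_pos (Set.toFinite _)).mp (Nat.pos_of_ne_zero h)
  obtain ⟨g, rfl⟩ := QuotientGroup.mk_surjective q
  refine ⟨g, ?_⟩
  rw [← stabilizer_coe]
  exact mem_fix_iff_le.mp hq

/-- The self-mark. -/
theorem mark_self [Finite G] (D : Subgroup G) :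
    mark D (G ⧸ D) = (D.subgroupOf (Subgroup.normalizer (D : Set G))).index := by
  have h1 : fix D (G ⧸ D) = MulAction.fixedPoints D (G ⧸ D) := by
    ext q
    simp only [MulAction.mem_fixedPoints, fix, Set.mem_setOf_eq]
    constructor
    · rintro h ⟨g, hg⟩
      exact h g hg
    · intro h g hg
      exact h ⟨g, hg⟩
  unfold mark
  rw [h1]
  change Nat.card (MulAction.fixedPoints D (G ⧸ D)) = _
  rw [Nat.card_congr (Sylow.fixedPointsMulLeftCosetsEquivQuotient D)]
  rfl

theorem index_ne_zero_self [Finite G] (D : Subgroup G) : D.index ≠ 0 :=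
  Subgroup.index_ne_zero_of_finite

end Coset

/-! ### The congruence for marks on one `G`-set -/

section ModEq
variable {G : Type*} [Group G] [Finite G]

theorem mark_modEq (X : Type*) [MulAction G X] [Finite X] (H : Subgroup G)
    (θ : Subgroup.normalizer (H : Set G) →* G)
    (hK : ∀ K : Subgroup (Subgroup.normalizer (H : Set G)),
      H.subgroupOf (Subgroup.normalizer (H : Set G)) < K →
        mark (K.map (Subgroup.normalizer (H : Set G)).subtype) X = mark (K.map θ) X) :
    mark H X ≡ mark ((H.subgroupOf (Subgroup.normalizer (H : Set G))).map θ) X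
      [MOD (H.subgroupOf (Subgroup.normalizer (H : Set G))).index] := by
  have h := ncard_fix_modEq (Γ := Subgroup.normalizer (H : Set G))
    (X := Tw (Subgroup.normalizer (H : Set G)).subtype X) (Y := Tw θ X)
    (H.subgroupOf (Subgroup.normalizer (H : Set G)))
    (fun K hlt => by rw [mark_tw, mark_tw]; exact hK K hlt)
  rw [mark_tw, mark_tw] at h
  have h2 : (H.subgroupOf (Subgroup.normalizer (H : Set G))).map
      (Subgroup.normalizer (H : Set G)).subtype = H := by
    rw [Subgroup.subgroupOf_map_subtype]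
    exact inf_eq_left.mpr Subgroup.le_normalizer
  rwa [h2] at h

end ModEq

/-! ### Adding orbits: the existence theorem -/

section Existence

universe u v

/-- The abstract data for the construction of a `G`-set with marks constant on classes. -/
structure ClassData (G : Type u) [Group G] (κ : Type v) where
  /-- the allowed stabilizers -/
  good : Set (Subgroup G)
  conj_mem : ∀ {H : Subgroup G} (g : G), H ∈ good → conjS g H ∈ good
  sub_mem : ∀ {H K : Subgroup G}, K ≤ H → H ∈ good → K ∈ good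
  /-- the classes -/
  cl : Subgroup G → κ
  cl_conj : ∀ {H : Subgroup G} (g : G), H ∈ good → cl (conjS g H) = cl H
  /-- the base point of a class -/
  base : κ → Subgroup G
  trans : ∀ H ∈ good, ∃ θ : Subgroup.normalizer (H : Set G) →* G, Function.Injective θ ∧
    (H.subgroupOf (Subgroup.normalizer (H : Set G))).map θ = base (cl H) ∧
    ∀ K : Subgroup (Subgroup.normalizer (H : Set G)),
      H.subgroupOf (Subgroup.normalizer (H : Set G)) < K →
        (K.map (Subgroup.normalizer (H : Set G)).subtype ∈ good ↔ K.map θ ∈ good) ∧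
        (K.map (Subgroup.normalizer (H : Set G)).subtype ∈ good →
          cl (K.map (Subgroup.normalizer (H : Set G)).subtype) = cl (K.map θ))

variable {G : Type u} [Group G] [Finite G] {κ : Type v} (C : ClassData G κ)

namespace ClassData

theorem card_eq_base {H : Subgroup G} (hH : H ∈ C.good) : Nat.card (C.base (C.cl H)) = Nat.card H := by
  obtain ⟨θ, hθ, h1, -⟩ := C.trans H hH
  rw [← h1, Subgroup.card_map_of_injective hθ]
  exact Nat.card_congr (Subgroup.subgroupOfEquivOfLe Subgroup.le_normalizer).toEquiv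

theorem card_eq_of_cl_eq {H₁ H₂ : Subgroup G} (h₁ : H₁ ∈ C.good) (h₂ : H₂ ∈ C.good)
    (h : C.cl H₁ = C.cl H₂) : Nat.card H₁ = Nat.card H₂ := by
  rw [← C.card_eq_base h₁, ← C.card_eq_base h₂, h]

/-- If all stabilizers are good, marks vanish off the good subgroups. -/
theorem mark_eq_zero {X : Type*} [MulAction G X] (hX : ∀ x : X, stabilizer G x ∈ C.good)
    {K : Subgroup G} (hK : K ∉ C.good) : mark K X = 0 := by
  have : fix K X = ∅ := by
    ext x
    simp only [Set.mem_empty_iff_false, iff_false]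
    intro hx
    exact hK (C.sub_mem (mem_fix_iff_le.mp hx) (hX x))
  unfold mark
  rw [this, Set.ncard_empty]

/-- The congruence from the hypotheses. -/
theorem mark_modEq_base {X : Type*} [MulAction G X] [Finite X] (n : ℕ)
    (hX : ∀ x : X, stabilizer G x ∈ C.good)
    (hm : ∀ H₁ ∈ C.good, ∀ H₂ ∈ C.good, C.cl H₁ = C.cl H₂ → n < Nat.card H₁ → n < Nat.card H₂ →
      mark H₁ X = mark H₂ X)
    {H : Subgroup G} (hH : H ∈ C.good) (hn : Nat.card H = n) :
    mark H X ≡ mark (C.base (C.cl H)) X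
      [MOD (H.subgroupOf (Subgroup.normalizer (H : Set G))).index] := by
  obtain ⟨θ, hθ, h1, h2⟩ := C.trans H hH
  have h := mark_modEq X H θ ?_
  · rwa [h1] at h
  · intro K hK
    obtain ⟨h3, h4⟩ := h2 K hK
    have hcard : n < Nat.card K := by
      rw [← hn, ← Nat.card_congr (Subgroup.subgroupOfEquivOfLe
        (Subgroup.le_normalizer (H := H))).toEquiv]
      by_contra hc
      exact hK.ne (Subgroup.eq_of_le_of_card_ge hK.le (not_lt.mp hc))
    by_cases hg : K.map (Subgroup.normalizer (H : Set G)).subtype ∈ C.good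
    · refine hm _ hg _ (h3.mp hg) (h4 hg) ?_ ?_
      · rwa [Subgroup.card_map_of_injective (Subgroup.subtype_injective _)]
      · rwa [Subgroup.card_map_of_injective hθ]
    · rw [C.mark_eq_zero hX hg, C.mark_eq_zero hX (fun h' => hg (h3.mpr h'))]

end ClassData

/-- The good subgroups of given order. -/
def levelSet (n : ℕ) : Type u := {H : Subgroup G // H ∈ C.good ∧ Nat.card H = n}

/-- Conjugacy on the good subgroups of given order. -/
def levelSetoid (n : ℕ) : Setoid (levelSet C n) where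
  r H₁ H₂ := ∃ g : G, conjS g H₁.1 = H₂.1
  iseqv := by
    refine ⟨fun H => ⟨1, ?_⟩, ?_, ?_⟩
    · ext x
      simp [mem_conjS]
    · rintro H₁ H₂ ⟨g, hg⟩
      refine ⟨g⁻¹, ?_⟩
      rw [← hg]
      ext x
      simp [mul_assoc]
    · rintro H₁ H₂ H₃ ⟨g, hg⟩ ⟨k, hk⟩
      refine ⟨k * g, ?_⟩
      rw [← hk, ← hg]
      ext x
      simp [mul_assoc]

instance (n : ℕ) : Finite (Quotient (levelSetoid C n)) := by
  haveI : Finite (levelSet C n) := Subtype.finite
  exact Quotient.finite _

/-- One step of the construction. -/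
theorem exists_step (X : Type u) [MulAction G X] [Finite X] (n : ℕ) (hn0 : 0 < n + 1)
    (hX : ∀ x : X, stabilizer G x ∈ C.good)
    (hm : ∀ H₁ ∈ C.good, ∀ H₂ ∈ C.good, C.cl H₁ = C.cl H₂ → n + 1 < Nat.card H₁ →
      n + 1 < Nat.card H₂ → mark H₁ X = mark H₂ X) :
    ∃ (X' : Type u) (_ : MulAction G X') (_ : Finite X'), (∀ x : X', stabilizer G x ∈ C.good) ∧
      (∀ H₁ ∈ C.good, ∀ H₂ ∈ C.good, C.cl H₁ = C.cl H₂ → n < Nat.card H₁ →
        n < Nat.card H₂ → mark H₁ X' = mark H₂ X') ∧
      ∀ d : ℕ, (∀ H ∈ C.good, Nat.card H = n + 1 → d ∣ H.index) → Nat.card X' ≡ Nat.card X [MOD d] := by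
  classical
  haveI : Fintype (Quotient (levelSetoid C (n + 1))) := Fintype.ofFinite _
  -- the target value of the mark on a class
  let B : Subgroup G → Subgroup G := fun H => C.base (C.cl H)
  let target : Subgroup G → ℕ := fun H =>
    mark (B H) X + (Nat.card X + 1) * Nat.card G
  let w : Subgroup G → ℕ := fun H => (H.subgroupOf (Subgroup.normalizer (H : Set G))).index
  let D : Quotient (levelSetoid C (n + 1)) → Subgroup G := fun o => (Quotient.out o).1
  let m : Quotient (levelSetoid C (n + 1)) → ℕ := fun o => (target (D o) - mark (D o) X) / w (D o)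
  have hD : ∀ o, D o ∈ C.good ∧ Nat.card (D o) = n + 1 := fun o => (Quotient.out o).2
  have hw : ∀ H : Subgroup G, w H ≠ 0 := fun H => Subgroup.index_ne_zero_of_finite
  have hwdvd : ∀ H : Subgroup G, w H ∣ Nat.card G := by
    intro H
    have h1 : w H ∣ Nat.card (Subgroup.normalizer (H : Set G)) := Subgroup.index_dvd_card _
    exact h1.trans (Subgroup.card_subgroup_dvd_card _)
  have hmarkle : ∀ H : Subgroup G, mark H X ≤ Nat.card X := by
    intro H
    exact Set.ncard_le_card _
  have htarget : ∀ H ∈ C.good, Nat.card H = n + 1 → mark H X ≤ target H ∧ w H ∣ target H - mark H X := by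
    intro H hH hHn
    have hle : mark H X ≤ target H := by
      have h1 := hmarkle H
      have h2 : 1 ≤ Nat.card G := Nat.card_pos
      have h3 : Nat.card X + 1 ≤ (Nat.card X + 1) * Nat.card G := Nat.le_mul_of_pos_right _ h2
      change mark H X ≤ mark (B H) X + (Nat.card X + 1) * Nat.card G
      omega
    refine ⟨hle, ?_⟩
    have hcong := C.mark_modEq_base (n + 1) hX hm hH hHn
    have h1 : target H ≡ mark H X [MOD w H] := by
      have h2 : (Nat.card X + 1) * Nat.card G ≡ 0 [MOD w H] :=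
        (Nat.modEq_zero_iff_dvd).mpr ((hwdvd H).mul_left _)
      have h3 : mark (B H) X + (Nat.card X + 1) * Nat.card G ≡ mark (B H) X + 0 [MOD w H] :=
        Nat.ModEq.add_left _ h2
      exact h3.trans hcong.symm
    exact (Nat.modEq_iff_dvd' hle).mp h1.symm
  -- the new set
  let Y : Type u := Σ o : Quotient (levelSetoid C (n + 1)), Σ _ : Fin (m o), G ⧸ D o
  let X' : Type u := X ⊕ Y
  have hmarkY : ∀ K : Subgroup G, mark K Y = ∑ o, m o * mark K (G ⧸ D o) := by
    intro K
    change mark K (Σ o : Quotient (levelSetoid C (n + 1)), Σ _ : Fin (m o), G ⧸ D o) = _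
    rw [mark_sigma]
    refine Finset.sum_congr rfl fun o _ => ?_
    rw [mark_sigma_fin]
  have hmarkX' : ∀ K : Subgroup G, mark K X' = mark K X + ∑ o, m o * mark K (G ⧸ D o) := by
    intro K
    change mark K (X ⊕ Y) = _
    rw [mark_sum, hmarkY]
  -- marks of cosets above level `n + 1` vanish
  have hhigh : ∀ K : Subgroup G, n + 1 < Nat.card K → ∀ o, mark K (G ⧸ D o) = 0 := by
    intro K hK o
    by_contra hne
    obtain ⟨g, hg⟩ := exists_le_conj_of_mark_ne_zero K (D o) hne
    have h1 := Subgroup.card_le_of_le hg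
    rw [card_conjS, (hD o).2] at h1
    omega
  -- and at level `n + 1` only the right class contributes
  have hlevel : ∀ K (hK : K ∈ C.good) (hKn : Nat.card K = n + 1),
      mark K X' = target K := by
    intro K hK hKn
    let o₀ : Quotient (levelSetoid C (n + 1)) :=
      Quotient.mk (levelSetoid C (n + 1)) ⟨K, hK, hKn⟩
    have hrel : (levelSetoid C (n + 1)).r (Quotient.out o₀) ⟨K, hK, hKn⟩ :=
      Quotient.exact (Quotient.out_eq o₀)
    obtain ⟨g₀, hg₀⟩ := hrel
    have hg₀' : conjS g₀ (D o₀) = K := hg₀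
    have hsingle : ∀ o, o ≠ o₀ → mark K (G ⧸ D o) = 0 := by
      intro o ho
      by_contra hne
      obtain ⟨g, hg⟩ := exists_le_conj_of_mark_ne_zero K (D o) hne
      have heq : K = conjS g (D o) := Subgroup.eq_of_le_of_card_ge hg (by
        rw [card_conjS, (hD o).2, hKn])
      apply ho
      have h1 : (levelSetoid C (n + 1)).r (Quotient.out o) ⟨K, hK, hKn⟩ := ⟨g, heq.symm⟩
      have h2 : Quotient.mk (levelSetoid C (n + 1)) (Quotient.out o) =
          Quotient.mk (levelSetoid C (n + 1)) ⟨K, hK, hKn⟩ := Quotient.sound h1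
      rw [Quotient.out_eq] at h2
      exact h2
    have hsum : ∑ o, m o * mark K (G ⧸ D o) = m o₀ * mark K (G ⧸ D o₀) :=
      Finset.sum_eq_single o₀ (fun o _ ho => by rw [hsingle o ho, mul_zero]) (by simp)
    have hselfmark : mark K (G ⧸ D o₀) = w (D o₀) := by
      rw [← hg₀', mark_conj, mark_self]
    have hXK : mark K X = mark (D o₀) X := by
      rw [← hg₀', mark_conj]
    have hclK : C.cl K = C.cl (D o₀) := by
      rw [← hg₀', C.cl_conj g₀ (hD o₀).1]
    have ht := htarget (D o₀) (hD o₀).1 (hD o₀).2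
    have htt : target K = target (D o₀) := by
      change mark (C.base (C.cl K)) X + _ = mark (C.base (C.cl (D o₀))) X + _
      rw [hclK]
    rw [hmarkX', hsum, hselfmark, hXK, htt]
    change mark (D o₀) X + (target (D o₀) - mark (D o₀) X) / w (D o₀) * w (D o₀) = target (D o₀)
    rw [Nat.div_mul_cancel ht.2]
    omega
  haveI hfinY : Finite Y := by
    change Finite (Σ o : Quotient (levelSetoid C (n + 1)), Σ _ : Fin (m o), G ⧸ D o)
    infer_instance
  refine ⟨X', inferInstance, inferInstance, ?_, ?_, ?_⟩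
  · -- stabilizers
    rintro (x | ⟨o, i, q⟩)
    · have : stabilizer G (Sum.inl x : X ⊕ Y) = stabilizer G x := by
        ext g
        simp [mem_stabilizer_iff]
      rw [show stabilizer G _ = stabilizer G x from this]
      exact hX x
    · have : stabilizer G (Sum.inr ⟨o, i, q⟩ : X ⊕ Y) = stabilizer G q := by
        ext g
        simp only [mem_stabilizer_iff, Sum.smul_inr, Sum.inr.injEq]
        change (⟨o, ⟨i, g • q⟩⟩ : Y) = ⟨o, ⟨i, q⟩⟩ ↔ g • q = q
        constructor
        · intro h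
          simpa using h
        · intro h
          rw [h]
      rw [show stabilizer G _ = stabilizer G q from this]
      obtain ⟨g, rfl⟩ := QuotientGroup.mk_surjective q
      rw [stabilizer_coe]
      exact C.conj_mem g (hD o).1
  · -- marks
    intro H₁ h₁ H₂ h₂ hcl hc₁ hc₂
    have hcard := C.card_eq_of_cl_eq h₁ h₂ hcl
    by_cases hlev : Nat.card H₁ = n + 1
    · rw [hlevel H₁ h₁ hlev, hlevel H₂ h₂ (hcard ▸ hlev)]
      change mark (C.base (C.cl H₁)) X + _ = mark (C.base (C.cl H₂)) X + _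
      rw [hcl]
    · have hlt₁ : n + 1 < Nat.card H₁ := by omega
      have hlt₂ : n + 1 < Nat.card H₂ := by omega
      rw [hmarkX', hmarkX', hm H₁ h₁ H₂ h₂ hcl hlt₁ hlt₂]
      congr 1
      refine Finset.sum_congr rfl fun o _ => ?_
      rw [hhigh H₁ hlt₁ o, hhigh H₂ hlt₂ o]
  · -- the cardinality
    intro d hd
    have hcardY : d ∣ Nat.card Y := by
      change d ∣ Nat.card (Σ o : Quotient (levelSetoid C (n + 1)), Σ _ : Fin (m o), G ⧸ D o)
      rw [Nat.card_sigma]
      refine Finset.dvd_sum fun o _ => ?_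
      rw [Nat.card_sigma]
      refine Finset.dvd_sum fun _ _ => ?_
      exact hd _ (hD o).1 (hD o).2
    change Nat.card (X ⊕ Y) ≡ Nat.card X [MOD d]
    rw [Nat.card_sum]
    have h1 : Nat.card X + Nat.card Y ≡ Nat.card X + 0 [MOD d] :=
      Nat.ModEq.add_left _ ((Nat.modEq_zero_iff_dvd).mpr hcardY)
    simpa using h1

/-- **The existence theorem**: starting from a `G`-set correct at the top levels, add orbits of good
subgroups so that marks are constant on classes. -/
theorem exists_stable (X₀ : Type u) [MulAction G X₀] [Finite X₀] (n₀ d : ℕ)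
    (hX₀ : ∀ x : X₀, stabilizer G x ∈ C.good)
    (hm₀ : ∀ H₁ ∈ C.good, ∀ H₂ ∈ C.good, C.cl H₁ = C.cl H₂ → n₀ < Nat.card H₁ →
      n₀ < Nat.card H₂ → mark H₁ X₀ = mark H₂ X₀)
    (hd : ∀ H ∈ C.good, Nat.card H ≤ n₀ → d ∣ H.index) :
    ∃ (X : Type u) (_ : MulAction G X) (_ : Finite X), (∀ x : X, stabilizer G x ∈ C.good) ∧
      (∀ H₁ ∈ C.good, ∀ H₂ ∈ C.good, C.cl H₁ = C.cl H₂ → mark H₁ X = mark H₂ X) ∧
      Nat.card X ≡ Nat.card X₀ [MOD d] := by
  have key : ∀ k : ℕ, k ≤ n₀ → ∃ (X : Type u) (_ : MulAction G X) (_ : Finite X),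
      (∀ x : X, stabilizer G x ∈ C.good) ∧
      (∀ H₁ ∈ C.good, ∀ H₂ ∈ C.good, C.cl H₁ = C.cl H₂ → n₀ - k < Nat.card H₁ →
        n₀ - k < Nat.card H₂ → mark H₁ X = mark H₂ X) ∧
      Nat.card X ≡ Nat.card X₀ [MOD d] := by
    intro k
    induction k with
    | zero =>
      intro _
      exact ⟨X₀, inferInstance, inferInstance, hX₀, hm₀, Nat.ModEq.refl _⟩
    | succ k ih =>
      intro hk
      obtain ⟨X, i1, i2, h1, h2, h3⟩ := ih (by omega)
      have hnk : n₀ - k = (n₀ - (k + 1)) + 1 := by omega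
      rw [hnk] at h2
      obtain ⟨X', i1', i2', h1', h2', h3'⟩ := exists_step C X (n₀ - (k + 1)) (by omega) h1 h2
      refine ⟨X', i1', i2', h1', h2', ?_⟩
      refine (h3' d ?_).trans h3
      intro H hH hcard
      exact hd H hH (by omega)
  obtain ⟨X, i1, i2, h1, h2, h3⟩ := key n₀ le_rfl
  refine ⟨X, i1, i2, h1, fun H₁ h₁ H₂ h₂ hcl => ?_, h3⟩
  refine h2 H₁ h₁ H₂ h₂ hcl ?_ ?_
  · have : 0 < Nat.card H₁ := Nat.card_pos
    omega
  · have : 0 < Nat.card H₂ := Nat.card_pos
    omega

end Existence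

end Cfsg.Agent.Lib.Fusion.Burnside
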