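/-
The characteristic biset of a saturated fusion system: a finite `S × S`-set all of whose stabilizers
are graphs of maps of the system, whose marks are constant on the classes of the system, and whose
number of right orbits is prime to `p`.
-/
import Mathlib
import Cfsg.Agent.Lib.Fusion.Burnside
import Cfsg.Agent.Lib.Fusion.Saturated
import Cfsg.Agent.Lib.Fusion.Alperin

set_option autoImplicit false

namespace Cfsg.Agent.Lib.Fusion.CharBiset

open Cfsg Cfsg.FusionSystem Cfsg.Agent.Lib.Fusion.Basic Cfsg.Agent.Lib.Fusion.Saturated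
open Cfsg.Agent.Lib.Fusion.Burnside
open MulAction

universe u

variable {Ω : Type u} [Group Ω] {S : Subgroup Ω}

/-- The graph of a map, as a subgroup of `S × S`. -/
def graph (Q : Subgroup Ω) (ρ : Q →* Ω) : Subgroup (S × S) where
  carrier := {p | ∃ h : ((p.1 : S) : Ω) ∈ Q, ρ ⟨p.1, h⟩ = p.2}
  mul_mem' := by
    rintro ⟨a, b⟩ ⟨c, d⟩ ⟨h1, h2⟩ ⟨h3, h4⟩
    refine ⟨Q.mul_mem h1 h3, ?_⟩
    have e : ρ ⟨((a * c : S) : Ω), Q.mul_mem h1 h3⟩ = ρ (⟨a, h1⟩ * ⟨c, h3⟩) := rfl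
    change ρ ⟨((a * c : S) : Ω), Q.mul_mem h1 h3⟩ = ((b * d : S) : Ω)
    rw [e, map_mul, h2, h4]
    rfl
  one_mem' := ⟨Q.one_mem, map_one ρ⟩
  inv_mem' := by
    rintro ⟨a, b⟩ ⟨h1, h2⟩
    refine ⟨Q.inv_mem h1, ?_⟩
    have e : ρ ⟨((a⁻¹ : S) : Ω), Q.inv_mem h1⟩ = ρ (⟨a, h1⟩⁻¹) := rfl
    change ρ ⟨((a⁻¹ : S) : Ω), Q.inv_mem h1⟩ = ((b⁻¹ : S) : Ω)
    rw [e, map_inv, h2]
    rfl

theorem mem_graph {Q : Subgroup Ω} {ρ : Q →* Ω} {p : S × S} :
    p ∈ graph Q ρ ↔ ∃ h : ((p.1 : S) : Ω) ∈ Q, ρ ⟨p.1, h⟩ = p.2 := Iff.rfl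

/-- The projection of a subgroup of `S × S` to the first factor, inside `Ω`. -/
def pr (H : Subgroup (S × S)) : Subgroup Ω := H.map (S.subtype.comp (MonoidHom.fst S S))

theorem mem_pr {H : Subgroup (S × S)} {x : Ω} : x ∈ pr H ↔ ∃ p ∈ H, ((p.1 : S) : Ω) = x := by
  constructor
  · rintro ⟨p, hp, rfl⟩
    exact ⟨p, hp, rfl⟩
  · rintro ⟨p, hp, rfl⟩
    exact ⟨p, hp, rfl⟩

theorem pr_le (H : Subgroup (S × S)) : pr H ≤ S := by
  rintro _ ⟨p, -, rfl⟩
  exact p.1.2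

theorem pr_graph {Q : Subgroup Ω} {ρ : Q →* Ω} (hQ : Q ≤ S) (hv : ∀ x : Q, ρ x ∈ S) :
    pr (graph Q ρ : Subgroup (S × S)) = Q := by
  ext x
  rw [mem_pr]
  constructor
  · rintro ⟨p, ⟨h, -⟩, rfl⟩
    exact h
  · intro hx
    exact ⟨(⟨x, hQ hx⟩, ⟨ρ ⟨x, hx⟩, hv _⟩), ⟨hx, rfl⟩, rfl⟩

theorem card_graph {Q : Subgroup Ω} {ρ : Q →* Ω} (hQ : Q ≤ S) (hv : ∀ x : Q, ρ x ∈ S) :
    Nat.card (graph Q ρ : Subgroup (S × S)) = Nat.card Q := by
  refine Nat.card_congr
    { toFun := fun p => ⟨((p.1.1 : S) : Ω), p.2.1⟩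
      invFun := fun x => ⟨(⟨x, hQ x.2⟩, ⟨ρ x, hv x⟩), ⟨x.2, rfl⟩⟩
      left_inv := ?_
      right_inv := fun x => rfl }
  rintro ⟨⟨a, b⟩, h1, h2⟩
  refine Subtype.ext (Prod.ext rfl (Subtype.ext ?_))
  exact h2

variable (F : FusionSystem S)

/-- The allowed stabilizers: the graphs of the maps of the system. -/
def good : Set (Subgroup (S × S)) := {H | ∃ (Q : Subgroup Ω) (ρ : Q →* Ω), ρ ∈ F.Hom Q ∧ H = graph Q ρ}

/-- The class of a subgroup of `S × S`. -/
def cl (H : Subgroup (S × S)) : Set (Subgroup Ω) := {Q | F.IsConj (pr H) Q}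

theorem cl_eq_of_isConj {H₁ H₂ : Subgroup (S × S)} (h : F.IsConj (pr H₁) (pr H₂)) :
    cl F H₁ = cl F H₂ := by
  ext Q
  exact ⟨fun h' => Basic.IsConj.trans (Basic.IsConj.symm h) h', fun h' => Basic.IsConj.trans h h'⟩

variable {F}

/-- The map `l ↦ (α l₁, β l₂)`. -/
def pairMap {A B : Subgroup Ω} {α : A →* Ω} {β : B →* Ω} (hα : α ∈ F.Hom A) (hβ : β ∈ F.Hom B)
    (L : Subgroup (S × S)) (h₁ : ∀ l : L, ((l.1.1 : S) : Ω) ∈ A)
    (h₂ : ∀ l : L, ((l.1.2 : S) : Ω) ∈ B) : L →* S × S where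
  toFun l := (⟨α ⟨l.1.1, h₁ l⟩, map_mem_S hα _⟩, ⟨β ⟨l.1.2, h₂ l⟩, map_mem_S hβ _⟩)
  map_one' := by
    refine Prod.ext (Subtype.ext ?_) (Subtype.ext ?_)
    · exact map_one α
    · exact map_one β
  map_mul' a b := by
    refine Prod.ext (Subtype.ext ?_) (Subtype.ext ?_)
    · exact map_mul α ⟨a.1.1, h₁ a⟩ ⟨b.1.1, h₁ b⟩
    · exact map_mul β ⟨a.1.2, h₂ a⟩ ⟨b.1.2, h₂ b⟩

section Transport

variable {A B : Subgroup Ω} {α : A →* Ω} {β : B →* Ω} (hα : α ∈ F.Hom A) (hβ : β ∈ F.Hom B)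
    (L : Subgroup (S × S)) (h₁ : ∀ l : L, ((l.1.1 : S) : Ω) ∈ A)
    (h₂ : ∀ l : L, ((l.1.2 : S) : Ω) ∈ B)

theorem pairMap_fst (l : L) : (((pairMap hα hβ L h₁ h₂ l).1 : S) : Ω) = α ⟨l.1.1, h₁ l⟩ := rfl
theorem pairMap_snd (l : L) : (((pairMap hα hβ L h₁ h₂ l).2 : S) : Ω) = β ⟨l.1.2, h₂ l⟩ := rfl

theorem pairMap_injective : Function.Injective (pairMap hα hβ L h₁ h₂) := by
  intro a b hab
  have h1 : α ⟨a.1.1, h₁ a⟩ = α ⟨b.1.1, h₁ b⟩ := congrArg (fun p : S × S => ((p.1 : S) : Ω)) hab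
  have h2 : β ⟨a.1.2, h₂ a⟩ = β ⟨b.1.2, h₂ b⟩ := congrArg (fun p : S × S => ((p.2 : S) : Ω)) hab
  have h3 := F.injective_of_mem hα h1
  have h4 := F.injective_of_mem hβ h2
  have e3 : ((a.1.1 : S) : Ω) = b.1.1 := Subtype.mk.inj h3
  have e4 : ((a.1.2 : S) : Ω) = b.1.2 := Subtype.mk.inj h4
  exact Subtype.ext (Prod.ext (Subtype.ext e3) (Subtype.ext e4))

/-- Forward transport of a graph. -/
theorem transport_forward (K : Subgroup L) (hK : K.map L.subtype ∈ good F) :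
    K.map (pairMap hα hβ L h₁ h₂) ∈ good F ∧
      cl F (K.map L.subtype) = cl F (K.map (pairMap hα hβ L h₁ h₂)) := by
  classical
  obtain ⟨T, ψ, hψ, hKT⟩ := hK
  have hTS : T ≤ S := source_le hψ
  have hmem : ∀ t : T, ∃ l ∈ K, ((l.1.1 : S) : Ω) = t ∧ ((l.1.2 : S) : Ω) = ψ t := by
    intro t
    have h : ((⟨t, hTS t.2⟩, ⟨ψ t, map_mem_S hψ t⟩) : S × S) ∈ K.map L.subtype := by
      rw [hKT]
      exact ⟨t.2, rfl⟩
    obtain ⟨l, hl, hlp⟩ := h
    have hl1 : l.1 = ((⟨t, hTS t.2⟩, ⟨ψ t, map_mem_S hψ t⟩) : S × S) := hlp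
    refine ⟨l, hl, ?_, ?_⟩
    · rw [hl1]
    · rw [hl1]
  have hK' : ∀ l ∈ K, ∃ ht : ((l.1.1 : S) : Ω) ∈ T, ψ ⟨l.1.1, ht⟩ = l.1.2 := by
    intro l hl
    have : l.1 ∈ K.map L.subtype := ⟨l, hl, rfl⟩
    rw [hKT] at this
    exact this
  have hTA : T ≤ A := by
    intro t ht
    obtain ⟨l, -, h, -⟩ := hmem ⟨t, ht⟩
    have := h₁ l
    rwa [h] at this
  have hψB : ∀ t : T, ψ t ∈ B := by
    intro t
    obtain ⟨l, -, -, h⟩ := hmem t
    have := h₂ l
    rwa [h] at this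
  set αT : T →* Ω := α.comp (Subgroup.inclusion hTA) with hαT
  have hαTm : αT ∈ F.Hom T := res_mem hα hTA
  obtain ⟨γ, hγ, hγr, hγ1, hγ2⟩ := exists_inv hαTm rfl
  have hγT : ∀ y : αT.range, γ y ∈ T := fun y => hγr.le ⟨y, rfl⟩
  set ψγ : αT.range →* Ω := ψ.comp (γ.codRestrict T hγT) with hψγ
  have hψγm : ψγ ∈ F.Hom αT.range := comp_mem' hγ hψ hγT (fun _ => rfl)
  have hψγB : ∀ y : αT.range, ψγ y ∈ B := fun y => hψB _
  set χ : αT.range →* Ω := β.comp (ψγ.codRestrict B hψγB) with hχ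
  have hχm : χ ∈ F.Hom αT.range := comp_mem' hψγm hβ hψγB (fun _ => rfl)
  have hgraph : K.map (pairMap hα hβ L h₁ h₂) = graph αT.range χ := by
    ext ⟨a, b⟩
    constructor
    · rintro ⟨l, hl, hlp⟩
      obtain ⟨ht, hψt⟩ := hK' l hl
      have hfst : (a : Ω) = αT ⟨l.1.1, ht⟩ := by
        have := congrArg (fun p : S × S => ((p.1 : S) : Ω)) hlp
        exact this.symm
      have hsnd : (b : Ω) = β ⟨l.1.2, h₂ l⟩ := by
        have := congrArg (fun p : S × S => ((p.2 : S) : Ω)) hlp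
        exact this.symm
      have hm : (a : Ω) ∈ αT.range := ⟨_, hfst.symm⟩
      refine ⟨hm, ?_⟩
      change χ ⟨a, hm⟩ = b
      rw [hsnd]
      change β ⟨ψ ⟨γ ⟨a, hm⟩, hγT _⟩, hψγB _⟩ = _
      congr 1
      apply Subtype.ext
      change ψ ⟨γ ⟨a, hm⟩, hγT _⟩ = _
      rw [← hψt]
      congr 2
      have h3 : (⟨a, hm⟩ : αT.range) = ⟨αT ⟨l.1.1, ht⟩, ⟨_, rfl⟩⟩ := Subtype.ext hfst
      rw [h3]
      exact hγ1 _ _
    · rintro ⟨hm, hχa⟩
      change (a : Ω) ∈ αT.range at hm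
      have hχa' : χ ⟨a, hm⟩ = b := hχa
      obtain ⟨l, hl, h3, h4⟩ := hmem ⟨γ ⟨a, hm⟩, hγT _⟩
      refine ⟨l, hl, ?_⟩
      refine Prod.ext (Subtype.ext ?_) (Subtype.ext ?_)
      · change α ⟨l.1.1, h₁ l⟩ = a
        have h5 := hγ2 ⟨a, hm⟩ (hγT _)
        rw [← h5]
        change _ = α ⟨γ ⟨a, hm⟩, hTA (hγT _)⟩
        congr 1
        exact Subtype.ext h3
      · change β ⟨l.1.2, h₂ l⟩ = b
        rw [← hχa']
        change _ = β ⟨ψ ⟨γ ⟨a, hm⟩, hγT _⟩, hψγB _⟩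
        congr 1
        exact Subtype.ext h4
  refine ⟨⟨_, _, hχm, hgraph⟩, ?_⟩
  apply cl_eq_of_isConj
  rw [hKT, hgraph, pr_graph hTS (map_mem_S hψ), pr_graph (range_le hαTm) (map_mem_S hχm)]
  exact ⟨αT, hαTm, rfl⟩

/-- Backward transport of a graph. -/
theorem transport_backward (K : Subgroup L) (hK : K.map (pairMap hα hβ L h₁ h₂) ∈ good F) :
    K.map L.subtype ∈ good F := by
  classical
  obtain ⟨T₁, χ, hχ, hKT⟩ := hK
  have hK' : ∀ l ∈ K, ∃ ht : α ⟨l.1.1, h₁ l⟩ ∈ T₁, χ ⟨_, ht⟩ = β ⟨l.1.2, h₂ l⟩ := by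
    intro l hl
    have : pairMap hα hβ L h₁ h₂ l ∈ K.map (pairMap hα hβ L h₁ h₂) := ⟨l, hl, rfl⟩
    rw [hKT] at this
    exact this
  set T : Subgroup Ω := pr (K.map L.subtype) with hT
  have hTm : ∀ t : T, ∃ l ∈ K, ((l.1.1 : S) : Ω) = t := by
    rintro ⟨t, ht⟩
    obtain ⟨p, ⟨l, hl, rfl⟩, h⟩ := mem_pr.mp ht
    exact ⟨l, hl, h⟩
  have hTA : T ≤ A := by
    intro t ht
    obtain ⟨l, -, h⟩ := hTm ⟨t, ht⟩
    have := h₁ l
    rwa [h] at this
  set αT : T →* Ω := α.comp (Subgroup.inclusion hTA) with hαT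
  have hαTm : αT ∈ F.Hom T := res_mem hα hTA
  have hl_eq : ∀ (t : T) (l : L), ((l.1.1 : S) : Ω) = t → αT t = α ⟨l.1.1, h₁ l⟩ := by
    intro t l h
    change α _ = α _
    congr 1
    exact Subtype.ext h.symm
  have hαT1 : ∀ t : T, αT t ∈ T₁ := by
    intro t
    obtain ⟨l, hl, h⟩ := hTm t
    obtain ⟨h3, -⟩ := hK' l hl
    rw [hl_eq t l h]
    exact h3
  set χα : T →* Ω := χ.comp (αT.codRestrict T₁ hαT1) with hχα
  have hχαm : χα ∈ F.Hom T := comp_mem' hαTm hχ hαT1 (fun _ => rfl)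
  have hχαl : ∀ (t : T) (l : L), l ∈ K → ((l.1.1 : S) : Ω) = t → χα t = β ⟨l.1.2, h₂ l⟩ := by
    intro t l hl h
    obtain ⟨h3, h4⟩ := hK' l hl
    rw [← h4]
    change χ ⟨αT t, _⟩ = _
    congr 2
    exact hl_eq t l h
  have hχαr : ∀ t : T, χα t ∈ β.range := by
    intro t
    obtain ⟨l, hl, h⟩ := hTm t
    rw [hχαl t l hl h]
    exact ⟨_, rfl⟩
  obtain ⟨γ, hγ, -, hγ1, -⟩ := exists_inv hβ rfl
  set ψ : T →* Ω := γ.comp (χα.codRestrict β.range hχαr) with hψ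
  have hψm : ψ ∈ F.Hom T := comp_mem' hχαm hγ hχαr (fun _ => rfl)
  have hψl : ∀ (t : T) (l : L), l ∈ K → ((l.1.1 : S) : Ω) = t → ψ t = l.1.2 := by
    intro t l hl h
    change γ ⟨χα t, _⟩ = _
    have h5 : (⟨χα t, hχαr t⟩ : β.range) = ⟨β ⟨l.1.2, h₂ l⟩, ⟨_, rfl⟩⟩ :=
      Subtype.ext (hχαl t l hl h)
    rw [h5]
    exact hγ1 _ _
  refine ⟨T, ψ, hψm, ?_⟩
  ext ⟨a, b⟩
  constructor
  · rintro ⟨l, hl, hlp⟩
    have hlp' : l.1 = (a, b) := hlp
    have ha : (a : Ω) ∈ T := mem_pr.mpr ⟨l.1, ⟨l, hl, rfl⟩, by rw [hlp']⟩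
    refine ⟨ha, ?_⟩
    have := hψl ⟨a, ha⟩ l hl (by simp [hlp'])
    rw [this, hlp']
  · rintro ⟨ha, hb⟩
    obtain ⟨l, hl, h⟩ := hTm ⟨a, ha⟩
    have h3 := hψl ⟨a, ha⟩ l hl h
    have hb' : ψ ⟨a, ha⟩ = b := hb
    refine ⟨l, hl, ?_⟩
    refine Prod.ext (Subtype.ext h) (Subtype.ext ?_)
    change ((l.1.2 : S) : Ω) = b
    rw [← h3, hb']

end Transport

section Data

/-- `good` is closed under subgroups. -/
theorem good_sub {H K : Subgroup (S × S)} (hKH : K ≤ H) (hH : H ∈ good F) : K ∈ good F := by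
  obtain ⟨Q, ρ, hρ, rfl⟩ := hH
  have hle : pr K ≤ Q := by
    intro x hx
    obtain ⟨p, hp, rfl⟩ := mem_pr.mp hx
    exact (hKH hp).1
  refine ⟨pr K, ρ.comp (Subgroup.inclusion hle), res_mem hρ hle, ?_⟩
  ext ⟨a, b⟩
  constructor
  · intro h
    refine ⟨mem_pr.mpr ⟨_, h, rfl⟩, ?_⟩
    obtain ⟨h1, h2⟩ := hKH h
    exact h2
  · rintro ⟨h1, h2⟩
    obtain ⟨p, hp, hpa⟩ := mem_pr.mp h1
    obtain ⟨h3, h4⟩ := hKH hp
    have hp1 : p.1 = a := Subtype.ext hpa
    have hb : p.2 = b := by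
      apply Subtype.ext
      rw [← h4]
      have h5 : ρ.comp (Subgroup.inclusion hle) ⟨a, h1⟩ = b := h2
      rw [← h5]
      change ρ _ = ρ _
      congr 1
      exact Subtype.ext hpa
    have : p = (a, b) := Prod.ext hp1 hb
    rwa [this] at hp

/-- The pair map of two conjugations is conjugation. -/
theorem conj_transport (g : S × S) (H : Subgroup (S × S)) (hH : H ∈ good F) :
    conjS g H ∈ good F ∧ cl F (conjS g H) = cl F H := by
  have hα : conjHom S (g.1 : Ω) ∈ F.Hom S := F.conj_mem le_rfl g.1.2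
  have hβ : conjHom S (g.2 : Ω) ∈ F.Hom S := F.conj_mem le_rfl g.2.2
  let L : Subgroup (S × S) := ⊤
  let K : Subgroup L := H.subgroupOf L
  have hK1 : K.map L.subtype = H := by
    change (H.subgroupOf ⊤).map (⊤ : Subgroup (S × S)).subtype = H
    rw [Subgroup.subgroupOf_map_subtype]
    exact inf_eq_left.mpr le_top
  have hK2 : K.map (pairMap hα hβ L (fun l => l.1.1.2) (fun l => l.1.2.2)) = conjS g H := by
    ext x
    rw [mem_conjS]
    constructor
    · rintro ⟨l, hl, rfl⟩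
      have hl' : l.1 ∈ H := hl
      convert hl' using 1
      refine Prod.ext (Subtype.ext ?_) (Subtype.ext ?_)
      · change (g.1 : Ω)⁻¹ * ((g.1 : Ω) * ((l.1.1 : S) : Ω) * (g.1 : Ω)⁻¹) * g.1 = _
        group
      · change (g.2 : Ω)⁻¹ * ((g.2 : Ω) * ((l.1.2 : S) : Ω) * (g.2 : Ω)⁻¹) * g.2 = _
        group
    · intro hx
      refine ⟨⟨g⁻¹ * x * g, trivial⟩, hx, ?_⟩
      refine Prod.ext (Subtype.ext ?_) (Subtype.ext ?_)
      · change (g.1 : Ω) * (((g.1 : Ω)⁻¹ * ((x.1 : S) : Ω)) * g.1) * (g.1 : Ω)⁻¹ = _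
        group
      · change (g.2 : Ω) * (((g.2 : Ω)⁻¹ * ((x.2 : S) : Ω)) * g.2) * (g.2 : Ω)⁻¹ = _
        group
  have h := transport_forward hα hβ L (fun l => l.1.1.2) (fun l => l.1.2.2) K (by rwa [hK1])
  rw [hK1, hK2] at h
  exact ⟨h.1, h.2.symm⟩

end Data

section ClassDataSec

open Classical in
/-- A fully normalized representative of a class. -/
noncomputable def rep (F : FusionSystem S) (c : Set (Subgroup Ω)) : Subgroup Ω :=
  if h : ∃ Q ∈ c, F.IsFullyNormalized Q then h.choose else ⊥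

theorem rep_spec [Finite S] {Q₀ : Subgroup Ω} (hQ₀ : Q₀ ≤ S) :
    F.IsConj Q₀ (rep F {Q | F.IsConj Q₀ Q}) ∧ F.IsFullyNormalized (rep F {Q | F.IsConj Q₀ Q}) := by
  have h : ∃ Q ∈ {Q | F.IsConj Q₀ Q}, F.IsFullyNormalized Q := by
    obtain ⟨Q, h1, h2⟩ := exists_fullyNormalized (F := F) hQ₀
    exact ⟨Q, h1, h2⟩
  unfold rep
  rw [dif_pos h]
  exact h.choose_spec

variable {p : ℕ} [Fact p.Prime] [Finite S]

/-- The elementwise meaning of normalizing a graph. -/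
theorem normalizer_graph_spec {Q : Subgroup Ω} {ρ : Q →* Ω} (hQ : Q ≤ S) (hv : ∀ x : Q, ρ x ∈ S)
    {n : S × S} (hn : n ∈ Subgroup.normalizer ((graph Q ρ : Subgroup (S × S)) : Set (S × S)))
    (q : Q) : ∃ hq : ((n.1 : S) : Ω) * q * ((n.1 : S) : Ω)⁻¹ ∈ Q,
      ρ ⟨((n.1 : S) : Ω) * q * ((n.1 : S) : Ω)⁻¹, hq⟩ = ((n.2 : S) : Ω) * ρ q * ((n.2 : S) : Ω)⁻¹ := by
  have h1 : ((⟨q, hQ q.2⟩, ⟨ρ q, hv q⟩) : S × S) ∈ (graph Q ρ : Subgroup (S × S)) := ⟨q.2, rfl⟩
  have h2 := (Subgroup.mem_normalizer_iff.mp hn _).mp h1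
  exact h2

/-- The class data of a saturated fusion system. -/
noncomputable def classData (hS : IsPGroup p S) (hF : F.IsSaturated p) :
    ClassData (S × S) (Set (Subgroup Ω)) where
  good := good F
  conj_mem g hH := (conj_transport g _ hH).1
  sub_mem hKH hH := good_sub hKH hH
  cl := cl F
  cl_conj g hH := (conj_transport g _ hH).2
  base c := graph (rep F c) (rep F c).subtype
  trans := by
    rintro _ ⟨Q', ρ, hρ, rfl⟩
    have hQ'S : Q' ≤ S := source_le hρ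
    have hρS : ∀ x : Q', ρ x ∈ S := map_mem_S hρ
    set H : Subgroup (S × S) := graph Q' ρ with hH
    have hprH : pr H = Q' := pr_graph hQ'S hρS
    have hcl : cl F H = {Q | F.IsConj Q' Q} := by
      unfold cl
      rw [hprH]
    rw [hcl]
    obtain ⟨hconj, hfn⟩ := rep_spec (F := F) hQ'S
    set Qs : Subgroup Ω := rep F {Q | F.IsConj Q' Q} with hQs
    have hconj₂ : F.IsConj ρ.range Qs := Basic.IsConj.trans (Basic.IsConj.symm ⟨ρ, hρ, rfl⟩) hconj
    have hfa := (fullyNormalized_props hS hF hfn).2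
    have hrec := fullyNormalized_receptive hS hF hfn
    obtain ⟨β, hβ, hβv, hβm⟩ := exists_map_normalizerIn hS hfa hrec hconj₂
    have hQ''B : ρ.range ≤ normalizerIn S ρ.range := le_normalizerIn (range_le hρ)
    have hρB : ∀ x : Q', ρ x ∈ normalizerIn S ρ.range := fun x => hQ''B ⟨x, rfl⟩
    set τ : Q' →* Ω := β.comp (ρ.codRestrict _ hρB) with hτ
    have hτm : τ ∈ F.Hom Q' := comp_mem' hρ hβ hρB (fun _ => rfl)
    have hτr : τ.range = Qs := by
      rw [← hβm]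
      ext y
      constructor
      · rintro ⟨x, rfl⟩
        exact ⟨ρ.codRestrict _ hρB x, ⟨x, rfl⟩, rfl⟩
      · rintro ⟨z, ⟨x, hx⟩, rfl⟩
        refine ⟨x, ?_⟩
        change β _ = β z
        congr 1
        exact Subtype.ext hx
    obtain ⟨α, hα, hαag⟩ := hrec.2 Q' τ hτm hτr
    set N : Subgroup (S × S) := Subgroup.normalizer (H : Set (S × S)) with hN
    have hspec : ∀ n : N, ∀ q : Q', ∃ hq : ((n.1.1 : S) : Ω) * q * ((n.1.1 : S) : Ω)⁻¹ ∈ Q',
        ρ ⟨((n.1.1 : S) : Ω) * q * ((n.1.1 : S) : Ω)⁻¹, hq⟩ =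
          ((n.1.2 : S) : Ω) * ρ q * ((n.1.2 : S) : Ω)⁻¹ :=
      fun n q => normalizer_graph_spec hQ'S hρS n.2 q
    have hg : ∀ n : N, ((n.1.1 : S) : Ω) ∈ Subgroup.normalizer (Q' : Set Ω) := by
      intro n
      rw [Subgroup.mem_normalizer_iff]
      intro y
      constructor
      · intro hy
        exact (hspec n ⟨y, hy⟩).1
      · intro hy
        have h3 := (hspec n⁻¹ ⟨_, hy⟩).1
        have h4 : (((n⁻¹ : N).1.1 : S) : Ω) = ((n.1.1 : S) : Ω)⁻¹ := rfl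
        simp only [h4] at h3
        simpa [mul_assoc] using h3
    have hh : ∀ n : N, ((n.1.2 : S) : Ω) ∈ normalizerIn S ρ.range := by
      intro n
      refine ⟨n.1.2.2, ?_⟩
      change ((n.1.2 : S) : Ω) ∈ Subgroup.normalizer (ρ.range : Set Ω)
      rw [Subgroup.mem_normalizer_iff]
      intro y
      constructor
      · rintro ⟨q, rfl⟩
        obtain ⟨hq, h3⟩ := hspec n q
        exact ⟨_, h3⟩
      · rintro ⟨q, hq⟩
        obtain ⟨hq', h3⟩ := hspec n⁻¹ q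
        have h4 : (((n⁻¹ : N).1.2 : S) : Ω) = ((n.1.2 : S) : Ω)⁻¹ := rfl
        rw [h4, hq] at h3
        refine ⟨_, h3.trans ?_⟩
        simp [mul_assoc]
    have hgA : ∀ n : N, ((n.1.1 : S) : Ω) ∈ extender S Q' τ := by
      intro n
      refine extender_closure_mem n.1.1.2 (hg n) (map_mem_S hβ ⟨n.1.2, hh n⟩) ?_
      intro x hx
      obtain ⟨hq, h3⟩ := hspec n x
      have hb : ∀ y : normalizerIn S ρ.range, β y = β y := fun _ => rfl
      change β ⟨ρ ⟨_, hx⟩, _⟩ = β ⟨n.1.2, hh n⟩ * β ⟨ρ x, _⟩ * (β ⟨n.1.2, hh n⟩)⁻¹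
      rw [← map_inv, ← map_mul, ← map_mul]
      congr 1
      apply Subtype.ext
      simpa using h3
    refine ⟨pairMap hα hβ N hgA hh, pairMap_injective _ _ _ _ _, ?_, ?_⟩
    · -- the image of `H`
      ext ⟨a, b⟩
      constructor
      · rintro ⟨n, hn, hnp⟩
        obtain ⟨hq, hρq⟩ : ∃ hq : ((n.1.1 : S) : Ω) ∈ Q', ρ ⟨n.1.1, hq⟩ = n.1.2 := hn
        have h1 : (a : Ω) = τ ⟨n.1.1, hq⟩ := by
          have := congrArg (fun p : S × S => ((p.1 : S) : Ω)) hnp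
          exact this.symm.trans (hαag _ hq (hgA n))
        have h2 : (b : Ω) = τ ⟨n.1.1, hq⟩ := by
          have := congrArg (fun p : S × S => ((p.2 : S) : Ω)) hnp
          refine this.symm.trans ?_
          change β _ = β _
          congr 1
          exact Subtype.ext hρq.symm
        have hm : (a : Ω) ∈ Qs := by
          rw [← hτr, h1]
          exact ⟨_, rfl⟩
        exact ⟨hm, h1.trans h2.symm⟩
      · rintro ⟨hm, hab⟩
        have hm' : (a : Ω) ∈ τ.range := by rw [hτr]; exact hm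
        obtain ⟨q, hq⟩ := hm'
        have hab' : (a : Ω) = b := hab
        have hnH : ((⟨q, hQ'S q.2⟩, ⟨ρ q, hρS q⟩) : S × S) ∈ H := ⟨q.2, rfl⟩
        refine ⟨⟨_, Subgroup.le_normalizer hnH⟩, hnH, ?_⟩
        refine Prod.ext (Subtype.ext ?_) (Subtype.ext ?_)
        · refine (hαag _ q.2 _).trans hq
        · refine Eq.trans ?_ (hq.trans hab')
          rfl
    · intro K _
      refine ⟨⟨fun h => (transport_forward hα hβ N hgA hh K h).1,
        fun h => transport_backward hα hβ N hgA hh K h⟩,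
        fun h => (transport_forward hα hβ N hgA hh K h).2⟩

end ClassDataSec

section Top

/-- The top part of the biset: one copy of `T` for each class of `A` modulo inner automorphisms. -/
def TopSet {T : Type*} [Group T] (A : Subgroup (MulAut T)) : Type _ :=
  (A ⧸ (Inn T).subgroupOf A) × T

variable {T : Type*} [Group T] (A : Subgroup (MulAut T))

noncomputable instance TopSet.instMulAction : MulAction (T × T) (TopSet A) where
  smul g x := (x.1, ((Quotient.out x.1 : A) : MulAut T) g.1 * x.2 * g.2⁻¹)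
  one_smul x := by
    refine Prod.ext rfl ?_
    change ((Quotient.out x.1 : A) : MulAut T) (1 : T) * x.2 * (1 : T)⁻¹ = x.2
    simp
  mul_smul g h x := by
    refine Prod.ext rfl ?_
    change ((Quotient.out x.1 : A) : MulAut T) (g.1 * h.1) * x.2 * (g.2 * h.2)⁻¹ =
      ((Quotient.out x.1 : A) : MulAut T) g.1 * (((Quotient.out x.1 : A) : MulAut T) h.1 * x.2 * h.2⁻¹)
        * g.2⁻¹
    simp [mul_assoc]

theorem TopSet.smul_fst (g : T × T) (x : TopSet A) : (g • x).1 = x.1 := rfl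

theorem TopSet.smul_snd (g : T × T) (x : TopSet A) :
    (g • x).2 = ((Quotient.out x.1 : A) : MulAut T) g.1 * x.2 * g.2⁻¹ := rfl

instance [Finite T] : Finite (TopSet A) := by
  unfold TopSet
  infer_instance

theorem TopSet.card [Finite T] :
    Nat.card (TopSet A) = ((Inn T).subgroupOf A).index * Nat.card T := by
  unfold TopSet
  rw [Nat.card_prod]
  rfl

/-- The mark of the graph of an element of `A` on the top part is the order of the centre. -/
theorem TopSet.card_fix (β : A) :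
    Nat.card {x : TopSet A // ∀ g : T, (g, (β : MulAut T) g) • x = x} =
      Nat.card (Subgroup.center T) := by
  classical
  have hnorm : ((Inn T).subgroupOf A).Normal :=
    Cfsg.Agent.Lib.Fusion.Alperin.inn_subgroupOf_normal T A
  let q₀ : A ⧸ (Inn T).subgroupOf A := QuotientGroup.mk β
  let α₀ : A := Quotient.out q₀
  have hq₀ : (QuotientGroup.mk α₀ : A ⧸ (Inn T).subgroupOf A) = q₀ := QuotientGroup.out_eq' q₀
  have hmem : α₀⁻¹ * β ∈ (Inn T).subgroupOf A := QuotientGroup.eq.mp hq₀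
  obtain ⟨t, ht⟩ : ((α₀⁻¹ * β : A) : MulAut T) ∈ Inn T := hmem
  have hβ : ∀ g : T, (β : MulAut T) g =
      (α₀ : MulAut T) t * (α₀ : MulAut T) g * ((α₀ : MulAut T) t)⁻¹ := by
    intro g
    have h1 : (β : MulAut T) = (α₀ : MulAut T) * MulAut.conj t := by
      have h2 : (MulAut.conj t : MulAut T) = (α₀ : MulAut T)⁻¹ * (β : MulAut T) := ht
      rw [h2]
      group
    rw [h1]
    simp [MulAut.mul_apply, MulAut.conj_apply]
  set u : T := (α₀ : MulAut T) t with hu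
  let f : Subgroup.center T → {x : TopSet A // ∀ g : T, (g, (β : MulAut T) g) • x = x} := fun z =>
    ⟨(q₀, (z : T) * u⁻¹), fun g => by
      refine Prod.ext rfl ?_
      change ((Quotient.out q₀ : A) : MulAut T) g * ((z : T) * u⁻¹) * ((β : MulAut T) g)⁻¹ = _
      rw [hβ g]
      change (α₀ : MulAut T) g * ((z : T) * u⁻¹) * (u * (α₀ : MulAut T) g * u⁻¹)⁻¹ = _
      have hz : (α₀ : MulAut T) g * (z : T) = (z : T) * (α₀ : MulAut T) g :=
        (Subgroup.mem_center_iff.mp z.2 _)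
      calc (α₀ : MulAut T) g * ((z : T) * u⁻¹) * (u * (α₀ : MulAut T) g * u⁻¹)⁻¹
          = ((α₀ : MulAut T) g * (z : T)) * ((α₀ : MulAut T) g)⁻¹ * u⁻¹ := by group
        _ = (z : T) * u⁻¹ := by rw [hz]; group⟩
  have hinj : Function.Injective f := by
    intro z z' h
    have h1 : (z : T) * u⁻¹ = (z' : T) * u⁻¹ := congrArg (fun x => x.1.2) h
    exact Subtype.ext (mul_right_cancel h1)
  have hsurj : Function.Surjective f := by
    rintro ⟨⟨q, s⟩, hx⟩
    -- the fixed point condition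
    have hx' : ∀ g : T, ((Quotient.out q : A) : MulAut T) g * s * ((β : MulAut T) g)⁻¹ = s :=
      fun g => congrArg (fun x : TopSet A => x.2) (hx g)
    have hα : ((Quotient.out q : A) : MulAut T) = MulAut.conj s * (β : MulAut T) := by
      ext g
      have h1 := hx' g
      simp only [MulAut.mul_apply, MulAut.conj_apply]
      calc ((Quotient.out q : A) : MulAut T) g
          = (((Quotient.out q : A) : MulAut T) g * s * ((β : MulAut T) g)⁻¹) * (β : MulAut T) g * s⁻¹ := by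
            group
        _ = s * (β : MulAut T) g * s⁻¹ := by rw [h1]
    have hqq : q = q₀ := by
      have h1 : (QuotientGroup.mk (Quotient.out q) : A ⧸ (Inn T).subgroupOf A) = q :=
        QuotientGroup.out_eq' q
      rw [← h1]
      refine QuotientGroup.eq.mpr ?_
      change (((Quotient.out q)⁻¹ * β : A) : MulAut T) ∈ Inn T
      have h2 : (((Quotient.out q)⁻¹ * β : A) : MulAut T) =
          ((β : MulAut T))⁻¹ * (MulAut.conj s)⁻¹ * (β : MulAut T) := by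
        rw [Subgroup.coe_mul, Subgroup.coe_inv, hα]
        group
      rw [h2]
      have h3 := (Cfsg.Agent.Lib.Fusion.Alperin.inn_normal T).conj_mem (MulAut.conj s)⁻¹
        (Subgroup.inv_mem _ ⟨s, rfl⟩) ((β : MulAut T))⁻¹
      simpa using h3
    subst hqq
    have hcenter : s * u ∈ Subgroup.center T := by
      rw [Subgroup.mem_center_iff]
      intro y
      obtain ⟨g, rfl⟩ := ((α₀ : MulAut T)).surjective y
      have h1 := hx' g
      rw [hβ g] at h1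
      change (α₀ : MulAut T) g * s * (u * (α₀ : MulAut T) g * u⁻¹)⁻¹ = s at h1
      have h2 : (α₀ : MulAut T) g * s * u = s * u * (α₀ : MulAut T) g := by
        calc (α₀ : MulAut T) g * s * u
            = ((α₀ : MulAut T) g * s * (u * (α₀ : MulAut T) g * u⁻¹)⁻¹) * (u * (α₀ : MulAut T) g) := by
              group
          _ = s * u * (α₀ : MulAut T) g := by rw [h1]; group
      calc (α₀ : MulAut T) g * (s * u) = (α₀ : MulAut T) g * s * u := by group
        _ = s * u * (α₀ : MulAut T) g := h2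
    refine ⟨⟨s * u, hcenter⟩, Subtype.ext (Prod.ext rfl ?_)⟩
    change s * u * u⁻¹ = s
    group
  exact (Nat.card_congr (Equiv.ofBijective f ⟨hinj, hsurj⟩)).symm

end Top

section Main

variable {p : ℕ} [Fact p.Prime] [Finite S]

theorem isFullyNormalized_top : F.IsFullyNormalized S := by
  refine ⟨le_rfl, fun Q hQ => ?_⟩
  have hQS := Basic.IsConj.le_right hQ
  have hc := Basic.IsConj.card_eq hQ
  have : Q = S := Subgroup.eq_of_le_of_card_ge hQS hc.le
  rw [this]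

theorem autInducedBy_self : autInducedBy S S = Inn S := by
  apply le_antisymm
  · intro α hα
    obtain ⟨g, hg, h⟩ := mem_autInducedBy_iff.1 hα
    refine ⟨⟨g, hg⟩, ?_⟩
    ext x
    rw [h x]
    simp [MulAut.conj_apply]
  · exact inn_le_autInducedBy le_rfl

theorem not_dvd_index_inn (hS : IsPGroup p S) (hF : F.IsSaturated p) :
    ¬ p ∣ ((Inn S).subgroupOf (F.autGroup S)).index := by
  obtain ⟨-, R, hR⟩ := (fullyNormalized_props hS hF (isFullyNormalized_top (F := F))).2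
  rw [autInducedBy_self] at hR
  have : Finite (F.autGroup S) := finite_autGroup le_rfl
  rw [← hR]
  exact R.not_dvd_index

theorem top_stabilizer_good (x : TopSet (F.autGroup S)) :
    stabilizer (S × S) x ∈ good F := by
  let α : F.autGroup S := Quotient.out x.1
  let ρ : S →* Ω :=
    (MulAut.conj ((x.2 : Ω)⁻¹)).toMonoidHom.comp (S.subtype.comp (α : MulAut S).toMonoidHom)
  have h1 : S.subtype.comp (α : MulAut S).toMonoidHom ∈ F.Hom S := autGroup_mem_hom le_rfl α.2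
  have h2 : conjHom S ((x.2 : Ω)⁻¹) ∈ F.Hom S := F.conj_mem le_rfl (S.inv_mem x.2.2)
  have hρ : ρ ∈ F.Hom S := comp_mem' h1 h2 (fun y => ((α : MulAut S) y).2) (fun y => rfl)
  refine ⟨S, ρ, hρ, ?_⟩
  ext ⟨g, h⟩
  rw [mem_stabilizer_iff, mem_graph]
  constructor
  · intro hgh
    refine ⟨g.2, ?_⟩
    have h3 : ((α : MulAut S) g) * x.2 * h⁻¹ = x.2 := congrArg (fun y : TopSet (F.autGroup S) => y.2) hgh
    have h4 : (((α : MulAut S) g : S) : Ω) * x.2 * (h : Ω)⁻¹ = x.2 := congrArg Subtype.val h3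
    change (x.2 : Ω)⁻¹ * (((α : MulAut S) g : S) : Ω) * ((x.2 : Ω)⁻¹)⁻¹ = h
    calc (x.2 : Ω)⁻¹ * (((α : MulAut S) g : S) : Ω) * ((x.2 : Ω)⁻¹)⁻¹
        = (x.2 : Ω)⁻¹ * ((((α : MulAut S) g : S) : Ω) * x.2 * (h : Ω)⁻¹) * h := by group
      _ = h := by rw [h4]; group
  · rintro ⟨_, h3⟩
    have h3' : (x.2 : Ω)⁻¹ * (((α : MulAut S) g : S) : Ω) * ((x.2 : Ω)⁻¹)⁻¹ = h := h3
    refine Prod.ext rfl (Subtype.ext ?_)
    change (((α : MulAut S) g : S) : Ω) * x.2 * (h : Ω)⁻¹ = x.2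
    rw [← h3']
    group

theorem top_mark {ρ : S →* Ω} (hρ : ρ ∈ F.Hom S) :
    mark (graph S ρ : Subgroup (S × S)) (TopSet (F.autGroup S)) = Nat.card (Subgroup.center S) := by
  have hinj := F.injective_of_mem hρ
  have hr : ρ.range = S := range_eq_of_card hρ (map_mem_S hρ) le_rfl
  let e : S ≃* S := isoOfRange hinj hr
  have he : ∀ x : S, ((e x : S) : Ω) = ρ x := fun x => rfl
  have hem : e ∈ F.autGroup S := by
    apply mem_autGroup_of_mem
    have : S.subtype.comp e.toMonoidHom = ρ := by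
      ext x
      exact he x
    rw [this]
    exact hρ
  let β : F.autGroup S := ⟨e, hem⟩
  rw [← TopSet.card_fix (F.autGroup S) β]
  unfold mark
  change Nat.card (fix (graph S ρ : Subgroup (S × S)) (TopSet (F.autGroup S))) = _
  refine Nat.card_congr (Equiv.subtypeEquivRight fun x => ?_)
  constructor
  · intro h g
    exact h _ ⟨g.2, rfl⟩
  · rintro h ⟨g, k⟩ ⟨_, hk⟩
    have h1 := h g
    have h2 : k = (β : MulAut S) g := by
      apply Subtype.ext
      exact hk.symm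
    rw [h2]
    exact h1

/-- **The characteristic biset**: a finite `S × S`-set whose stabilizers are graphs of maps of the
system and whose marks are constant on classes, of cardinality `m * |S|` with `m` prime to `p`. -/
theorem exists_charBiset (hS : IsPGroup p S) (hF : F.IsSaturated p) :
    ∃ (X : Type u) (_ : MulAction (S × S) X) (_ : Finite X),
      (∀ x : X, stabilizer (S × S) x ∈ good F) ∧
      (∀ H₁ ∈ good F, ∀ H₂ ∈ good F, cl F H₁ = cl F H₂ → mark H₁ X = mark H₂ X) ∧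
      ∃ m : ℕ, Nat.card X = m * Nat.card S ∧ ¬ p ∣ m := by
  obtain ⟨a, ha⟩ := IsPGroup.iff_card.mp hS
  have hp : p.Prime := Fact.out
  have hS0 : 0 < Nat.card S := Nat.card_pos
  -- the top marks
  have key : ∀ H ∈ good F, Nat.card S - 1 < Nat.card H →
      mark H (TopSet (F.autGroup S)) = Nat.card (Subgroup.center S) := by
    rintro _ ⟨Q, ρ, hρ, rfl⟩ hc
    have hQS := source_le hρ
    rw [card_graph hQS (map_mem_S hρ)] at hc
    have hQ : Q = S := Subgroup.eq_of_le_of_card_ge hQS (by omega)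
    subst hQ
    exact top_mark hρ
  have htop : ∀ H₁ ∈ good F, ∀ H₂ ∈ good F, cl F H₁ = cl F H₂ → Nat.card S - 1 < Nat.card H₁ →
      Nat.card S - 1 < Nat.card H₂ →
        mark H₁ (TopSet (F.autGroup S)) = mark H₂ (TopSet (F.autGroup S)) := by
    intro H₁ h₁ H₂ h₂ _ hc₁ hc₂
    rw [key H₁ h₁ hc₁, key H₂ h₂ hc₂]
  -- the index
  have hindex : ∀ H ∈ good F, Nat.card H ≤ Nat.card S - 1 → p * Nat.card S ∣ H.index := by
    intro H hH hc
    have hcard : Nat.card (S × S) = p ^ (a + a) := by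
      rw [Nat.card_prod, ha, pow_add]
    have h4 : H.index * Nat.card H = p ^ (a + a) := by
      rw [Subgroup.index_mul_card, hcard]
    obtain ⟨b, hb, hbc⟩ := (Nat.dvd_prime_pow hp).mp (Dvd.intro_left _ h4)
    have hba : b < a := by
      rw [hbc, ha] at hc
      have h5 : p ^ a - 1 < p ^ a := Nat.sub_lt (pow_pos hp.pos a) Nat.one_pos
      exact (Nat.pow_lt_pow_iff_right hp.one_lt).mp (lt_of_le_of_lt hc h5)
    have h5 : H.index * p ^ b = p ^ (a + a - b) * p ^ b := by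
      have h7 : H.index * p ^ b = p ^ (a + a) := by
        rw [← hbc]
        exact h4
      rw [h7, ← pow_add]
      congr 1
      omega
    have h6 : H.index = p ^ (a + a - b) := Nat.eq_of_mul_eq_mul_right (pow_pos hp.pos b) h5
    rw [h6, ha, ← pow_succ']
    exact pow_dvd_pow p (by omega)
  obtain ⟨X, i1, i2, h1, h2, h3⟩ := exists_stable (classData hS hF)
    (TopSet (F.autGroup S)) (Nat.card S - 1) (p * Nat.card S) top_stabilizer_good htop hindex
  refine ⟨X, i1, i2, h1, h2, ?_⟩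
  rw [TopSet.card] at h3
  have h4 : Nat.card S ∣ Nat.card X := by
    have h5 : Nat.card X ≡ ((Inn S).subgroupOf (F.autGroup S)).index * Nat.card S [MOD Nat.card S] :=
      h3.of_mul_left p
    exact (Nat.modEq_zero_iff_dvd).mp (h5.trans ((Nat.modEq_zero_iff_dvd).mpr (dvd_mul_left _ _)))
  obtain ⟨m, hm⟩ := h4
  refine ⟨m, by rw [hm, mul_comm], fun hpm => ?_⟩
  apply not_dvd_index_inn hS hF
  have h6 : Nat.card S * m ≡ Nat.card S * ((Inn S).subgroupOf (F.autGroup S)).index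
      [MOD Nat.card S * p] := by
    rw [← hm, mul_comm (Nat.card S) p,
      mul_comm (Nat.card S) ((Inn S).subgroupOf (F.autGroup S)).index]
    exact h3
  have h7 := Nat.ModEq.mul_left_cancel' hS0.ne' h6
  exact (Nat.modEq_zero_iff_dvd).mp (h7.symm.trans ((Nat.modEq_zero_iff_dvd).mpr hpm))

end Main

end Cfsg.Agent.Lib.Fusion.CharBiset
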