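/-
The transfer attached to the characteristic biset: stability under the maps of the system.
-/
import Mathlib
import Cfsg.Agent.Lib.Fusion.CharBiset

set_option autoImplicit false

namespace Cfsg.Agent.Lib.Fusion.CharTransfer

open Cfsg Cfsg.FusionSystem Cfsg.Agent.Lib.Fusion.Basic Cfsg.Agent.Lib.Fusion.Saturated
open Cfsg.Agent.Lib.Fusion.Burnside Cfsg.Agent.Lib.Fusion.CharBiset
open MulAction

section Abstract

variable {U : Type*} [Group U] {X : Type*} [MulAction (U × U) X] {A : Type*} [CommGroup A]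

/-- A trivialization of the right action of `U` on `X`. -/
structure IsTriv {Z : Type*} (σ : Z → X) : Prop where
  exists_rep : ∀ ω : X, ∃ (z : Z) (h : U), ω = ((1 : U), h) • σ z
  rep_unique : ∀ (z z' : Z) (h h' : U), ((1 : U), h) • σ z = ((1 : U), h') • σ z' → z = z' ∧ h = h'

/-- A function extending `λ` to the whole group, compatibly with right translation by `T`. -/
theorem exists_Lambda (T : Subgroup U) (lam : T →* A) :
    ∃ L : U → A, ∀ (v : U) (t : T), L (v * t) = L v * lam t := by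
  classical
  have hmem : ∀ v : U, (Quotient.out (v : U ⧸ T))⁻¹ * v ∈ T := fun v =>
    QuotientGroup.eq.mp (QuotientGroup.out_eq' (v : U ⧸ T))
  refine ⟨fun v => lam ⟨_, hmem v⟩, fun v t => ?_⟩
  have h1 : ((v * t : U) : U ⧸ T) = (v : U ⧸ T) :=
    (QuotientGroup.mk_mul_of_mem v t.2)
  have h2 : (⟨(Quotient.out ((v * t : U) : U ⧸ T))⁻¹ * (v * t), hmem (v * t)⟩ : T) =
      ⟨(Quotient.out (v : U ⧸ T))⁻¹ * v, hmem v⟩ * t := by
    apply Subtype.ext
    simp only [h1, Subgroup.coe_mul]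
    group
  simp only [h2, map_mul]

/-- **Invariance of the transfer**: two trivializations related by a left-twisted bijection commuting
with the right action give the same value of the transfer, for `T`-valued cocycles. -/
theorem prod_eq_prod {Z Z' : Type*} [Fintype Z] [Fintype Z'] {σ : Z → X} {σ' : Z' → X}
    (hσ : IsTriv (U := U) σ) (hσ' : IsTriv (U := U) σ') (x y : U) (xh : Z ≃ Z) (yh : Z' ≃ Z')
    (s : Z → U) (s' : Z' → U)
    (hs : ∀ z, (x, (1 : U)) • σ z = ((1 : U), (s z)⁻¹) • σ (xh z))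
    (hs' : ∀ z', (y, (1 : U)) • σ' z' = ((1 : U), (s' z')⁻¹) • σ' (yh z'))
    (f : X ≃ X) (hfl : ∀ ω, f ((x, (1 : U)) • ω) = (y, (1 : U)) • f ω)
    (hfr : ∀ (h : U) (ω : X), f (((1 : U), h) • ω) = ((1 : U), h) • f ω)
    (T : Subgroup U) [hT : T.Normal] (lam : T →* A)
    (hinv : ∀ (g : U) (t : T), lam ⟨g * t * g⁻¹, hT.conj_mem _ t.2 g⟩ = lam t)
    (hsT : ∀ z, s z ∈ T) (hs'T : ∀ z', s' z' ∈ T) :
    ∏ z, lam ⟨s z, hsT z⟩ = ∏ z', lam ⟨s' z', hs'T z'⟩ := by
  classical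
  have hex : ∀ z, ∃ (z' : Z') (h : U), f (σ z) = ((1 : U), h) • σ' z' :=
    fun z => hσ'.exists_rep (f (σ z))
  choose b u hbu using hex
  have hone : ∀ {W : Type _} [MulAction (U × U) W] (ω : W), ((1 : U), (1 : U)) • ω = ω := by
    intro W _ ω
    rw [show ((1 : U), (1 : U)) = (1 : U × U) from rfl, one_smul]
  have hcomm : ∀ (a h : U) (ω : X), (a, (1 : U)) • ((1 : U), h) • ω = ((1 : U), h) • (a, (1 : U)) • ω := by
    intro a h ω
    rw [smul_smul, smul_smul]
    simp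
  have hrr : ∀ (a h : U) (ω : X), ((1 : U), a) • ((1 : U), h) • ω = ((1 : U), a * h) • ω := by
    intro a h ω
    rw [smul_smul]
    simp
  have hrel : ∀ z, yh (b z) = b (xh z) ∧ u z * (s' (b z))⁻¹ = (s z)⁻¹ * u (xh z) := by
    intro z
    have e1 : f ((x, (1 : U)) • σ z) = ((1 : U), u z * (s' (b z))⁻¹) • σ' (yh (b z)) := by
      rw [hfl, hbu, hcomm, hs', hrr]
    have e2 : f ((x, (1 : U)) • σ z) = ((1 : U), (s z)⁻¹ * u (xh z)) • σ' (b (xh z)) := by
      rw [hs, hfr, hbu, hrr]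
    exact hσ'.rep_unique _ _ _ _ (e1.symm.trans e2)
  have hs'eq : ∀ z, s' (b z) = (u (xh z))⁻¹ * s z * u z := by
    intro z
    have h1 := (hrel z).2
    have h2 : (s' (b z))⁻¹ = (u z)⁻¹ * ((s z)⁻¹ * u (xh z)) := by
      rw [← h1]; group
    have h3 := congrArg (fun a => a⁻¹) h2
    simp only [inv_inv] at h3
    rw [h3]
    group
  -- `b` is a bijection
  have hbinj : Function.Injective b := by
    intro z z' hzz
    have h1 : f (σ z) = ((1 : U), u z * (u z')⁻¹) • f (σ z') := by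
      rw [hbu z, hbu z', hrr, hzz]
      simp
    have h2 : f (σ z) = f (((1 : U), u z * (u z')⁻¹) • σ z') := by
      rw [hfr]; exact h1
    have h3 := f.injective h2
    have h4 : ((1 : U), (1 : U)) • σ z = ((1 : U), u z * (u z')⁻¹) • σ z' := by
      rw [hone]
      exact h3
    exact (hσ.rep_unique _ _ _ _ h4).1
  have hbsurj : Function.Surjective b := by
    intro z'
    obtain ⟨z, h, hzh⟩ := hσ.exists_rep (f.symm (σ' z'))
    refine ⟨z, ?_⟩
    have h1 : σ' z' = ((1 : U), h) • f (σ z) := by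
      rw [← hfr, ← hzh]
      simp
    rw [hbu, hrr] at h1
    have h2 : ((1 : U), (1 : U)) • σ' z' = ((1 : U), h * u z) • σ' (b z) := by
      rw [hone]
      exact h1
    exact (hσ'.rep_unique _ _ _ _ h2).1.symm
  -- the product
  obtain ⟨L, hL⟩ := exists_Lambda T lam
  have hvT : ∀ z, (u (xh z))⁻¹ * u z ∈ T := by
    intro z
    have h1 : (u (xh z))⁻¹ * u z =
        ((u (xh z))⁻¹ * (s z)⁻¹ * (u (xh z))⁻¹⁻¹) * s' (b z) := by
      rw [hs'eq]; group
    rw [h1]
    exact T.mul_mem (hT.conj_mem _ (T.inv_mem (hsT z)) _) (hs'T _)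
  have hterm : ∀ z, lam ⟨s' (b z), hs'T _⟩ =
      lam ⟨s z, hsT z⟩ * (L (u z) / L (u (xh z))) := by
    intro z
    have h1 : (⟨s' (b z), hs'T _⟩ : T) =
        ⟨(u (xh z))⁻¹ * s z * (u (xh z))⁻¹⁻¹, hT.conj_mem _ (hsT z) _⟩ * ⟨_, hvT z⟩ := by
      apply Subtype.ext
      simp only [Subgroup.coe_mul]
      rw [hs'eq]
      group
    rw [h1, map_mul, hinv (u (xh z))⁻¹ ⟨s z, hsT z⟩]
    congr 1
    have h2 := hL (u (xh z)) ⟨_, hvT z⟩
    have h3 : u (xh z) * (((⟨_, hvT z⟩ : T) : U)) = u z := by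
      simp
    rw [h3] at h2
    rw [h2]
    simp
  have h1 : ∏ z', lam ⟨s' z', hs'T z'⟩ = ∏ z, lam ⟨s' (b z), hs'T _⟩ :=
    ((Equiv.ofBijective b ⟨hbinj, hbsurj⟩).prod_comp (fun z' => lam ⟨s' z', hs'T z'⟩)).symm
  rw [h1, Finset.prod_congr rfl (fun z _ => hterm z), Finset.prod_mul_distrib,
    Finset.prod_div_distrib]
  have h2 : ∏ z, L (u (xh z)) = ∏ z, L (u z) := xh.prod_comp (fun z => L (u z))
  rw [h2]
  simp

end Abstract

section Explicit

variable {U : Type*} [Group U]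

/-- The transfer element attached to a section of `U → U ⧸ H`. -/
def trEl {H : Subgroup U} (R : U ⧸ H → U) (hR : ∀ q, ((R q : U) : U ⧸ H) = q) (x : U) (q : U ⧸ H) : H :=
  ⟨(R (x • q))⁻¹ * x * R q, by
    have h : ((R (x • q) : U) : U ⧸ H) = ((x * R q : U) : U ⧸ H) := by
      rw [hR, ← smul_eq_mul, ← MulAction.Quotient.smul_coe, hR]
    have h2 := QuotientGroup.eq.mp h
    rwa [← mul_assoc] at h2⟩

theorem trEl_coe {H : Subgroup U} (R : U ⧸ H → U) (hR : ∀ q, ((R q : U) : U ⧸ H) = q) (x : U)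
    (q : U ⧸ H) : ((trEl R hR x q : H) : U) = (R (x • q))⁻¹ * x * R q := rfl

/-- The transfer, in terms of an arbitrary section. -/
theorem transfer_eq_prod_trEl {A : Type*} [CommGroup A] {H : Subgroup U} [H.FiniteIndex]
    [Fintype (U ⧸ H)] (ϕ : H →* A) (R : U ⧸ H → U) (hR : ∀ q, ((R q : U) : U ⧸ H) = q) (x : U) :
    ϕ.transfer x = ∏ q, ϕ (trEl R hR x q) := by
  classical
  let T : H.LeftTransversal := ⟨Set.range R, Subgroup.isComplement_range_left hR⟩
  have hT : ∀ q, ((T.2.leftQuotientEquiv q : T.1) : U) = R q := fun q =>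
    Subgroup.IsComplement.leftQuotientEquiv_apply hR q
  rw [MonoidHom.transfer_def ϕ T x]
  unfold Subgroup.leftTransversals.diff
  simp only
  have hs : ∀ q, (((x • T).2.leftQuotientEquiv q : (x • T).1) : U) = x * R (x⁻¹ • q) := by
    intro q
    rw [Subgroup.smul_apply_eq_smul_apply_inv_smul, hT]
    rfl
  have e : H.fintypeQuotientOfFiniteIndex = ‹Fintype (U ⧸ H)› := Subsingleton.elim _ _
  rw [e]
  refine Fintype.prod_equiv (MulAction.toPerm x : Equiv.Perm (U ⧸ H)).symm _ _ fun q => ?_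
  congr 1
  apply Subtype.ext
  simp only [MulAction.toPerm_symm_apply]
  rw [hs, hT, trEl_coe]
  simp [mul_assoc]

variable {X : Type*} [MulAction (U × U) X] {ι : Type*}
  {ω : ι → X} {H : ι → Subgroup U} {r : ∀ i, H i →* U}
  (hstab : ∀ i (a b : U), (a, b) • ω i = ω i ↔ ∃ h : a ∈ H i, r i ⟨a, h⟩ = b)
  (horb : ∀ ω₀ : X, ∃ (i : ι) (g : U × U), ω₀ = g • ω i)
  (hsep : ∀ (i j : ι) (g g' : U × U), g • ω i = g' • ω j → i = j)
  (R : ∀ i, U ⧸ H i → U) (hR : ∀ i q, ((R i q : U) : U ⧸ H i) = q)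

/-- The section of the right orbits attached to sections of the coset spaces. -/
def sec (ω : ι → X) {H : ι → Subgroup U} (R : ∀ i, U ⧸ H i → U) : (Σ i, U ⧸ H i) → X :=
  fun z => (R z.1 z.2, (1 : U)) • ω z.1

include hstab horb hsep hR in
theorem isTriv_sec : IsTriv (U := U) (sec ω R) := by
  refine ⟨fun ω₀ => ?_, ?_⟩
  · obtain ⟨i, ⟨g, h⟩, rfl⟩ := horb ω₀
    let q : U ⧸ H i := (g : U ⧸ H i)
    have ha : (R i q)⁻¹ * g ∈ H i := QuotientGroup.eq.mp (hR i q)
    have hst := (hstab i _ _).mpr ⟨ha, rfl⟩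
    refine ⟨⟨i, q⟩, h * (r i ⟨_, ha⟩)⁻¹, ?_⟩
    change (g, h) • ω i = _ • (R i q, (1 : U)) • ω i
    calc (g, h) • ω i = ((R i q, h * (r i ⟨_, ha⟩)⁻¹) * ((R i q)⁻¹ * g, r i ⟨_, ha⟩)) • ω i := by
          congr 1
          refine Prod.ext ?_ ?_
          · simp
          · simp
      _ = (R i q, h * (r i ⟨_, ha⟩)⁻¹) • ((R i q)⁻¹ * g, r i ⟨_, ha⟩) • ω i := mul_smul _ _ _
      _ = (R i q, h * (r i ⟨_, ha⟩)⁻¹) • ω i := by rw [hst]
      _ = _ := by
          rw [smul_smul]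
          simp
  · rintro ⟨i, q⟩ ⟨j, q'⟩ h h' heq
    change ((1 : U), h) • (R i q, (1 : U)) • ω i = ((1 : U), h') • (R j q', (1 : U)) • ω j at heq
    rw [smul_smul, smul_smul] at heq
    obtain rfl := hsep _ _ _ _ heq
    simp only [Prod.mk_mul_mk, one_mul, mul_one] at heq
    have h1 : ((R i q')⁻¹ * R i q, h'⁻¹ * h) • ω i = ω i := by
      have h2 := congrArg (fun w => ((R i q')⁻¹, h'⁻¹) • w) heq
      simp only [smul_smul, Prod.mk_mul_mk, inv_mul_cancel] at h2
      rw [show ((1 : U), (1 : U)) = (1 : U × U) from rfl, one_smul] at h2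
      exact h2
    obtain ⟨hm, hr⟩ := (hstab i _ _).mp h1
    have hqq : q' = q := by
      rw [← hR i q', ← hR i q]
      exact QuotientGroup.eq.mpr hm
    subst hqq
    have h3 : (⟨(R i q')⁻¹ * R i q', hm⟩ : H i) = 1 := Subtype.ext (by simp)
    rw [h3, map_one] at hr
    refine ⟨rfl, ?_⟩
    have h4 := congrArg (fun a => h' * a) hr
    simpa using h4.symm

include hstab in
theorem sec_cocycle (x : U) (z : Σ i, U ⧸ H i) :
    (x, (1 : U)) • sec ω R z =
      ((1 : U), (r z.1 (trEl (R z.1) (hR z.1) x z.2) : U)⁻¹) • sec ω R ⟨z.1, x • z.2⟩ := by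
  obtain ⟨i, q⟩ := z
  change (x, (1 : U)) • (R i q, (1 : U)) • ω i =
    ((1 : U), (r i (trEl (R i) (hR i) x q) : U)⁻¹) • (R i (x • q), (1 : U)) • ω i
  rw [smul_smul, smul_smul]
  set a := trEl (R i) (hR i) x q with ha
  have hst := (hstab i (a : U) (r i a)).mpr ⟨a.2, rfl⟩
  calc ((x, (1 : U)) * (R i q, (1 : U))) • ω i
      = (((1 : U), (r i a : U)⁻¹) * (R i (x • q), (1 : U)) * ((a : U), r i a)) • ω i := by
        congr 1
        refine Prod.ext ?_ ?_
        · simp [trEl_coe, ha, mul_assoc]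
        · simp
    _ = (((1 : U), (r i a : U)⁻¹) * (R i (x • q), (1 : U))) • ((a : U), r i a) • ω i := mul_smul _ _ _
    _ = _ := by rw [hst]

end Explicit

section Main

universe u v

variable {Ω : Type u} [Group Ω] {S : Subgroup Ω} {F : FusionSystem S}

/-- A map of the system, as a homomorphism between subgroups of the group `↥S`. -/
def rOf {Q : Subgroup Ω} (ρ : Q →* Ω) (hv : ∀ x, ρ x ∈ S) : Q.subgroupOf S →* S where
  toFun a := ⟨ρ ⟨a.1, a.2⟩, hv _⟩
  map_one' := Subtype.ext (map_one ρ)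
  map_mul' a b := Subtype.ext (map_mul ρ ⟨a.1, a.2⟩ ⟨b.1, b.2⟩)

@[simp] theorem rOf_coe {Q : Subgroup Ω} (ρ : Q →* Ω) (hv : ∀ x, ρ x ∈ S) (a : Q.subgroupOf S) :
    ((rOf ρ hv a : S) : Ω) = ρ ⟨a.1, a.2⟩ := rfl

theorem mark_eq_zero_of_not_good {X : Type*} [MulAction (S × S) X]
    (hX : ∀ x : X, stabilizer (S × S) x ∈ good F) {K : Subgroup (S × S)} (hK : K ∉ good F) :
    mark K X = 0 := by
  have : fix K X = ∅ := by
    ext x
    simp only [Set.mem_empty_iff_false, iff_false]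
    intro hx
    exact hK (good_sub (mem_fix_iff_le.mp hx) (hX x))
  unfold mark
  rw [this, Set.ncard_empty]

/-- **Left stability** of the biset. -/
theorem exists_left_stable [Finite S] {X : Type*} [MulAction (S × S) X] [Finite X]
    (h1 : ∀ x : X, stabilizer (S × S) x ∈ good F)
    (h2 : ∀ H₁ ∈ good F, ∀ H₂ ∈ good F, cl F H₁ = cl F H₂ → mark H₁ X = mark H₂ X)
    {P : Subgroup Ω} {φ : P →* Ω} (hφ : φ ∈ F.Hom P) :
    ∃ f : X ≃ X, (∀ (a : P) (ω : X),
        f (((⟨a, source_le hφ a.2⟩ : S), (1 : S)) • ω) = ((⟨φ a, map_mem_S hφ a⟩ : S), (1 : S)) • f ω) ∧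
      ∀ (h : S) (ω : X), f (((1 : S), h) • ω) = ((1 : S), h) • f ω := by
  classical
  have hβ : S.subtype ∈ F.Hom S := subtype_mem le_rfl
  let L : Subgroup (S × S) := (P.subgroupOf S).prod ⊤
  have hP : ∀ l : L, ((l.1.1 : S) : Ω) ∈ P := fun l => l.2.1
  have hP2 : ∀ l : L, ((l.1.2 : S) : Ω) ∈ S := fun l => l.1.2.2
  let θ : L →* S × S := pairMap hφ hβ L hP hP2
  have hm : ∀ K : Subgroup L, mark (K.map L.subtype) X = mark (K.map θ) X := by
    intro K
    by_cases hg : K.map L.subtype ∈ good F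
    · obtain ⟨h3, h4⟩ := transport_forward hφ hβ L hP hP2 K hg
      exact h2 _ hg _ h3 h4
    · rw [mark_eq_zero_of_not_good h1 hg, mark_eq_zero_of_not_good h1
        (fun h => hg (transport_backward hφ hβ L hP hP2 K h))]
  obtain ⟨f, hf⟩ := exists_equiv_of_mark_map_eq L.subtype θ X hm
  refine ⟨f, fun a ω => ?_, fun h ω => ?_⟩
  · have hl : ((⟨a, source_le hφ a.2⟩ : S), (1 : S)) ∈ L := ⟨a.2, trivial⟩
    have h3 := hf ⟨_, hl⟩ ω
    exact h3
  · have hl : ((1 : S), h) ∈ L := ⟨(P.subgroupOf S).one_mem, trivial⟩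
    have h3 := hf ⟨_, hl⟩ ω
    have h4 : θ ⟨_, hl⟩ = ((1 : S), h) := by
      refine Prod.ext (Subtype.ext ?_) rfl
      exact map_one φ
    rw [h4] at h3
    exact h3

/-- The cardinality of a set with a trivialization. -/
theorem card_of_isTriv {U : Type*} [Group U] {X Z : Type*} [MulAction (U × U) X] {σ : Z → X}
    (hσ : IsTriv (U := U) σ) : Nat.card X = Nat.card Z * Nat.card U := by
  rw [← Nat.card_prod]
  refine (Nat.card_congr (Equiv.ofBijective (fun p : Z × U => ((1 : U), p.2) • σ p.1) ⟨?_, ?_⟩)).symm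
  · rintro ⟨z, h⟩ ⟨z', h'⟩ hzz
    obtain ⟨rfl, rfl⟩ := hσ.rep_unique _ _ _ _ hzz
    rfl
  · intro ω
    obtain ⟨z, h, rfl⟩ := hσ.exists_rep ω
    exact ⟨(z, h), rfl⟩

variable {p : ℕ} [Fact p.Prime] [Finite S]

/-- **The characteristic family.** A family of maps of the system `ρ i : Q i → S`, the sum of the
indices of the `Q i` prime to `p`, such that the associated transfer sums are stable under the
maps of the system.  The statement is for a normal subgroup `T` of `S` and an `S`-invariant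
homomorphism from `T` to a commutative group, for sections of the coset spaces for which the
transfer elements have images in `T`. -/
theorem exists_family (hS : IsPGroup p S) (hF : F.IsSaturated p) :
    ∃ (ι : Type u) (_ : Fintype ι) (Q : ι → Subgroup Ω) (ρ : ∀ i, Q i →* Ω)
      (hρ : ∀ i, ρ i ∈ F.Hom (Q i)),
      ¬ p ∣ ∑ i, ((Q i).subgroupOf S).index ∧
      ∀ {A : Type v} [CommGroup A] [∀ i, Fintype (S ⧸ (Q i).subgroupOf S)]
        (T : Subgroup S) [hT : T.Normal] (lam : T →* A)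
        (_hinv : ∀ (g : S) (t : T), lam ⟨g * t * g⁻¹, hT.conj_mem _ t.2 g⟩ = lam t)
        {P : Subgroup Ω} {φ : P →* Ω} (hφ : φ ∈ F.Hom P) (a : P)
        (R R' : ∀ i, S ⧸ (Q i).subgroupOf S → S)
        (hR : ∀ i q, ((R i q : S) : S ⧸ (Q i).subgroupOf S) = q)
        (hR' : ∀ i q, ((R' i q : S) : S ⧸ (Q i).subgroupOf S) = q)
        (hg : ∀ i q, rOf (ρ i) (map_mem_S (hρ i))
          (trEl (R i) (hR i) ⟨a, source_le hφ a.2⟩ q) ∈ T)
        (hg' : ∀ i q, rOf (ρ i) (map_mem_S (hρ i))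
          (trEl (R' i) (hR' i) ⟨φ a, map_mem_S hφ a⟩ q) ∈ T),
        ∏ i, ∏ q, lam ⟨_, hg i q⟩ = ∏ i, ∏ q, lam ⟨_, hg' i q⟩ := by
  classical
  obtain ⟨X, i1, i2, h1, h2, m, hm, hpm⟩ := exists_charBiset (F := F) hS hF
  let ι : Type u := MulAction.orbitRel.Quotient (S × S) X
  haveI : Fintype ι := Fintype.ofFinite _
  let ω : ι → X := fun i => Quotient.out i
  have hgood : ∀ i, ∃ (Q : Subgroup Ω) (ρ : Q →* Ω), ρ ∈ F.Hom Q ∧
      stabilizer (S × S) (ω i) = graph Q ρ := fun i => h1 (ω i)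
  choose Q ρ hρ hQ using hgood
  let H : ι → Subgroup S := fun i => (Q i).subgroupOf S
  let r : ∀ i, H i →* S := fun i => rOf (ρ i) (map_mem_S (hρ i))
  have hstab : ∀ i (a b : S), (a, b) • ω i = ω i ↔ ∃ h : a ∈ H i, r i ⟨a, h⟩ = b := by
    intro i a b
    rw [← mem_stabilizer_iff, hQ i, mem_graph]
    constructor
    · rintro ⟨h, h3⟩
      exact ⟨h, Subtype.ext h3⟩
    · rintro ⟨h, h3⟩
      exact ⟨h, congrArg Subtype.val h3⟩
  have horb : ∀ ω₀ : X, ∃ (i : ι) (g : S × S), ω₀ = g • ω i := by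
    intro ω₀
    let i : ι := Quotient.mk _ ω₀
    have h3 : ω i ∈ orbit (S × S) ω₀ := Quotient.exact (Quotient.out_eq i)
    obtain ⟨g, hg⟩ := h3
    refine ⟨i, g⁻¹, ?_⟩
    rw [← hg]
    simp
  have hsep : ∀ (i j : ι) (g g' : S × S), g • ω i = g' • ω j → i = j := by
    intro i j g g' h
    have h3 : (Quotient.mk (orbitRel (S × S) X) (g • ω i)) = i :=
      (Quotient.sound (show g • ω i ∈ orbit (S × S) (ω i) from ⟨g, rfl⟩)).trans (Quotient.out_eq i)
    have h4 : (Quotient.mk (orbitRel (S × S) X) (g' • ω j)) = j :=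
      (Quotient.sound (show g' • ω j ∈ orbit (S × S) (ω j) from ⟨g', rfl⟩)).trans (Quotient.out_eq j)
    rw [← h3, ← h4, h]
  refine ⟨ι, inferInstance, Q, ρ, hρ, ?_, ?_⟩
  · -- the index sum
    let R₀ : ∀ i, S ⧸ H i → S := fun i q => Quotient.out q
    have hR₀ : ∀ i q, ((R₀ i q : S) : S ⧸ H i) = q := fun i q => QuotientGroup.out_eq' q
    have htriv := isTriv_sec hstab horb hsep R₀ hR₀
    have hcard := card_of_isTriv htriv
    have hZ : Nat.card (Σ i, S ⧸ H i) = ∑ i, (H i).index := by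
      rw [Nat.card_sigma]
      rfl
    rw [hZ, hm] at hcard
    have hm' : m = ∑ i, (H i).index := Nat.eq_of_mul_eq_mul_right Nat.card_pos hcard
    rw [← hm'] at *
    exact hpm
  · intro A _ _ T hT lam hinv P φ hφ a R R' hR hR' hg hg'
    obtain ⟨f, hfl, hfr⟩ := exists_left_stable h1 h2 hφ
    have hσ := isTriv_sec hstab horb hsep R hR
    have hσ' := isTriv_sec hstab horb hsep R' hR'
    have hmain := prod_eq_prod (U := S) (A := A) hσ hσ' ⟨a, source_le hφ a.2⟩ ⟨φ a, map_mem_S hφ a⟩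
      (Equiv.sigmaCongrRight fun i => MulAction.toPerm (⟨a, source_le hφ a.2⟩ : S))
      (Equiv.sigmaCongrRight fun i => MulAction.toPerm (⟨φ a, map_mem_S hφ a⟩ : S))
      (fun z => r z.1 (trEl (R z.1) (hR z.1) ⟨a, source_le hφ a.2⟩ z.2))
      (fun z => r z.1 (trEl (R' z.1) (hR' z.1) ⟨φ a, map_mem_S hφ a⟩ z.2))
      (fun z => sec_cocycle hstab R hR _ z) (fun z => sec_cocycle hstab R' hR' _ z)
      f (hfl a) hfr T lam hinv (fun z => hg z.1 z.2) (fun z => hg' z.1 z.2)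
    rw [Fintype.prod_sigma, Fintype.prod_sigma] at hmain
    exact hmain

end Main

section Top

universe u v

variable {Ω : Type u} [Group Ω] {S : Subgroup Ω} {F : FusionSystem S} {p : ℕ} [Fact p.Prime]
  [Finite S]

/-- **The stable transfer.**  For a saturated system there is a family of maps `ρ i : Q i → S` with
the sum of the indices of the `Q i` prime to `p`, such that for every homomorphism `π` from `S` to a
commutative group, the product of the transfers of the `π ∘ ρ i` is stable under the maps of the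
system. -/
theorem exists_stable_transfer (hS : IsPGroup p S) (hF : F.IsSaturated p) :
    ∃ (ι : Type u) (_ : Fintype ι) (Q : ι → Subgroup Ω) (ρ : ∀ i, Q i →* Ω)
      (hρ : ∀ i, ρ i ∈ F.Hom (Q i)),
      ¬ p ∣ ∑ i, ((Q i).subgroupOf S).index ∧
      ∀ {A : Type v} [CommGroup A] (π : S →* A) {P : Subgroup Ω} {φ : P →* Ω} (hφ : φ ∈ F.Hom P)
        (a : P),
        ∏ i, (π.comp (rOf (ρ i) (map_mem_S (hρ i)))).transfer ⟨a, source_le hφ a.2⟩ =
        ∏ i, (π.comp (rOf (ρ i) (map_mem_S (hρ i)))).transfer ⟨φ a, map_mem_S hφ a⟩ := by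
  classical
  obtain ⟨ι, i1, Q, ρ, hρ, hp, hmain⟩ := exists_family.{u, v} (F := F) hS hF
  refine ⟨ι, i1, Q, ρ, hρ, hp, ?_⟩
  intro A _ π P φ hφ a
  haveI : ∀ i, Fintype (S ⧸ (Q i).subgroupOf S) := fun i => Fintype.ofFinite _
  let R : ∀ i, S ⧸ (Q i).subgroupOf S → S := fun i q => Quotient.out q
  have hR : ∀ i q, ((R i q : S) : S ⧸ (Q i).subgroupOf S) = q := fun i q => QuotientGroup.out_eq' q
  let lam : (⊤ : Subgroup S) →* A := π.comp (⊤ : Subgroup S).subtype
  have h := hmain (⊤ : Subgroup S) lam (fun g t => by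
      change π (g * t * g⁻¹) = π t
      rw [map_mul, map_mul, map_inv]
      exact mul_inv_cancel_comm _ _) hφ a R R hR hR (fun _ _ => trivial) (fun _ _ => trivial)
  simp only [transfer_eq_prod_trEl _ (R _) (hR _)]
  exact h

end Top

end Cfsg.Agent.Lib.Fusion.CharTransfer
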