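/-
Tate's theorem for fusion systems, via the characteristic biset: every map of a saturated system
agrees modulo the hyperfocal subgroup with a conjugation by an element of `S`, and every
`S`-invariant homomorphism from the hyperfocal subgroup to an abelian group of exponent a power of
`p` extends to `S`.
-/
import Mathlib
import Cfsg.Agent.Lib.Fusion.CharTransfer
import Cfsg.Agent.Lib.Fusion.Focal
import Cfsg.Agent.Lib.Fusion.Hyperfocal
import Cfsg.Agent.Lib.PGroup.FrattiniBasis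

set_option autoImplicit false

namespace Cfsg.Agent.Lib.Fusion.Tate

open Cfsg Cfsg.FusionSystem Cfsg.Agent.Lib.Fusion.Basic Cfsg.Agent.Lib.Fusion.Saturated
open Cfsg.Agent.Lib.Fusion.CharTransfer Cfsg.Agent.Lib.Fusion.Hyperfocal
open Cfsg.Agent.Lib.Fusion.Focal
open Cfsg.Agent.Lib
open MulAction
open scoped commutatorElement

section NormalForm

variable {Ω : Type*} [Group Ω] {S : Subgroup Ω}

/-- The maps of the system which agree modulo `T` with the conjugation by an element of `S`. -/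
def innerModSystem (F : FusionSystem S) (T : Subgroup Ω) (hn : ∀ g ∈ S, ∀ t ∈ T, g * t * g⁻¹ ∈ T) :
    FusionSystem S where
  Hom P := {φ | φ ∈ F.Hom P ∧ ∃ h ∈ S, ∀ a : P, (a : Ω)⁻¹ * (h⁻¹ * φ a * h) ∈ T}
  le_of_mem h := F.le_of_mem h.1
  injective_of_mem h := F.injective_of_mem h.1
  conj_mem := by
    intro P g hP hg
    refine ⟨F.conj_mem hP hg, g, hg, fun a => ?_⟩
    have : (a : Ω)⁻¹ * (g⁻¹ * conjHom P g a * g) = 1 := by
      change (a : Ω)⁻¹ * (g⁻¹ * (g * a * g⁻¹) * g) = 1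
      group
    rw [this]
    exact T.one_mem
  comp_mem := by
    rintro P Q φ ψ ⟨hφ, h₁, hh₁, h1⟩ ⟨hψ, h₂, hh₂, h2⟩ h
    refine ⟨F.comp_mem hφ hψ h, h₂ * h₁, S.mul_mem hh₂ hh₁, fun a => ?_⟩
    have e : (a : Ω)⁻¹ * ((h₂ * h₁)⁻¹ * (ψ.comp (φ.codRestrict Q h)) a * (h₂ * h₁)) =
        ((a : Ω)⁻¹ * (h₁⁻¹ * φ a * h₁)) *
          (h₁⁻¹ * ((φ a)⁻¹ * (h₂⁻¹ * ψ ⟨φ a, h a⟩ * h₂)) * h₁⁻¹⁻¹) := by
      change (a : Ω)⁻¹ * ((h₂ * h₁)⁻¹ * ψ ⟨φ a, h a⟩ * (h₂ * h₁)) = _
      group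
    rw [e]
    exact T.mul_mem (h1 a) (hn _ (S.inv_mem hh₁) _ (h2 ⟨φ a, h a⟩))
  inv_mem := by
    rintro P φ ⟨hφ, h₁, hh₁, h1⟩
    obtain ⟨ψ, hψ, hinv⟩ := F.inv_mem hφ
    refine ⟨ψ, ⟨hψ, h₁⁻¹, S.inv_mem hh₁, ?_⟩, hinv⟩
    rintro ⟨_, x, rfl⟩
    have h2 : ψ ⟨φ x, ⟨x, rfl⟩⟩ = x := hinv x
    change (φ x)⁻¹ * (h₁⁻¹⁻¹ * ψ ⟨φ x, ⟨x, rfl⟩⟩ * h₁⁻¹) ∈ T
    rw [h2]
    have e : (φ x)⁻¹ * (h₁⁻¹⁻¹ * x * h₁⁻¹) = h₁ * ((x : Ω)⁻¹ * (h₁⁻¹ * φ x * h₁))⁻¹ * h₁⁻¹ := by
      group
    rw [e]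
    exact hn _ hh₁ _ (T.inv_mem (h1 x))

/-- **Normal form**: every map of a saturated system agrees modulo the hyperfocal subgroup with a
conjugation by an element of `S`. -/
theorem exists_conj_mod_hyperfocal [Finite S] {p : ℕ} [Fact p.Prime] (hS : IsPGroup p S)
    {F : FusionSystem S} (hF : F.IsSaturated p) {P : Subgroup Ω} {φ : P →* Ω} (hφ : φ ∈ F.Hom P) :
    ∃ h ∈ S, ∀ a : P, (a : Ω)⁻¹ * (h⁻¹ * φ a * h) ∈ F.hyperfocalSubgroup p := by
  have hle : F ≤ innerModSystem F (F.hyperfocalSubgroup p)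
      (fun _ hg _ ht => conj_mem_hyperfocal hg ht) := by
    refine Alperin.le_of_autGroup_le hS hF ?_
    intro Q hQa hQr α hα
    have hQS : Q ≤ S := hQa.1
    haveI : Finite Q := finite_of_le hQS
    haveI : Finite (MulAut Q) := Finite.of_injective (fun α : MulAut Q => (α : Q → Q))
      (fun a b h => MulEquiv.ext (congrFun h))
    apply mem_autGroup_of_mem
    obtain ⟨T, hT⟩ := hQa.2
    obtain ⟨τ, hτ, r, hr, he⟩ := exists_sylow_mul_residual T ⟨α, hα⟩
    have hτS : (τ : MulAut Q) ∈ autInducedBy S Q := by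
      rw [hT] at hτ
      exact hτ
    obtain ⟨g, hg, hgc⟩ := mem_autInducedBy_iff.1 hτS
    refine ⟨autGroup_mem_hom hQS hα, g, hg, fun x => ?_⟩
    set z : Q := (r : MulAut Q) x with hz
    have hαx : (α x : Q) = (τ : MulAut Q) z := by
      have h1 : α = (τ : MulAut Q) * (r : MulAut Q) := congrArg Subtype.val he
      rw [h1]
      rfl
    have e : (x : Ω)⁻¹ * (g⁻¹ * (Q.subtype.comp α.toMonoidHom) x * g) = (x : Ω)⁻¹ * z := by
      change (x : Ω)⁻¹ * (g⁻¹ * ((α x : Q) : Ω) * g) = _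
      rw [hαx, hgc z]
      group
    rw [e]
    exact Subgroup.subset_closure ⟨Q, r, x, hQS, hr, rfl⟩
  exact (hle P hφ).2

end NormalForm

section Abstract

variable {U : Type*} [Group U] {A : Type*} [CommGroup A] {T : Subgroup U}

/-- A section of `U → U ⧸ H` whose transfer elements, for all `x ∈ T`, lie in `T`. -/
theorem exists_good_section [hT : T.Normal] (H : Subgroup U) :
    ∃ (R : U ⧸ H → U) (hR : ∀ q, ((R q : U) : U ⧸ H) = q),
      ∀ x ∈ T, ∀ q, ((trEl R hR x q : H) : U) ∈ T := by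
  classical
  let O : U ⧸ H → orbitRel.Quotient T (U ⧸ H) := fun q => Quotient.mk _ q
  have hex : ∀ q, ∃ t : T, t • (Quotient.out (O q)) = q := by
    intro q
    have h1 : Quotient.out (O q) ∈ orbit T q := Quotient.exact (Quotient.out_eq (O q))
    obtain ⟨t, ht⟩ := h1
    refine ⟨t⁻¹, ?_⟩
    rw [← ht]
    simp
  choose t ht using hex
  let g : U ⧸ H → U := fun q => Quotient.out (Quotient.out (O q))
  let R : U ⧸ H → U := fun q => t q * g q
  have hR : ∀ q, ((R q : U) : U ⧸ H) = q := by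
    intro q
    have h1 : ((R q : U) : U ⧸ H) = (t q : U) • ((g q : U) : U ⧸ H) := rfl
    rw [h1, QuotientGroup.out_eq']
    exact ht q
  refine ⟨R, hR, fun x hx q => ?_⟩
  have hO : O (x • q) = O q := by
    refine Quotient.sound ?_
    exact ⟨(⟨x, hx⟩ : T), rfl⟩
  have hg : g (x • q) = g q := by
    change Quotient.out (Quotient.out (O (x • q))) = Quotient.out (Quotient.out (O q))
    rw [hO]
  rw [trEl_coe]
  change (t (x • q) * g (x • q))⁻¹ * x * (t q * g q) ∈ T
  rw [hg]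
  have e : (t (x • q) * g q)⁻¹ * x * (t q * g q) =
      (g q)⁻¹ * ((t (x • q) : U)⁻¹ * x * t q) * ((g q)⁻¹)⁻¹ := by
    group
  rw [e]
  exact hT.conj_mem _ (T.mul_mem (T.mul_mem (T.inv_mem (t _).2) hx) (t q).2) _

variable [hT : T.Normal] (lam : T →* A)
  (hinv : ∀ (g : U) (t t' : T), (t' : U) = g * t * g⁻¹ → lam t' = lam t)

include hinv in
/-- The transfer elements of a good section multiply to the `index`-th power under an invariant
homomorphism. -/
theorem prod_lam_trEl {H : Subgroup U} [Fintype (U ⧸ H)] (R : U ⧸ H → U)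
    (hR : ∀ q, ((R q : U) : U ⧸ H) = q) (x : T) (hg : ∀ q, ((trEl R hR x q : H) : U) ∈ T) :
    ∏ q, lam ⟨_, hg q⟩ = lam x ^ Fintype.card (U ⧸ H) := by
  classical
  obtain ⟨L, hL⟩ := exists_Lambda T lam
  have hw : ∀ q, (R ((x : U) • q))⁻¹ * R q ∈ T := by
    intro q
    have e : (R ((x : U) • q))⁻¹ * R q =
        ((R ((x : U) • q))⁻¹ * (x : U)⁻¹ * ((R ((x : U) • q))⁻¹)⁻¹) *
          ((R ((x : U) • q))⁻¹ * x * R q) := by
      group
    rw [e]
    exact T.mul_mem (hT.conj_mem _ (T.inv_mem x.2) _) (hg q)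
  have hterm : ∀ q, lam ⟨_, hg q⟩ = lam x * (L (R q) / L (R ((x : U) • q))) := by
    intro q
    have h1 : (⟨_, hg q⟩ : T) =
        ⟨(R ((x : U) • q))⁻¹ * x * ((R ((x : U) • q))⁻¹)⁻¹, hT.conj_mem _ x.2 _⟩ * ⟨_, hw q⟩ := by
      apply Subtype.ext
      simp only [Subgroup.coe_mul, trEl_coe]
      group
    rw [h1, map_mul, hinv _ x _ rfl]
    congr 1
    have h2 := hL (R ((x : U) • q)) ⟨_, hw q⟩
    have h3 : R ((x : U) • q) * (((⟨_, hw q⟩ : T)) : U) = R q := by
      simp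
    rw [h3] at h2
    rw [h2]
    simp
  rw [Finset.prod_congr rfl (fun q _ => hterm q), Finset.prod_mul_distrib, Finset.prod_div_distrib]
  have h2 : ∏ q, L (R ((x : U) • q)) = ∏ q, L (R q) :=
    Equiv.prod_comp (MulAction.toPerm (x : U) : Equiv.Perm (U ⧸ H)) (fun q => L (R q))
  rw [h2]
  simp

/-- The homomorphism `a ↦ λ(a⁻¹ r⁰(a))` for a map `r⁰` agreeing with the identity modulo `T`. -/
def nu {H : Subgroup U} (r : H →* U) (hU : U)
    (hr : ∀ a : H, (a : U)⁻¹ * (hU⁻¹ * r a * hU) ∈ T) : H →* A where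
  toFun a := lam ⟨_, hr a⟩
  map_one' := by
    have : (⟨_, hr 1⟩ : T) = 1 := Subtype.ext (by simp)
    rw [this, map_one]
  map_mul' a b := by
    have e : (⟨_, hr (a * b)⟩ : T) =
        ⟨(b : U)⁻¹ * ((a : U)⁻¹ * (hU⁻¹ * r a * hU)) * ((b : U)⁻¹)⁻¹,
          hT.conj_mem _ (hr a) _⟩ * ⟨_, hr b⟩ := by
      apply Subtype.ext
      simp only [Subgroup.coe_mul, map_mul]
      group
    rw [e, map_mul, hinv ((b : U)⁻¹) ⟨_, hr a⟩ _ rfl]

theorem nu_apply {H : Subgroup U} (r : H →* U) (hU : U)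
    (hr : ∀ a : H, (a : U)⁻¹ * (hU⁻¹ * r a * hU) ∈ T) (a : H) :
    nu lam hinv r hU hr a = lam ⟨_, hr a⟩ := rfl

/-- The image of a good element lies in `T`. -/
theorem r_mem {H : Subgroup U} (r : H →* U) (hU : U)
    (hr : ∀ a : H, (a : U)⁻¹ * (hU⁻¹ * r a * hU) ∈ T) (a : H) (ha : (a : U) ∈ T) : r a ∈ T := by
  have e : r a = hU * ((a : U) * ((a : U)⁻¹ * (hU⁻¹ * r a * hU))) * hU⁻¹ := by group
  rw [e]
  exact hT.conj_mem _ (T.mul_mem ha (hr a)) _

include hinv in
/-- The value of the product over a coset space. -/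
theorem prod_lam_r {H : Subgroup U} [H.FiniteIndex] [Fintype (U ⧸ H)] (r : H →* U) (hU : U)
    (hr : ∀ a : H, (a : U)⁻¹ * (hU⁻¹ * r a * hU) ∈ T) (R : U ⧸ H → U)
    (hR : ∀ q, ((R q : U) : U ⧸ H) = q) (x : T) (hg : ∀ q, ((trEl R hR x q : H) : U) ∈ T) :
    ∏ q, lam ⟨_, r_mem r hU hr _ (hg q)⟩ =
      lam x ^ Fintype.card (U ⧸ H) * (nu lam hinv r hU hr).transfer x := by
  rw [transfer_eq_prod_trEl _ R hR, ← prod_lam_trEl lam hinv R hR x hg, ← Finset.prod_mul_distrib]
  refine Finset.prod_congr rfl fun q _ => ?_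
  set a := trEl R hR (x : U) q with ha
  have h1 : (⟨r a, r_mem r hU hr a (hg q)⟩ : T) =
      ⟨hU * ((a : U) * ((a : U)⁻¹ * (hU⁻¹ * r a * hU))) * hU⁻¹,
        hT.conj_mem _ (T.mul_mem (hg q) (hr a)) _⟩ := by
    apply Subtype.ext
    change r a = _
    group
  rw [h1, hinv hU ⟨_, T.mul_mem (hg q) (hr a)⟩ _ rfl, nu_apply]
  have h2 : (⟨_, T.mul_mem (hg q) (hr a)⟩ : T) = ⟨_, hg q⟩ * ⟨_, hr a⟩ := rfl
  rw [h2, map_mul]

end Abstract

section Extension

universe u v

variable {Ω : Type u} [Group Ω] {S : Subgroup Ω} {F : FusionSystem S} {p : ℕ} [Fact p.Prime]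
  [Finite S]

/-- The hyperfocal subgroup, inside `↥S`, is normal. -/
theorem normal_hyperfocal_subgroupOf : ((F.hyperfocalSubgroup p).subgroupOf S).Normal :=
  ⟨fun _ ht g => conj_mem_hyperfocal g.2 ht⟩

/-- **Extension of invariant homomorphisms**: an `S`-invariant homomorphism from the hyperfocal
subgroup of a saturated system to a commutative group of exponent dividing a power of `p` extends to
`S`. -/
theorem exists_extension (hS : IsPGroup p S) (hF : F.IsSaturated p) {A : Type v} [CommGroup A]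
    (e : ℕ) (hA : ∀ a : A, a ^ p ^ e = 1) (lam : (F.hyperfocalSubgroup p).subgroupOf S →* A)
    (hinv : ∀ (g : S) (t t' : (F.hyperfocalSubgroup p).subgroupOf S),
      (t' : S) = g * t * g⁻¹ → lam t' = lam t) :
    ∃ μ : S →* A, ∀ t : (F.hyperfocalSubgroup p).subgroupOf S, μ t = lam t := by
  classical
  obtain ⟨ι, i1, Q, ρ, hρ, hp, hmain⟩ := exists_family.{u, v} (F := F) hS hF
  have hT : ((F.hyperfocalSubgroup p).subgroupOf S).Normal := normal_hyperfocal_subgroupOf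
  let T : Subgroup S := (F.hyperfocalSubgroup p).subgroupOf S
  let H : ι → Subgroup S := fun i => (Q i).subgroupOf S
  let r : ∀ i, H i →* S := fun i => rOf (ρ i) (map_mem_S (hρ i))
  have hnf : ∀ i, ∃ h : S, ∀ a : H i, (a : S)⁻¹ * (h⁻¹ * r i a * h) ∈ T := by
    intro i
    obtain ⟨h, hh, h1⟩ := exists_conj_mod_hyperfocal hS hF (hρ i)
    exact ⟨⟨h, hh⟩, fun a => h1 ⟨a.1, a.2⟩⟩
  choose hU hhU using hnf
  haveI : ∀ i, Fintype (S ⧸ H i) := fun i => Fintype.ofFinite _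
  let ν : ∀ i, H i →* A := fun i => nu lam hinv (r i) (hU i) (hhU i)
  let τ : S →* A := ∏ i, (ν i).transfer
  have hτ : ∀ x, τ x = ∏ i, (ν i).transfer x := fun x => MonoidHom.finsetProd_apply _ _ _
  let m : ℕ := ∑ i, (H i).index
  have hcard : ∀ i, Fintype.card (S ⧸ H i) = (H i).index := by
    intro i
    rw [Subgroup.index, Nat.card_eq_fintype_card]
  have hgs : ∀ i, ∃ (R : S ⧸ H i → S) (hR : ∀ q, ((R q : S) : S ⧸ H i) = q),
      ∀ x ∈ T, ∀ q, ((trEl R hR x q : H i) : S) ∈ T := fun i => exists_good_section (H i)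
  choose R hR hgR using hgs
  -- the homomorphism `W`
  let W : T →* A :=
    { toFun := fun t => lam t ^ m * τ t
      map_one' := by simp
      map_mul' := fun a b => by
        simp only [Subgroup.coe_mul, map_mul, mul_pow]
        exact mul_mul_mul_comm _ _ _ _ }
  have hWdef : ∀ t : T, W t = lam t ^ m * τ t := fun _ => rfl
  have hprod : ∀ x : T, (∏ i, ∏ q, lam ⟨r i (trEl (R i) (hR i) x q),
      r_mem (r i) (hU i) (hhU i) _ (hgR i x x.2 q)⟩) = W x := by
    intro x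
    rw [Finset.prod_congr rfl (fun i _ => prod_lam_r lam hinv (r i) (hU i) (hhU i) (R i) (hR i) x
      (hgR i x x.2)), Finset.prod_mul_distrib, Finset.prod_pow_eq_pow_sum, hWdef, hτ]
    simp only [hcard]
    rfl
  -- stability
  have hstrong : ∀ {P : Subgroup Ω} {φ : P →* Ω}, φ ∈ F.Hom P → ∀ a : P,
      (a : Ω) ∈ F.hyperfocalSubgroup p → φ a ∈ F.hyperfocalSubgroup p := by
    intro P φ hφ a ha
    obtain ⟨h, hh, h1⟩ := exists_conj_mod_hyperfocal hS hF hφ
    have e1 : φ a = h * ((a : Ω) * ((a : Ω)⁻¹ * (h⁻¹ * φ a * h))) * h⁻¹ := by group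
    rw [e1]
    exact conj_mem_hyperfocal hh (Subgroup.mul_mem _ ha (h1 a))
  have hst : ∀ {P : Subgroup Ω} {φ : P →* Ω} (hφ : φ ∈ F.Hom P) (a : P)
      (ha : (a : Ω) ∈ F.hyperfocalSubgroup p),
      W ⟨⟨φ a, map_mem_S hφ a⟩, hstrong hφ a ha⟩ = W ⟨⟨a, source_le hφ a.2⟩, ha⟩ := by
    intro P φ hφ a ha
    rw [← hprod, ← hprod]
    exact (hmain T lam (fun g t => hinv g t _ rfl) hφ a R R hR hR
      (fun i q => r_mem (r i) (hU i) (hhU i) _ (hgR i _ ha q))
      (fun i q => r_mem (r i) (hU i) (hhU i) _ (hgR i _ (hstrong hφ a ha) q))).symm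
  -- the function `w` on `Ω`
  let w : Ω → A := fun y => if hy : y ∈ F.hyperfocalSubgroup p then
    W ⟨⟨y, hyperfocal_le_S hy⟩, hy⟩ else 1
  have hw : ∀ {y : Ω} (hy : y ∈ F.hyperfocalSubgroup p), w y = W ⟨⟨y, hyperfocal_le_S hy⟩, hy⟩ :=
    fun hy => dif_pos hy
  have hw1 : w 1 = 1 := by
    rw [hw (Subgroup.one_mem _)]
    exact map_one W
  have hwmul : ∀ {y z : Ω}, y ∈ F.hyperfocalSubgroup p → z ∈ F.hyperfocalSubgroup p →
      w (y * z) = w y * w z := by
    intro y z hy hz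
    rw [hw hy, hw hz, hw (Subgroup.mul_mem _ hy hz), ← map_mul]
    rfl
  have hwst : ∀ {P : Subgroup Ω} {φ : P →* Ω} (_ : φ ∈ F.Hom P) (a : P),
      (a : Ω) ∈ F.hyperfocalSubgroup p → w (φ a) = w a := by
    intro P φ hφ a ha
    rw [hw ha, hw (hstrong hφ a ha)]
    exact hst hφ a ha
  -- the vanishing of `w` on the hyperfocal subgroup
  let D : Subgroup Ω := (W.ker.map T.subtype).map S.subtype
  have hDmem : ∀ {y : Ω}, y ∈ F.hyperfocalSubgroup p → w y = 1 → y ∈ D := by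
    intro y hy h1
    rw [hw hy] at h1
    exact ⟨⟨y, hyperfocal_le_S hy⟩, ⟨⟨⟨y, hyperfocal_le_S hy⟩, hy⟩, h1, rfl⟩, rfl⟩
  have hle : F.hyperfocalSubgroup p ≤ D := by
    refine hyperfocal_le fun P hP α hα x => ?_
    set β : MulAut P := (α : MulAut P) with hβ
    have hmemS : ∀ y : P, ((y⁻¹ * β y : P) : Ω) ∈ F.hyperfocalSubgroup p :=
      fun y => mem_hyperfocal_of_coprime hP hα y
    set k : P := x⁻¹ * β x with hk
    have hkS : (k : Ω) ∈ F.hyperfocalSubgroup p := hmemS x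
    have hterm : ∀ i : ℕ, w (((β ^ i) x : P)⁻¹ * (β ((β ^ i) x) : P) : P) = w k := by
      intro i
      have hφ : P.subtype.comp ((β ^ i : MulAut P)).toMonoidHom ∈ F.Hom P := by
        have h1 := autGroup_mem_hom hP (α ^ i).2
        simpa [hβ] using h1
      have h2 := hwst hφ k hkS
      have h3 : (P.subtype.comp ((β ^ i : MulAut P)).toMonoidHom) k =
          (((β ^ i) x : P)⁻¹ * (β ((β ^ i) x) : P) : P) := by
        change (((β ^ i) (x⁻¹ * β x) : P) : Ω) = _
        have h4 : (β ^ i) (β x) = β ((β ^ i) x) := by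
          have h5 : (β ^ i) (β x) = (β ^ i * β) x := rfl
          have h6 : β ((β ^ i) x) = (β * β ^ i) x := rfl
          rw [h5, h6, ← pow_succ, pow_succ']
        rw [map_mul, map_inv, h4]
      rw [h3] at h2
      exact h2
    have hpow : ∀ i : ℕ, ((x⁻¹ * (β ^ i) x : P) : Ω) ∈ F.hyperfocalSubgroup p ∧
        w ((x⁻¹ * (β ^ i) x : P) : Ω) = w k ^ i := by
      intro i
      induction i with
      | zero =>
        have : ((x⁻¹ * (β ^ 0) x : P) : Ω) = 1 := by simp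
        rw [this]
        exact ⟨Subgroup.one_mem _, by simpa using hw1⟩
      | succ i ih =>
        have e1 : ((x⁻¹ * (β ^ (i + 1)) x : P) : Ω) = ((x⁻¹ * (β ^ i) x : P) : Ω) *
            ((((β ^ i) x : P)⁻¹ * (β ((β ^ i) x) : P) : P) : Ω) := by
          have h5 : (β ^ (i + 1)) x = β ((β ^ i) x) := by
            rw [pow_succ']
            rfl
          rw [h5]
          simp
        rw [e1]
        refine ⟨Subgroup.mul_mem _ ih.1 (hmemS _), ?_⟩
        rw [hwmul ih.1 (hmemS _), ih.2, hterm i, pow_succ]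
    have hn : w k ^ orderOf α = 1 := by
      have h1 := (hpow (orderOf α)).2
      have h2 : β ^ orderOf α = 1 := by
        rw [hβ, ← Subgroup.coe_pow, pow_orderOf_eq_one]
        rfl
      rw [h2] at h1
      simp only [MulAut.one_apply, inv_mul_cancel, OneMemClass.coe_one] at h1
      rw [← h1, hw1]
    have hk1 : w k = 1 := by
      have h1 : orderOf (w k) ∣ orderOf α := orderOf_dvd_of_pow_eq_one hn
      have h2 : orderOf (w k) ∣ p ^ e := orderOf_dvd_of_pow_eq_one (hA _)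
      have hcop : (orderOf α).Coprime (p ^ e) := Nat.Coprime.pow_right _ hα
      exact orderOf_eq_one_iff.mp (Nat.eq_one_of_dvd_coprimes hcop h1 h2)
    exact hDmem hkS hk1
  have hW1 : ∀ t : T, W t = 1 := by
    intro t
    obtain ⟨s, ⟨t', ht', hts⟩, hs⟩ := hle t.2
    have : t' = t := by
      apply Subtype.ext
      apply Subtype.ext
      have h5 : ((t' : T) : S) = s := hts
      rw [h5]
      exact hs
    rw [← this]
    exact ht'
  -- the extension
  have hpm : Nat.Coprime m (p ^ (e + 1)) :=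
    Nat.Coprime.pow_right _ (Nat.Coprime.symm ((Nat.Prime.coprime_iff_not_dvd Fact.out).mpr hp))
  have h1p : 1 < p ^ (e + 1) := Nat.one_lt_pow (Nat.succ_ne_zero e) (Nat.Prime.one_lt Fact.out)
  obtain ⟨u₀, -, hu₀⟩ := Nat.exists_mul_mod_eq_one_of_coprime hpm h1p
  let μ : S →* A :=
    { toFun := fun x => ((τ x)⁻¹) ^ u₀
      map_one' := by simp
      map_mul' := fun a b => by
        rw [map_mul, mul_inv, mul_pow] }
  refine ⟨μ, fun t => ?_⟩
  have h1 : lam t ^ m * τ t = 1 := hW1 t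
  have h2 : (τ t)⁻¹ = lam t ^ m := (eq_inv_of_mul_eq_one_left h1).symm ▸ by simp
  change ((τ t)⁻¹) ^ u₀ = lam t
  rw [h2, ← pow_mul]
  have h3 : lam t ^ p ^ (e + 1) = 1 := by
    rw [pow_succ, pow_mul, hA, one_pow]
  rw [← Nat.div_add_mod (m * u₀) (p ^ (e + 1)), hu₀, pow_add, pow_mul, h3, one_pow, one_mul, pow_one]

end Extension

section Core

universe u

/-- In a nilpotent group, `T ≤ K [T, G]` for a normal `K` forces `T ≤ K`. -/
theorem le_of_le_sup_commutator_top {G : Type*} [Group G] [Group.IsNilpotent G] {K T : Subgroup G}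
    [K.Normal] (h : T ≤ K ⊔ ⁅T, ⊤⁆) : T ≤ K := by
  let π : G →* G ⧸ K := QuotientGroup.mk' K
  have hπ : Function.Surjective π := QuotientGroup.mk'_surjective K
  have hnil : Group.IsNilpotent (G ⧸ K) := inferInstance
  have h1 : T.map π ≤ ⁅T.map π, ⊤⁆ := by
    have h2 := Subgroup.map_mono (f := π) h
    rw [Subgroup.map_sup, Subgroup.map_commutator] at h2
    have h3 : K.map π = ⊥ := by
      rw [Subgroup.map_eq_bot_iff]
      exact (QuotientGroup.ker_mk' K).ge
    have h4 : (⊤ : Subgroup G).map π = ⊤ := by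
      rw [← MonoidHom.range_eq_map, MonoidHom.range_eq_top]
      exact hπ
    rwa [h3, bot_sup_eq, h4] at h2
  have h2 : ∀ n, T.map π ≤ Subgroup.lowerCentralSeries (⊤ : Subgroup (G ⧸ K)) n := by
    intro n
    induction n with
    | zero => exact le_top
    | succ n ih =>
      exact h1.trans (Subgroup.commutator_mono ih le_rfl)
  obtain ⟨n, hn⟩ := Subgroup.nilpotent_iff_lowerCentralSeries.mp hnil
  have h3 := h2 n
  rw [hn] at h3
  intro t ht
  have h4 : π t ∈ (⊥ : Subgroup (G ⧸ K)) := h3 ⟨t, ht, rfl⟩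
  have h5 : π t = 1 := h4
  exact (QuotientGroup.eq_one_iff t).mp h5

variable {Ω : Type u} [Group Ω] {S : Subgroup Ω} {F : FusionSystem S} {p : ℕ} [hp : Fact p.Prime]
  [Finite S]

/-- **Tate's theorem for fusion systems, core form**: if a subgroup `K` of the hyperfocal subgroup
is normalized by `S` and generates the hyperfocal subgroup modulo the Frattini subgroup of `S`, then
it is the whole hyperfocal subgroup. -/
theorem hyperfocal_le_of_le_frattini_sup (hS : IsPGroup p S) (hF : F.IsSaturated p)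
    {K : Subgroup Ω} (hKS : ∀ g ∈ S, ∀ t ∈ K, g * t * g⁻¹ ∈ K) (hKle : K ≤ F.hyperfocalSubgroup p)
    (h : F.hyperfocalSubgroup p ≤ (frattini S).map S.subtype ⊔ K) :
    F.hyperfocalSubgroup p ≤ K := by
  classical
  by_contra hcon
  let T : Subgroup S := (F.hyperfocalSubgroup p).subgroupOf S
  let K' : Subgroup S := K.subgroupOf S
  haveI hK' : K'.Normal := ⟨fun t ht g => hKS g g.2 t ht⟩
  have hnil : Group.IsNilpotent S := hS.isNilpotent
  let N : Subgroup S := K' ⊔ ⁅T, ⊤⁆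
  have hTN : ¬ T ≤ N := by
    intro h1
    have h2 := le_of_le_sup_commutator_top h1
    apply hcon
    intro t ht
    exact h2 (show (⟨t, hyperfocal_le_S ht⟩ : S) ∈ T from ht)
  -- a maximal subgroup of `T` containing `N`
  have hNT : N.subgroupOf T ≠ ⊤ := by
    intro h1
    apply hTN
    intro t ht
    have h2 : (⟨t, ht⟩ : T) ∈ N.subgroupOf T := by rw [h1]; exact Subgroup.mem_top _
    exact h2
  obtain ⟨M, hM, hNM⟩ : ∃ M : Subgroup T, IsCoatom M ∧ N.subgroupOf T ≤ M :=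
    (eq_top_or_exists_le_coatom (N.subgroupOf T)).resolve_left hNT
  have hTp : IsPGroup p T := hS.to_subgroup T
  haveI hMn : M.Normal := PGroup.FrattiniBasis.coatom_normal hTp hM
  have hMi : M.index = p := PGroup.FrattiniBasis.coatom_index hTp hM
  have hcardA : Nat.card (T ⧸ M) = p := hMi
  have hcardB : Nat.card (Multiplicative (ZMod p)) = p := by
    simp
  let e : (T ⧸ M) ≃* Multiplicative (ZMod p) := mulEquivOfPrimeCardEq hcardA hcardB
  let lam : T →* Multiplicative (ZMod p) := e.toMonoidHom.comp (QuotientGroup.mk' M)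
  have hlam : ∀ t : T, lam t = 1 ↔ t ∈ M := by
    intro t
    have h1 : lam t = e (t : T ⧸ M) := rfl
    rw [h1, map_eq_one_iff e e.injective, QuotientGroup.eq_one_iff]
  have hinv : ∀ (g : S) (t t' : T), (t' : S) = g * t * g⁻¹ → lam t' = lam t := by
    intro g t t' htt
    have h1 : t⁻¹ * t' ∈ M := by
      apply hNM
      have h2 : ((t⁻¹ * t' : T) : S) = ⁅(t : S)⁻¹, g⁆ := by
        simp only [Subgroup.coe_mul, Subgroup.coe_inv, htt, commutatorElement_def]
        group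
      change ((t⁻¹ * t' : T) : S) ∈ N
      rw [h2]
      exact (le_sup_right : ⁅T, ⊤⁆ ≤ N)
        (Subgroup.commutator_mem_commutator (T.inv_mem t.2) (Subgroup.mem_top _))
    have h2 := (hlam _).mpr h1
    rw [map_mul, map_inv] at h2
    exact (inv_mul_eq_one.mp h2).symm
  have hA : ∀ a : Multiplicative (ZMod p), a ^ p ^ 1 = 1 := by
    intro a
    have h1 := pow_card_eq_one' (x := a)
    rw [hcardB] at h1
    rw [pow_one]
    exact h1
  obtain ⟨μ, hμ⟩ := exists_extension hS hF 1 hA lam hinv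
  -- `μ` is surjective, so it kills the Frattini subgroup
  have hlamsurj : Function.Surjective lam := by
    intro a
    obtain ⟨t, ht⟩ := QuotientGroup.mk'_surjective M (e.symm a)
    refine ⟨t, ?_⟩
    change e (QuotientGroup.mk' M t) = a
    rw [ht]
    simp
  have hμsurj : Function.Surjective μ := by
    intro a
    obtain ⟨t, ht⟩ := hlamsurj a
    exact ⟨t, (hμ t).trans ht⟩
  haveI : Fact (Nat.card (Multiplicative (ZMod p))).Prime := ⟨by rw [hcardB]; exact hp.out⟩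
  have hbot : IsCoatom (⊥ : Subgroup (Multiplicative (ZMod p))) := by
    refine ⟨bot_ne_top, fun L hL => ?_⟩
    exact (L.eq_bot_or_eq_top_of_prime_card).resolve_left hL.ne'
  have hfr : frattini S ≤ μ.ker := by
    intro x hx
    have h1 := frattini_le_comap_frattini_of_surjective hμsurj hx
    have h2 : μ x ∈ frattini (Multiplicative (ZMod p)) := h1
    exact frattini_le_coatom hbot h2
  have hKker : K ≤ μ.ker.map S.subtype := by
    intro k hk
    have hkT : k ∈ F.hyperfocalSubgroup p := hKle hk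
    have hkS : k ∈ S := hyperfocal_le_S hkT
    refine ⟨⟨k, hkS⟩, ?_, rfl⟩
    have h1 : (⟨⟨k, hkS⟩, hkT⟩ : T) ∈ M := hNM ((le_sup_left : K' ≤ N) hk)
    have h2 := (hlam _).mpr h1
    change μ ⟨k, hkS⟩ = 1
    rw [← h2]
    exact hμ ⟨⟨k, hkS⟩, hkT⟩
  have hall : F.hyperfocalSubgroup p ≤ μ.ker.map S.subtype :=
    h.trans (sup_le (Subgroup.map_mono hfr) hKker)
  apply hM.1
  rw [eq_top_iff]
  intro t _
  rw [← hlam]
  obtain ⟨s, hs1, hs2⟩ := hall t.2
  have h3 : s = (t : S) := Subtype.ext hs2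
  rw [← hμ, ← h3]
  exact hs1

end Core

end Cfsg.Agent.Lib.Fusion.Tate
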