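import Mathlib
import Cfsg.Prelude.Def_FusionSystem
import Cfsg.Agent.Lib.Fusion.GroupSylow
import Cfsg.Agent.Lib.Fusion.SimpleCriterion
import Cfsg.Agent.Lib.Coprime.FrattiniAct
import Cfsg.Agent.Lib.PGroup.Basic

/-!
# Element-level form of the simplicity criterion for `F_S(G)`

`GoodSylow S`: nontrivial; a nontrivial subgroup `T ≤ S` closed under `G`-conjugacy inside `S` is `S`;
`N_G(S)` induces inner automorphisms on `S`. This is conjugation invariant, so it suffices to check it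
for one Sylow subgroup. Inner automorphisms follow (for `p = 2`) from a signature of the cosets of the
Frattini subgroup.
-/

set_option autoImplicit false

namespace Cfsg.Agent.Lib.Fusion.GoodSylowCrit

open Cfsg Cfsg.FusionSystem

variable {G : Type*} [Group G] [Finite G]

/-- `T ≤ S` is closed under `G`-conjugacy inside `S`. -/
def ClosedIn (S T : Subgroup G) : Prop :=
  T ≤ S ∧ ∀ x ∈ T, ∀ h : G, h * x * h⁻¹ ∈ S → h * x * h⁻¹ ∈ T

/-- The hypotheses of the simplicity criterion, at element level. -/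
structure GoodSylow (S : Subgroup G) : Prop where
  ne_bot : S ≠ ⊥
  closed : ∀ T : Subgroup G, T ≠ ⊥ → ClosedIn S T → S ≤ T
  inner : ∀ g : G, (∀ x ∈ S, g * x * g⁻¹ ∈ S) → ∃ s ∈ S, ∀ x ∈ S, g * x * g⁻¹ = s * x * s⁻¹

omit [Finite G] in
theorem closedIn_of_stronglyClosed {S T : Subgroup G}
    (h : (groupFusionSystem S).StronglyClosed T) : ClosedIn S T := by
  refine ⟨h.1, fun x hx g hg => ?_⟩
  have hzle : Subgroup.zpowers x ≤ T := by
    rintro _ ⟨i, rfl⟩
    exact T.zpow_mem hx i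
  have hmem : conjHom (Subgroup.zpowers x) g ∈ (groupFusionSystem S).Hom (Subgroup.zpowers x) := by
    refine ⟨hzle.trans h.1, ?_, g, fun y => rfl⟩
    rintro ⟨_, i, rfl⟩
    show g * x ^ i * g⁻¹ ∈ S
    rw [← conj_zpow]
    exact S.zpow_mem hg i
  exact h.2 _ hzle _ hmem ⟨x, Subgroup.mem_zpowers x⟩

/-- The conjugate of a subgroup. -/
abbrev cj (g : G) (S : Subgroup G) : Subgroup G := S.map (MulAut.conj g).toMonoidHom

omit [Finite G] in
theorem mem_cj {g x : G} {S : Subgroup G} : x ∈ cj g S ↔ g⁻¹ * x * g ∈ S := GroupSylow.mem_cj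

omit [Finite G] in
theorem GoodSylow.conj {S : Subgroup G} (h : GoodSylow S) (g : G) : GoodSylow (cj g S) := by
  refine ⟨?_, ?_, ?_⟩
  · intro hb
    apply h.ne_bot
    rw [eq_bot_iff]
    intro x hx
    have h1 : g * x * g⁻¹ ∈ cj g S := ⟨x, hx, rfl⟩
    rw [hb, Subgroup.mem_bot] at h1
    have h2 : x = g⁻¹ * (g * x * g⁻¹) * g := by group
    rw [h2, h1]
    simp
  · intro T hT hcl
    have hT' : cj g⁻¹ T ≠ ⊥ := by
      intro hb
      apply hT
      rw [eq_bot_iff]
      intro x hx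
      have h1 : g⁻¹ * x * g⁻¹⁻¹ ∈ cj g⁻¹ T := ⟨x, hx, rfl⟩
      rw [hb, Subgroup.mem_bot] at h1
      have h2 : x = g * (g⁻¹ * x * g⁻¹⁻¹) * g⁻¹ := by group
      rw [h2, h1]
      simp
    have hcl' : ClosedIn S (cj g⁻¹ T) := by
      constructor
      · intro x hx
        rw [mem_cj] at hx
        have := hcl.1 hx
        rw [mem_cj] at this
        have e : g⁻¹ * (g⁻¹⁻¹ * x * g⁻¹) * g = x := by group
        rwa [e] at this
      · intro x hx k hk
        rw [mem_cj] at hx ⊢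
        have e1 : g⁻¹⁻¹ * x * g⁻¹ ∈ T := hx
        have e2 := hcl.2 _ e1 (g * k * g⁻¹) (by
          rw [mem_cj]
          have e : g⁻¹ * (g * k * g⁻¹ * (g⁻¹⁻¹ * x * g⁻¹) * (g * k * g⁻¹)⁻¹) * g = k * x * k⁻¹ := by
            group
          rwa [e])
        have e : g * k * g⁻¹ * (g⁻¹⁻¹ * x * g⁻¹) * (g * k * g⁻¹)⁻¹ = g⁻¹⁻¹ * (k * x * k⁻¹) * g⁻¹ := by
          group
        rwa [e] at e2
    have h3 := h.closed _ hT' hcl'
    intro x hx
    rw [mem_cj] at hx
    have := h3 hx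
    rw [mem_cj] at this
    have e : g⁻¹ * (g⁻¹⁻¹ * x * g⁻¹) * g = x := by group
    have e2 : g⁻¹⁻¹ * (g⁻¹ * x * g) * g⁻¹ = x := by group
    rwa [e2] at this
  · intro k hk
    have hk' : ∀ x ∈ S, (g⁻¹ * k * g) * x * (g⁻¹ * k * g)⁻¹ ∈ S := by
      intro x hx
      have h1 : g * x * g⁻¹ ∈ cj g S := ⟨x, hx, rfl⟩
      have h2 := hk _ h1
      rw [mem_cj] at h2
      have e : g⁻¹ * (k * (g * x * g⁻¹) * k⁻¹) * g = (g⁻¹ * k * g) * x * (g⁻¹ * k * g)⁻¹ := by group
      rwa [e] at h2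
    obtain ⟨s, hs, hsx⟩ := h.inner _ hk'
    refine ⟨g * s * g⁻¹, ⟨s, hs, rfl⟩, fun x hx => ?_⟩
    rw [mem_cj] at hx
    have := hsx _ hx
    have e1 : (g⁻¹ * k * g) * (g⁻¹ * x * g) * (g⁻¹ * k * g)⁻¹ = g⁻¹ * (k * x * k⁻¹) * g := by group
    rw [e1] at this
    have e2 : k * x * k⁻¹ = g * (g⁻¹ * (k * x * k⁻¹) * g) * g⁻¹ := by group
    rw [e2, this]
    group

/-- Simplicity of `F_S(G)` for every Sylow subgroup from `GoodSylow` for one of them. -/
theorem isSimple_of_goodSylow {p : ℕ} [Fact p.Prime] (S₀ S : Sylow p G)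
    (h : GoodSylow (S₀ : Subgroup G)) : (groupFusionSystem (S : Subgroup G)).IsSimple p := by
  obtain ⟨g, hg⟩ := MulAction.exists_smul_eq G S₀ S
  have hS : (S : Subgroup G) = cj g (S₀ : Subgroup G) := by
    rw [← hg]
    rfl
  have hgood : GoodSylow (S : Subgroup G) := by
    rw [hS]
    exact h.conj g
  refine SimpleCriterion.isSimple_groupFusionSystem S hgood.ne_bot ?_ hgood.inner
  intro T hT hsc
  have hcl := closedIn_of_stronglyClosed hsc
  exact le_antisymm hcl.1 (hgood.closed T hT hcl)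

/-! ### Inner automorphisms from an odd-order statement -/

/-- If odd-order elements normalizing the Sylow `2`-subgroup centralize it, `N_G(S)` acts by inner
automorphisms. -/
theorem inner_of_odd (T : Sylow 2 G)
    (hodd : ∀ (v : G) (m : ℕ), Odd m → v ^ m = 1 → (∀ x ∈ (T : Subgroup G), v * x * v⁻¹ ∈ (T : Subgroup G)) →
      ∀ x ∈ (T : Subgroup G), v * x * v⁻¹ = x)
    (g : G) (hg : ∀ x ∈ (T : Subgroup G), g * x * g⁻¹ ∈ (T : Subgroup G)) :
    ∃ s ∈ (T : Subgroup G), ∀ x ∈ (T : Subgroup G), g * x * g⁻¹ = s * x * s⁻¹ := by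
  have hgN : g ∈ Subgroup.normalizer ((T : Subgroup G) : Set G) :=
    SimpleCriterion.mem_normalizer_of_conj_le hg
  obtain ⟨k, m, hm, hn⟩ := Nat.exists_eq_two_pow_mul_odd (orderOf_pos g).ne'
  have hcop : Nat.Coprime (2 ^ k) m := Nat.Coprime.pow_left k hm.coprime_two_left
  have hbez := Nat.gcd_eq_gcd_ab (2 ^ k) m
  rw [hcop.gcd_eq_one] at hbez
  set A := Nat.gcdA (2 ^ k) m
  set B := Nat.gcdB (2 ^ k) m
  have hgn : g ^ (orderOf g) = 1 := pow_orderOf_eq_one g
  set v : G := g ^ (((2 ^ k : ℕ) : ℤ) * A) with hv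
  set u : G := g ^ ((m : ℤ) * B) with hu
  have huv : g = u * v := by
    rw [hu, hv, ← zpow_add, add_comm, ← hbez]
    simp
  have hvm : v ^ m = 1 := by
    rw [hv, ← zpow_natCast, ← zpow_mul]
    have : ((2 ^ k : ℕ) : ℤ) * A * (m : ℤ) = ((orderOf g : ℕ) : ℤ) * A := by
      rw [hn]; push_cast; ring
    rw [this, zpow_mul, zpow_natCast, hgn, one_zpow]
  have huk : u ^ (2 ^ k) = 1 := by
    rw [hu, ← zpow_natCast, ← zpow_mul]
    have : (m : ℤ) * B * ((2 ^ k : ℕ) : ℤ) = ((orderOf g : ℕ) : ℤ) * B := by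
      rw [hn]; push_cast; ring
    rw [this, zpow_mul, zpow_natCast, hgn, one_zpow]
  have hvN : v ∈ Subgroup.normalizer ((T : Subgroup G) : Set G) := Subgroup.zpow_mem _ hgN _
  have huN : u ∈ Subgroup.normalizer ((T : Subgroup G) : Set G) := Subgroup.zpow_mem _ hgN _
  have huS : u ∈ (T : Subgroup G) := by
    have : Fact (Nat.Prime 2) := ⟨Nat.prime_two⟩
    have hp : IsPGroup 2 (Subgroup.zpowers u) := by
      rw [IsPGroup.iff_card, Nat.card_zpowers]
      obtain ⟨j, -, hj⟩ := (Nat.dvd_prime_pow Nat.prime_two).1 (orderOf_dvd_of_pow_eq_one huk)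
      exact ⟨j, hj⟩
    have := hp.inf_normalizer_sylow T
    have hmem : u ∈ Subgroup.zpowers u ⊓ Subgroup.normalizer ((T : Subgroup G) : Set G) :=
      ⟨Subgroup.mem_zpowers u, huN⟩
    have h2 : u ∈ Subgroup.zpowers u ⊓ (T : Subgroup G) := by
      rw [← this]
      exact hmem
    exact h2.2
  refine ⟨u, huS, fun x hx => ?_⟩
  have hvx := hodd v m hm hvm (fun y hy => (Subgroup.mem_normalizer_iff.1 hvN y).1 hy) x hx
  rw [huv]
  calc u * v * x * (u * v)⁻¹ = u * (v * x * v⁻¹) * u⁻¹ := by group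
    _ = u * x * u⁻¹ := by rw [hvx]

/-! ### Signatures of Frattini cosets -/

section Signature

variable (S : Subgroup G)

/-- The Frattini subgroup of `S`, as a subgroup of `G`. -/
noncomputable abbrev frat : Subgroup G := (frattini ↥S).map S.subtype

/-- The signature of the coset `x Φ(S)` for the class function `W`. -/
noncomputable def sig (W : G → ℕ) (x : G) : ℕ := ∑ᶠ f : frat S, W (x * f)

variable {S}

/-- A `v`-normalizing element permutes the cosets of `Φ(S)`, preserving signatures. -/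
theorem sig_conj {W : G → ℕ} {v : G} (hv : v ∈ Subgroup.normalizer (S : Set G))
    (hW : ∀ u : G, W (v * u * v⁻¹) = W u) (x : G) : sig S W (v * x * v⁻¹) = sig S W x := by
  have hΦ : v ∈ Subgroup.normalizer ((frat S : Subgroup G) : Set G) :=
    Cfsg.Agent.Lib.Coprime.FrattiniAct.map_char_mem_normalizer _ inferInstance hv
  have hconj : ∀ f : G, f ∈ frat S ↔ v * f * v⁻¹ ∈ frat S := Subgroup.mem_normalizer_iff.1 hΦ
  let e : frat S ≃ frat S :=
    { toFun := fun f => ⟨v * f * v⁻¹, (hconj f).1 f.2⟩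
      invFun := fun f => ⟨v⁻¹ * f * v, (hconj _).2 (by
        have : v * (v⁻¹ * (f : G) * v) * v⁻¹ = f := by group
        rw [this]; exact f.2)⟩
      left_inv := fun f => Subtype.ext (by simp [mul_assoc])
      right_inv := fun f => Subtype.ext (by simp [mul_assoc]) }
  unfold sig
  rw [← finsum_comp_equiv e]
  refine finsum_congr fun f => ?_
  show W (v * x * v⁻¹ * (v * f * v⁻¹)) = W (x * f)
  rw [← hW (x * f)]
  congr 1
  group

/-- If the signature has at most two cosets in each fibre, then an odd-order element normalizing the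
`2`-subgroup `S` centralizes it. -/
theorem conj_eq_of_sig {W : G → ℕ} (hS : IsPGroup 2 S)
    (hsig : ∀ x ∈ S, ∀ y ∈ S, ∀ y' ∈ S, sig S W x = sig S W y → sig S W x = sig S W y' →
      x⁻¹ * y ∈ frat S ∨ x⁻¹ * y' ∈ frat S ∨ y⁻¹ * y' ∈ frat S)
    {v : G} {m : ℕ} (hm : Odd m) (hvm : v ^ m = 1)
    (hW : ∀ a ∈ Subgroup.zpowers v, ∀ u : G, W (a * u * a⁻¹) = W u)
    (hv : ∀ x ∈ S, v * x * v⁻¹ ∈ S) : ∀ x ∈ S, v * x * v⁻¹ = x := by
  have : Fact (Nat.Prime 2) := ⟨Nat.prime_two⟩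
  have hvN : v ∈ Subgroup.normalizer (S : Set G) := SimpleCriterion.mem_normalizer_of_conj_le hv
  have hΦN : v ∈ Subgroup.normalizer ((frat S : Subgroup G) : Set G) :=
    Cfsg.Agent.Lib.Coprime.FrattiniAct.map_char_mem_normalizer _ inferInstance hvN
  have hΦS : frat S ≤ S := by
    rintro _ ⟨x, -, rfl⟩
    exact x.2
  -- `v ^ 2` acts trivially on the cosets
  have hWv := hW v (Subgroup.mem_zpowers v)
  have hsq : ∀ x ∈ S, x⁻¹ * (v * (v * x * v⁻¹) * v⁻¹) ∈ frat S := by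
    intro x hx
    have hx1 := hv x hx
    have hx2 := hv _ hx1
    have e1 := sig_conj hvN hWv x
    have e2 := sig_conj hvN hWv (v * x * v⁻¹)
    have hmain := hsig x hx _ hx1 _ hx2 e1.symm (by rw [e2, e1])
    have hshift : ∀ y : G, y ∈ frat S → v * y * v⁻¹ ∈ frat S :=
      fun y hy => (Subgroup.mem_normalizer_iff.1 hΦN y).1 hy
    rcases hmain with h | h | h
    · have h2 := hshift _ h
      have e : x⁻¹ * (v * (v * x * v⁻¹) * v⁻¹) = (x⁻¹ * (v * x * v⁻¹)) * (v * (x⁻¹ * (v * x * v⁻¹)) * v⁻¹) := by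
        group
      rw [e]
      exact (frat S).mul_mem h h2
    · exact h
    · have h2 : x⁻¹ * (v * x * v⁻¹) ∈ frat S := by
        have := (Subgroup.mem_normalizer_iff.1 hΦN (x⁻¹ * (v * x * v⁻¹))).2 (by
          have e : v * (x⁻¹ * (v * x * v⁻¹)) * v⁻¹ = (v * x * v⁻¹)⁻¹ * (v * (v * x * v⁻¹) * v⁻¹) := by
            group
          rw [e]
          exact h)
        exact this
      have h3 := hshift _ h2
      have e : x⁻¹ * (v * (v * x * v⁻¹) * v⁻¹) = (x⁻¹ * (v * x * v⁻¹)) * (v * (x⁻¹ * (v * x * v⁻¹)) * v⁻¹) := by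
        group
      rw [e]
      exact (frat S).mul_mem h2 h3
  -- powers of `v ^ 2`
  have hsq' : ∀ x ∈ S, x⁻¹ * (v ^ 2 * x * (v ^ 2)⁻¹) ∈ frat S := by
    intro x hx
    have e : v ^ 2 * x * (v ^ 2)⁻¹ = v * (v * x * v⁻¹) * v⁻¹ := by
      rw [pow_two]; group
    rw [e]
    exact hsq x hx
  have hpow : ∀ (i : ℕ), ∀ x ∈ S, x⁻¹ * ((v ^ 2) ^ i * x * ((v ^ 2) ^ i)⁻¹) ∈ frat S := by
    generalize v ^ 2 = w at hsq'
    intro i
    induction i with
    | zero => intro x _; simp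
    | succ i ih =>
      intro x hx
      have hx1 : w ^ i * x * (w ^ i)⁻¹ ∈ S := by
        have : (x) * (x⁻¹ * (w ^ i * x * (w ^ i)⁻¹)) ∈ S := S.mul_mem hx (hΦS (ih x hx))
        simpa using this
      have h1 := hsq' _ hx1
      have e : x⁻¹ * (w ^ (i + 1) * x * (w ^ (i + 1))⁻¹) =
          (x⁻¹ * (w ^ i * x * (w ^ i)⁻¹)) *
          ((w ^ i * x * (w ^ i)⁻¹)⁻¹ * (w * (w ^ i * x * (w ^ i)⁻¹) * w⁻¹)) := by
        rw [pow_succ' w i]
        generalize w ^ i = b
        group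
      rw [e]
      exact (frat S).mul_mem (ih x hx) h1
  obtain ⟨k, hk⟩ := hm
  have hvpow : v = (v ^ 2) ^ (k + 1) := by
    rw [← pow_mul, show 2 * (k + 1) = m + 1 by omega, pow_succ, hvm, one_mul]
  have hcop : (Nat.card (Subgroup.zpowers v)).Coprime 2 := by
    rw [Nat.card_zpowers]
    have h1 : orderOf v ∣ m := orderOf_dvd_of_pow_eq_one hvm
    exact Nat.Coprime.coprime_dvd_left h1 (Odd.coprime_two_right ⟨k, hk⟩)
  have hA : Subgroup.zpowers v ≤ Subgroup.normalizer (S : Set G) := by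
    rw [Subgroup.zpowers_le]
    exact hvN
  have hkey : ∀ t ∈ S, ∀ a ∈ Subgroup.zpowers v, t⁻¹ * (a * t * a⁻¹) ∈ frat S := by
    intro t ht a ha
    -- `a` is a power of `v ^ 2`
    have hfin : ∃ i : ℕ, a = (v ^ 2) ^ i := by
      obtain ⟨j, rfl⟩ := ha
      have hv0 : v ^ m = 1 := hvm
      have hpos : 0 < m := by omega
      refine ⟨(j % (m : ℤ)).toNat * (k + 1), ?_⟩
      have h0 : (0 : ℤ) ≤ j % (m : ℤ) := Int.emod_nonneg _ (by omega)
      rw [pow_mul', ← hvpow, ← zpow_natCast, Int.toNat_of_nonneg h0]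
      show v ^ j = _
      conv_lhs => rw [← Int.mul_ediv_add_emod j m]
      rw [zpow_add, zpow_mul, zpow_natCast, hvm, one_zpow, one_mul]
    obtain ⟨i, rfl⟩ := hfin
    exact hpow i t ht
  have hle := Cfsg.Agent.Lib.Coprime.FrattiniAct.le_centralizer_of_frattini hS hA hcop hkey
  intro x hx
  have := (Subgroup.mem_centralizer_iff.1 (hle (Subgroup.mem_zpowers v))) x hx
  rw [← this]
  simp

end Signature

/-! ### Strongly closed subgroups contain the central involution -/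

/-- A nontrivial closed subgroup contains the unique central involution. -/
theorem central_mem_of_closedIn {S T : Subgroup G} (hS : IsPGroup 2 S) {z : G}
    (hz : ∀ x ∈ S, (∀ s ∈ S, x * s = s * x) → x * x = 1 → x = 1 ∨ x = z)
    (hT : T ≠ ⊥) (hcl : ClosedIn S T) : z ∈ T := by
  have : Fact (Nat.Prime 2) := ⟨Nat.prime_two⟩
  set N : Subgroup S := T.subgroupOf S with hN
  have hNn : N.Normal := by
    constructor
    intro x hx s
    rw [hN, Subgroup.mem_subgroupOf] at hx ⊢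
    have h1 := hcl.2 _ hx s (S.mul_mem (S.mul_mem s.2 (hcl.1 hx)) (S.inv_mem s.2))
    simpa using h1
  have hNne : N ≠ ⊥ := by
    intro hb
    apply hT
    rw [eq_bot_iff]
    intro x hx
    have h1 : (⟨x, hcl.1 hx⟩ : S) ∈ N := by
      rw [hN, Subgroup.mem_subgroupOf]
      exact hx
    rw [hb, Subgroup.mem_bot] at h1
    exact Subgroup.mem_bot.2 (congrArg Subtype.val h1)
  have hne := Cfsg.Agent.Lib.PGroup.Basic.inf_center_ne_bot hS hNne
  -- an involution in `N ⊓ Z(S)`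
  have hp : IsPGroup 2 (N ⊓ Subgroup.center S : Subgroup S) := hS.to_subgroup _
  have hnt : Nontrivial (N ⊓ Subgroup.center S : Subgroup S) :=
    (Subgroup.nontrivial_iff_ne_bot _).2 hne
  have h2 : 2 ∣ Nat.card (N ⊓ Subgroup.center S : Subgroup S) := by
    rcases hp.card_eq_or_dvd with h1 | h1
    · exact absurd h1 Finite.one_lt_card.ne'
    · exact h1
  obtain ⟨x, hx⟩ := exists_prime_orderOf_dvd_card' 2 h2
  have ha' : orderOf (((x : S) : G)) = 2 := by
    rw [Subgroup.orderOf_coe, Subgroup.orderOf_coe]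
    exact hx
  have ha1 : ((x : S) : G) ≠ 1 := by
    intro h
    rw [h] at ha'
    simp at ha'
  have haa : ((x : S) : G) * ((x : S) : G) = 1 := by
    have h := pow_orderOf_eq_one ((x : S) : G)
    rwa [ha', pow_two] at h
  have hcomm : ∀ s ∈ S, ((x : S) : G) * s = s * ((x : S) : G) := by
    intro s hs
    have := Subgroup.mem_center_iff.1 x.2.2 ⟨s, hs⟩
    exact (congrArg Subtype.val this).symm
  rcases hz _ (x : S).2 hcomm haa with h | h
  · exact absurd h ha1
  · rw [← h]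
    exact Subgroup.mem_subgroupOf.1 x.2.1

end Cfsg.Agent.Lib.Fusion.GoodSylowCrit
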