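import Mathlib
import Cfsg.Prelude.Def_Spor_Mathieu
import Cfsg.Agent.Lib.Sporadic.M24Tbl
import Cfsg.Agent.Lib.Fusion.GoodSylow

/-!
# Certificates for the simplicity of `F_S(H)`, `H` a group of permutations of the 24 points

Elements are given by tables (see `Lib.Sporadic.M24Tbl`). A `Cert` contains a polycyclic generating
sequence of a Sylow `2`-subgroup `S₀`, the central involution `z`, a chain of conjugations showing that
every nontrivial closed subgroup is `S₀`, and the Frattini cosets with their signatures.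
-/

set_option autoImplicit false

namespace Cfsg.Agent.Lib.Fusion.MathieuTbl

open Cfsg Cfsg.Agent.Lib.Sporadic.GolayCore Cfsg.Agent.Lib.Sporadic.M24Tbl
open Cfsg.Agent.Lib.Fusion.GoodSylowCrit
open scoped commutatorElement

/-- Tables. -/
abbrev Tbl := List ℕ

/-- The permutation of a table (`1` when the table is not valid). -/
noncomputable def τ (T : Tbl) : Equiv.Perm GolayPt :=
  if h : ValidTbl T then tblPerm T h else 1

theorem τ_of_valid {T : Tbl} (h : ValidTbl T) : τ T = tblPerm T h := dif_pos h

theorem idx_τ {T : Tbl} (h : ValidTbl T) (p : GolayPt) : idx (τ T p) = T.getD (idx p) 0 := by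
  rw [τ_of_valid h, idx_tblPerm]

/-- Product of tables. -/
def mulT (a b : Tbl) : Tbl := b.map (fun i => a.getD i 0)

theorem getD_mem_of_valid {a : Tbl} (ha : ValidTbl a) {i : ℕ} (hi : i < 24) : a.getD i 0 ∈ a := by
  have hl : i < a.length := by rw [ha.1]; exact hi
  rw [List.getD_eq_getElem _ _ hl]
  exact List.getElem_mem _

theorem valid_mulT {a b : Tbl} (ha : ValidTbl a) (hb : ValidTbl b) : ValidTbl (mulT a b) := by
  refine ⟨by simp [mulT, hb.1], ?_, ?_⟩
  · refine List.Nodup.map_on ?_ hb.2.1
    intro i hi j hj hij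
    have hi' := hb.2.2 i hi
    have hj' := hb.2.2 j hj
    have hil : i < a.length := by rw [ha.1]; exact hi'
    have hjl : j < a.length := by rw [ha.1]; exact hj'
    rw [List.getD_eq_getElem _ _ hil, List.getD_eq_getElem _ _ hjl] at hij
    exact (List.Nodup.getElem_inj_iff ha.2.1).1 hij
  · intro x hx
    obtain ⟨i, hi, rfl⟩ := List.mem_map.1 hx
    exact ha.2.2 _ (getD_mem_of_valid ha (hb.2.2 i hi))

theorem τ_mulT {a b : Tbl} (ha : ValidTbl a) (hb : ValidTbl b) : τ (mulT a b) = τ a * τ b := by
  apply Equiv.ext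
  intro p
  apply idx_injective
  rw [idx_τ (valid_mulT ha hb), Equiv.Perm.mul_apply, idx_τ ha, idx_τ hb]
  have hl : idx p < b.length := by rw [hb.1]; exact idx_lt p
  rw [List.getD_eq_getElem _ _ hl, List.getD_eq_getElem _ _ (by simpa [mulT] using hl)]
  simp [mulT]

theorem τ_inj {a b : Tbl} (ha : ValidTbl a) (hb : ValidTbl b) (h : τ a = τ b) : a = b := by
  apply List.ext_getElem (ha.1.trans hb.1.symm)
  intro i hi hi'
  have hi24 : i < 24 := by rw [← ha.1]; exact hi
  have h1 := idx_τ ha (pt i)
  have h2 := idx_τ hb (pt i)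
  rw [h, h2, idx_pt hi24, List.getD_eq_getElem _ _ hi, List.getD_eq_getElem _ _ hi'] at h1
  exact h1.symm

/-- The identity table. -/
def idT : Tbl := List.range 24

theorem valid_idT : ValidTbl idT := by
  decide +kernel

theorem τ_idT : τ idT = 1 := by
  apply Equiv.ext
  intro p
  apply idx_injective
  rw [idx_τ valid_idT, Equiv.Perm.one_apply]
  have h := idx_lt p
  rw [List.getD_eq_getElem _ _ (by simpa [idT] using h)]
  simp [idT]

/-! ### Elements of a subgroup given by tables -/

section El

variable {H : Subgroup (Equiv.Perm GolayPt)}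

variable (H) in
/-- The element of `H` given by a table (`1` if the permutation is not in `H`). -/
noncomputable def el (T : Tbl) : H :=
  open Classical in if h : τ T ∈ H then ⟨τ T, h⟩ else 1

variable (H) in
/-- A table giving an element of `H`. -/
structure Good (T : Tbl) : Prop where
  valid : ValidTbl T
  mem : τ T ∈ H

theorem coe_el {T : Tbl} (h : Good H T) : (el H T : Equiv.Perm GolayPt) = τ T := by
  unfold el
  rw [dif_pos h.mem]

theorem good_idT : Good H idT := ⟨valid_idT, by rw [τ_idT]; exact H.one_mem⟩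

theorem el_idT : el H idT = 1 := by
  apply Subtype.ext
  rw [coe_el good_idT, τ_idT]
  rfl

theorem good_mulT {a b : Tbl} (ha : Good H a) (hb : Good H b) : Good H (mulT a b) :=
  ⟨valid_mulT ha.valid hb.valid, by rw [τ_mulT ha.valid hb.valid]; exact H.mul_mem ha.mem hb.mem⟩

theorem el_mulT {a b : Tbl} (ha : Good H a) (hb : Good H b) :
    el H (mulT a b) = el H a * el H b := by
  apply Subtype.ext
  rw [coe_el (good_mulT ha hb), τ_mulT ha.valid hb.valid, Subgroup.coe_mul, coe_el ha, coe_el hb]

theorem el_inj {a b : Tbl} (ha : Good H a) (hb : Good H b) (h : el H a = el H b) : a = b := by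
  apply τ_inj ha.valid hb.valid
  rw [← coe_el ha, ← coe_el hb, h]

/-! ### Normal forms -/

/-- All products `g₁^e₁ ⋯ g_n^e_n`, `e_i ∈ {0, 1}`. -/
def nfList : List Tbl → List Tbl
  | [] => [idT]
  | g :: gs => nfList gs ++ (nfList gs).map (mulT g)

theorem good_nfList {gs : List Tbl} (h : ∀ g ∈ gs, Good H g) :
    ∀ t ∈ nfList gs, Good H t ∧ el H t ∈ Subgroup.closure (G := H) {x | ∃ g ∈ gs, x = el H g} := by
  induction gs with
  | nil =>
    intro t ht
    simp only [nfList, List.mem_singleton] at ht
    subst ht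
    exact ⟨good_idT, by rw [el_idT]; exact Subgroup.one_mem _⟩
  | cons g gs ih =>
    intro t ht
    have hg : Good H g := h g List.mem_cons_self
    have ih' := ih fun g' hg' => h g' (List.mem_cons_of_mem _ hg')
    have hmono : Subgroup.closure (G := H) {x | ∃ g' ∈ gs, x = el H g'} ≤
        Subgroup.closure (G := H) {x | ∃ g' ∈ g :: gs, x = el H g'} := by
      apply Subgroup.closure_mono
      rintro x ⟨g', hg', rfl⟩
      exact ⟨g', List.mem_cons_of_mem _ hg', rfl⟩
    simp only [nfList, List.mem_append, List.mem_map] at ht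
    rcases ht with ht | ⟨t', ht', rfl⟩
    · exact ⟨(ih' t ht).1, hmono (ih' t ht).2⟩
    · have h1 := ih' t' ht'
      refine ⟨good_mulT hg h1.1, ?_⟩
      rw [el_mulT hg h1.1]
      exact Subgroup.mul_mem _ (Subgroup.subset_closure ⟨g, List.mem_cons_self, rfl⟩) (hmono h1.2)

/-- The subgroup generated by the elements of a list of tables. -/
noncomputable def gen (H : Subgroup (Equiv.Perm GolayPt)) (gs : List Tbl) : Subgroup H :=
  Subgroup.closure {x | ∃ g ∈ gs, x = el H g}

/-! ### Products of lists of tables -/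

/-- The product of a list of tables. -/
def prodT (ws : List Tbl) : Tbl := ws.foldr mulT idT

theorem good_prodT {ws : List Tbl} (h : ∀ w ∈ ws, Good H w) : Good H (prodT ws) := by
  induction ws with
  | nil => exact good_idT
  | cons w ws ih =>
    exact good_mulT (h w List.mem_cons_self) (ih fun w' hw' => h w' (List.mem_cons_of_mem _ hw'))

theorem el_prodT_mem {ws : List Tbl} (h : ∀ w ∈ ws, Good H w) (K : Subgroup H)
    (hK : ∀ w ∈ ws, el H w ∈ K) : el H (prodT ws) ∈ K := by
  induction ws with
  | nil =>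
    show el H idT ∈ K
    rw [el_idT]
    exact K.one_mem
  | cons w ws ih =>
    have h1 : ∀ w' ∈ ws, Good H w' := fun w' hw' => h w' (List.mem_cons_of_mem _ hw')
    show el H (mulT w (prodT ws)) ∈ K
    rw [el_mulT (h w List.mem_cons_self) (good_prodT h1)]
    exact K.mul_mem (hK w List.mem_cons_self) (ih h1 fun w' hw' => hK w' (List.mem_cons_of_mem _ hw'))

/-- Elementwise description of `gen H gs` by normal forms. -/
structure IsPc (H : Subgroup (Equiv.Perm GolayPt)) (gs : List Tbl) : Prop where
  mem : ∀ x : H, x ∈ gen H gs ↔ ∃ t ∈ nfList gs, x = el H t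
  nd : (nfList gs).Nodup

theorem mem_gen_iff {gs : List Tbl} (_h : ∀ g ∈ gs, Good H g) (hc : IsPc H gs) (x : H) :
    x ∈ gen H gs ↔ ∃ t ∈ nfList gs, x = el H t := hc.mem x

/-- The polycyclic relations of one generator: the square of `g`, and the conjugates of the later
generators by `g`, as products of later generators. -/
structure PcRel where
  sq : List Tbl
  cj : List (List Tbl)

/-- The check of the relations of `g` against the later generators. -/
def cjCheck (g : Tbl) (gs : List Tbl) : List Tbl → List (List Tbl) → Bool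
  | [], [] => true
  | h :: hs, ws :: wss =>
    ws.all gs.contains && (mulT g h == mulT (prodT ws) g) && cjCheck g gs hs wss
  | _, _ => false

/-- The check of a polycyclic sequence. -/
def pcCheck : List Tbl → List PcRel → Bool
  | [], [] => true
  | g :: gs, r :: rs =>
    pcCheck gs rs && r.sq.all gs.contains && (prodT r.sq == mulT g g) &&
      cjCheck g gs gs r.cj && !((nfList gs).contains g)
  | _, _ => false

theorem cjCheck_sound {g : Tbl} {gs : List Tbl} : ∀ {hs : List Tbl} {wss : List (List Tbl)},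
    cjCheck g gs hs wss = true → ∀ h ∈ hs, ∃ ws : List Tbl, (∀ w ∈ ws, w ∈ gs) ∧ mulT g h = mulT (prodT ws) g := by
  intro hs
  induction hs with
  | nil => intro wss _ h hh; simp at hh
  | cons h₀ hs ih =>
    intro wss hc h hh
    cases wss with
    | nil => simp [cjCheck] at hc
    | cons ws wss =>
      simp only [cjCheck, Bool.and_eq_true, List.all_eq_true, beq_iff_eq, List.contains_iff_mem] at hc
      rcases List.mem_cons.1 hh with rfl | hh
      · exact ⟨ws, hc.1.1, hc.1.2⟩
      · exact ih hc.2 h hh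

theorem el_mem_gen_of_prodT {gs ws : List Tbl} (h : ∀ g ∈ gs, Good H g) (hws : ∀ w ∈ ws, w ∈ gs) :
    el H (prodT ws) ∈ gen H gs :=
  el_prodT_mem (fun w hw => h w (hws w hw)) _ fun w hw =>
    Subgroup.subset_closure ⟨w, hws w hw, rfl⟩

theorem isPc_cons {g : Tbl} {gs : List Tbl} (h : ∀ x ∈ g :: gs, Good H x) (hgs : IsPc H gs)
    (hsq : el H g * el H g ∈ gen H gs)
    (hcj : ∀ x ∈ gs, el H g * el H x * (el H g)⁻¹ ∈ gen H gs)
    (hne : g ∉ nfList gs) : IsPc H (g :: gs) := by
  have hg : Good H g := h g List.mem_cons_self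
  have h' : ∀ x ∈ gs, Good H x := fun x hx => h x (List.mem_cons_of_mem _ hx)
  set K := gen H gs with hK
  have hNK : el H g ∈ Subgroup.normalizer (K : Set H) := by
    apply SimpleCriterion.mem_normalizer_of_conj_le
    intro y hy
    have hle : K ≤ K.comap (MulAut.conj (el H g)).toMonoidHom := by
      rw [hK]
      unfold gen
      rw [Subgroup.closure_le]
      rintro _ ⟨x, hx, rfl⟩
      exact hcj x hx
    exact hle hy
  have hconj : ∀ y, y ∈ K ↔ el H g * y * (el H g)⁻¹ ∈ K := Subgroup.mem_normalizer_iff.1 hNK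
  have hconj' : ∀ y, y ∈ K → (el H g)⁻¹ * y * el H g ∈ K := by
    intro y hy
    apply (hconj _).2
    have e : el H g * ((el H g)⁻¹ * y * el H g) * (el H g)⁻¹ = y := by group
    rwa [e]
  have hKle : K ≤ gen H (g :: gs) := by
    rw [hK]
    unfold gen
    apply Subgroup.closure_mono
    rintro _ ⟨x, hx, rfl⟩
    exact ⟨x, List.mem_cons_of_mem _ hx, rfl⟩
  have hgmem : el H g ∈ gen H (g :: gs) := Subgroup.subset_closure ⟨g, List.mem_cons_self, rfl⟩
  have hdesc : ∀ x : H, x ∈ gen H (g :: gs) ↔ x ∈ K ∨ (el H g)⁻¹ * x ∈ K := by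
    intro x
    constructor
    · intro hx
      unfold gen at hx
      induction hx using Subgroup.closure_induction_left with
      | one => exact Or.inl K.one_mem
      | mul_left s hs y hy ih =>
        obtain ⟨a, ha, rfl⟩ := hs
        rcases List.mem_cons.1 ha with rfl | ha
        · rcases ih with ih | ih
          · right
            simpa using ih
          · left
            have e : el H a * y = (el H a * el H a) * ((el H a)⁻¹ * y) := by group
            rw [e]
            exact K.mul_mem hsq ih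
        · have haK : el H a ∈ K := Subgroup.subset_closure ⟨a, ha, rfl⟩
          rcases ih with ih | ih
          · exact Or.inl (K.mul_mem haK ih)
          · right
            have e : (el H g)⁻¹ * (el H a * y) = ((el H g)⁻¹ * el H a * el H g) * ((el H g)⁻¹ * y) := by
              group
            rw [e]
            exact K.mul_mem (hconj' _ haK) ih
      | inv_mul_cancel s hs y hy ih =>
        obtain ⟨a, ha, rfl⟩ := hs
        rcases List.mem_cons.1 ha with rfl | ha
        · rcases ih with ih | ih
          · right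
            have e : (el H a)⁻¹ * ((el H a)⁻¹ * y) = (el H a * el H a)⁻¹ * y := by group
            rw [e]
            exact K.mul_mem (K.inv_mem hsq) ih
          · exact Or.inl ih
        · have haK : el H a ∈ K := Subgroup.subset_closure ⟨a, ha, rfl⟩
          rcases ih with ih | ih
          · exact Or.inl (K.mul_mem (K.inv_mem haK) ih)
          · right
            have e : (el H g)⁻¹ * ((el H a)⁻¹ * y) = ((el H g)⁻¹ * (el H a)⁻¹ * el H g) * ((el H g)⁻¹ * y) := by
              group
            rw [e]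
            exact K.mul_mem (hconj' _ (K.inv_mem haK)) ih
    · rintro (hx | hx)
      · exact hKle hx
      · have e : x = el H g * ((el H g)⁻¹ * x) := by group
        rw [e]
        exact Subgroup.mul_mem _ hgmem (hKle hx)
  have hgL := good_nfList h'
  refine ⟨fun x => ?_, ?_⟩
  · rw [hdesc, hK, hgs.mem]
    constructor
    · rintro (⟨t, ht, rfl⟩ | hx)
      · exact ⟨t, List.mem_append_left _ ht, rfl⟩
      · rw [hgs.mem] at hx
        obtain ⟨t, ht, he⟩ := hx
        refine ⟨mulT g t, List.mem_append_right _ (List.mem_map.2 ⟨t, ht, rfl⟩), ?_⟩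
        rw [el_mulT hg (hgL t ht).1, ← he]
        group
    · rintro ⟨t, ht, rfl⟩
      rcases List.mem_append.1 ht with ht | ht
      · exact Or.inl ⟨t, ht, rfl⟩
      · obtain ⟨t', ht', rfl⟩ := List.mem_map.1 ht
        right
        rw [hgs.mem]
        refine ⟨t', ht', ?_⟩
        rw [el_mulT hg (hgL t' ht').1]
        group
  · show (nfList gs ++ (nfList gs).map (mulT g)).Nodup
    rw [List.nodup_append]
    refine ⟨hgs.nd, ?_, ?_⟩
    · refine hgs.nd.map_on ?_
      intro a ha b hb hab
      have e : el H (mulT g a) = el H (mulT g b) := by rw [hab]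
      rw [el_mulT hg (hgL a ha).1, el_mulT hg (hgL b hb).1] at e
      exact el_inj (hgL a ha).1 (hgL b hb).1 (mul_left_cancel e)
    · intro a ha b hb hab
      subst hab
      obtain ⟨t, ht, rfl⟩ := List.mem_map.1 hb
      apply hne
      have e : el H g = el H (mulT g t) * (el H t)⁻¹ := by
        rw [el_mulT hg (hgL t ht).1]
        group
      have hm : el H g ∈ gen H gs := by
        rw [e]
        refine Subgroup.mul_mem _ ?_ (Subgroup.inv_mem _ (hgL t ht).2)
        exact (hgs.mem _).2 ⟨_, ha, rfl⟩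
      obtain ⟨t', ht', he⟩ := (hgs.mem _).1 hm
      rw [el_inj hg (hgL t' ht').1 he]
      exact ht'

theorem pcCheck_sound : ∀ {gs : List Tbl} {rs : List PcRel}, (∀ g ∈ gs, Good H g) →
    pcCheck gs rs = true → IsPc H gs := by
  intro gs
  induction gs with
  | nil =>
    intro rs _ _
    refine ⟨fun x => ?_, by simp [nfList]⟩
    simp only [gen, nfList, List.mem_singleton, exists_eq_left, el_idT]
    constructor
    · intro hx
      have hb : Subgroup.closure {x : H | ∃ g ∈ ([] : List Tbl), x = el H g} = ⊥ := by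
        simp
      rw [hb] at hx
      exact Subgroup.mem_bot.1 hx
    · rintro rfl
      exact Subgroup.one_mem _
  | cons g gs ih =>
    intro rs h hc
    cases rs with
    | nil => simp [pcCheck] at hc
    | cons r rs =>
      simp only [pcCheck, Bool.and_eq_true, List.all_eq_true, beq_iff_eq, List.contains_iff_mem,
        Bool.not_eq_true'] at hc
      obtain ⟨⟨⟨⟨h1, h2⟩, h3⟩, h4⟩, h5⟩ := hc
      have hg : Good H g := h g List.mem_cons_self
      have h' : ∀ x ∈ gs, Good H x := fun x hx => h x (List.mem_cons_of_mem _ hx)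
      refine isPc_cons h (ih h' h1) ?_ ?_ ?_
      · rw [← el_mulT hg hg, ← h3]
        exact el_mem_gen_of_prodT h' h2
      · intro x hx
        obtain ⟨ws, hws, he⟩ := cjCheck_sound h4 x hx
        have hgp : Good H (prodT ws) := good_prodT fun w hw => h' w (hws w hw)
        have e : el H g * el H x = el H (prodT ws) * el H g := by
          rw [← el_mulT hg (h' x hx), ← el_mulT hgp hg, he]
        rw [e]
        simpa using el_mem_gen_of_prodT h' hws
      · intro hmem
        have : (nfList gs).contains g = true := by simpa using hmem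
        rw [this] at h5
        cases h5

theorem isPc_of_append : ∀ {as bs : List Tbl} {rs : List PcRel}, (∀ g ∈ as ++ bs, Good H g) →
    pcCheck (as ++ bs) rs = true → IsPc H bs := by
  intro as
  induction as with
  | nil =>
    intro bs rs h hc
    exact pcCheck_sound h hc
  | cons a as ih =>
    intro bs rs h hc
    cases rs with
    | nil => simp [pcCheck] at hc
    | cons r rs =>
      simp only [List.cons_append, pcCheck, Bool.and_eq_true] at hc
      exact ih (fun g hg => h g (List.mem_cons_of_mem _ hg)) hc.1.1.1.1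

theorem card_gen {gs : List Tbl} (h : ∀ g ∈ gs, Good H g) (hc : IsPc H gs) :
    Nat.card (gen H gs) = (nfList gs).length := by
  classical
  have hset : ((gen H gs : Subgroup H) : Set H) = ↑((nfList gs).map (el H)).toFinset := by
    ext x
    simp only [SetLike.mem_coe, List.coe_toFinset, Set.mem_ofPred_eq, List.mem_map]
    rw [mem_gen_iff h hc]
    constructor
    · rintro ⟨t, ht, rfl⟩
      exact ⟨t, ht, rfl⟩
    · rintro ⟨t, ht, rfl⟩
      exact ⟨t, ht, rfl⟩
  have h1 : Nat.card (gen H gs) = ((gen H gs : Subgroup H) : Set H).ncard := by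
    exact Nat.card_coe_set_eq _
  rw [h1, hset, Set.ncard_coe_finset, List.toFinset_card_of_nodup, List.length_map]
  refine hc.nd.map_on ?_
  intro a ha b hb hab
  exact el_inj (good_nfList h a ha).1 (good_nfList h b hb).1 hab

theorem nfList_append {as bs : List Tbl} (ha : ∀ g ∈ as, Good H g) (hb : ∀ g ∈ bs, Good H g) :
    ∀ t ∈ nfList (as ++ bs), ∃ r ∈ nfList as, ∃ f ∈ nfList bs, el H t = el H r * el H f := by
  induction as with
  | nil =>
    intro t ht
    refine ⟨idT, by simp [nfList], t, ht, ?_⟩
    rw [el_idT, one_mul]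
  | cons g as ih =>
    intro t ht
    have hg : Good H g := ha g List.mem_cons_self
    have ha' : ∀ g' ∈ as, Good H g' := fun g' hg' => ha g' (List.mem_cons_of_mem _ hg')
    have hall : ∀ g' ∈ as ++ bs, Good H g' := by
      intro g' hg'
      rcases List.mem_append.1 hg' with h | h
      · exact ha' g' h
      · exact hb g' h
    simp only [List.cons_append, nfList, List.mem_append, List.mem_map] at ht
    rcases ht with ht | ⟨t', ht', rfl⟩
    · obtain ⟨r, hr, f, hf, he⟩ := ih ha' t ht
      exact ⟨r, List.mem_append_left _ hr, f, hf, he⟩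
    · obtain ⟨r, hr, f, hf, he⟩ := ih ha' t' ht'
      refine ⟨mulT g r, List.mem_append_right _ (List.mem_map.2 ⟨r, hr, rfl⟩), f, hf, ?_⟩
      rw [el_mulT hg (good_nfList hall t' ht').1, el_mulT hg (good_nfList ha' r hr).1, he, mul_assoc]

/-! ### The chain of conjugations -/

/-- A step of the chain: `y = h (∏ ws) h⁻¹`, the `ws` known to lie in the closed subgroup. -/
structure Step where
  ws : List Tbl
  h : Tbl
  y : Tbl

/-- The check of one step. -/
def stepOK (inH : Tbl → Bool) (L known : List Tbl) (s : Step) : Bool :=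
  s.ws.all known.contains && decide (ValidTbl s.h) && inH s.h && L.contains s.y &&
    (mulT s.h (prodT s.ws) == mulT s.y s.h)

/-- Run the chain. -/
def runChain (inH : Tbl → Bool) (L : List Tbl) : List Step → List Tbl → Option (List Tbl)
  | [], k => some k
  | s :: ss, k => if stepOK inH L k s then runChain inH L ss (s.y :: k) else none

theorem runChain_sound {inH : Tbl → Bool} (hinH : ∀ T, ValidTbl T → inH T = true → τ T ∈ H)
    {L : List Tbl} (hL : ∀ t ∈ L, Good H t) {S T : Subgroup H} (hLS : ∀ t ∈ L, el H t ∈ S)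
    (hT : ClosedIn S T) (steps : List Step) (k k' : List Tbl)
    (hk : ∀ t ∈ k, t ∈ L ∧ el H t ∈ T) (hrun : runChain inH L steps k = some k') :
    ∀ t ∈ k', t ∈ L ∧ el H t ∈ T := by
  induction steps generalizing k with
  | nil =>
    simp only [runChain, Option.some.injEq] at hrun
    subst hrun
    exact hk
  | cons s ss ih =>
    simp only [runChain] at hrun
    split_ifs at hrun with hs
    simp only [stepOK, Bool.and_eq_true, List.all_eq_true, decide_eq_true_eq, beq_iff_eq,
      List.contains_iff_mem] at hs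
    obtain ⟨⟨⟨⟨hws, hv⟩, hh⟩, hy⟩, he⟩ := hs
    refine ih (s.y :: k) ?_ hrun
    have hgh : Good H s.h := ⟨hv, hinH _ hv hh⟩
    have hgy : Good H s.y := hL _ hy
    have hgw : ∀ w ∈ s.ws, Good H w := fun w hw => hL _ (hk w (hws w hw)).1
    have hgp := good_prodT hgw
    have hpT := el_prodT_mem hgw T fun w hw => (hk w (hws w hw)).2
    have he' : el H s.h * el H (prodT s.ws) = el H s.y * el H s.h := by
      rw [← el_mulT hgh hgp, ← el_mulT hgy hgh, he]
    have hye : el H s.h * el H (prodT s.ws) * (el H s.h)⁻¹ = el H s.y := by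
      rw [he']
      group
    intro t ht
    rcases List.mem_cons.1 ht with rfl | ht
    · refine ⟨hy, ?_⟩
      rw [← hye]
      apply hT.2 _ hpT
      rw [hye]
      exact hLS _ hy
    · exact hk t ht

/-! ### The central involution -/

/-- The check that `z` is the only central involution. -/
def centerCheck (gs L : List Tbl) (z : Tbl) : Bool :=
  L.all fun t => !(gs.all (fun g => mulT t g == mulT g t) && (mulT t t == idT)) || (t == idT) || (t == z)

theorem central_of_check {gs : List Tbl} {z : Tbl} (h : ∀ g ∈ gs, Good H g)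
    (hc : IsPc H gs) (hz : Good H z)
    (hcc : centerCheck gs (nfList gs) z = true) :
    ∀ x ∈ gen H gs, (∀ s ∈ gen H gs, x * s = s * x) → x * x = 1 → x = 1 ∨ x = el H z := by
  intro x hx hcomm hxx
  obtain ⟨t, ht, rfl⟩ := (mem_gen_iff h hc x).1 hx
  have hgt := (good_nfList h t ht).1
  have h1 := List.all_eq_true.1 hcc t ht
  simp only [Bool.or_eq_true, Bool.not_eq_true', Bool.and_eq_false_iff, beq_iff_eq] at h1
  have hA : gs.all (fun g => mulT t g == mulT g t) = true := by
    apply List.all_eq_true.2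
    intro g hg
    have hs : el H g ∈ gen H gs := Subgroup.subset_closure ⟨g, hg, rfl⟩
    have e := hcomm _ hs
    rw [← el_mulT hgt (h g hg), ← el_mulT (h g hg) hgt] at e
    have := el_inj (good_mulT hgt (h g hg)) (good_mulT (h g hg) hgt) e
    simpa using this
  have hB : (mulT t t == idT) = true := by
    rw [← el_mulT hgt hgt, ← el_idT (H := H)] at hxx
    have := el_inj (good_mulT hgt hgt) good_idT hxx
    simpa using this
  rcases h1 with (h1 | h1) | h1
  · rcases h1 with h1 | h1
    · rw [hA] at h1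
      cases h1
    · rw [hB] at h1
      cases h1
  · left
    rw [h1, el_idT]
  · right
    rw [h1]

/-! ### The Frattini subgroup -/

theorem frat_eq {pcgs phi : List Tbl} (hp : ∀ g ∈ pcgs, Good H g) (hφ : ∀ g ∈ phi, Good H g)
    (hc : IsPc H pcgs) (hcφ : IsPc H phi)
    (hS : IsPGroup 2 (gen H pcgs))
    (hsq : ∀ t ∈ nfList pcgs, mulT t t ∈ nfList phi)
    (hcert : ∀ g ∈ phi, ∃ ts : List Tbl, (∀ t ∈ ts, t ∈ nfList pcgs) ∧
      prodT (ts.map fun t => mulT t t) = g) :
    frat (gen H pcgs) = gen H phi := by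
  have : Fact (Nat.Prime 2) := ⟨Nat.prime_two⟩
  have hgL := good_nfList hp
  have hgΦ := good_nfList hφ
  -- squares
  have hsq' : ∀ x : gen H pcgs, (x ^ 2 : gen H pcgs) ∈ (gen H phi).subgroupOf (gen H pcgs) := by
    intro x
    obtain ⟨t, ht, hx⟩ := (mem_gen_iff hp hc x).1 x.2
    rw [Subgroup.mem_subgroupOf, mem_gen_iff hφ hcφ]
    refine ⟨mulT t t, hsq t ht, ?_⟩
    rw [el_mulT (hgL t ht).1 (hgL t ht).1, ← hx, pow_two]
    rfl
  apply le_antisymm
  · rw [Subgroup.map_le_iff_le_comap]
    show frattini (gen H pcgs) ≤ (gen H phi).subgroupOf (gen H pcgs)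
    rw [Cfsg.Agent.Lib.PGroup.Basic.frattini_le_iff hS]
    refine ⟨hsq', fun x y => ?_⟩
    have e : ⁅x, y⁆ = (x * y) ^ 2 * (y⁻¹ * x⁻¹ * y) ^ 2 * (y⁻¹) ^ 2 := by
      rw [commutatorElement_def]
      simp only [pow_two]
      group
    rw [e]
    exact Subgroup.mul_mem _ (Subgroup.mul_mem _ (hsq' _) (hsq' _)) (hsq' _)
  · unfold gen
    rw [Subgroup.closure_le]
    rintro _ ⟨g, hg, rfl⟩
    obtain ⟨ts, hts, rfl⟩ := hcert g hg
    have hgts : ∀ w ∈ ts.map (fun t => mulT t t), Good H w := by
      intro w hw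
      obtain ⟨t, ht, rfl⟩ := List.mem_map.1 hw
      exact good_mulT (hgL t (hts t ht)).1 (hgL t (hts t ht)).1
    apply el_prodT_mem hgts
    intro w hw
    obtain ⟨t, ht, rfl⟩ := List.mem_map.1 hw
    have hgt := (hgL t (hts t ht)).1
    rw [el_mulT hgt hgt]
    have hmem : el H t ∈ gen H pcgs := (good_nfList hp t (hts t ht)).2
    have h1 := Cfsg.Agent.Lib.PGroup.Basic.pow_mem_frattini hS (⟨el H t, hmem⟩ : gen H pcgs)
    refine ⟨_, h1, ?_⟩
    simp [pow_two]

/-! ### The weights -/

/-- The base of the weights. -/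
def bB : ℕ := 2000

/-- The orbit of a point under a subgroup of `H`. -/
def orb (S : Subgroup H) (q : GolayPt) : Set GolayPt := {p | ∃ x ∈ S, (x : Equiv.Perm GolayPt) q = p}

theorem ncard_orb_conj {S : Subgroup H} {a : H} (ha : a ∈ Subgroup.normalizer (S : Set H)) (q : GolayPt) :
    (orb S ((a : Equiv.Perm GolayPt) q)).ncard = (orb S q).ncard := by
  have h : orb S ((a : Equiv.Perm GolayPt) q) = (a : Equiv.Perm GolayPt) '' orb S q := by
    ext p
    constructor
    · rintro ⟨x, hx, rfl⟩
      refine ⟨((a⁻¹ * x * a : H) : Equiv.Perm GolayPt) q, ⟨a⁻¹ * x * a, ?_, rfl⟩, ?_⟩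
      · have := (Subgroup.mem_normalizer_iff.1 (Subgroup.inv_mem _ ha) x).1 hx
        simpa using this
      · simp
    · rintro ⟨_, ⟨x, hx, rfl⟩, rfl⟩
      refine ⟨a * x * a⁻¹, (Subgroup.mem_normalizer_iff.1 ha x).1 hx, ?_⟩
      simp
  rw [h, Set.ncard_image_of_injective _ (Equiv.injective _)]

/-- The class function used for the signatures. -/
noncomputable def wF (S : Subgroup H) (x : H) : ℕ :=
  ∑ q : GolayPt, bB ^ (orb S q).ncard *
    ((if (x : Equiv.Perm GolayPt) q = q then 1 else 0) +
      bB ^ 17 * (if (x : Equiv.Perm GolayPt) ((x : Equiv.Perm GolayPt) q) = q then 1 else 0))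

theorem wF_conj {S : Subgroup H} {a : H} (ha : a ∈ Subgroup.normalizer (S : Set H)) (u : H) :
    wF S (a * u * a⁻¹) = wF S u := by
  unfold wF
  rw [← Equiv.sum_comp (a : Equiv.Perm GolayPt)]
  refine Finset.sum_congr rfl fun q _ => ?_
  rw [ncard_orb_conj ha]
  congr 2
  · have e : ((a * u * a⁻¹ : H) : Equiv.Perm GolayPt) ((a : Equiv.Perm GolayPt) q) =
        (a : Equiv.Perm GolayPt) ((u : Equiv.Perm GolayPt) q) := by simp
    rw [e]
    simp only [EmbeddingLike.apply_eq_iff_eq]
  · congr 1
    have e : ((a * u * a⁻¹ : H) : Equiv.Perm GolayPt) (((a * u * a⁻¹ : H) : Equiv.Perm GolayPt) ((a : Equiv.Perm GolayPt) q)) =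
        (a : Equiv.Perm GolayPt) ((u : Equiv.Perm GolayPt) ((u : Equiv.Perm GolayPt) q)) := by simp
    rw [e]
    simp only [EmbeddingLike.apply_eq_iff_eq]

/-- The weight of a point of a table. -/
def fixVal (lv : List ℕ) (T : Tbl) (i : ℕ) : ℕ :=
  bB ^ (lv.getD i 0) * ((if T.getD i 0 = i then 1 else 0) +
    bB ^ 17 * (if T.getD (T.getD i 0) 0 = i then 1 else 0))

/-- The class function on tables. -/
def wT (lv : List ℕ) (T : Tbl) : ℕ := ((List.range 24).map (fixVal lv T)).sum

theorem sum_range_eq (f : ℕ → ℕ) (n : ℕ) : ((List.range n).map f).sum = ∑ i ∈ Finset.range n, f i := by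
  induction n with
  | zero => simp
  | succ n ih =>
    rw [List.range_succ, List.map_append, List.sum_append, ih, Finset.sum_range_succ]
    simp

theorem sum_golay (G' : GolayPt → ℕ) : ∑ q, G' q = ((List.range 24).map fun i => G' (pt i)).sum := by
  rw [sum_range_eq, ← Fin.sum_univ_eq_sum_range (fun i => G' (pt i)) 24]
  exact (Equiv.sum_comp idxEquiv.symm G').symm

/-- Duplicate-free version of a list. -/
def uniq : List ℕ → List ℕ → List ℕ
  | [], acc => acc
  | a :: l, acc => uniq l (if acc.contains a then acc else a :: acc)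

theorem uniq_spec : ∀ (l acc : List ℕ), acc.Nodup →
    (uniq l acc).Nodup ∧ ∀ x, x ∈ uniq l acc ↔ x ∈ l ∨ x ∈ acc := by
  intro l
  induction l with
  | nil =>
    intro acc h
    simpa [uniq] using h
  | cons a l ih =>
    intro acc h
    simp only [uniq]
    by_cases hm : a ∈ acc
    · have hc : acc.contains a = true := by simpa using hm
      rw [if_pos hc]
      obtain ⟨h1, h2⟩ := ih acc h
      refine ⟨h1, fun x => ?_⟩
      rw [h2, List.mem_cons]
      constructor
      · rintro (hx | hx)
        · exact Or.inl (Or.inr hx)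
        · exact Or.inr hx
      · rintro ((rfl | hx) | hx)
        · exact Or.inr hm
        · exact Or.inl hx
        · exact Or.inr hx
    · have hc : ¬ acc.contains a = true := by simpa using hm
      rw [if_neg hc]
      obtain ⟨h1, h2⟩ := ih (a :: acc) (List.nodup_cons.2 ⟨hm, h⟩)
      refine ⟨h1, fun x => ?_⟩
      rw [h2, List.mem_cons, List.mem_cons]
      tauto

/-- The check of the orbit lengths. -/
def lvCheck (L : List Tbl) (lv : List ℕ) : Bool :=
  (List.range 24).all fun i => lv.getD i 0 == (uniq (L.map fun t => t.getD i 0) []).length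

theorem τ_apply_pt {T : Tbl} (h : ValidTbl T) {i : ℕ} : τ T (pt i) = pt (idx (τ T (pt i))) :=
  (pt_idx _).symm

theorem ncard_orb_gen {gs : List Tbl} {lv : List ℕ} (h : ∀ g ∈ gs, Good H g)
    (hc : IsPc H gs) (hlv : lvCheck (nfList gs) lv = true) {i : ℕ} (hi : i < 24) :
    (orb (gen H gs) (pt i)).ncard = lv.getD i 0 := by
  classical
  have h1 := List.all_eq_true.1 hlv i (List.mem_range.2 hi)
  rw [beq_iff_eq] at h1
  obtain ⟨hu1, hu2⟩ := uniq_spec ((nfList gs).map fun t => t.getD i 0) [] List.nodup_nil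
  have h1' : (uniq ((nfList gs).map fun t => t.getD i 0) []).length =
      (((nfList gs).map fun t => t.getD i 0).toFinset).card := by
    rw [← List.toFinset_card_of_nodup hu1]
    congr 1
    ext x
    rw [List.mem_toFinset, List.mem_toFinset, hu2]
    simp only [List.not_mem_nil, or_false]
  rw [h1, h1']
  have hset : orb (gen H gs) (pt i) = pt '' ↑((nfList gs).map fun t => t.getD i 0).toFinset := by
    ext p
    constructor
    · rintro ⟨x, hx, rfl⟩
      obtain ⟨t, ht, rfl⟩ := (mem_gen_iff h hc x).1 hx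
      have hgt := (good_nfList h t ht).1
      refine ⟨t.getD i 0, ?_, ?_⟩
      · simp only [List.coe_toFinset, Set.mem_ofPred_eq, List.mem_map]
        exact ⟨t, ht, rfl⟩
      · rw [coe_el hgt]
        apply idx_injective
        rw [idx_τ hgt.valid, idx_pt hi, idx_pt (hgt.valid.2.2 _ (getD_mem_of_valid hgt.valid hi))]
    · rintro ⟨n, hn, rfl⟩
      simp only [List.coe_toFinset, Set.mem_ofPred_eq, List.mem_map] at hn
      obtain ⟨t, ht, rfl⟩ := hn
      have hgt := (good_nfList h t ht).1
      refine ⟨el H t, (mem_gen_iff h hc _).2 ⟨t, ht, rfl⟩, ?_⟩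
      rw [coe_el hgt]
      apply idx_injective
      rw [idx_τ hgt.valid, idx_pt hi, idx_pt (hgt.valid.2.2 _ (getD_mem_of_valid hgt.valid hi))]
  rw [hset, Set.ncard_image_of_injOn, Set.ncard_coe_finset]
  intro a ha b hb hab
  simp only [List.coe_toFinset, Set.mem_ofPred_eq, List.mem_map] at ha hb
  obtain ⟨t, ht, rfl⟩ := ha
  obtain ⟨t', ht', rfl⟩ := hb
  have hgt := (good_nfList h t ht).1
  have hgt' := (good_nfList h t' ht').1
  have := congrArg idx hab
  rwa [idx_pt (hgt.valid.2.2 _ (getD_mem_of_valid hgt.valid hi)),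
    idx_pt (hgt'.valid.2.2 _ (getD_mem_of_valid hgt'.valid hi))] at this

theorem wF_el {gs : List Tbl} {lv : List ℕ} (h : ∀ g ∈ gs, Good H g)
    (hc : IsPc H gs) (hlv : lvCheck (nfList gs) lv = true)
    {T : Tbl} (hT : Good H T) : wF (gen H gs) (el H T) = wT lv T := by
  unfold wF wT
  rw [sum_golay]
  congr 1
  apply List.map_congr_left
  intro i hi
  have hi24 := List.mem_range.1 hi
  rw [ncard_orb_gen h hc hlv hi24, coe_el hT]
  unfold fixVal
  have e1 : τ T (pt i) = pt i ↔ T.getD i 0 = i := by
    constructor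
    · intro e
      have := congrArg idx e
      rwa [idx_τ hT.valid, idx_pt hi24] at this
    · intro e
      apply idx_injective
      rw [idx_τ hT.valid, idx_pt hi24, e]
  have e2 : τ T (τ T (pt i)) = pt i ↔ T.getD (T.getD i 0) 0 = i := by
    constructor
    · intro e
      have := congrArg idx e
      rwa [idx_τ hT.valid, idx_τ hT.valid, idx_pt hi24] at this
    · intro e
      apply idx_injective
      rw [idx_τ hT.valid, idx_τ hT.valid, idx_pt hi24, e]
  simp only [e1, e2]

/-! ### Signatures -/

theorem finsum_subgroup (K : Subgroup H) (l : List H) (hl : l.Nodup) (hK : ∀ y, y ∈ K ↔ y ∈ l)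
    (g : H → ℕ) : ∑ᶠ f : K, g f = (l.map g).sum := by
  classical
  have hset : (K : Set H) = ↑l.toFinset := by
    ext y
    simp [hK]
  have h1 : ∑ᶠ f : K, g f = ∑ᶠ (y : H) (_ : y ∈ (K : Set H)), g y :=
    finsum_subtype_eq_finsum_cond (K : Set H)
  rw [h1, hset, finsum_mem_coe_finset, List.sum_toFinset _ hl]

theorem sig_mul_frat (S : Subgroup H) (W : H → ℕ) (x : H) {f₀ : H} (hf : f₀ ∈ frat S) :
    sig S W (x * f₀) = sig S W x := by
  have h := finsum_comp_equiv (Equiv.mulLeft (⟨f₀, hf⟩ : frat S)) (f := fun f : frat S => W (x * f))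
  unfold sig
  rw [← h]
  refine finsum_congr fun f => ?_
  simp [mul_assoc]

theorem sig_eq_sum (S : Subgroup H) (W : H → ℕ) (x : H) {l : List H} (hl : l.Nodup)
    (hK : ∀ y, y ∈ frat S ↔ y ∈ l) : sig S W x = (l.map fun f => W (x * f)).sum :=
  finsum_subgroup (frat S) l hl hK (fun f => W (x * f))

/-- The signature of a table. -/
def sigT (lv : List ℕ) (Lφ : List Tbl) (r : Tbl) : ℕ := (Lφ.map fun f => wT lv (mulT r f)).sum

theorem sig_el {pcgs phi : List Tbl} {lv : List ℕ} (hp : ∀ g ∈ pcgs, Good H g) (hφ : ∀ g ∈ phi, Good H g)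
    (hc : IsPc H pcgs) (hcφ : IsPc H phi)
    (hlv : lvCheck (nfList pcgs) lv = true)
    (hfrat : frat (gen H pcgs) = gen H phi) {r : Tbl} (hr : Good H r) :
    sig (gen H pcgs) (wF (gen H pcgs)) (el H r) = sigT lv (nfList phi) r := by
  have hgΦ := good_nfList hφ
  rw [sig_eq_sum (gen H pcgs) (wF (gen H pcgs)) (el H r) (l := (nfList phi).map (el H)) ?_ ?_]
  · unfold sigT
    rw [List.map_map]
    refine congrArg List.sum (List.map_congr_left ?_)
    intro f hf
    have hgf := (hgΦ f hf).1
    rw [Function.comp_apply, ← el_mulT hr hgf, wF_el hp hc hlv (good_mulT hr hgf)]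
  · refine hcφ.nd.map_on ?_
    intro a ha b hb hab
    exact el_inj (hgΦ a ha).1 (hgΦ b hb).1 hab
  · intro y
    rw [hfrat, mem_gen_iff hφ hcφ, List.mem_map]
    constructor
    · rintro ⟨t, ht, rfl⟩
      exact ⟨t, ht, rfl⟩
    · rintro ⟨t, ht, rfl⟩
      exact ⟨t, ht, rfl⟩

end El

/-! ### Certificates -/

/-- The data of a certificate. -/
structure Cert where
  tops : List Tbl
  phi : List Tbl
  L : List Tbl
  Lφ : List Tbl
  R : List Tbl
  z : Tbl
  steps : List Step
  squares : List (List Tbl)
  lv : List ℕ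
  pairs : List (Tbl × ℕ)
  rels : List PcRel

/-- The generating sequence. -/
def Cert.pcgs (c : Cert) : List Tbl := c.tops ++ c.phi

/-- The check that the chain reaches the generators. -/
def Cert.chainOK (c : Cert) (inH : Tbl → Bool) : Bool :=
  match runChain inH c.L c.steps [c.z] with
  | some k => c.pcgs.all k.contains
  | none => false

/-- The checks of a certificate. -/
structure Cert.OK (c : Cert) (inH : Tbl → Bool) : Prop where
  good : c.pcgs.all (fun g => decide (ValidTbl g) && inH g) = true
  goodz : (decide (ValidTbl c.z) && inH c.z) = true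
  eqL : c.L = nfList c.pcgs
  eqLφ : c.Lφ = nfList c.phi
  eqR : c.R = nfList c.tops
  pc : pcCheck c.pcgs c.rels = true
  zmem : c.L.contains c.z = true
  zne : (c.z == idT) = false
  cc : centerCheck c.pcgs c.L c.z = true
  chain : c.chainOK inH = true
  sq : c.L.all (fun t => c.Lφ.contains (mulT t t)) = true
  sqc : c.phi.all (fun g => c.squares.any fun ts =>
    ts.all c.L.contains && (prodT (ts.map fun t => mulT t t) == g)) = true
  lv : lvCheck c.L c.lv = true
  pairs : (c.pairs == c.R.map fun r => (r, sigT c.lv c.Lφ r)) = true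
  trip : c.pairs.all (fun a => c.pairs.all fun b => c.pairs.all fun d =>
    !((a.2 == b.2) && (a.2 == d.2)) || (a.1 == b.1) || (a.1 == d.1) || (b.1 == d.1)) = true

theorem Cert.isSimple {H : Subgroup (Equiv.Perm GolayPt)} (c : Cert) (inH : Tbl → Bool)
    (hinH : ∀ T, ValidTbl T → inH T = true → τ T ∈ H) (hOK : c.OK inH)
    (k m : ℕ) (hk : c.L.length = 2 ^ k) (hcard : Nat.card H = 2 ^ k * m) (hm : Odd m)
    (S : Sylow 2 H) : (groupFusionSystem (S : Subgroup H)).IsSimple 2 := by
  have : Fact (Nat.Prime 2) := ⟨Nat.prime_two⟩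
  have hp : ∀ g ∈ c.pcgs, Good H g := by
    intro g hg
    have h1 := List.all_eq_true.1 hOK.good g hg
    simp only [Bool.and_eq_true, decide_eq_true_eq] at h1
    exact ⟨h1.1, hinH g h1.1 h1.2⟩
  have hφ : ∀ g ∈ c.phi, Good H g := fun g hg => hp g (List.mem_append_right _ hg)
  have htops : ∀ g ∈ c.tops, Good H g := fun g hg => hp g (List.mem_append_left _ hg)
  have hgz : Good H c.z := by
    have h1 := hOK.goodz
    simp only [Bool.and_eq_true, decide_eq_true_eq] at h1
    exact ⟨h1.1, hinH _ h1.1 h1.2⟩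
  have hc : IsPc H c.pcgs := pcCheck_sound hp hOK.pc
  have hcφ : IsPc H c.phi := isPc_of_append hp hOK.pc
  have hgL := good_nfList hp
  have hgLφ := good_nfList hφ
  have hgR := good_nfList htops
  set S₀ : Subgroup H := gen H c.pcgs with hS₀
  have hcardS : Nat.card S₀ = 2 ^ k := by
    rw [hS₀, card_gen hp hc, ← hOK.eqL, hk]
  have hSp : IsPGroup 2 S₀ := IsPGroup.of_card hcardS
  have hfac : (Nat.card H).factorization 2 = k := by
    rw [hcard, Nat.factorization_mul (by positivity) (hm.pos.ne'), Finsupp.add_apply,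
      Nat.Prime.factorization_pow Nat.prime_two, Finsupp.single_eq_same,
      Nat.factorization_eq_zero_of_not_dvd (by
        intro h2
        exact (Nat.not_even_iff_odd.2 hm) (even_iff_two_dvd.2 h2)), add_zero]
  let T₀ : Sylow 2 H := Sylow.ofCard S₀ (by rw [hfac, hcardS])
  have hT₀ : (T₀ : Subgroup H) = S₀ := rfl
  have hfrat : frat S₀ = gen H c.phi := by
    refine frat_eq hp hφ hc hcφ hSp ?_ ?_
    · intro t ht
      have h1 := List.all_eq_true.1 hOK.sq t (hOK.eqL ▸ ht)
      rw [hOK.eqLφ] at h1
      simpa using h1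
    · intro g hg
      have h1 := List.all_eq_true.1 hOK.sqc g hg
      obtain ⟨ts, -, h2⟩ := List.any_eq_true.1 h1
      simp only [Bool.and_eq_true, List.all_eq_true, beq_iff_eq, List.contains_iff_mem] at h2
      exact ⟨ts, fun t ht => hOK.eqL ▸ h2.1 t ht, h2.2⟩
  refine GoodSylowCrit.isSimple_of_goodSylow T₀ S ?_
  rw [hT₀]
  have hlv : lvCheck (nfList c.pcgs) c.lv = true := hOK.eqL ▸ hOK.lv
  refine ⟨?_, ?_, ?_⟩
  · -- nontrivial
    intro hbot
    have hz : el H c.z ∈ S₀ := (mem_gen_iff hp hc _).2 ⟨c.z, by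
      have := hOK.zmem
      rw [hOK.eqL] at this
      simpa using this, rfl⟩
    rw [hbot, Subgroup.mem_bot, ← el_idT (H := H)] at hz
    have h1 := el_inj hgz good_idT hz
    have h2 := hOK.zne
    rw [h1] at h2
    simp at h2
  · -- closed subgroups
    intro T hT hcl
    have hzT := central_mem_of_closedIn hSp
      (central_of_check hp hc hgz (hOK.eqL ▸ hOK.cc)) hT hcl
    have hch := hOK.chain
    unfold Cert.chainOK at hch
    cases hrun : runChain inH c.L c.steps [c.z] with
    | none =>
      rw [hrun] at hch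
      cases hch
    | some k' =>
      rw [hrun] at hch
      have hLg : ∀ t ∈ c.L, Good H t := fun t ht => (hgL t (hOK.eqL ▸ ht)).1
      have hLS : ∀ t ∈ c.L, el H t ∈ S₀ := fun t ht => (hgL t (hOK.eqL ▸ ht)).2
      have hzL : c.z ∈ c.L := by simpa using hOK.zmem
      have hsound := runChain_sound hinH hLg hLS hcl c.steps [c.z] k' (by
        intro t ht
        rw [List.mem_singleton] at ht
        subst ht
        exact ⟨hzL, hzT⟩) hrun
      show gen H c.pcgs ≤ T
      unfold gen
      rw [Subgroup.closure_le]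
      rintro _ ⟨g, hg, rfl⟩
      have h1 := List.all_eq_true.1 hch g hg
      exact (hsound g (by simpa using h1)).2
  · -- inner automorphisms
    have hodd : ∀ (v : H) (m' : ℕ), Odd m' → v ^ m' = 1 →
        (∀ x ∈ (T₀ : Subgroup H), v * x * v⁻¹ ∈ (T₀ : Subgroup H)) →
        ∀ x ∈ (T₀ : Subgroup H), v * x * v⁻¹ = x := by
      intro v m' hm' hvm hv
      have hvN : v ∈ Subgroup.normalizer (S₀ : Set H) :=
        SimpleCriterion.mem_normalizer_of_conj_le hv
      refine conj_eq_of_sig (W := wF S₀) hSp ?_ hm' hvm ?_ hv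
      · -- at most two cosets per signature
        intro x hx y hy y' hy' hxy hxy'
        have hdecomp : ∀ a ∈ S₀, ∃ r ∈ c.R, ∃ f ∈ frat S₀, a = el H r * f := by
          intro a ha
          obtain ⟨t, ht, rfl⟩ := (mem_gen_iff hp hc a).1 ha
          obtain ⟨r, hr, f, hf, he⟩ := nfList_append htops hφ t ht
          refine ⟨r, hOK.eqR ▸ hr, el H f, ?_, he⟩
          rw [hfrat, mem_gen_iff hφ hcφ]
          exact ⟨f, hf, rfl⟩
        have hsigR : ∀ r ∈ c.R, sig S₀ (wF S₀) (el H r) = sigT c.lv c.Lφ r := by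
          intro r hr
          rw [hOK.eqLφ]
          exact sig_el hp hφ hc hcφ hlv hfrat (hgR r (hOK.eqR ▸ hr)).1
        obtain ⟨r₁, hr₁, f₁, hf₁, rfl⟩ := hdecomp x hx
        obtain ⟨r₂, hr₂, f₂, hf₂, rfl⟩ := hdecomp y hy
        obtain ⟨r₃, hr₃, f₃, hf₃, rfl⟩ := hdecomp y' hy'
        rw [sig_mul_frat _ _ _ hf₁, sig_mul_frat _ _ _ hf₂, hsigR _ hr₁, hsigR _ hr₂] at hxy
        rw [sig_mul_frat _ _ _ hf₁, sig_mul_frat _ _ _ hf₃, hsigR _ hr₁, hsigR _ hr₃] at hxy'
        have hpairs : ∀ r ∈ c.R, (r, sigT c.lv c.Lφ r) ∈ c.pairs := by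
          intro r hr
          have h1 := hOK.pairs
          rw [beq_iff_eq] at h1
          rw [h1]
          exact List.mem_map.2 ⟨r, hr, rfl⟩
        have h1 := List.all_eq_true.1 hOK.trip _ (hpairs r₁ hr₁)
        have h2 := List.all_eq_true.1 h1 _ (hpairs r₂ hr₂)
        have h3 := List.all_eq_true.1 h2 _ (hpairs r₃ hr₃)
        simp only [Bool.or_eq_true, Bool.not_eq_true', Bool.and_eq_false_iff, beq_iff_eq, beq_eq_false_iff_ne,
          ne_eq] at h3
        have hcases : r₁ = r₂ ∨ r₁ = r₃ ∨ r₂ = r₃ := by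
          rcases h3 with ((h3 | h3) | h3) | h3
          · rcases h3 with h3 | h3
            · exact absurd hxy h3
            · exact absurd hxy' h3
          · exact Or.inl h3
          · exact Or.inr (Or.inl h3)
          · exact Or.inr (Or.inr h3)
        rcases hcases with rfl | rfl | rfl
        · left
          have e : (el H r₁ * f₁)⁻¹ * (el H r₁ * f₂) = f₁⁻¹ * f₂ := by group
          rw [e]
          exact (frat S₀).mul_mem ((frat S₀).inv_mem hf₁) hf₂
        · right; left
          have e : (el H r₁ * f₁)⁻¹ * (el H r₁ * f₃) = f₁⁻¹ * f₃ := by group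
          rw [e]
          exact (frat S₀).mul_mem ((frat S₀).inv_mem hf₁) hf₃
        · right; right
          have e : (el H r₂ * f₂)⁻¹ * (el H r₂ * f₃) = f₂⁻¹ * f₃ := by group
          rw [e]
          exact (frat S₀).mul_mem ((frat S₀).inv_mem hf₂) hf₃
      · intro a ha u
        have haN : a ∈ Subgroup.normalizer (S₀ : Set H) :=
          (Subgroup.zpowers_le.2 hvN) ha
        exact wF_conj haN u
    exact inner_of_odd T₀ hodd

end Cfsg.Agent.Lib.Fusion.MathieuTbl
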