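import Mathlib
import Cfsg.Prelude.Def_Spor_Mathieu
import Cfsg.Agent.Lib.Sporadic.M24Basic
import Cfsg.Agent.Lib.Sporadic.M24Dodecad
import Cfsg.Agent.Lib.Fusion.MathieuTbl

/-!
# Membership tests for the Mathieu groups, and their orders
-/

set_option autoImplicit false

namespace Cfsg.Agent.Lib.Fusion.MathieuInH

open Cfsg Cfsg.Spor Cfsg.Agent.Lib.Sporadic.GolayCore Cfsg.Agent.Lib.Sporadic.M24Tbl
open Cfsg.Agent.Lib.Sporadic.M24Chain Cfsg.Agent.Lib.Fusion.MathieuTbl
open scoped Pointwise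

/-- Membership test for `M24`. -/
def inM24 (T : Tbl) : Bool := m24Check T
/-- Membership test for `M23`. -/
def inM23 (T : Tbl) : Bool := m24Check T && (T.getD 23 0 == 23)
/-- Membership test for `M22`. -/
def inM22 (T : Tbl) : Bool := m24Check T && (T.getD 23 0 == 23) && (T.getD 0 0 == 0)
/-- The mask of the dodecad of squares. -/
def dMask : ℕ := 2^0+2^1+2^2+2^3+2^4+2^6+2^8+2^9+2^12+2^13+2^16+2^18
/-- Membership test for `M12`. -/
def inM12 (T : Tbl) : Bool := m24Check T && (applyT T dMask == dMask)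
/-- Membership test for `M11`. -/
def inM11 (T : Tbl) : Bool := m24Check T && (applyT T dMask == dMask) && (T.getD 0 0 == 0)

theorem mem_M24_of {T : Tbl} (hv : ValidTbl T) (h : m24Check T = true) : τ T ∈ M24 := by
  rw [τ_of_valid hv]
  exact tblPerm_mem_M24 hv h

theorem τ_fix {T : Tbl} (hv : ValidTbl T) {b : ℕ} (hb : b < 24) (h : T.getD b 0 = b) :
    τ T (pt b) = pt b := by
  apply idx_injective
  rw [idx_τ hv, idx_pt hb, h]

theorem sound24 : ∀ T, ValidTbl T → inM24 T = true → τ T ∈ M24 := fun _ hv h => mem_M24_of hv h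

theorem sound23 : ∀ T, ValidTbl T → inM23 T = true → τ T ∈ M23 := by
  intro T hv h
  simp only [inM23, Bool.and_eq_true, beq_iff_eq] at h
  refine Subgroup.mem_inf.2 ⟨mem_M24_of hv h.1, MulAction.mem_stabilizer_iff.2 ?_⟩
  exact τ_fix hv (b := 23) (by norm_num) h.2

theorem sound22 : ∀ T, ValidTbl T → inM22 T = true → τ T ∈ M22 := by
  intro T hv h
  simp only [inM22, Bool.and_eq_true, beq_iff_eq] at h
  refine Subgroup.mem_inf.2 ⟨Subgroup.mem_inf.2 ⟨mem_M24_of hv h.1.1, MulAction.mem_stabilizer_iff.2 ?_⟩,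
    MulAction.mem_stabilizer_iff.2 ?_⟩
  · exact τ_fix hv (b := 23) (by norm_num) h.1.2
  · exact τ_fix hv (b := 0) (by norm_num) h.2

theorem squareDodecad_eq : squareDodecad = ofMask dMask := by
  decide +kernel

theorem τ_smul_dodecad {T : Tbl} (hv : ValidTbl T) (h : applyT T dMask = dMask) :
    τ T • squareDodecad = squareDodecad := by
  rw [τ_of_valid hv, squareDodecad_eq, ← ofMask_applyT hv, h]

theorem sound12 : ∀ T, ValidTbl T → inM12 T = true → τ T ∈ M12 := by
  intro T hv h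
  simp only [inM12, Bool.and_eq_true, beq_iff_eq] at h
  exact Subgroup.mem_inf.2 ⟨mem_M24_of hv h.1, MulAction.mem_stabilizer_iff.2 (τ_smul_dodecad hv h.2)⟩

theorem sound11 : ∀ T, ValidTbl T → inM11 T = true → τ T ∈ M11 := by
  intro T hv h
  simp only [inM11, Bool.and_eq_true, beq_iff_eq] at h
  refine Subgroup.mem_inf.2 ⟨Subgroup.mem_inf.2 ⟨mem_M24_of hv h.1.1,
    MulAction.mem_stabilizer_iff.2 (τ_smul_dodecad hv h.1.2)⟩, MulAction.mem_stabilizer_iff.2 ?_⟩
  exact τ_fix hv (b := 0) (by norm_num) h.2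

/-! ### Orders -/

theorem card_M24' : Nat.card M24 = 2 ^ 10 * 239085 := by
  rw [Cfsg.Agent.Lib.Sporadic.M24Basic.card_M24]
  norm_num

theorem M23_eq : M23 = fixG [23] := by
  ext g
  rw [mem_fixG]
  simp only [M23, Subgroup.mem_inf, MulAction.mem_stabilizer_iff, List.mem_singleton, forall_eq]
  rfl

theorem M22_eq : M22 = fixG [0, 23] := by
  ext g
  rw [mem_fixG]
  simp only [M22, M23, Subgroup.mem_inf, MulAction.mem_stabilizer_iff, List.mem_cons, List.not_mem_nil,
    forall_eq_or_imp, or_false, forall_eq]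
  have e0 : (pt 0 : GolayPt) = some 0 := by decide
  have e23 : (pt 23 : GolayPt) = none := by decide
  rw [e0, e23, Equiv.Perm.smul_def, Equiv.Perm.smul_def]
  tauto

theorem card_M23' : Nat.card M23 = 2 ^ 7 * 79695 := by
  rw [M23_eq, Cfsg.Agent.Lib.Sporadic.M24Basic.card_fixG_1]
  norm_num

theorem card_M22' : Nat.card M22 = 2 ^ 7 * 3465 := by
  rw [M22_eq, Cfsg.Agent.Lib.Sporadic.M24Basic.card_fixG_2]
  norm_num

theorem squareDodecad_mem : squareDodecad ∈ dodecads := by
  refine ⟨⟨qrWord 0, Submodule.subset_span (Or.inl ⟨0, rfl⟩), rfl⟩, ?_⟩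
  decide +kernel

theorem card_M12' : Nat.card M12 = 2 ^ 6 * 1485 := by
  have h := Cfsg.Agent.Lib.Sporadic.M24Dodecad.card_stab_dodecad squareDodecad_mem
  have h2 : Nat.card M12 = Nat.card (MulAction.stabilizer M24 squareDodecad) := by
    refine Nat.card_congr
      { toFun := fun g => ⟨⟨g.1, (Subgroup.mem_inf.1 g.2).1⟩, MulAction.mem_stabilizer_iff.2 ?_⟩
        invFun := fun g => ⟨g.1.1, Subgroup.mem_inf.2 ⟨g.1.2, MulAction.mem_stabilizer_iff.2 ?_⟩⟩
        left_inv := fun g => rfl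
        right_inv := fun g => rfl }
    · exact MulAction.mem_stabilizer_iff.1 (Subgroup.mem_inf.1 g.2).2
    · exact MulAction.mem_stabilizer_iff.1 g.2
  rw [h2, h]
  norm_num

theorem some0_mem : (some 0 : GolayPt) ∈ squareDodecad := by
  decide +kernel

theorem card_M11' : Nat.card M11 = 2 ^ 4 * 495 := by
  have h := Cfsg.Agent.Lib.Sporadic.M24Dodecad.card_stab_dodecad_point squareDodecad_mem some0_mem
  have h2 : Nat.card M11 =
      Nat.card ↥(MulAction.stabilizer M24 squareDodecad ⊓ MulAction.stabilizer M24 (some 0 : GolayPt)) := by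
    refine Nat.card_congr
      { toFun := fun g => ⟨⟨g.1, (Subgroup.mem_inf.1 (Subgroup.mem_inf.1 g.2).1).1⟩,
          Subgroup.mem_inf.2 ⟨MulAction.mem_stabilizer_iff.2 ?_, MulAction.mem_stabilizer_iff.2 ?_⟩⟩
        invFun := fun g => ⟨g.1.1, Subgroup.mem_inf.2 ⟨Subgroup.mem_inf.2 ⟨g.1.2,
          MulAction.mem_stabilizer_iff.2 ?_⟩, MulAction.mem_stabilizer_iff.2 ?_⟩⟩
        left_inv := fun g => rfl
        right_inv := fun g => rfl }
    · exact MulAction.mem_stabilizer_iff.1 (Subgroup.mem_inf.1 (Subgroup.mem_inf.1 g.2).1).2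
    · exact MulAction.mem_stabilizer_iff.1 (Subgroup.mem_inf.1 g.2).2
    · exact MulAction.mem_stabilizer_iff.1 (Subgroup.mem_inf.1 g.2).1
    · exact MulAction.mem_stabilizer_iff.1 (Subgroup.mem_inf.1 g.2).2
  rw [h2, h]
  norm_num

end Cfsg.Agent.Lib.Fusion.MathieuInH
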