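/-
Radical subgroups are permuted by the maps of a fusion system.
-/
import Mathlib
import Cfsg.Prelude.Def_FusionSystem
import Cfsg.Agent.Lib.Fusion.Basic
import Cfsg.Agent.Lib.Fusion.Saturated
import Cfsg.Agent.Lib.Transfer.SectionBasic

set_option autoImplicit false
set_option linter.style.haveILetI false

namespace Cfsg.Agent.Lib.Fusion.RadicalConj

open Cfsg Cfsg.FusionSystem Cfsg.Agent.Lib.Fusion.Basic Cfsg.Agent.Lib.Fusion.Saturated

variable {Ω : Type*} [Group Ω] {S : Subgroup Ω} {F : FusionSystem S}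

theorem map_congr_inn {P Q : Type*} [Group P] [Group Q] (e : P ≃* Q) :
    (Inn P).map (MulAut.congr e).toMonoidHom = Inn Q := by
  apply le_antisymm
  · rintro _ ⟨_, ⟨y, rfl⟩, rfl⟩
    refine ⟨e y, ?_⟩
    ext z
    simp [MulAut.congr_apply]
  · rintro _ ⟨y, rfl⟩
    refine ⟨MulAut.conj (e.symm y), ⟨e.symm y, rfl⟩, ?_⟩
    ext z
    simp [MulAut.congr_apply]

/-- The image of a radical subgroup under a map of the system is radical. -/
theorem isRadical_of_conj [Finite S] {p : ℕ} [Fact p.Prime] {P Q : Subgroup Ω} {φ : P →* Ω} (hφ : φ ∈ F.Hom P)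
    (hr : φ.range = Q) (hR : F.IsRadical p P) : F.IsRadical p Q := by
  have hQS : Q ≤ S := hr ▸ range_le hφ
  refine ⟨hQS, ?_⟩
  let e : P ≃* Q := isoOfRange (F.injective_of_mem hφ) hr
  let c : MulAut P ≃* MulAut Q := MulAut.congr e
  have hmap : (F.autGroup P).map c.toMonoidHom = F.autGroup Q := map_congr_autGroup hφ e (fun _ => rfl)
  let E : F.autGroup P ≃* F.autGroup Q := (c.subgroupMap (F.autGroup P)).trans (MulEquiv.subgroupCongr hmap)
  have hE : ∀ a : F.autGroup P, ((E a : F.autGroup Q) : MulAut Q) = c a := fun _ => rfl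
  haveI : Finite (F.autGroup P) := finite_autGroup hR.1
  haveI : Finite (F.autGroup Q) := finite_autGroup hQS
  have h1 := Cfsg.Agent.Lib.Transfer.SectionBasic.map_pCore_equiv (p := p) E
  rw [← h1, ← map_congr_inn e, ← hR.2, Subgroup.map_map, Subgroup.map_map]
  rfl

end Cfsg.Agent.Lib.Fusion.RadicalConj
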