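/-
Subsystems of `p`-power index: uniqueness, and the fusion system of `O^p(G)`.
-/
import Mathlib
import Cfsg.Prelude.Def_FusionComponents
import Cfsg.Agent.Lib.Fusion.Basic
import Cfsg.Agent.Lib.Fusion.Saturated
import Cfsg.Agent.Lib.Fusion.Alperin
import Cfsg.Agent.Lib.Fusion.Focal
import Cfsg.Agent.Lib.Fusion.Hyperfocal
import Cfsg.Agent.Lib.Fusion.HyperfocalThm
import Cfsg.Agent.Lib.Fusion.Transport
import Cfsg.Agent.Lib.Fusion.GroupNormal
import Cfsg.Agent.Lib.Fusion.GroupSylow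

set_option autoImplicit false

namespace Cfsg.Agent.Lib.Fusion.PPowerIndex

open Cfsg Cfsg.FusionSystem Cfsg.Agent.Lib.Fusion.Basic Cfsg.Agent.Lib.Fusion.Saturated
open Cfsg.Agent.Lib.Fusion.Focal Cfsg.Agent.Lib.Fusion.HyperfocalThm

variable {Ω : Type*} [Group Ω] {S : Subgroup Ω} {F : FusionSystem S}

/-- An element of `O^p(Aut_E(Q))` lies in `O^p(Aut_F(Q))`, for `E ≤ F`. -/
theorem residual_mem_of_le {T : Subgroup Ω} {E : FusionSystem T} {p : ℕ} (hEF : E.IsSubsystemOf F)
    {Q : Subgroup Ω} (hQ : Q ≤ T) (hQS : Q ≤ S) {r : E.autGroup Q}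
    (hr : r ∈ pResidual p (E.autGroup Q)) :
    ∃ h : (r : MulAut Q) ∈ F.autGroup Q, (⟨r, h⟩ : F.autGroup Q) ∈ pResidual p (F.autGroup Q) := by
  have hle : ∀ a ∈ E.autGroup Q, a ∈ F.autGroup Q := by
    intro a ha
    exact mem_autGroup_of_mem (hEF Q (autGroup_mem_hom hQ ha))
  refine ⟨hle r r.2, ?_⟩
  induction hr using Subgroup.closure_induction with
  | mem a ha =>
    apply Subgroup.subset_closure
    show Nat.Coprime _ p
    rw [← Subgroup.orderOf_coe]
    have : Nat.Coprime (orderOf a) p := ha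
    rwa [← Subgroup.orderOf_coe] at this
  | one => exact Subgroup.one_mem _
  | mul a b _ _ ha hb => exact Subgroup.mul_mem _ ha hb
  | inv a _ ha => exact Subgroup.inv_mem _ ha

/-- Comparison of subsystems: a saturated subsystem `E` of `F` over `T` is contained in every
fusion system over `T` whose automorphism groups contain `O^p(Aut_F(P))`. -/
theorem hom_subset_of_residual_le {T T₁ : Subgroup Ω} (hTT : T = T₁) [Finite T] {p : ℕ} [Fact p.Prime]
    (hTp : IsPGroup p T) {E : FusionSystem T} {E₁ : FusionSystem T₁} (hE : E.IsSaturated p)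
    (hEF : E.IsSubsystemOf F) (hTS : T ≤ S)
    (hE₁ : ∀ P : Subgroup Ω, P ≤ T₁ → (pResidual p (F.autGroup P)).map (F.autGroup P).subtype ≤
      E₁.autGroup P) : ∀ P : Subgroup Ω, E.Hom P ⊆ E₁.Hom P := by
  subst hTT
  refine Alperin.le_of_autGroup_le hTp hE ?_
  intro Q hQa hQr α hα
  have hQT : Q ≤ T := hQa.1
  haveI : Finite Q := finite_of_le hQT
  haveI : Finite (MulAut Q) := Finite.of_injective (fun α : MulAut Q => (α : Q → Q))
    (fun a b h => MulEquiv.ext (congrFun h))
  obtain ⟨-, R, hR⟩ := hQa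
  obtain ⟨τ, hτ, r, hr, he⟩ := exists_sylow_mul_residual R ⟨α, hα⟩
  have hτS : (τ : MulAut Q) ∈ autInducedBy T Q := by
    rw [hR] at hτ
    exact hτ
  have h1 : (τ : MulAut Q) ∈ E₁.autGroup Q := autInducedBy_le_autGroup hQT hτS
  obtain ⟨h2, h3⟩ := residual_mem_of_le hEF hQT (hQT.trans hTS) hr
  have h4 : (r : MulAut Q) ∈ E₁.autGroup Q := hE₁ Q hQT ⟨⟨r, h2⟩, h3, rfl⟩
  have h5 : α = (τ : MulAut Q) * (r : MulAut Q) := congrArg Subtype.val he
  rw [h5]
  exact Subgroup.mul_mem _ h1 h4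

section Group

variable {G : Type*} [Group G] [Finite G] {p : ℕ} [Fact p.Prime]

/-- `O^p(Aut_G(P)) ≤ Aut_{O^p(G)}(P)`. -/
theorem residual_le_autGroup (S : Sylow p G) {T : Subgroup G} (hT : T ≤ pResidual p G) {P : Subgroup G}
    (hP : P ≤ T) (hTS : T ≤ (S : Subgroup G)) :
    (pResidual p ((groupFusionSystem (S : Subgroup G)).autGroup P)).map
      ((groupFusionSystem (S : Subgroup G)).autGroup P).subtype ≤
    (fusionSystemOfSubgroup (pResidual p G) T hT).autGroup P := by
  rintro _ ⟨α, hα, rfl⟩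
  show (α : MulAut P) ∈ _
  induction hα using Subgroup.closure_induction with
  | mem a ha =>
    have h1 := autGroup_mem_hom (hP.trans hTS) a.2
    obtain ⟨-, -, g, hg⟩ := h1
    have hα' : (orderOf (a : MulAut P)).Coprime p := by
      have : Nat.Coprime (orderOf a) p := ha
      rwa [← Subgroup.orderOf_coe] at this
    obtain ⟨h, hh, hhc⟩ := exists_coprime_conj (a : MulAut P) hα' (g := g) hg
    apply mem_autGroup_of_mem
    exact ⟨hP, fun x => hP ((a : MulAut P) x).2, h, Subgroup.subset_closure hh, hhc⟩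
  | one => exact Subgroup.one_mem _
  | mul a b _ _ ha hb => exact Subgroup.mul_mem _ ha hb
  | inv a _ ha => exact Subgroup.inv_mem _ ha

/-- The `p`-residual subsystem of the fusion system of `G`. -/
theorem hom_eq_of_isPResidual (S : Sylow p G)
    (E : FusionSystem ((groupFusionSystem (S : Subgroup G)).hyperfocalSubgroup p))
    (hE : (groupFusionSystem (S : Subgroup G)).IsPResidual p E)
    (h : (S : Subgroup G) ⊓ pResidual p G ≤ pResidual p G) (P : Subgroup G) :
    E.Hom P = (fusionSystemOfSubgroup (pResidual p G) ((S : Subgroup G) ⊓ pResidual p G) h).Hom P := by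
  have hyp := hyperfocal_eq S
  set T := (S : Subgroup G) ⊓ pResidual p G with hTdef
  have hTS : T ≤ (S : Subgroup G) := inf_le_left
  set E₀ := fusionSystemOfSubgroup (pResidual p G) T h with hE₀
  have hsyl : Cfsg.Agent.Lib.Fusion.GroupSylow.IsSylowIn p T (pResidual p G) :=
    Cfsg.Agent.Lib.Fusion.GroupNormal.isSylowIn_inf S _
  have hE₀s : E₀.IsSaturated p :=
    Cfsg.Agent.Lib.Fusion.Transport.isSaturated_fusionSystemOfSubgroup _ T h hsyl
  have hTp : IsPGroup p T := hsyl.isPGroup h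
  have hE₀F : E₀.IsSubsystemOf (groupFusionSystem (S : Subgroup G)) := by
    rintro Q φ ⟨hQ, hv, g, -, hg⟩
    exact ⟨hQ.trans hTS, fun x => hTS (hv x), g, hg⟩
  have hHp : IsPGroup p ((groupFusionSystem (S : Subgroup G)).hyperfocalSubgroup p) := by
    rw [hyp]
    exact hTp
  apply Set.Subset.antisymm
  · exact hom_subset_of_residual_le hyp hHp hE.1 hE.2.1 Cfsg.Agent.Lib.Fusion.Hyperfocal.hyperfocal_le_S
      (fun Q hQ => residual_le_autGroup S h hQ hTS) P
  · exact hom_subset_of_residual_le hyp.symm hTp hE₀s hE₀F hTS hE.2.2.2 P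

end Group

end Cfsg.Agent.Lib.Fusion.PPowerIndex
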