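/-
The BCGLO saturation criterion, part 1: class-level saturation, pair maps, the relations
`Arrow` and `Join` on subgroups, and the principle deducing properties of all isomorphisms
between members of a conjugacy class outside the generating family from single steps.
-/
import Mathlib
import Cfsg.Prelude.Def_FusionSystem
import Cfsg.Agent.Lib.Fusion.Basic
import Cfsg.Agent.Lib.Fusion.Saturated
import Cfsg.Agent.Lib.Fusion.Saturated2

set_option autoImplicit false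

namespace Cfsg.Agent.Lib.Fusion.SatCrit

open Cfsg Cfsg.FusionSystem Cfsg.Agent.Lib.Fusion.Basic Cfsg.Agent.Lib.Fusion.Saturated
  Cfsg.Agent.Lib.Fusion.Saturated2

variable {Ω : Type*} [Group Ω] {S : Subgroup Ω} {F : FusionSystem S}

/-! ### Images of subgroups under maps -/

/-- Composition of maps carrying subgroups to subgroups. -/
theorem map_comp_eq {A A' R R' R'' : Subgroup Ω} {g : A →* Ω} {g' : A' →* Ω}
    (hv : ∀ x, g x ∈ A') (h₁ : (R.subgroupOf A).map g = R')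
    (h₂ : (R'.subgroupOf A').map g' = R'') {χ : A →* Ω} (hχ : ∀ x, χ x = g' ⟨g x, hv x⟩) :
    (R.subgroupOf A).map χ = R'' := by
  ext y
  constructor
  · rintro ⟨x, hx, rfl⟩
    rw [hχ, ← h₂]
    refine ⟨⟨g x, hv x⟩, ?_, rfl⟩
    show g x ∈ R'
    rw [← h₁]
    exact ⟨x, hx, rfl⟩
  · intro hy
    rw [← h₂] at hy
    obtain ⟨z, hz, rfl⟩ := hy
    have hz' : (z : Ω) ∈ (R.subgroupOf A).map g := by
      rw [h₁]
      exact hz
    obtain ⟨x, hx, hxz⟩ := hz'
    refine ⟨x, hx, ?_⟩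
    rw [hχ]
    congr 1
    exact Subtype.ext hxz

/-- The inverse of a map carrying `R` to `R'` carries `R'` to `R`. -/
theorem map_inv_eq {A R R' : Subgroup Ω} {g : A →* Ω} (hg : Function.Injective g) (hRA : R ≤ A)
    (h₁ : (R.subgroupOf A).map g = R') {ψ : g.range →* Ω}
    (hψ : ∀ x : A, ψ ⟨g x, ⟨x, rfl⟩⟩ = x) : (R'.subgroupOf g.range).map ψ = R := by
  ext y
  constructor
  · rintro ⟨⟨z, x, rfl⟩, hz, rfl⟩
    have hz' : g x ∈ R' := hz
    rw [← h₁] at hz'
    obtain ⟨x', hx', e⟩ := hz'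
    have : x' = x := hg e
    subst this
    rw [hψ]
    exact hx'
  · intro hy
    refine ⟨⟨g ⟨y, hRA hy⟩, ⟨⟨y, hRA hy⟩, rfl⟩⟩, ?_, hψ ⟨y, hRA hy⟩⟩
    show g ⟨y, hRA hy⟩ ∈ R'
    rw [← h₁]
    exact ⟨⟨y, hRA hy⟩, hy, rfl⟩

/-- A map agreeing with `g` on a subgroup of the source carries the same image. -/
theorem map_res_eq {A A' R R' : Subgroup Ω} {g : A →* Ω} {g' : A' →* Ω} (hRA : R ≤ A) (hRA' : R ≤ A')
    (h : ∀ (x : Ω) (hx : x ∈ R), g ⟨x, hRA hx⟩ = g' ⟨x, hRA' hx⟩)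
    (h₁ : (R.subgroupOf A).map g = R') : (R.subgroupOf A').map g' = R' := by
  rw [← h₁]
  ext y
  constructor
  · rintro ⟨x, hx, rfl⟩
    refine ⟨⟨x, hRA hx⟩, hx, ?_⟩
    exact h x hx
  · rintro ⟨x, hx, rfl⟩
    refine ⟨⟨x, hRA' hx⟩, hx, ?_⟩
    exact (h x hx).symm

/-- The image of a subgroup has the same order. -/
theorem card_map_eq {A R R' : Subgroup Ω} {g : A →* Ω} (hg : Function.Injective g) (hRA : R ≤ A)
    (h₁ : (R.subgroupOf A).map g = R') : Nat.card R' = Nat.card R := by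
  subst h₁
  rw [Subgroup.card_map_of_injective hg]
  exact Nat.card_congr (Subgroup.subgroupOfEquivOfLe hRA).toEquiv

/-- The image of `R` under a map on `A ≥ R` is conjugate to `R`. -/
theorem isConj_of_map {A R R' : Subgroup Ω} {g : A →* Ω} (hg : g ∈ F.Hom A) (hRA : R ≤ A)
    (h₁ : (R.subgroupOf A).map g = R') : F.IsConj R R' := by
  refine ⟨g.comp (Subgroup.inclusion hRA), res_mem hg hRA, ?_⟩
  rw [← h₁]
  ext y
  constructor
  · rintro ⟨x, rfl⟩
    exact ⟨Subgroup.inclusion hRA x, x.2, rfl⟩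
  · rintro ⟨x, hx, rfl⟩
    exact ⟨⟨x, hx⟩, rfl⟩

/-! ### Class-level saturation -/

/-- The conjugacy class of `T` contains a fully automized receptive member. -/
def ClassSat (F : FusionSystem S) (p : ℕ) (T : Subgroup Ω) : Prop :=
  ∃ Q, F.IsConj T Q ∧ F.IsFullyAutomized p Q ∧ F.IsReceptive Q

section Level

variable [Finite S] {p : ℕ} [Fact p.Prime]

/-- A fully normalized member of a saturated class is fully automized and receptive. -/
theorem fn_of_classSat (hS : IsPGroup p S) {T : Subgroup Ω} (hc : ClassSat F p T)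
    (hT : F.IsFullyNormalized T) : F.IsFullyAutomized p T ∧ F.IsReceptive T := by
  obtain ⟨Q, hTQ, hQa, hQr⟩ := hc
  obtain ⟨ψ, hψ, hψv, hψm⟩ := exists_map_normalizerIn hS hQa hQr hTQ
  have : Finite (normalizerIn S Q) := finite_of_le normalizerIn_le
  have hrange : ψ.range = normalizerIn S Q := range_eq_of_card hψ hψv (hT.2 Q hTQ)
  refine ⟨isFullyAutomized_of_normalizer_map hS hQa hT.1 hψ hrange hψm, hT.1, ?_⟩
  intro U φ hφ hφr
  have hTN : T ≤ normalizerIn S T := le_normalizerIn hT.1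
  have hφT : ∀ x : U, φ x ∈ T := fun x => by rw [← hφr]; exact ⟨x, rfl⟩
  have hφN : ∀ x : U, φ x ∈ normalizerIn S T := fun x => hTN (hφT x)
  let φ₁ : U →* Ω := ψ.comp (φ.codRestrict _ hφN)
  have hφ₁ : φ₁ ∈ F.Hom U := F.comp_mem hφ hψ hφN
  have hφ₁v : ∀ x : U, φ₁ x = ψ ⟨φ x, hφN x⟩ := fun _ => rfl
  have hφ₁r : φ₁.range = Q := by
    rw [← hψm]
    ext y
    constructor
    · rintro ⟨x, rfl⟩
      exact ⟨⟨φ x, hφN x⟩, hφT x, rfl⟩
    · rintro ⟨z, hz, rfl⟩
      have hz' : (z : Ω) ∈ φ.range := by rw [hφr]; exact hz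
      obtain ⟨x, hx⟩ := hz'
      refine ⟨x, ?_⟩
      rw [hφ₁v]
      congr 1
      exact Subtype.ext hx
  obtain ⟨ξ, hξ, hag⟩ := hQr.2 U φ₁ hφ₁ hφ₁r
  have hUS : U ≤ S := source_le hφ
  have hle : extender S U φ ≤ extender S U φ₁ := by
    intro g hg
    obtain ⟨h, hh, hgh⟩ := exists_of_mem_extender hg
    have hgN : g ∈ Subgroup.normalizer (U : Set Ω) :=
      (extender_le_normalizerIn hg).2
    have hhN : h ∈ normalizerIn S T := ⟨hh, mem_normalizer_of_extender hφr hgN hgh⟩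
    refine extender_closure_mem (extender_le_normalizerIn hg).1 hgN (map_mem_S hψ ⟨h, hhN⟩)
      (fun x hx => ?_)
    obtain ⟨hx', e⟩ := hgh x
    rw [hφ₁v, hφ₁v]
    have e2 : (⟨φ ⟨g * x * g⁻¹, hx⟩, hφN _⟩ : normalizerIn S T) =
        ⟨h, hhN⟩ * ⟨φ x, hφN x⟩ * ⟨h, hhN⟩⁻¹ := Subtype.ext e
    rw [e2]
    simp only [map_mul, map_inv, Subgroup.coe_mul, Subgroup.coe_inv]
  -- values of the restriction of `ξ` normalize `Q`
  have hξN : ∀ g : extender S U φ, ξ ⟨g, hle g.2⟩ ∈ normalizerIn S Q := by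
    intro g
    have hUE : U ≤ extender S U φ₁ := le_extender hUS (map_mem_S hφ₁)
    have hm : (U.subgroupOf (extender S U φ₁)).map ξ = Q :=
      map_subgroupOf_of_agree hUE hφ₁r (fun x hx hx' => hag x hx hx')
    exact ⟨map_mem_S hξ _, map_mem_normalizer hm _ (extender_le_normalizerIn (hle g.2)).2⟩
  obtain ⟨θ, hθ, -, hθ1, hθ2⟩ := exists_inv hψ hrange
  refine ⟨θ.comp ((ξ.comp (Subgroup.inclusion hle)).codRestrict _ hξN), ?_, ?_⟩
  · exact F.comp_mem (res_mem hξ hle) hθ hξN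
  · intro x hU hE
    show θ ⟨ξ ⟨x, hle hE⟩, hξN ⟨x, hE⟩⟩ = φ ⟨x, hU⟩
    have e1 : ξ ⟨x, hle hE⟩ = ψ ⟨φ ⟨x, hU⟩, hφN _⟩ := by
      rw [hag x hU (hle hE), hφ₁v]
    have e2 : (⟨ξ ⟨x, hle hE⟩, hξN ⟨x, hE⟩⟩ : normalizerIn S Q) =
        ⟨ψ ⟨φ ⟨x, hU⟩, hφN _⟩, hψv _⟩ := Subtype.ext e1
    rw [e2]
    exact hθ1 _ _

end Level

/-! ### The relations `Arrow` and `Join` -/

/-- `R → R'`: a map of the system from `N_S(R)` to `N_S(R')` carrying `R` onto `R'`. -/
def Arrow (F : FusionSystem S) (R R' : Subgroup Ω) : Prop :=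
  ∃ g ∈ F.Hom (normalizerIn S R), (∀ x, g x ∈ normalizerIn S R') ∧
    (R.subgroupOf (normalizerIn S R)).map g = R'

/-- `R` and `R'` have arrows to a common subgroup. -/
def Join (F : FusionSystem S) (R R' : Subgroup Ω) : Prop :=
  ∃ W, Arrow F R W ∧ Arrow F R' W

theorem Arrow.of_map {R R' : Subgroup Ω} {g : normalizerIn S R →* Ω}
    (hg : g ∈ F.Hom (normalizerIn S R)) (hm : (R.subgroupOf (normalizerIn S R)).map g = R') :
    Arrow F R R' :=
  ⟨g, hg, fun x => ⟨map_mem_S hg x, map_mem_normalizer hm x x.2.2⟩, hm⟩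

theorem Arrow.refl {R : Subgroup Ω} (hR : R ≤ S) : Arrow F R R := by
  refine Arrow.of_map (subtype_mem normalizerIn_le) ?_
  ext y
  constructor
  · rintro ⟨x, hx, rfl⟩
    exact hx
  · intro hy
    exact ⟨⟨y, le_normalizerIn hR hy⟩, hy, rfl⟩

theorem Arrow.trans {R R' R'' : Subgroup Ω} (h₁ : Arrow F R R')
    (h₂ : Arrow F R' R'') : Arrow F R R'' := by
  obtain ⟨g, hg, hgv, hgm⟩ := h₁
  obtain ⟨g', hg', hgv', hgm'⟩ := h₂
  refine ⟨g'.comp (g.codRestrict _ hgv), F.comp_mem hg hg' hgv, fun x => hgv' _, ?_⟩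
  exact map_comp_eq hgv hgm hgm' (fun _ => rfl)

theorem Join.symm {R R' : Subgroup Ω} (h : Join F R R') : Join F R' R := by
  obtain ⟨W, h₁, h₂⟩ := h
  exact ⟨W, h₂, h₁⟩

/-! ### The chain principle -/

section Chain

variable [Finite S] {p : ℕ} [Fact p.Prime]

/-- Properties of maps with source in a class `Cl` outside the generating family `ℋ` can be checked
on single steps: restrictions of maps with source properly containing (and normalizing) the source. -/
theorem chain_principle (hS : IsPGroup p S) (ℋ : Set (Subgroup Ω))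
    (hgen : ∀ E : FusionSystem S, (∀ P ∈ ℋ, F.Hom P ⊆ E.Hom P) → F ≤ E)
    (Cl : Set (Subgroup Ω))
    (hClconj : ∀ R ∈ Cl, ∀ φ ∈ F.Hom R, φ.range ∈ Cl)
    (hClℋ : ∀ R ∈ Cl, R ∉ ℋ) (hClS : ∀ R ∈ Cl, R < S)
    (C : (R : Subgroup Ω) → (R →* Ω) → Prop)
    (hcomp : ∀ R ∈ Cl, ∀ (R' : Subgroup Ω) (φ : R →* Ω) (ψ : R' →* Ω), φ ∈ F.Hom R → ψ ∈ F.Hom R' →
      φ.range = R' → ∀ h : ∀ x, φ x ∈ R', C R φ → C R' ψ → C R (ψ.comp (φ.codRestrict R' h)))
    (hinv : ∀ R ∈ Cl, ∀ (R' : Subgroup Ω) (φ : R →* Ω) (ψ : R' →* Ω), φ ∈ F.Hom R → ψ ∈ F.Hom R' →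
      φ.range = R' → (∀ (x : R) (hx : φ x ∈ R'), ψ ⟨φ x, hx⟩ = x) → C R φ → C R' ψ)
    (hstep : ∀ R ∈ Cl, ∀ (A : Subgroup Ω) (hRA : R < A), A ≤ normalizerIn S R →
      ∀ θ ∈ F.Hom A, C R (θ.comp (Subgroup.inclusion hRA.le))) :
    ∀ R ∈ Cl, ∀ φ ∈ F.Hom R, C R φ := by
  let E : FusionSystem S :=
    { Hom := fun P => {φ | φ ∈ F.Hom P ∧ ∀ (R : Subgroup Ω) (h : R ≤ P), R ∈ Cl →
        C R (φ.comp (Subgroup.inclusion h))}
      le_of_mem := fun h => F.le_of_mem h.1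
      injective_of_mem := fun h => F.injective_of_mem h.1
      conj_mem := by
        intro P g hP hg
        refine ⟨F.conj_mem hP hg, fun R hRP hR => ?_⟩
        have hlt : R < normalizerIn S R := lt_normalizerIn hS (hClS R hR)
        have := hstep R hR _ hlt le_rfl (conjHom _ g) (F.conj_mem normalizerIn_le hg)
        exact this
      comp_mem := by
        rintro P Q φ ψ ⟨hφ, hφC⟩ ⟨hψ, hψC⟩ h
        refine ⟨F.comp_mem hφ hψ h, fun R hRP hR => ?_⟩
        have h1 := hφC R hRP hR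
        have hφR := res_mem hφ hRP
        have hR' := hClconj R hR _ hφR
        have hR'Q : (φ.comp (Subgroup.inclusion hRP)).range ≤ Q := by
          rintro _ ⟨x, rfl⟩
          exact h _
        have h2 := hψC _ hR'Q hR'
        exact hcomp R hR _ _ _ hφR (res_mem hψ hR'Q) rfl (fun x => ⟨x, rfl⟩) h1 h2
      inv_mem := by
        rintro P φ ⟨hφ, hφC⟩
        obtain ⟨ψ, hψ, hψr, hag1, hag2⟩ := exists_inv hφ (rfl : φ.range = φ.range)
        refine ⟨ψ, ⟨hψ, fun R hR hRm => ?_⟩, fun x => hag1 x _⟩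
        have hψR := res_mem hψ hR
        have hR' := hClconj R hRm _ hψR
        have hψP : ∀ y, ψ y ∈ P := fun y => (SetLike.ext_iff.1 hψr _).1 ⟨y, rfl⟩
        have hR'P : (ψ.comp (Subgroup.inclusion hR)).range ≤ P := by
          rintro _ ⟨x, rfl⟩
          exact hψP _
        have h1 := hφC _ hR'P hR'
        have hφR' := res_mem hφ hR'P
        have hr : (φ.comp (Subgroup.inclusion hR'P)).range = R := by
          ext y
          constructor
          · rintro ⟨⟨_, r, rfl⟩, rfl⟩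
            show φ ⟨ψ (Subgroup.inclusion hR r), _⟩ ∈ R
            rw [hag2]
            exact r.2
          · intro hy
            refine ⟨⟨(ψ.comp (Subgroup.inclusion hR)) ⟨y, hy⟩, ⟨⟨y, hy⟩, rfl⟩⟩, ?_⟩
            show φ ⟨ψ (Subgroup.inclusion hR ⟨y, hy⟩), _⟩ = y
            rw [hag2]
            rfl
        refine hinv _ hR' R _ _ hφR' hψR hr (fun x hx => ?_) h1
        obtain ⟨_, r, rfl⟩ := x
        show (ψ.comp (Subgroup.inclusion hR)) _ = (ψ.comp (Subgroup.inclusion hR)) r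
        congr 1
        apply Subtype.ext
        show φ ⟨ψ (Subgroup.inclusion hR r), _⟩ = r
        rw [hag2]
        rfl }
  have hle : F ≤ E := by
    apply hgen
    intro P hP φ hφ
    refine ⟨hφ, fun R hRP hR => ?_⟩
    have hne : R ≠ P := fun e => hClℋ R hR (e ▸ hP)
    have hlt : R < P := lt_of_le_of_ne hRP hne
    have hPS : P ≤ S := source_le hφ
    have hPp : IsPGroup p P := hS.to_le hPS
    have : Finite P := finite_of_le hPS
    have hlt2 : R < normalizerIn P R := lt_normalizerIn hPp hlt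
    have hAP : normalizerIn P R ≤ P := normalizerIn_le
    have hAS : normalizerIn P R ≤ normalizerIn S R := inf_le_inf_right _ hPS
    exact hstep R hR _ hlt2 hAS _ (res_mem hφ hAP)
  intro R hR φ hφ
  have h1 := (hle R hφ).2 R le_rfl hR
  have e : φ.comp (Subgroup.inclusion (le_refl R)) = φ := by
    ext x
    rfl
  rwa [e] at h1

end Chain

end Cfsg.Agent.Lib.Fusion.SatCrit
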