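/-
The BCGLO saturation criterion, part 2: stabilizers of normal subgroups in `Aut_F(T)`, nice subgroups,
extension to nice targets, and the confluence theorem for `Join`.
-/
import Mathlib
import Cfsg.Prelude.Def_FusionSystem
import Cfsg.Agent.Lib.Fusion.Basic
import Cfsg.Agent.Lib.Fusion.Saturated
import Cfsg.Agent.Lib.Fusion.Saturated2
import Cfsg.Agent.Lib.Fusion.GroupSylow
import Cfsg.Agent.Lib.Fusion.SatCrit1

set_option autoImplicit false

namespace Cfsg.Agent.Lib.Fusion.SatCrit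

open Cfsg Cfsg.FusionSystem Cfsg.Agent.Lib.Fusion.Basic Cfsg.Agent.Lib.Fusion.Saturated
  Cfsg.Agent.Lib.Fusion.Saturated2
open Cfsg.Agent.Lib.Fusion.GroupSylow (cj mem_cj conj_mem_cj cj_le_iff card_cj IsSylowIn isSylowIn_iff_card
  IsSylowIn.exists_conj_le cj_inv_cj cj_mono)

variable {Ω : Type*} [Group Ω] {S : Subgroup Ω} {F : FusionSystem S}

/-! ### Stabilizers -/

/-- Automorphisms of `T` preserving `R`. -/
def stabIn (T R : Subgroup Ω) : Subgroup (MulAut T) where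
  carrier := {γ | ∀ x : T, ((γ x : T) : Ω) ∈ R ↔ (x : Ω) ∈ R}
  mul_mem' := by
    intro a b ha hb x
    exact (ha (b x)).trans (hb x)
  one_mem' := fun _ => Iff.rfl
  inv_mem' := by
    intro a ha x
    have := ha (a⁻¹ x)
    rw [MulAut.apply_inv_self] at this
    exact this.symm

theorem mem_stabIn {T R : Subgroup Ω} {γ : MulAut T} :
    γ ∈ stabIn T R ↔ ∀ x : T, ((γ x : T) : Ω) ∈ R ↔ (x : Ω) ∈ R := Iff.rfl

/-- The image of `R` under an automorphism of `T`. -/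
def imgOf {T : Subgroup Ω} (γ : MulAut T) (R : Subgroup Ω) : Subgroup Ω :=
  ((R.subgroupOf T).map γ.toMonoidHom).map T.subtype

theorem mem_imgOf {T : Subgroup Ω} {γ : MulAut T} {R : Subgroup Ω} (t : T) :
    (t : Ω) ∈ imgOf γ R ↔ ((γ⁻¹ t : T) : Ω) ∈ R := by
  constructor
  · rintro ⟨_, ⟨x, hx, rfl⟩, e⟩
    have e2 : γ x = t := Subtype.ext e
    rw [← e2]
    have hx' : (x : Ω) ∈ R := hx
    simpa using hx'
  · intro h
    exact ⟨γ (γ⁻¹ t), ⟨γ⁻¹ t, h, rfl⟩, by simp⟩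

theorem imgOf_le {T : Subgroup Ω} (γ : MulAut T) (R : Subgroup Ω) : imgOf γ R ≤ T :=
  Subgroup.map_subtype_le _

theorem stabIn_imgOf {T : Subgroup Ω} (γ : MulAut T) (R : Subgroup Ω) :
    stabIn T (imgOf γ R) = cj γ (stabIn T R) := by
  ext δ
  rw [mem_cj, mem_stabIn, mem_stabIn]
  constructor
  · intro h x
    have h1 := h (γ x)
    rw [mem_imgOf, mem_imgOf] at h1
    simpa [MulAut.mul_apply] using h1
  · intro h t
    rw [mem_imgOf, mem_imgOf]
    have h1 := h (γ⁻¹ t)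
    simpa [MulAut.mul_apply] using h1

/-! ### A Sylow lemma -/

section Group

variable {G : Type*} [Group G] [Finite G] {p : ℕ} [Fact p.Prime]

/-- Conjugating a subgroup `L` suitably, `K ∩ L^n` is Sylow in `H ∩ L^n`. -/
theorem exists_cj_isSylowIn_inf {H K : Subgroup G} (hKH : K ≤ H) (hK : IsSylowIn p K H)
    (L : Subgroup G) : ∃ n ∈ H, IsSylowIn p (K ⊓ cj n L) (H ⊓ cj n L) := by
  obtain ⟨Q⟩ : Nonempty (Sylow p ↥(H ⊓ L)) := inferInstance
  let U : Subgroup G := (Q : Subgroup ↥(H ⊓ L)).map (H ⊓ L).subtype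
  have hUY : U ≤ H ⊓ L := Subgroup.map_subtype_le _
  have hUp : IsPGroup p U := Q.isPGroup'.map _
  have hUs : IsSylowIn p U (H ⊓ L) := by
    refine ⟨Q, ?_⟩
    ext x
    simp [U, Subgroup.mem_subgroupOf]
  obtain ⟨-, hUm⟩ := (isSylowIn_iff_card hUY).1 hUs
  obtain ⟨n, hn, hnU⟩ := hK.exists_conj_le (hUY.trans inf_le_left) hUp
  refine ⟨n, hn, ?_⟩
  rw [isSylowIn_iff_card (inf_le_inf_right _ hKH)]
  refine ⟨(hK.isPGroup hKH).to_le inf_le_left, fun W hW hWp => ?_⟩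
  have hW' : cj n⁻¹ W ≤ H ⊓ L := by
    rw [cj_le_iff]
    intro x hx
    refine ⟨?_, ?_⟩
    · exact H.mul_mem (H.mul_mem (H.inv_mem hn) (hW hx).1) (by simpa using hn)
    · have h2 : n⁻¹ * x * n ∈ L := mem_cj.1 (hW hx).2
      simpa using h2
  have h1 := hUm _ hW' (hWp.map _)
  rw [card_cj] at h1
  have h2 : cj n U ≤ K ⊓ cj n L := le_inf hnU (cj_mono (hUY.trans inf_le_right))
  have h3 : Nat.card (cj n U) ≤ Nat.card ↥(K ⊓ cj n L) := Subgroup.card_le_of_le h2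
  rw [card_cj] at h3
  omega

end Group

/-! ### Nice subgroups -/

section Nice

variable [Finite S] {p : ℕ} [Fact p.Prime]

/-- `R₅` is nice in `T`: `Aut_S(T) ∩ Stab(R₅)` is Sylow in `Aut_F(T) ∩ Stab(R₅)`. -/
def Nice (F : FusionSystem S) (p : ℕ) (T R₅ : Subgroup Ω) : Prop :=
  IsSylowIn p (autInducedBy S T ⊓ stabIn T R₅) (F.autGroup T ⊓ stabIn T R₅)

theorem exists_nice {T : Subgroup Ω} (hTS : T ≤ S) (hT : F.IsFullyAutomized p T) (R : Subgroup Ω) :
    ∃ γ ∈ F.autGroup T, Nice F p T (imgOf γ R) := by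
  have : Finite (MulAut T) := finite_mulAut hTS
  have hK : IsSylowIn p (autInducedBy S T) (F.autGroup T) := hT.2
  obtain ⟨n, hn, h⟩ := exists_cj_isSylowIn_inf (autInducedBy_le_autGroup (F := F) hTS) hK (stabIn T R)
  refine ⟨n, hn, ?_⟩
  unfold Nice
  rw [stabIn_imgOf]
  exact h

/-- A receptive target: extension criterion. -/
theorem exists_ext {T A B : Subgroup Ω} {e : A →* Ω} (hT : F.IsReceptive T) (he : e ∈ F.Hom A)
    (hr : e.range = T) (hAB : A ≤ B)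
    (hB : ∀ x ∈ B, x ∈ S ∧ x ∈ Subgroup.normalizer (A : Set Ω) ∧
      ∃ h ∈ S, ∀ (a : A) (hx : x * (a : Ω) * x⁻¹ ∈ A), e ⟨x * a * x⁻¹, hx⟩ = h * e a * h⁻¹) :
    ∃ v ∈ F.Hom B, ∀ a : A, v ⟨a, hAB a.2⟩ = e a := by
  have hle : B ≤ extender S A e := by
    intro x hx
    obtain ⟨h1, h2, h, hh, h3⟩ := hB x hx
    exact extender_closure_mem h1 h2 hh h3
  obtain ⟨ψ, hψ, hag⟩ := hT.2 A e he hr
  refine ⟨ψ.comp (Subgroup.inclusion hle), res_mem hψ hle, fun a => ?_⟩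
  exact hag a a.2 (hle (hAB a.2))

/-- The automorphism of `A` induced by elements of a subgroup normalizing `A`, as a homomorphism. -/
noncomputable def normHom (A B : Subgroup Ω) (h : B ≤ Subgroup.normalizer (A : Set Ω)) : B →* MulAut A where
  toFun b := normConj (b : Ω) (h b.2)
  map_one' := by
    ext x
    simp
  map_mul' a b := by
    ext x
    simp [MulAut.mul_apply, mul_assoc]

@[simp] theorem normHom_apply (A B : Subgroup Ω) (h : B ≤ Subgroup.normalizer (A : Set Ω)) (b : B)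
    (x : A) : ((normHom A B h b x : A) : Ω) = b * x * (b : Ω)⁻¹ := rfl

/-- Extension of a map to a nice target, at the price of an automorphism stabilizing the nice subgroup. -/
theorem extend_nice (hS : IsPGroup p S) {T R₅ A R B : Subgroup Ω} (hTS : T ≤ S) (hT : F.IsReceptive T)
    (hN : Nice F p T R₅) {e : A →* Ω} (he : e ∈ F.Hom A) (hr : e.range = T) (hRA : R ≤ A)
    (hm : (R.subgroupOf A).map e = R₅) (hAB : A ≤ B) (hB : B ≤ normalizerIn S A)
    (hBR : B ≤ Subgroup.normalizer (R : Set Ω)) :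
    ∃ δ ∈ F.autGroup T ⊓ stabIn T R₅, ∃ v ∈ F.Hom B,
      (∀ (a : A) (ha : e a ∈ T), v ⟨a, hAB a.2⟩ = ((δ ⟨e a, ha⟩ : T) : Ω)) ∧
      (R.subgroupOf B).map v = R₅ := by
  have hAS : A ≤ S := source_le he
  have hBS : B ≤ S := hB.trans normalizerIn_le
  have : Finite (MulAut T) := finite_mulAut hTS
  have hinj := F.injective_of_mem he
  let e' : A ≃* T := isoOfRange hinj hr
  have he' : ∀ x : A, ((e' x : T) : Ω) = e x := fun _ => rfl
  have hBA : B ≤ Subgroup.normalizer (A : Set Ω) := hB.trans inf_le_right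
  let f : B →* MulAut T := (MulAut.congr e').toMonoidHom.comp (normHom A B hBA)
  have hfv : ∀ (b : B) (a : A), ((f b (e' a) : T) : Ω) = e ⟨b * a * (b : Ω)⁻¹, (normHom A B hBA b a).2⟩ := by
    intro b a
    show ((e' ((normHom A B hBA b) (e'.symm (e' a))) : T) : Ω) = _
    rw [MulEquiv.symm_apply_apply]
    rfl
  -- membership of `e a` in `R₅`
  have hmem : ∀ a : A, e a ∈ R₅ ↔ (a : Ω) ∈ R := by
    intro a
    constructor
    · intro h
      rw [← hm] at h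
      obtain ⟨z, hz, hze⟩ := h
      have := hinj hze
      rw [← this]
      exact hz
    · intro h
      rw [← hm]
      exact ⟨a, h, rfl⟩
  have hR₅T : R₅ ≤ T := by
    rw [← hm, ← hr]
    rintro _ ⟨x, -, rfl⟩
    exact ⟨x, rfl⟩
  have hf1 : ∀ b : B, f b ∈ F.autGroup T := by
    intro b
    exact congr_mem_autGroup he e' he' (autInducedBy_le_autGroup hAS
      (normConj_mem_autInducedBy (hBS b.2) (hBA b.2)))
  have hf2 : ∀ b : B, f b ∈ stabIn T R₅ := by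
    intro b t
    obtain ⟨a, rfl⟩ := e'.surjective t
    rw [hfv, he', hmem, hmem]
    exact (Subgroup.mem_normalizer_iff.1 (hBR b.2) a).symm
  have hXp : IsPGroup p f.range := by
    have hBp : IsPGroup p B := hS.to_le hBS
    exact hBp.of_surjective f.rangeRestrict f.rangeRestrict_surjective
  have hXH : f.range ≤ F.autGroup T ⊓ stabIn T R₅ := by
    rintro _ ⟨b, rfl⟩
    exact ⟨hf1 b, hf2 b⟩
  obtain ⟨n, hn, hnX⟩ := hN.exists_conj_le hXH hXp
  refine ⟨n, hn, ?_⟩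
  let φ : A →* Ω := T.subtype.comp ((n : MulAut T).toMonoidHom.comp e'.toMonoidHom)
  have hφv : ∀ a : A, φ a = ((n (e' a) : T) : Ω) := fun _ => rfl
  have hφ : φ ∈ F.Hom A :=
    comp_mem' he (autGroup_mem_hom hTS hn.1) (fun x => by rw [← he']; exact (e' x).2) (fun x => rfl)
  have hφr : φ.range = T := by
    ext y
    constructor
    · rintro ⟨x, rfl⟩
      exact (n (e' x)).2
    · intro hy
      refine ⟨e'.symm (n⁻¹ ⟨y, hy⟩), ?_⟩
      rw [hφv]
      simp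
  have hext : ∀ x ∈ B, x ∈ S ∧ x ∈ Subgroup.normalizer (A : Set Ω) ∧
      ∃ h ∈ S, ∀ (a : A) (hx : x * (a : Ω) * x⁻¹ ∈ A), φ ⟨x * a * x⁻¹, hx⟩ = h * φ a * h⁻¹ := by
    intro x hx
    refine ⟨hBS hx, hBA hx, ?_⟩
    have h1 : n * f ⟨x, hx⟩ * n⁻¹ ∈ autInducedBy S T ⊓ stabIn T R₅ :=
      hnX (conj_mem_cj ⟨⟨x, hx⟩, rfl⟩)
    obtain ⟨h, hh, hh2⟩ := mem_autInducedBy_iff.1 h1.1
    refine ⟨h, hh, fun a ha => ?_⟩
    have h3 := hh2 (n (e' a))
    rw [hφv, hφv]
    rw [← h3]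
    have h4 := hfv ⟨x, hx⟩ a
    have h5 : f ⟨x, hx⟩ (e' a) = e' ⟨x * a * x⁻¹, ha⟩ := Subtype.ext h4
    rw [MulAut.mul_apply, MulAut.mul_apply, MulAut.inv_apply_self, h5]
  obtain ⟨v, hv, hvag⟩ := exists_ext hT hφ hφr hAB hext
  refine ⟨v, hv, fun a ha => ?_, ?_⟩
  · rw [hvag, hφv]
    rfl
  · rw [← hm]
    ext y
    constructor
    · rintro ⟨x, hx, rfl⟩
      have hxA : (x : Ω) ∈ A := hRA hx
      have e1 := hvag ⟨x, hxA⟩
      have e2 : v x = v ⟨((⟨x, hxA⟩ : A) : Ω), hAB (Subtype.property _)⟩ := rfl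
      rw [e2, e1, hφv]
      rw [hm]
      have h6 := hn.2 (e' ⟨x, hxA⟩)
      rw [h6, he', hmem]
      exact hx
    · rw [hm]
      intro hy
      have hyT := hR₅T hy
      obtain ⟨a, ha⟩ := e'.surjective (n⁻¹ ⟨y, hyT⟩)
      have h7 : n (e' a) = ⟨y, hyT⟩ := by rw [ha]; simp
      have h8 := hn.2 (e' a)
      rw [h7, he', hmem] at h8
      refine ⟨⟨a, hAB a.2⟩, h8.1 hy, ?_⟩
      rw [hvag, hφv, h7]

end Nice

end Cfsg.Agent.Lib.Fusion.SatCrit
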