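/-
The BCGLO saturation criterion, part 3: confluence.  Under saturation of all classes of subgroups of
order `> n`, any two members of a class of order `n` outside the generating family have arrows to a
common member; every member of the class has an arrow to every fully normalized member.
-/
import Mathlib
import Cfsg.Prelude.Def_FusionSystem
import Cfsg.Agent.Lib.Fusion.Basic
import Cfsg.Agent.Lib.Fusion.Saturated
import Cfsg.Agent.Lib.Fusion.Saturated2
import Cfsg.Agent.Lib.Fusion.GroupSylow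
import Cfsg.Agent.Lib.Fusion.SatCrit1
import Cfsg.Agent.Lib.Fusion.SatCrit2

set_option autoImplicit false

namespace Cfsg.Agent.Lib.Fusion.SatCrit

open Cfsg Cfsg.FusionSystem Cfsg.Agent.Lib.Fusion.Basic Cfsg.Agent.Lib.Fusion.Saturated
  Cfsg.Agent.Lib.Fusion.Saturated2

variable {Ω : Type*} [Group Ω] {S : Subgroup Ω} {F : FusionSystem S}

/-- The inverse of a map carrying `R` to `R'`, with the target named. -/
theorem map_inv_eq' {A R R' Q : Subgroup Ω} {g : A →* Ω} (hg : Function.Injective g) (hRA : R ≤ A)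
    (h₁ : (R.subgroupOf A).map g = R') (hr : g.range = Q) {ψ : Q →* Ω}
    (hψ : ∀ (x : A) (h : g x ∈ Q), ψ ⟨g x, h⟩ = x) : (R'.subgroupOf Q).map ψ = R := by
  subst hr
  exact map_inv_eq hg hRA h₁ (fun x => hψ x _)

/-- Arrows are invertible between subgroups with normalizers of the same order. -/
theorem Arrow.symm_of_card {R W : Subgroup Ω} [Finite S] (hR : R ≤ S) (h : Arrow F R W)
    (hc : Nat.card (normalizerIn S W) ≤ Nat.card (normalizerIn S R)) : Arrow F W R := by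
  obtain ⟨g, hg, hgv, hgm⟩ := h
  have : Finite (normalizerIn S W) := finite_of_le normalizerIn_le
  have hr : g.range = normalizerIn S W := range_eq_of_card hg hgv hc
  obtain ⟨ψ, hψ, -, h1, -⟩ := exists_inv hg hr
  have hm := map_inv_eq' (F.injective_of_mem hg) (le_normalizerIn hR) hgm hr h1
  exact Arrow.of_map hψ hm

section Main

variable [Finite S] {p : ℕ} [Fact p.Prime]

/-- Levelwise confluence. -/
def JoinAbove (F : FusionSystem S) (k : ℕ) : Prop :=
  ∀ (A R₁ : Subgroup Ω) (θ : A →* Ω), θ ∈ F.Hom A → R₁ ≤ A → A ≤ normalizerIn S R₁ → k ≤ Nat.card A →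
    Join F R₁ ((R₁.subgroupOf A).map θ)

omit [Fact p.Prime] in
theorem card_range_eq {A : Subgroup Ω} {g : A →* Ω} (hg : Function.Injective g) :
    Nat.card g.range = Nat.card A :=
  Nat.card_congr (MonoidHom.ofInjective hg).toEquiv.symm

omit [Fact p.Prime] in
theorem join_of_two_arrows {k : ℕ} (hJ : JoinAbove F k) {R X Y : Subgroup Ω} (hR : R ≤ S)
    (hk : k ≤ Nat.card (normalizerIn S R)) (h₁ : Arrow F R X) (h₂ : Arrow F R Y) : Join F X Y := by
  obtain ⟨g, hg, hgv, hgm⟩ := h₁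
  obtain ⟨h, hh, hhv, hhm⟩ := h₂
  have hinj := F.injective_of_mem hg
  obtain ⟨ψ, hψ, hψr, h1, -⟩ := exists_inv hg (rfl : g.range = g.range)
  have hψv : ∀ y, ψ y ∈ normalizerIn S R := fun y => (SetLike.ext_iff.1 hψr _).1 ⟨y, rfl⟩
  have hRN := le_normalizerIn hR
  have hm1 := map_inv_eq' hinj hRN hgm (rfl : g.range = g.range) h1
  have hm2 : (X.subgroupOf g.range).map (h.comp (ψ.codRestrict _ hψv)) = Y :=
    map_comp_eq hψv hm1 hhm (fun _ => rfl)
  have hXr : X ≤ g.range := by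
    rw [← hgm]
    rintro _ ⟨x, -, rfl⟩
    exact ⟨x, rfl⟩
  have hrN : g.range ≤ normalizerIn S X := by
    rintro _ ⟨x, rfl⟩
    exact hgv x
  have := hJ g.range X (h.comp (ψ.codRestrict _ hψv)) (F.comp_mem hψ hh hψv) hXr hrN
    (by rw [card_range_eq hinj]; exact hk)
  rwa [hm2] at this

/-- A nice target for `A` of large order. -/
theorem exists_nice_map (hS : IsPGroup p S) {A R : Subgroup Ω} (hAS : A ≤ S)
    (hL : ∀ T : Subgroup Ω, F.IsConj A T → ClassSat F p T) :
    ∃ (T R₅ : Subgroup Ω) (e : A →* Ω), T ≤ S ∧ F.IsFullyAutomized p T ∧ F.IsReceptive T ∧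
      Nice F p T R₅ ∧ F.IsFullyNormalized T ∧ e ∈ F.Hom A ∧ e.range = T ∧ (R.subgroupOf A).map e = R₅ := by
  obtain ⟨T, hAT, hT⟩ := exists_fullyNormalized (F := F) hAS
  obtain ⟨hTa, hTr⟩ := fn_of_classSat hS (hL T hAT) hT
  obtain ⟨e₀, he₀, hr₀⟩ := hAT
  have hTS := hT.1
  obtain ⟨γ, hγ, hγN⟩ := exists_nice hTS hTa ((R.subgroupOf A).map e₀)
  let e' : A ≃* T := isoOfRange (F.injective_of_mem he₀) hr₀
  have he' : ∀ x : A, ((e' x : T) : Ω) = e₀ x := fun _ => rfl
  let e : A →* Ω := T.subtype.comp (γ.toMonoidHom.comp e'.toMonoidHom)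
  have hev : ∀ x : A, e x = ((γ (e' x) : T) : Ω) := fun _ => rfl
  have he : e ∈ F.Hom A :=
    comp_mem' he₀ (autGroup_mem_hom hTS hγ) (fun x => by rw [← he']; exact (e' x).2) (fun x => rfl)
  refine ⟨T, _, e, hTS, hTa, hTr, hγN, hT, he, ?_, ?_⟩
  · ext y
    constructor
    · rintro ⟨x, rfl⟩
      exact (γ (e' x)).2
    · intro hy
      refine ⟨e'.symm (γ⁻¹ ⟨y, hy⟩), ?_⟩
      rw [hev]
      simp
  · ext y
    constructor
    · rintro ⟨x, hx, rfl⟩
      rw [hev, mem_imgOf]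
      simp only [MulAut.inv_apply_self]
      exact ⟨x, hx, rfl⟩
    · intro hy
      have hyT : y ∈ T := imgOf_le _ _ hy
      have h1 := (mem_imgOf ⟨y, hyT⟩).1 hy
      obtain ⟨x, hx, hxe⟩ := h1
      refine ⟨x, hx, ?_⟩
      rw [hev]
      have e2 : e' x = γ⁻¹ ⟨y, hyT⟩ := Subtype.ext hxe
      rw [e2]
      simp

/-- The inductive step for confluence. -/
theorem joinAbove_step (hS : IsPGroup p S) {n k : ℕ} (hk : n < k)
    (hL : ∀ T : Subgroup Ω, T ≤ S → n < Nat.card T → ClassSat F p T) (hJ : JoinAbove F (k + 1)) :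
    JoinAbove F k := by
  intro A R₁ θ hθ hR₁A hAN hcard
  by_cases hgt : k + 1 ≤ Nat.card A
  · exact hJ A R₁ θ hθ hR₁A hAN hgt
  have hcardA : Nat.card A = k := by omega
  have hAS : A ≤ S := source_le hθ
  have hR₁S : R₁ ≤ S := hR₁A.trans hAS
  have hinj := F.injective_of_mem hθ
  have hR₂c : F.IsConj R₁ ((R₁.subgroupOf A).map θ) := isConj_of_map hθ hR₁A rfl
  have hR₂S : (R₁.subgroupOf A).map θ ≤ S := Basic.IsConj.le_right hR₂c
  by_cases hA1 : A = normalizerIn S R₁
  · subst hA1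
    exact ⟨_, Arrow.of_map hθ rfl, Arrow.refl hR₂S⟩
  set R₂ := (R₁.subgroupOf A).map θ with hR₂def
  have hBN : θ.range ≤ normalizerIn S R₂ := by
    rintro _ ⟨x, rfl⟩
    exact ⟨map_mem_S hθ x, map_mem_normalizer rfl x (hAN x.2).2⟩
  by_cases hB1 : θ.range = normalizerIn S R₂
  · obtain ⟨ψ, hψ, hψr, h1, -⟩ := exists_inv hθ hB1
    have hm := map_inv_eq' hinj hR₁A rfl hB1 h1
    exact ⟨R₁, Arrow.refl hR₁S, Arrow.of_map hψ hm⟩
  have hAlt : A < normalizerIn S R₁ := lt_of_le_of_ne hAN hA1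
  have hBlt : θ.range < normalizerIn S R₂ := lt_of_le_of_ne hBN hB1
  have : Finite (normalizerIn S R₁) := finite_of_le normalizerIn_le
  have : Finite (normalizerIn S R₂) := finite_of_le normalizerIn_le
  have hN₁p : IsPGroup p (normalizerIn S R₁) := hS.to_le normalizerIn_le
  have hN₂p : IsPGroup p (normalizerIn S R₂) := hS.to_le normalizerIn_le
  have hA₁ := lt_normalizerIn hN₁p hAlt
  have hB₁ := lt_normalizerIn hN₂p hBlt
  have hnA : n < Nat.card A := by omega
  obtain ⟨T, R₅, e, hTS, hTa, hTr, hTn, hTfn, he, her, hem⟩ := exists_nice_map (R := R₁) hS hAS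
    (fun T hT => hL T (Basic.IsConj.le_right hT) (by rw [← Basic.IsConj.card_eq hT]; exact hnA))
  -- the second map
  obtain ⟨ψ, hψ, hψr, h1, -⟩ := exists_inv hθ (rfl : θ.range = θ.range)
  have hψA : ∀ y, ψ y ∈ A := fun y => (SetLike.ext_iff.1 hψr _).1 ⟨y, rfl⟩
  have hm1 := map_inv_eq' hinj hR₁A rfl (rfl : θ.range = θ.range) h1
  let e₂ : θ.range →* Ω := e.comp (ψ.codRestrict A hψA)
  have he₂ : e₂ ∈ F.Hom θ.range := F.comp_mem hψ he hψA
  have he₂m : (R₂.subgroupOf θ.range).map e₂ = R₅ := map_comp_eq hψA hm1 hem (fun _ => rfl)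
  have he₂r : e₂.range = T := by
    rw [← her]
    ext y
    constructor
    · rintro ⟨x, rfl⟩
      exact ⟨_, rfl⟩
    · rintro ⟨a, rfl⟩
      refine ⟨⟨θ a, ⟨a, rfl⟩⟩, ?_⟩
      show e ⟨ψ ⟨θ a, _⟩, _⟩ = e a
      congr 1
      exact Subtype.ext (h1 a _)
  have hR₂B : R₂ ≤ θ.range := by
    rintro _ ⟨x, -, rfl⟩
    exact ⟨x, rfl⟩
  -- extensions
  have hA₁N : normalizerIn (normalizerIn S R₁) A ≤ normalizerIn S A :=
    inf_le_inf_right _ normalizerIn_le
  have hB₁N : normalizerIn (normalizerIn S R₂) θ.range ≤ normalizerIn S θ.range :=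
    inf_le_inf_right _ normalizerIn_le
  obtain ⟨-, -, v₁, hv₁, -, hv₁m⟩ := extend_nice hS hTS hTr hTn he her hR₁A hem hA₁.le hA₁N
    (normalizerIn_le.trans inf_le_right)
  obtain ⟨-, -, v₂, hv₂, -, hv₂m⟩ := extend_nice hS hTS hTr hTn he₂ he₂r hR₂B he₂m hB₁.le hB₁N
    (normalizerIn_le.trans inf_le_right)
  have : Finite (normalizerIn (normalizerIn S R₁) A) :=
    finite_of_le (S := S) (normalizerIn_le.trans normalizerIn_le)
  have : Finite (normalizerIn (normalizerIn S R₂) θ.range) :=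
    finite_of_le (S := S) (normalizerIn_le.trans normalizerIn_le)
  have hc₁ : k + 1 ≤ Nat.card (normalizerIn (normalizerIn S R₁) A) := by
    have := card_lt_of_lt hA₁
    omega
  have hc₂ : k + 1 ≤ Nat.card (normalizerIn (normalizerIn S R₂) θ.range) := by
    have := card_lt_of_lt hB₁
    rw [card_range_eq hinj] at this
    omega
  have hj₁ := hJ _ R₁ v₁ hv₁ (hR₁A.trans hA₁.le) normalizerIn_le hc₁
  rw [hv₁m] at hj₁
  have hj₂ := hJ _ R₂ v₂ hv₂ (hR₂B.trans hB₁.le) normalizerIn_le hc₂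
  rw [hv₂m] at hj₂
  obtain ⟨X, h1X, h5X⟩ := hj₁
  obtain ⟨Y, h2Y, h5Y⟩ := hj₂
  have hR₅S : R₅ ≤ S := by
    rw [← her] at hTS
    rw [← hem]
    intro y hy
    exact hTS (by obtain ⟨x, -, rfl⟩ := hy; exact ⟨x, rfl⟩)
  have : Finite (normalizerIn S R₅) := finite_of_le normalizerIn_le
  have hcN : k + 1 ≤ Nat.card (normalizerIn S R₅) := by
    refine hc₁.trans ?_
    have hv₁v : ∀ x : normalizerIn (normalizerIn S R₁) A, v₁ x ∈ normalizerIn S R₅ := fun x =>
      ⟨map_mem_S hv₁ x, map_mem_normalizer hv₁m x (normalizerIn_le x.2).2⟩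
    exact Nat.card_le_card_of_injective (fun x => (⟨v₁ x, hv₁v x⟩ : normalizerIn S R₅))
      (fun a b hab => F.injective_of_mem hv₁ (congrArg Subtype.val hab))
  obtain ⟨W, hXW, hYW⟩ := join_of_two_arrows hJ hR₅S hcN h5X h5Y
  exact ⟨W, h1X.trans hXW, h2Y.trans hYW⟩

/-- Confluence above level `n`. -/
theorem joinAbove (hS : IsPGroup p S) {n : ℕ}
    (hL : ∀ T : Subgroup Ω, T ≤ S → n < Nat.card T → ClassSat F p T) :
    ∀ k, n < k → JoinAbove F k := by
  have key : ∀ m k, k + m = Nat.card S + 1 → n < k → JoinAbove F k := by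
    intro m
    induction m with
    | zero =>
      intro k hk _ A R₁ θ hθ _ _ hc
      have := card_le_S (source_le hθ)
      omega
    | succ m ih =>
      intro k hk hnk
      exact joinAbove_step hS hnk hL (ih (k + 1) (by omega) (by omega))
  intro k hk
  by_cases h : k ≤ Nat.card S + 1
  · exact key (Nat.card S + 1 - k) k (by omega) hk
  · intro A R₁ θ hθ _ _ hc
    have := card_le_S (source_le hθ)
    omega

/-- The transitivity of `Join`. -/
theorem Join.trans (hS : IsPGroup p S) {n : ℕ}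
    (hL : ∀ T : Subgroup Ω, T ≤ S → n < Nat.card T → ClassSat F p T) {R₁ R₂ R₃ : Subgroup Ω}
    (hR₂S : R₂ ≤ S) (hn : n < Nat.card (normalizerIn S R₂)) (h₁ : Join F R₁ R₂) (h₂ : Join F R₂ R₃) :
    Join F R₁ R₃ := by
  obtain ⟨X, h1X, h2X⟩ := h₁
  obtain ⟨Y, h2Y, h3Y⟩ := h₂
  obtain ⟨W, hXW, hYW⟩ := join_of_two_arrows (joinAbove hS hL _ hn) hR₂S le_rfl h2X h2Y
  exact ⟨W, h1X.trans hXW, h3Y.trans hYW⟩

/-- Every member of a class outside the generating family has an arrow to every fully normalized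
member. -/
theorem arrow_to_fn (hS : IsPGroup p S) {ℋ : Set (Subgroup Ω)}
    (hgen : ∀ E : FusionSystem S, (∀ P ∈ ℋ, F.Hom P ⊆ E.Hom P) → F ≤ E) {R₀ : Subgroup Ω}
    (hL : ∀ T : Subgroup Ω, T ≤ S → Nat.card R₀ < Nat.card T → ClassSat F p T)
    (hCl : ∀ Q, F.IsConj R₀ Q → Q ∉ ℋ ∧ Q < S) {R R' : Subgroup Ω} (hR : F.IsFullyNormalized R)
    (h1 : F.IsConj R₀ R) (h2 : F.IsConj R₀ R') : Arrow F R' R := by
  have hNc : ∀ Q, F.IsConj R₀ Q → Nat.card R₀ < Nat.card (normalizerIn S Q) := by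
    intro Q hQ
    rw [Basic.IsConj.card_eq hQ]
    have : Finite (normalizerIn S Q) := finite_of_le normalizerIn_le
    exact card_lt_of_lt (lt_normalizerIn hS (hCl Q hQ).2)
  have hchain := chain_principle hS ℋ hgen {Q | F.IsConj R₀ Q}
    (fun Q hQ φ hφ => Basic.IsConj.trans hQ ⟨φ, hφ, rfl⟩)
    (fun Q hQ => (hCl Q hQ).1) (fun Q hQ => (hCl Q hQ).2)
    (fun Q φ => Join F Q φ.range)
    (by
      intro Q hQ Q' φ ψ hφ hψ hr h c1 c2
      have e : (ψ.comp (φ.codRestrict Q' h)).range = ψ.range := by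
        ext y
        constructor
        · rintro ⟨x, rfl⟩
          exact ⟨_, rfl⟩
        · rintro ⟨⟨z, hz⟩, rfl⟩
          have hz' : z ∈ φ.range := by rw [hr]; exact hz
          obtain ⟨x, hx⟩ := hz'
          refine ⟨x, ?_⟩
          show ψ ⟨φ x, _⟩ = _
          congr 1
          exact Subtype.ext hx
      show Join F Q (ψ.comp (φ.codRestrict Q' h)).range
      rw [e]
      rw [hr] at c1
      have hQ'c : F.IsConj R₀ Q' := Basic.IsConj.trans hQ ⟨φ, hφ, hr⟩
      exact Join.trans hS hL (Basic.IsConj.le_right hQ'c) (hNc Q' hQ'c) c1 c2)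
    (by
      intro Q hQ Q' φ ψ hφ hψ hr hinv c1
      have e : ψ.range = Q := by
        ext y
        constructor
        · rintro ⟨z, rfl⟩
          have hz' : (z : Ω) ∈ φ.range := by rw [hr]; exact z.2
          obtain ⟨x, hx⟩ := hz'
          have e1 : z = ⟨φ x, hx ▸ z.2⟩ := Subtype.ext hx.symm
          rw [e1, hinv]
          exact x.2
        · intro hy
          have hmem : φ ⟨y, hy⟩ ∈ Q' := by rw [← hr]; exact ⟨_, rfl⟩
          exact ⟨⟨_, hmem⟩, hinv ⟨y, hy⟩ hmem⟩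
      show Join F Q' ψ.range
      rw [e]
      rw [hr] at c1
      exact c1.symm)
    (by
      intro Q hQ A hQA hAN θ hθ
      have hcard : Nat.card R₀ < Nat.card A := by
        rw [Basic.IsConj.card_eq hQ]
        have : Finite A := finite_of_le (hAN.trans normalizerIn_le)
        exact card_lt_of_lt hQA
      have := joinAbove hS hL _ hcard A Q θ hθ hQA.le hAN le_rfl
      have e : (θ.comp (Subgroup.inclusion hQA.le)).range = (Q.subgroupOf A).map θ := by
        ext y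
        constructor
        · rintro ⟨x, rfl⟩
          exact ⟨Subgroup.inclusion hQA.le x, x.2, rfl⟩
        · rintro ⟨x, hx, rfl⟩
          exact ⟨⟨x, hx⟩, rfl⟩
      show Join F Q (θ.comp (Subgroup.inclusion hQA.le)).range
      rw [e]
      exact this)
  obtain ⟨φ, hφ, hr⟩ := Basic.IsConj.trans (Basic.IsConj.symm h2) h1
  have hj : Join F R' φ.range := hchain R' h2 φ hφ
  rw [hr] at hj
  obtain ⟨W, hW₁, hW₂⟩ := hj
  have hRW : F.IsConj R W := by
    obtain ⟨g, hg, -, hgm⟩ := hW₂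
    exact isConj_of_map hg (le_normalizerIn hR.1) hgm
  exact hW₁.trans (Arrow.symm_of_card hR.1 hW₂ (hR.2 W hRW))

end Main

end Cfsg.Agent.Lib.Fusion.SatCrit
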