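/-
The BCGLO saturation criterion, part 4: every automorphism of a fully normalized member `R` of the class
extends to the subgroup `T` of `N_S(R)` determined by a normal subgroup `Ξ` of `Aut_F(R)`.
-/
import Mathlib
import Cfsg.Prelude.Def_FusionSystem
import Cfsg.Agent.Lib.Fusion.Basic
import Cfsg.Agent.Lib.Fusion.Saturated
import Cfsg.Agent.Lib.Fusion.Saturated2
import Cfsg.Agent.Lib.Fusion.GroupSylow
import Cfsg.Agent.Lib.Fusion.SatCrit1
import Cfsg.Agent.Lib.Fusion.SatCrit2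
import Cfsg.Agent.Lib.Fusion.SatCrit3

set_option autoImplicit false

namespace Cfsg.Agent.Lib.Fusion.SatCrit

open Cfsg Cfsg.FusionSystem Cfsg.Agent.Lib.Fusion.Basic Cfsg.Agent.Lib.Fusion.Saturated
  Cfsg.Agent.Lib.Fusion.Saturated2

variable {Ω : Type*} [Group Ω] {S : Subgroup Ω} {F : FusionSystem S}

/-- The automorphism `α` of `R` extends to `T`. -/
def ExtTo (F : FusionSystem S) (T R : Subgroup Ω) (hRT : R ≤ T) (α : MulAut R) : Prop :=
  ∃ ψ ∈ F.Hom T, ∀ r : R, ψ ⟨r, hRT r.2⟩ = ((α r : R) : Ω)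

/-- The data: `Ξ` is normal in `Aut_F(R)` and `T` is the subgroup of `N_S(R)` inducing `Ξ`. -/
structure Core (F : FusionSystem S) (R T : Subgroup Ω) (Ξ : Subgroup (MulAut R)) : Prop where
  hRS : R ≤ S
  hRT : R ≤ T
  hΞ : ∀ γ ∈ F.autGroup R, ∀ ξ ∈ Ξ, γ * ξ * γ⁻¹ ∈ Ξ
  hT : ∀ x, x ∈ T ↔ ∃ h : x ∈ normalizerIn S R, normConj x h.2 ∈ Ξ

namespace Core

variable {R T : Subgroup Ω} {Ξ : Subgroup (MulAut R)}

theorem le_normalizerIn (C : Core F R T Ξ) : T ≤ normalizerIn S R := by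
  intro x hx
  obtain ⟨h, -⟩ := (C.hT x).1 hx
  exact h

theorem le_S (C : Core F R T Ξ) : T ≤ S := C.le_normalizerIn.trans normalizerIn_le

theorem normConj_mem (C : Core F R T Ξ) {t : Ω} (ht : t ∈ T) (h : t ∈ Subgroup.normalizer (R : Set Ω)) :
    normConj t h ∈ Ξ := by
  obtain ⟨h', hm⟩ := (C.hT t).1 ht
  exact hm

/-- `T` is normal in `N_S(R)`. -/
theorem normalizer_le (C : Core F R T Ξ) :
    normalizerIn S R ≤ Subgroup.normalizer (T : Set Ω) := by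
  intro g hg
  have hkey : ∀ g ∈ normalizerIn S R, ∀ t ∈ T, g * t * g⁻¹ ∈ T := by
    intro g hg t ht
    obtain ⟨htN, hm⟩ := (C.hT t).1 ht
    have hgt : g * t * g⁻¹ ∈ normalizerIn S R :=
      (normalizerIn S R).mul_mem ((normalizerIn S R).mul_mem hg htN) ((normalizerIn S R).inv_mem hg)
    refine (C.hT _).2 ⟨hgt, ?_⟩
    have e : normConj (g * t * g⁻¹) hgt.2 =
        normConj g hg.2 * normConj t htN.2 * (normConj g hg.2)⁻¹ := by
      ext r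
      show g * t * g⁻¹ * r * (g * t * g⁻¹)⁻¹ = _
      have : (normConj g hg.2)⁻¹ r = (normConj g hg.2).symm r := rfl
      simp only [MulAut.mul_apply, normConj_apply, this]
      show _ = g * (t * (g⁻¹ * r * g) * t⁻¹) * g⁻¹
      group
    rw [e]
    refine C.hΞ _ ?_ _ hm
    exact autInducedBy_le_autGroup C.hRS (normConj_mem_autInducedBy hg.1 hg.2)
  rw [Subgroup.mem_normalizer_iff]
  intro t
  constructor
  · exact hkey g hg t
  · intro h
    have := hkey g⁻¹ ((normalizerIn S R).inv_mem hg) _ h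
    simpa [mul_assoc] using this

/-- Extensions of automorphisms map `T` into `T`. -/
theorem maps (C : Core F R T Ξ) {α : MulAut R} (hα : α ∈ F.autGroup R) {ψ : T →* Ω}
    (hψ : ψ ∈ F.Hom T) (hag : ∀ r : R, ψ ⟨r, C.hRT r.2⟩ = ((α r : R) : Ω)) (t : T) : ψ t ∈ T := by
  obtain ⟨htN, hm⟩ := (C.hT t).1 t.2
  have hmap : (R.subgroupOf T).map ψ = R := by
    ext y
    constructor
    · rintro ⟨x, hx, rfl⟩
      have := hag ⟨x, hx⟩
      have e : ψ x = ψ ⟨(⟨x, hx⟩ : R), C.hRT hx⟩ := rfl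
      rw [e, this]
      exact (α ⟨x, hx⟩).2
    · intro hy
      refine ⟨⟨(α⁻¹ ⟨y, hy⟩ : R), C.hRT (α⁻¹ ⟨y, hy⟩).2⟩, (α⁻¹ ⟨y, hy⟩).2, ?_⟩
      rw [hag]
      simp
  have hN : ψ t ∈ Subgroup.normalizer (R : Set Ω) := map_mem_normalizer hmap t htN.2
  refine (C.hT _).2 ⟨⟨map_mem_S hψ t, hN⟩, ?_⟩
  have e : normConj (ψ t) hN = α * normConj (t : Ω) htN.2 * α⁻¹ := by
    ext r
    obtain ⟨r₀, rfl⟩ := α.surjective r
    simp only [MulAut.mul_apply, MulAut.inv_apply_self, normConj_apply]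
    rw [← hag, ← hag]
    rw [← map_inv, ← map_mul, ← map_mul]
    rfl
  rw [e]
  exact C.hΞ _ hα _ hm

theorem ExtTo_mul (C : Core F R T Ξ) {α β : MulAut R} (hα : α ∈ F.autGroup R)
    (hβ : ExtTo F T R C.hRT β) (hα' : ExtTo F T R C.hRT α) : ExtTo F T R C.hRT (β * α) := by
  obtain ⟨ψ, hψ, hag⟩ := hα'
  obtain ⟨χ, hχ, hag'⟩ := hβ
  refine ⟨χ.comp (ψ.codRestrict T (C.maps hα hψ hag)), F.comp_mem hψ hχ _, fun r => ?_⟩
  show χ ⟨ψ ⟨r, _⟩, _⟩ = _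
  have e : (⟨ψ ⟨r, C.hRT r.2⟩, C.maps hα hψ hag _⟩ : T) = ⟨(α r : R), C.hRT (α r).2⟩ :=
    Subtype.ext (hag r)
  rw [e, hag']
  rfl

theorem ExtTo_inv [Finite S] (C : Core F R T Ξ) {α : MulAut R} (hα : α ∈ F.autGroup R)
    (hα' : ExtTo F T R C.hRT α) : ExtTo F T R C.hRT α⁻¹ := by
  obtain ⟨ψ, hψ, hag⟩ := hα'
  have : Finite T := finite_of_le C.le_S
  have hr : ψ.range = T := range_eq_of_card hψ (C.maps hα hψ hag) le_rfl
  obtain ⟨ω, hω, -, h1, -⟩ := exists_inv hψ hr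
  refine ⟨ω, hω, fun r => ?_⟩
  have e1 := hag (α⁻¹ r)
  have e0 : ψ ⟨(α⁻¹ r : R), C.hRT (α⁻¹ r).2⟩ = r := by
    rw [e1]
    simp
  have e2 : (⟨(r : Ω), C.hRT r.2⟩ : T) = ⟨ψ ⟨(α⁻¹ r : R), C.hRT (α⁻¹ r).2⟩, by
      rw [e0]; exact C.hRT r.2⟩ := Subtype.ext e0.symm
  rw [e2]
  exact h1 _ _

end Core

/-- The property of an element `x` of `T` needed to enlarge the source of a map. -/
def GoodX (F : FusionSystem S) (p : ℕ) (R : Subgroup Ω) (x : Ω) : Prop :=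
  ∀ (T' R₅ A : Subgroup Ω) (e : A →* Ω) (e' : A ≃* T'), (∀ a, ((e' a : T') : Ω) = e a) → e ∈ F.Hom A →
    R ≤ A → A ≤ normalizerIn S R → x ∈ Subgroup.normalizer (A : Set Ω) → (R.subgroupOf A).map e = R₅ →
    T' ≤ S → Nice F p T' R₅ →
    ∃ lam ∈ F.autGroup T', (∀ t : T', (t : Ω) ∈ R₅ → ((lam t : T') : Ω) = t) ∧
      ∃ h ∈ S, ∀ (a : A) (hx : x * (a : Ω) * x⁻¹ ∈ A),
        ((lam (e' ⟨_, hx⟩) : T') : Ω) = h * ((lam (e' a) : T') : Ω) * h⁻¹

section Main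

variable [Finite S] {p : ℕ} [Fact p.Prime]

/-- A map carrying `R` onto `R`, restricted to `R`, is an automorphism in `Aut_F(R)`. -/
theorem exists_aut_of_map {A R : Subgroup Ω} {χ : A →* Ω} (hχ : χ ∈ F.Hom A) (hRA : R ≤ A)
    (hm : (R.subgroupOf A).map χ = R) :
    ∃ ν ∈ F.autGroup R, ∀ r : R, χ ⟨r, hRA r.2⟩ = ((ν r : R) : Ω) := by
  have hRS : R ≤ S := hRA.trans (source_le hχ)
  have hres := res_mem hχ hRA
  have hr : (χ.comp (Subgroup.inclusion hRA)).range = R := by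
    refine Eq.trans ?_ hm
    ext y
    constructor
    · rintro ⟨x, rfl⟩
      exact ⟨Subgroup.inclusion hRA x, x.2, rfl⟩
    · rintro ⟨x, hx, rfl⟩
      exact ⟨⟨x, hx⟩, rfl⟩
  let ν : R ≃* R := isoOfRange (F.injective_of_mem hres) hr
  refine ⟨ν, mem_autGroup_of_mem ?_, fun r => rfl⟩
  have e : R.subtype.comp (show MulAut R from ν).toMonoidHom = χ.comp (Subgroup.inclusion hRA) := rfl
  rw [e]
  exact hres

/-- The main induction: single-step automorphisms extend to `T`. -/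
theorem ext_of_single (hS : IsPGroup p S) {R T : Subgroup Ω} {Ξ : Subgroup (MulAut R)} (C : Core F R T Ξ)
    {n : ℕ} (hL : ∀ T' : Subgroup Ω, T' ≤ S → n < Nat.card T' → ClassSat F p T')
    (hArrow : ∀ Q, F.IsConj R Q → Arrow F Q R)
    (hgrow : ∀ A : Subgroup Ω, R ≤ A → A ≤ normalizerIn S R → ¬ T ≤ A →
      ∃ x ∈ T, x ∉ A ∧ x ∈ Subgroup.normalizer (A : Set Ω) ∧ GoodX F p R x) :
    ∀ (m : ℕ) (A : Subgroup Ω) (hRA : R ≤ A) (θ : A →* Ω) (α : MulAut R), Nat.card S - Nat.card A = m →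
      n < Nat.card A → θ ∈ F.Hom A → A ≤ normalizerIn S R → (∀ x, θ x ∈ normalizerIn S R) →
      α ∈ F.autGroup R → (∀ r : R, θ ⟨r, hRA r.2⟩ = ((α r : R) : Ω)) → ExtTo F T R C.hRT α := by
  intro m
  induction m using Nat.strong_induction_on with
  | _ m ih =>
  intro A hRA θ α hm hnA hθ hAN hθv hα hag
  have hAS : A ≤ S := source_le hθ
  by_cases hTA : T ≤ A
  · refine ⟨θ.comp (Subgroup.inclusion hTA), res_mem hθ hTA, fun r => ?_⟩
    exact hag r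
  have hinj := F.injective_of_mem hθ
  have hθm : (R.subgroupOf A).map θ = R := by
    ext y
    constructor
    · rintro ⟨x, hx, rfl⟩
      have := hag ⟨x, hx⟩
      have e : θ x = θ ⟨(⟨x, hx⟩ : R), hRA hx⟩ := rfl
      rw [e, this]
      exact (α ⟨x, hx⟩).2
    · intro hy
      refine ⟨⟨(α⁻¹ ⟨y, hy⟩ : R), hRA (α⁻¹ ⟨y, hy⟩).2⟩, (α⁻¹ ⟨y, hy⟩).2, ?_⟩
      rw [hag]
      simp
  have hRB : R ≤ θ.range := by
    intro y hy
    rw [← hθm] at hy
    obtain ⟨x, -, rfl⟩ := hy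
    exact ⟨x, rfl⟩
  have hBN : θ.range ≤ normalizerIn S R := by
    rintro _ ⟨x, rfl⟩
    exact hθv x
  have hinvcase : T ≤ θ.range → ExtTo F T R C.hRT α := by
    intro hTB
    obtain ⟨ω, hω, -, h1, -⟩ := exists_inv hθ (rfl : θ.range = θ.range)
    have h2 : ExtTo F T R C.hRT α⁻¹ := by
      refine ⟨ω.comp (Subgroup.inclusion hTB), res_mem hω hTB, fun r => ?_⟩
      have e1 := hag (α⁻¹ r)
      have e0 : θ ⟨(α⁻¹ r : R), hRA (α⁻¹ r).2⟩ = r := by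
        rw [e1]
        simp
      have e2 : (Subgroup.inclusion hTB ⟨(r : Ω), C.hRT r.2⟩ : θ.range) =
          ⟨θ ⟨(α⁻¹ r : R), hRA (α⁻¹ r).2⟩, ⟨_, rfl⟩⟩ := Subtype.ext e0.symm
      show ω (Subgroup.inclusion hTB ⟨(r : Ω), C.hRT r.2⟩) = _
      rw [e2]
      exact h1 _ _
    have h3 := C.ExtTo_inv (α := α⁻¹) ((F.autGroup R).inv_mem hα) h2
    rwa [inv_inv] at h3
  by_cases hTB : T ≤ θ.range
  · exact hinvcase hTB
  -- the main case
  have hTN := C.le_normalizerIn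
  have hBlt : θ.range < normalizerIn S R :=
    lt_of_le_of_ne hBN (fun e => hTB (by rw [e]; exact hTN))
  have : Finite (normalizerIn S R) := finite_of_le normalizerIn_le
  have hNp : IsPGroup p (normalizerIn S R) := hS.to_le normalizerIn_le
  have hB₁ := lt_normalizerIn hNp hBlt
  have hcBA : Nat.card θ.range = Nat.card A := card_range_eq hinj
  have hnB : n < Nat.card θ.range := by omega
  have hBS : θ.range ≤ S := range_le hθ
  obtain ⟨T', R₅, v₀, hT'S, hT'a, hT'r, hT'n, hT'fn, hv₀, hv₀r, hv₀m⟩ :=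
    exists_nice_map (R := R) hS hBS
      (fun T'' hT'' => hL T'' (Basic.IsConj.le_right hT'') (by rw [← Basic.IsConj.card_eq hT'']; exact hnB))
  have hB₁N : normalizerIn (normalizerIn S R) θ.range ≤ normalizerIn S θ.range :=
    inf_le_inf_right _ normalizerIn_le
  obtain ⟨δ, hδ, v, hv, hvag, hvm⟩ := extend_nice hS hT'S hT'r hT'n hv₀ hv₀r hRB hv₀m hB₁.le hB₁N
    (normalizerIn_le.trans inf_le_right)
  -- the arrow back to `R`
  have hRR₅ : F.IsConj R R₅ := isConj_of_map hv₀ hRB hv₀m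
  obtain ⟨g, hg, hgv, hgm⟩ := hArrow R₅ hRR₅
  have hvN : ∀ x, v x ∈ normalizerIn S R₅ := fun x =>
    ⟨map_mem_S hv x, map_mem_normalizer hvm x (normalizerIn_le x.2).2⟩
  let nuH : normalizerIn (normalizerIn S R) θ.range →* Ω := g.comp (v.codRestrict _ hvN)
  have hnuH : nuH ∈ F.Hom _ := F.comp_mem hv hg hvN
  have hnuHm : (R.subgroupOf (normalizerIn (normalizerIn S R) θ.range)).map nuH = R :=
    map_comp_eq hvN hvm hgm (fun _ => rfl)
  have hRB₁ := hRB.trans hB₁.le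
  obtain ⟨ν, hν, hνag⟩ := exists_aut_of_map hnuH hRB₁ hnuHm
  have : Finite (normalizerIn (normalizerIn S R) θ.range) :=
    finite_of_le (S := S) (normalizerIn_le.trans normalizerIn_le)
  have hc₁ : Nat.card A < Nat.card (normalizerIn (normalizerIn S R) θ.range) := by
    have := card_lt_of_lt hB₁
    omega
  have hASc := card_le_S hAS
  have hB₁Sc : Nat.card (normalizerIn (normalizerIn S R) θ.range) ≤ Nat.card S :=
    card_le_S (normalizerIn_le.trans normalizerIn_le)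
  have hνe : ExtTo F T R C.hRT ν := by
    refine ih (Nat.card S - Nat.card (normalizerIn (normalizerIn S R) θ.range)) (by omega) _ hRB₁ nuH ν rfl
      (by omega) hnuH normalizerIn_le (fun x => hgv _) hν hνag
  -- the composite on `A`
  have hθB₁ : ∀ a, θ a ∈ normalizerIn (normalizerIn S R) θ.range := fun a => hB₁.le ⟨a, rfl⟩
  let e : A →* Ω := v.comp (θ.codRestrict _ hθB₁)
  have he : e ∈ F.Hom A := F.comp_mem hθ hv hθB₁
  have hev : ∀ a : A, e a = v ⟨θ a, hθB₁ a⟩ := fun _ => rfl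
  have hem : (R.subgroupOf A).map e = R₅ := map_comp_eq hθB₁ hθm hvm (fun _ => rfl)
  have her : e.range = T' := by
    ext y
    constructor
    · rintro ⟨a, rfl⟩
      rw [hev]
      have h0 : v₀ ⟨θ a, ⟨a, rfl⟩⟩ ∈ T' := by rw [← hv₀r]; exact ⟨_, rfl⟩
      have := hvag ⟨θ a, ⟨a, rfl⟩⟩ h0
      have e3 : v ⟨θ a, hθB₁ a⟩ = _ := this
      rw [e3]
      exact (δ ⟨_, h0⟩).2
    · intro hy
      obtain ⟨b, hb⟩ : ∃ b : θ.range, v₀ b = ((δ⁻¹ ⟨y, hy⟩ : T') : Ω) := by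
        have h4 : ((δ⁻¹ ⟨y, hy⟩ : T') : Ω) ∈ v₀.range := by rw [hv₀r]; exact (δ⁻¹ ⟨y, hy⟩).2
        exact h4
      obtain ⟨_, a, rfl⟩ := b
      refine ⟨a, ?_⟩
      rw [hev]
      have h0 : v₀ ⟨θ a, ⟨a, rfl⟩⟩ ∈ T' := by rw [← hv₀r]; exact ⟨_, rfl⟩
      have := hvag ⟨θ a, ⟨a, rfl⟩⟩ h0
      have e3 : v ⟨θ a, hθB₁ a⟩ = _ := this
      rw [e3]
      have e4 : (⟨v₀ ⟨θ a, ⟨a, rfl⟩⟩, h0⟩ : T') = δ⁻¹ ⟨y, hy⟩ := Subtype.ext hb
      rw [e4]
      simp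
  let e' : A ≃* T' := isoOfRange (F.injective_of_mem he) her
  have he' : ∀ a, ((e' a : T') : Ω) = e a := fun _ => rfl
  -- the growing element
  obtain ⟨x, hxT, hxA, hxN, hxG⟩ := hgrow A hRA hAN hTA
  obtain ⟨lam, hlam, hlam1, h, hhS, hhe⟩ := hxG T' R₅ A e e' he' he hRA hAN hxN hem hT'S hT'n
  let φ : A →* Ω := T'.subtype.comp (lam.toMonoidHom.comp e'.toMonoidHom)
  have hφv : ∀ a : A, φ a = ((lam (e' a) : T') : Ω) := fun _ => rfl
  have hφ : φ ∈ F.Hom A :=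
    comp_mem' he (autGroup_mem_hom hT'S hlam) (fun a => by rw [← he']; exact (e' a).2) (fun _ => rfl)
  have hφr : φ.range = T' := by
    ext y
    constructor
    · rintro ⟨a, rfl⟩
      exact (lam (e' a)).2
    · intro hy
      refine ⟨e'.symm (lam⁻¹ ⟨y, hy⟩), ?_⟩
      rw [hφv]
      simp
  have hxS : x ∈ S := C.le_S hxT
  have hxE : x ∈ extender S A φ :=
    extender_closure_mem hxS hxN hhS (fun a hx => by rw [hφv, hφv]; exact hhe a hx)
  have hAE : A ≤ extender S A φ := le_extender hAS (map_mem_S hφ)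
  obtain ⟨ψ, hψ, hψag⟩ := hT'r.2 A φ hφ hφr
  have hA₁E : A ⊔ Subgroup.zpowers x ≤ extender S A φ :=
    sup_le hAE ((Subgroup.zpowers_le).2 hxE)
  have hA₁N : A ⊔ Subgroup.zpowers x ≤ normalizerIn S R :=
    sup_le hAN ((Subgroup.zpowers_le).2 (hTN hxT))
  let w : ↥(A ⊔ Subgroup.zpowers x) →* Ω := ψ.comp (Subgroup.inclusion hA₁E)
  have hw : w ∈ F.Hom _ := res_mem hψ hA₁E
  have hAA₁ : A ≤ A ⊔ Subgroup.zpowers x := le_sup_left
  have hwv : ∀ a : A, w ⟨a, hAA₁ a.2⟩ = φ a := fun a => hψag a a.2 (hA₁E (hAA₁ a.2))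
  have hwm : (R.subgroupOf (A ⊔ Subgroup.zpowers x)).map w = R₅ := by
    ext y
    constructor
    · rintro ⟨z, hz, rfl⟩
      have hzR : (z : Ω) ∈ R := hz
      have e1 : w z = w ⟨((⟨z, hRA hzR⟩ : A) : Ω), hAA₁ (hRA hzR)⟩ := rfl
      rw [e1, hwv, hφv]
      have hmem : e ⟨z, hRA hzR⟩ ∈ R₅ := by
        rw [← hem]
        exact ⟨⟨z, hRA hzR⟩, hz, rfl⟩
      rw [hlam1 _ (by rw [he']; exact hmem), he']
      exact hmem
    · intro hy
      have hy' := hy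
      rw [← hem] at hy'
      obtain ⟨a, ha, hae⟩ := hy'
      refine ⟨⟨a, hAA₁ a.2⟩, ha, ?_⟩
      rw [hwv, hφv, hlam1 _ (by rw [he', hae]; exact hy), he', hae]
  have hwN : ∀ z, w z ∈ normalizerIn S R₅ := fun z =>
    ⟨map_mem_S hw z, map_mem_normalizer hwm z (hA₁N z.2).2⟩
  let χ : ↥(A ⊔ Subgroup.zpowers x) →* Ω := g.comp (w.codRestrict _ hwN)
  have hχ : χ ∈ F.Hom _ := F.comp_mem hw hg hwN
  have hχv : ∀ z, χ z ∈ normalizerIn S R := fun z => hgv _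
  have hRA₁ : R ≤ A ⊔ Subgroup.zpowers x := hRA.trans hAA₁
  have hlt : A < A ⊔ Subgroup.zpowers x := by
    refine lt_of_le_of_ne hAA₁ (fun e => hxA ?_)
    rw [e]
    exact (le_sup_right : Subgroup.zpowers x ≤ _) (Subgroup.mem_zpowers x)
  have hc₂ : Nat.card A < Nat.card ↥(A ⊔ Subgroup.zpowers x) := by
    have : Finite ↥(A ⊔ Subgroup.zpowers x) := finite_of_le (hA₁N.trans normalizerIn_le)
    exact card_lt_of_lt hlt
  have hc₂S : Nat.card ↥(A ⊔ Subgroup.zpowers x) ≤ Nat.card S := card_le_S (hA₁N.trans normalizerIn_le)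
  have hνα : ∀ r : R, χ ⟨r, hRA₁ r.2⟩ = (((ν * α) r : R) : Ω) := by
    intro r
    have hrA : (r : Ω) ∈ A := hRA r.2
    have hmem : e ⟨r, hrA⟩ ∈ R₅ := by
      rw [← hem]
      exact ⟨⟨r, hrA⟩, r.2, rfl⟩
    have e1 : w ⟨r, hRA₁ r.2⟩ = e ⟨r, hrA⟩ := by
      have := hwv ⟨r, hrA⟩
      rw [hφv, hlam1 _ (by rw [he']; exact hmem), he'] at this
      exact this
    have e2 : (⟨θ ⟨r, hrA⟩, hθB₁ _⟩ : normalizerIn (normalizerIn S R) θ.range) =
        ⟨((α r : R) : Ω), hRB₁ (α r).2⟩ := Subtype.ext (hag r)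
    have e3 := hνag (α r)
    have e4 : χ ⟨r, hRA₁ r.2⟩ = g ⟨v ⟨θ ⟨r, hrA⟩, hθB₁ _⟩, hvN _⟩ := by
      show g ⟨w ⟨r, hRA₁ r.2⟩, hwN _⟩ = _
      congr 2
    rw [e4]
    have e5 : (⟨v ⟨θ ⟨r, hrA⟩, hθB₁ _⟩, hvN _⟩ : normalizerIn S R₅) =
        ⟨v ⟨((α r : R) : Ω), hRB₁ (α r).2⟩, hvN _⟩ := by
      apply Subtype.ext
      show v _ = v _
      rw [e2]
    rw [e5]
    exact e3
  have hναe : ExtTo F T R C.hRT (ν * α) := by
    refine ih (Nat.card S - Nat.card ↥(A ⊔ Subgroup.zpowers x)) (by omega) _ hRA₁ χ (ν * α) rfl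
      (by omega) hχ hA₁N hχv ((F.autGroup R).mul_mem hν hα) hνα
  have hνi := C.ExtTo_inv hν hνe
  have := C.ExtTo_mul ((F.autGroup R).mul_mem hν hα) hνi hναe
  rwa [inv_mul_cancel_left] at this

end Main

end Cfsg.Agent.Lib.Fusion.SatCrit
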