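/-
The BCGLO saturation criterion, part 5: all of `Aut_F(R)` extends to `T` (chain argument).
-/
import Mathlib
import Cfsg.Prelude.Def_FusionSystem
import Cfsg.Agent.Lib.Fusion.Basic
import Cfsg.Agent.Lib.Fusion.Saturated
import Cfsg.Agent.Lib.Fusion.Saturated2
import Cfsg.Agent.Lib.Fusion.GroupSylow
import Cfsg.Agent.Lib.Fusion.SatCrit1
import Cfsg.Agent.Lib.Fusion.SatCrit2
import Cfsg.Agent.Lib.Fusion.SatCrit3
import Cfsg.Agent.Lib.Fusion.SatCrit4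

set_option autoImplicit false

namespace Cfsg.Agent.Lib.Fusion.SatCrit

open Cfsg Cfsg.FusionSystem Cfsg.Agent.Lib.Fusion.Basic Cfsg.Agent.Lib.Fusion.Saturated
  Cfsg.Agent.Lib.Fusion.Saturated2

variable {Ω : Type*} [Group Ω] {S : Subgroup Ω} {F : FusionSystem S}

/-- Two maps with source `Q` and range `R` differ by an element of `Aut_F(R)`. -/
theorem exists_alpha {Q R : Subgroup Ω} {ρ σ : Q →* Ω} (hρ : ρ ∈ F.Hom Q) (hσ : σ ∈ F.Hom Q)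
    (hρr : ρ.range = R) (hσr : σ.range = R) :
    ∃ α ∈ F.autGroup R, ∀ (x : Q) (h : ρ x ∈ R), ((α ⟨ρ x, h⟩ : R) : Ω) = σ x := by
  have hinjρ := F.injective_of_mem hρ
  have hinjσ := F.injective_of_mem hσ
  let eρ : Q ≃* R := isoOfRange hinjρ hρr
  let eσ : Q ≃* R := isoOfRange hinjσ hσr
  have heρ : ∀ x, ((eρ x : R) : Ω) = ρ x := fun _ => rfl
  have heσ : ∀ x, ((eσ x : R) : Ω) = σ x := fun _ => rfl
  let α : MulAut R := eρ.symm.trans eσ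
  have hαv : ∀ y : R, ((α y : R) : Ω) = σ (eρ.symm y) := fun _ => rfl
  refine ⟨α, mem_autGroup_of_mem ?_, fun x h => ?_⟩
  · obtain ⟨ω, hω, hωr, -, h2⟩ := exists_inv hρ hρr
    have hωv : ∀ y, ω y ∈ Q := fun y => (SetLike.ext_iff.1 hωr _).1 ⟨y, rfl⟩
    refine comp_mem' hω hσ hωv (fun y => ?_)
    show ((α y : R) : Ω) = _
    rw [hαv]
    congr 1
    apply eρ.injective
    rw [MulEquiv.apply_symm_apply]
    apply Subtype.ext
    rw [heρ]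
    exact (h2 y (hωv y)).symm
  · rw [hαv]
    congr 1
    apply eρ.injective
    rw [MulEquiv.apply_symm_apply]
    exact Subtype.ext (heρ x).symm

/-- A chart of `Q`: a map onto `R` extending to `N_S(Q) → N_S(R)`. -/
def IsChart (F : FusionSystem S) (R Q : Subgroup Ω) (ρ : Q →* Ω) : Prop :=
  ρ ∈ F.Hom Q ∧ ρ.range = R ∧ ∃ g ∈ F.Hom (normalizerIn S Q), (∀ x, g x ∈ normalizerIn S R) ∧
    ∀ (x : Q) (hx : (x : Ω) ∈ normalizerIn S Q), g ⟨x, hx⟩ = ρ x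

theorem exists_chart {R Q : Subgroup Ω} (hQ : Q ≤ S) (h : Arrow F Q R) : ∃ ρ, IsChart F R Q ρ := by
  obtain ⟨g, hg, hgv, hgm⟩ := h
  have hQN := le_normalizerIn hQ
  refine ⟨g.comp (Subgroup.inclusion hQN), res_mem hg hQN, ?_, g, hg, hgv, fun x hx => rfl⟩
  refine Eq.trans ?_ hgm
  ext y
  constructor
  · rintro ⟨x, rfl⟩
    exact ⟨Subgroup.inclusion hQN x, x.2, rfl⟩
  · rintro ⟨x, hx, rfl⟩
    exact ⟨⟨x, hx⟩, rfl⟩

/-- The chain predicate. -/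
def C2 (F : FusionSystem S) (R T : Subgroup Ω) (hRT : R ≤ T) (Q : Subgroup Ω) (φ : Q →* Ω) : Prop :=
  ∀ (Q' : Subgroup Ω), φ.range = Q' → ∀ (ρ₁ : Q →* Ω) (ρ₂ : Q' →* Ω), IsChart F R Q ρ₁ → IsChart F R Q' ρ₂ →
    ∀ α ∈ F.autGroup R, (∀ (x : Q) (h₁ : ρ₁ x ∈ R) (h₂ : φ x ∈ Q'), ((α ⟨ρ₁ x, h₁⟩ : R) : Ω) = ρ₂ ⟨φ x, h₂⟩) →
      ExtTo F T R hRT α

section Main

variable [Finite S] {p : ℕ} [Fact p.Prime]

theorem ext_all (hS : IsPGroup p S) {ℋ : Set (Subgroup Ω)}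
    (hgen : ∀ E : FusionSystem S, (∀ P ∈ ℋ, F.Hom P ⊆ E.Hom P) → F ≤ E)
    {R T : Subgroup Ω} {Ξ : Subgroup (MulAut R)} (C : Core F R T Ξ)
    (hL : ∀ T' : Subgroup Ω, T' ≤ S → Nat.card R < Nat.card T' → ClassSat F p T')
    (hCl : ∀ Q, F.IsConj R Q → Q ∉ ℋ ∧ Q < S)
    (hArrow : ∀ Q, F.IsConj R Q → Arrow F Q R)
    (hgrow : ∀ A : Subgroup Ω, R ≤ A → A ≤ normalizerIn S R → ¬ T ≤ A →
      ∃ x ∈ T, x ∉ A ∧ x ∈ Subgroup.normalizer (A : Set Ω) ∧ GoodX F p R x) :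
    ∀ α ∈ F.autGroup R, ExtTo F T R C.hRT α := by
  have hRS := C.hRS
  have hchain := chain_principle hS ℋ hgen {Q | F.IsConj R Q}
    (fun Q hQ φ hφ => Basic.IsConj.trans hQ ⟨φ, hφ, rfl⟩)
    (fun Q hQ => (hCl Q hQ).1) (fun Q hQ => (hCl Q hQ).2)
    (C2 F R T C.hRT)
    (by
      intro Q hQ Q' φ ψ hφ hψ hr h c1 c2 Q'' hr'' ρ₁ ρ₃ hρ₁ hρ₃ α hα hrel
      have hQ'c : F.IsConj R Q' := Basic.IsConj.trans hQ ⟨φ, hφ, hr⟩
      obtain ⟨ρ₂, hρ₂⟩ := exists_chart (Basic.IsConj.le_right hQ'c) (hArrow Q' hQ'c)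
      have hσ : ρ₂.comp (φ.codRestrict Q' h) ∈ F.Hom Q := F.comp_mem hφ hρ₂.1 h
      have hσr : (ρ₂.comp (φ.codRestrict Q' h)).range = R := by
        rw [← hρ₂.2.1]
        ext y
        constructor
        · rintro ⟨x, rfl⟩
          exact ⟨_, rfl⟩
        · rintro ⟨⟨z, hz⟩, rfl⟩
          have hz' : z ∈ φ.range := by rw [hr]; exact hz
          obtain ⟨x, hx⟩ := hz'
          refine ⟨x, ?_⟩
          show ρ₂ ⟨φ x, _⟩ = _
          congr 1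
          exact Subtype.ext hx
      obtain ⟨α₁, hα₁, hα₁v⟩ := exists_alpha hρ₁.1 hσ hρ₁.2.1 hσr
      have hE₁ : ExtTo F T R C.hRT α₁ :=
        c1 Q' hr ρ₁ ρ₂ hρ₁ hρ₂ α₁ hα₁ (fun x h₁ h₂ => hα₁v x h₁)
      have hψr : ψ.range = Q'' := by
        rw [← hr'']
        ext y
        constructor
        · rintro ⟨⟨z, hz⟩, rfl⟩
          have hz' : z ∈ φ.range := by rw [hr]; exact hz
          obtain ⟨x, hx⟩ := hz'
          refine ⟨x, ?_⟩
          show ψ ⟨φ x, _⟩ = _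
          congr 1
          exact Subtype.ext hx
        · rintro ⟨x, rfl⟩
          exact ⟨_, rfl⟩
      have hE₂ : ExtTo F T R C.hRT (α * α₁⁻¹) := by
        refine c2 Q'' hψr ρ₂ ρ₃ hρ₂ hρ₃ _ ((F.autGroup R).mul_mem hα ((F.autGroup R).inv_mem hα₁))
          (fun y h₁ h₂ => ?_)
        obtain ⟨x, hx⟩ : (y : Ω) ∈ φ.range := by rw [hr]; exact y.2
        have hxR : ρ₁ x ∈ R := by rw [← hρ₁.2.1]; exact ⟨x, rfl⟩
        have e1 := hα₁v x hxR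
        have e2 : (ρ₂.comp (φ.codRestrict Q' h)) x = ρ₂ y := by
          show ρ₂ ⟨φ x, _⟩ = _
          congr 1
          exact Subtype.ext hx
        rw [e2] at e1
        have e3 : α₁ ⟨ρ₁ x, hxR⟩ = ⟨ρ₂ y, h₁⟩ := Subtype.ext e1
        have e4 : α₁⁻¹ ⟨ρ₂ y, h₁⟩ = ⟨ρ₁ x, hxR⟩ := by
          rw [← e3]
          simp
        rw [MulAut.mul_apply, e4]
        have hψx : (ψ.comp (φ.codRestrict Q' h)) x ∈ Q'' := by rw [← hr'']; exact ⟨x, rfl⟩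
        have e5 := hrel x hxR hψx
        rw [e5]
        congr 1
        apply Subtype.ext
        show ψ ⟨φ x, _⟩ = ψ y
        congr 1
        exact Subtype.ext hx
      have := C.ExtTo_mul hα₁ hE₂ hE₁
      rwa [inv_mul_cancel_right] at this)
    (by
      intro Q hQ Q' φ ψ hφ hψ hr hinv c1 Q'' hr'' ρ₁ ρ₂ hρ₁ hρ₂ α hα hrel
      have e : Q'' = Q := by
        rw [← hr'']
        ext y
        constructor
        · rintro ⟨z, rfl⟩
          have hz' : (z : Ω) ∈ φ.range := by rw [hr]; exact z.2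
          obtain ⟨x, hx⟩ := hz'
          have e1 : z = ⟨φ x, hx ▸ z.2⟩ := Subtype.ext hx.symm
          rw [e1, hinv]
          exact x.2
        · intro hy
          have hmem : φ ⟨y, hy⟩ ∈ Q' := by rw [← hr]; exact ⟨_, rfl⟩
          exact ⟨⟨_, hmem⟩, hinv ⟨y, hy⟩ hmem⟩
      subst e
      have h3 : ExtTo F T R C.hRT α⁻¹ := by
        refine c1 Q' hr ρ₂ ρ₁ hρ₂ hρ₁ _ ((F.autGroup R).inv_mem hα) (fun x h₁ h₂ => ?_)
        have hyR : ρ₁ ⟨φ x, h₂⟩ ∈ R := by rw [← hρ₁.2.1]; exact ⟨_, rfl⟩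
        have hψx := hinv x h₂
        have hmem : ψ ⟨φ x, h₂⟩ ∈ Q'' := by rw [hψx]; exact x.2
        have e5 := hrel ⟨φ x, h₂⟩ hyR hmem
        have e6 : ρ₂ ⟨ψ ⟨φ x, h₂⟩, hmem⟩ = ρ₂ x := by
          congr 1
          exact Subtype.ext hψx
        rw [e6] at e5
        have e7 : α ⟨ρ₁ ⟨φ x, h₂⟩, hyR⟩ = ⟨ρ₂ x, h₁⟩ := Subtype.ext e5
        have e8 : α⁻¹ ⟨ρ₂ x, h₁⟩ = ⟨ρ₁ ⟨φ x, h₂⟩, hyR⟩ := by
          rw [← e7]
          simp
        rw [e8]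
      have := C.ExtTo_inv ((F.autGroup R).inv_mem hα) h3
      rwa [inv_inv] at this)
    (by
      intro Q hQ A hQA hAN θ hθ Q' hr ρ₁ ρ₂ hρ₁ hρ₂ α hα hrel
      obtain ⟨g₁, hg₁, hg₁v, hg₁ρ⟩ := hρ₁.2.2
      obtain ⟨g₂, hg₂, hg₂v, hg₂ρ⟩ := hρ₂.2.2
      have hAS : A ≤ S := source_le hθ
      have hQS : Q ≤ S := hQA.le.trans hAS
      -- the transported source
      let g₁' : A →* Ω := g₁.comp (Subgroup.inclusion hAN)
      have hg₁' : g₁' ∈ F.Hom A := res_mem hg₁ hAN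
      have hg₁'inj := F.injective_of_mem hg₁'
      obtain ⟨ω, hω, hωr, hω1, -⟩ := exists_inv hg₁' (rfl : g₁'.range = g₁'.range)
      have hωv : ∀ y, ω y ∈ A := fun y => (SetLike.ext_iff.1 hωr _).1 ⟨y, rfl⟩
      have hg₁'ρ : ∀ x : Q, g₁' ⟨x, hQA.le x.2⟩ = ρ₁ x := fun x => hg₁ρ x _
      have hRA' : R ≤ g₁'.range := by
        intro r hr'
        rw [← hρ₁.2.1] at hr'
        obtain ⟨x, rfl⟩ := hr'
        exact ⟨⟨x, hQA.le x.2⟩, hg₁'ρ x⟩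
      have hA'N : g₁'.range ≤ normalizerIn S R := by
        rintro _ ⟨a, rfl⟩
        exact hg₁v _
      -- `θ` normalizes `Q'`
      have hθm : (Q.subgroupOf A).map θ = Q' := by
        rw [← hr]
        ext y
        constructor
        · rintro ⟨x, hx, rfl⟩
          exact ⟨⟨x, hx⟩, rfl⟩
        · rintro ⟨x, rfl⟩
          exact ⟨Subgroup.inclusion hQA.le x, x.2, rfl⟩
      have hθN : ∀ a : A, θ a ∈ normalizerIn S Q' := fun a =>
        ⟨map_mem_S hθ a, map_mem_normalizer hθm a (hAN a.2).2⟩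
      let hatθ : g₁'.range →* Ω :=
        g₂.comp ((θ.codRestrict _ hθN).comp (ω.codRestrict A hωv))
      have hhatθ : hatθ ∈ F.Hom g₁'.range :=
        F.comp_mem (F.comp_mem hω hθ hωv) hg₂ (fun y => hθN _)
      have hcard : Nat.card R < Nat.card g₁'.range := by
        rw [card_range_eq hg₁'inj, Basic.IsConj.card_eq hQ]
        have : Finite A := finite_of_le hAS
        exact card_lt_of_lt hQA
      refine ext_of_single hS C hL hArrow hgrow _ _ hRA' hatθ α rfl hcard hhatθ hA'N (fun x => hg₂v _) hα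
        (fun r => ?_)
      -- the relation
      have hr1 : (r : Ω) ∈ ρ₁.range := by rw [hρ₁.2.1]; exact r.2
      obtain ⟨x, hx⟩ := hr1
      have hxA : (x : Ω) ∈ A := hQA.le x.2
      have e1 : (⟨(r : Ω), hRA' r.2⟩ : g₁'.range) = ⟨g₁' ⟨x, hxA⟩, ⟨_, rfl⟩⟩ := by
        apply Subtype.ext
        show (r : Ω) = g₁' ⟨x, hxA⟩
        rw [hg₁'ρ x, hx]
      have e2 : ω ⟨g₁' ⟨x, hxA⟩, ⟨_, rfl⟩⟩ = x := hω1 ⟨x, hxA⟩ _
      have e3 : (ω.codRestrict A hωv) ⟨g₁' ⟨x, hxA⟩, ⟨_, rfl⟩⟩ = ⟨x, hxA⟩ := Subtype.ext e2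
      show g₂ (((θ.codRestrict _ hθN).comp (ω.codRestrict A hωv)) ⟨(r : Ω), hRA' r.2⟩) = _
      rw [e1, MonoidHom.comp_apply, e3]
      have hφx : (θ.comp (Subgroup.inclusion hQA.le)) x ∈ Q' := by rw [← hr]; exact ⟨x, rfl⟩
      have hxR : ρ₁ x ∈ R := by rw [← hρ₁.2.1]; exact ⟨x, rfl⟩
      have e4 := hrel x hxR hφx
      have e5 : (⟨ρ₁ x, hxR⟩ : R) = r := Subtype.ext hx
      rw [e5] at e4
      rw [e4]
      have e6 := hg₂ρ ⟨_, hφx⟩ (le_normalizerIn (Basic.IsConj.le_right (F := F) (by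
        rw [← hr]; exact ⟨_, res_mem hθ hQA.le, rfl⟩ : F.IsConj Q _)) hφx)
      exact e6)
  intro α hα
  have hφ : R.subtype.comp α.toMonoidHom ∈ F.Hom R := autGroup_mem_hom hRS hα
  have hr : (R.subtype.comp α.toMonoidHom).range = R := by
    ext y
    constructor
    · rintro ⟨x, rfl⟩
      exact (α x).2
    · intro hy
      refine ⟨α⁻¹ ⟨y, hy⟩, ?_⟩
      simp
  have hch : IsChart F R R R.subtype := by
    refine ⟨subtype_mem hRS, Subgroup.range_subtype R, (normalizerIn S R).subtype,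
      subtype_mem normalizerIn_le, fun x => x.2, fun x hx => rfl⟩
  exact hchain R (Basic.IsConj.refl hRS) _ hφ R hr R.subtype R.subtype hch hch α hα
    (fun x h₁ h₂ => rfl)

end Main

end Cfsg.Agent.Lib.Fusion.SatCrit
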