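/-
The BCGLO saturation criterion, part 6: restrictions of automorphisms, and from the extension of all of
`Aut_F(R)` to `T` to `R` being fully automized and receptive.
-/
import Mathlib
import Cfsg.Prelude.Def_FusionSystem
import Cfsg.Agent.Lib.Fusion.Basic
import Cfsg.Agent.Lib.Fusion.Saturated
import Cfsg.Agent.Lib.Fusion.Saturated2
import Cfsg.Agent.Lib.Fusion.GroupSylow
import Cfsg.Agent.Lib.Fusion.SatCrit1
import Cfsg.Agent.Lib.Fusion.SatCrit2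
import Cfsg.Agent.Lib.Fusion.SatCrit3
import Cfsg.Agent.Lib.Fusion.SatCrit4
import Cfsg.Agent.Lib.Fusion.SatCrit5

set_option autoImplicit false

namespace Cfsg.Agent.Lib.Fusion.SatCrit

open Cfsg Cfsg.FusionSystem Cfsg.Agent.Lib.Fusion.Basic Cfsg.Agent.Lib.Fusion.Saturated
  Cfsg.Agent.Lib.Fusion.Saturated2
open Cfsg.Agent.Lib.Fusion.GroupSylow (cj mem_cj conj_mem_cj cj_le_iff card_cj IsSylowIn isSylowIn_iff_card
  IsSylowIn.exists_conj_le cj_inv_cj cj_mono)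

variable {Ω : Type*} [Group Ω] {S : Subgroup Ω} {F : FusionSystem S}

/-! ### Restriction of automorphisms -/

/-- Restriction of an automorphism of `T` preserving `R ≤ T`. -/
def resAut {T R : Subgroup Ω} (hRT : R ≤ T) (γ : MulAut T) (hγ : γ ∈ stabIn T R) : MulAut R where
  toFun r := ⟨γ ⟨r, hRT r.2⟩, (hγ ⟨r, hRT r.2⟩).2 r.2⟩
  invFun r := ⟨γ⁻¹ ⟨r, hRT r.2⟩, ((stabIn T R).inv_mem hγ ⟨r, hRT r.2⟩).2 r.2⟩
  left_inv r := by
    apply Subtype.ext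
    have e : (⟨((γ ⟨r, hRT r.2⟩ : T) : Ω), hRT ((hγ ⟨r, hRT r.2⟩).2 r.2)⟩ : T) = γ ⟨r, hRT r.2⟩ := rfl
    simp only [e, MulAut.inv_apply_self]
  right_inv r := by
    apply Subtype.ext
    have e : (⟨((γ⁻¹ ⟨r, hRT r.2⟩ : T) : Ω), hRT (((stabIn T R).inv_mem hγ ⟨r, hRT r.2⟩).2 r.2)⟩ : T) =
        γ⁻¹ ⟨r, hRT r.2⟩ := rfl
    simp only [e, MulAut.apply_inv_self]
  map_mul' a b := by
    apply Subtype.ext
    have e : (⟨((a * b : R) : Ω), hRT (a * b).2⟩ : T) = ⟨a, hRT a.2⟩ * ⟨b, hRT b.2⟩ := rfl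
    show ((γ ⟨((a * b : R) : Ω), hRT (a * b).2⟩ : T) : Ω) = _
    rw [e, map_mul]
    rfl

@[simp] theorem resAut_apply {T R : Subgroup Ω} (hRT : R ≤ T) (γ : MulAut T) (hγ : γ ∈ stabIn T R) (r : R) :
    ((resAut hRT γ hγ r : R) : Ω) = γ ⟨r, hRT r.2⟩ := rfl

theorem resAut_mul {T R : Subgroup Ω} (hRT : R ≤ T) {γ δ : MulAut T} (hγ : γ ∈ stabIn T R)
    (hδ : δ ∈ stabIn T R) :
    resAut hRT (γ * δ) ((stabIn T R).mul_mem hγ hδ) = resAut hRT γ hγ * resAut hRT δ hδ := by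
  ext r
  rfl

/-- Restriction as a homomorphism. -/
def resHom {T R : Subgroup Ω} (hRT : R ≤ T) : stabIn T R →* MulAut R where
  toFun γ := resAut hRT γ.1 γ.2
  map_one' := by
    ext r
    rfl
  map_mul' a b := by
    ext r
    rfl

@[simp] theorem resHom_apply {T R : Subgroup Ω} (hRT : R ≤ T) (γ : stabIn T R) (r : R) :
    ((resHom hRT γ r : R) : Ω) = (γ : MulAut T) ⟨r, hRT r.2⟩ := rfl

/-- The preimage in `stabIn T R` of a subgroup of `Aut(R)`, as a subgroup of `Aut(T)`. -/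
def preIm {T R : Subgroup Ω} (hRT : R ≤ T) (Ξ : Subgroup (MulAut R)) : Subgroup (MulAut T) :=
  (Ξ.comap (resHom hRT)).map (stabIn T R).subtype

theorem mem_preIm {T R : Subgroup Ω} {hRT : R ≤ T} {Ξ : Subgroup (MulAut R)} {δ : MulAut T} :
    δ ∈ preIm hRT Ξ ↔ ∃ h : δ ∈ stabIn T R, resAut hRT δ h ∈ Ξ := by
  constructor
  · rintro ⟨γ, hγ, rfl⟩
    exact ⟨γ.2, hγ⟩
  · rintro ⟨h, hm⟩
    exact ⟨⟨δ, h⟩, hm, rfl⟩

theorem preIm_le_stabIn {T R : Subgroup Ω} (hRT : R ≤ T) (Ξ : Subgroup (MulAut R)) :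
    preIm hRT Ξ ≤ stabIn T R := Subgroup.map_subtype_le _

/-- Restrictions of `Aut_F(T)` lie in `Aut_F(R)`. -/
theorem resAut_mem_autGroup {T R : Subgroup Ω} (hTS : T ≤ S) (hRT : R ≤ T) {γ : MulAut T}
    (hγ : γ ∈ stabIn T R) (hγF : γ ∈ F.autGroup T) : resAut hRT γ hγ ∈ F.autGroup R := by
  apply mem_autGroup_of_mem
  exact mem_of_eq_res (autGroup_mem_hom hTS hγF) hRT (fun x => rfl)

/-! ### Group lemmas -/

section Group

variable {G G' : Type*} [Group G] [Group G'] [Finite G] [Finite G'] {p : ℕ} [Fact p.Prime]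

/-- Sylow subgroups pull back along isomorphisms. -/
theorem isSylowIn_of_map (c : G ≃* G') {K H : Subgroup G} (hKH : K ≤ H)
    (h : IsSylowIn p (K.map c.toMonoidHom) (H.map c.toMonoidHom)) : IsSylowIn p K H := by
  rw [isSylowIn_iff_card (Subgroup.map_mono hKH)] at h
  rw [isSylowIn_iff_card hKH]
  obtain ⟨h1, h2⟩ := h
  have hc : ∀ U : Subgroup G, Nat.card (U.map c.toMonoidHom) = Nat.card U := fun U =>
    Subgroup.card_map_of_injective c.injective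
  refine ⟨?_, fun U hU hUp => ?_⟩
  · exact h1.of_equiv (c.subgroupMap K).symm
  · have := h2 (U.map c.toMonoidHom) (Subgroup.map_mono hU) (hUp.map _)
    rwa [hc, hc] at this

/-- `K` Sylow in `H` is Sylow in any intermediate subgroup. -/
theorem isSylowIn_of_le {K H D : Subgroup G} (hKH : K ≤ H) (hKD : K ≤ D) (hDH : D ≤ H)
    (h : IsSylowIn p K H) : IsSylowIn p K D := by
  rw [isSylowIn_iff_card hKH] at h
  rw [isSylowIn_iff_card hKD]
  exact ⟨h.1, fun U hU hUp => h.2 U (hU.trans hDH) hUp⟩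

/-- The intersection of a Sylow subgroup with a normal subgroup. -/
theorem isSylowIn_inf_of_normal {K H L : Subgroup G} (hKH : K ≤ H) (hLH : L ≤ H)
    (h : IsSylowIn p K H) (hL : ∀ n ∈ H, ∀ l ∈ L, n * l * n⁻¹ ∈ L) : IsSylowIn p (K ⊓ L) L := by
  rw [isSylowIn_iff_card inf_le_right]
  refine ⟨(h.isPGroup hKH).to_le inf_le_left, fun U hU hUp => ?_⟩
  obtain ⟨n, hn, hnU⟩ := h.exists_conj_le (hU.trans hLH) hUp
  have h2 : cj n U ≤ K ⊓ L := by
    refine le_inf hnU ?_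
    rw [cj_le_iff]
    exact fun x hx => hL n hn x (hU hx)
  have h3 := Subgroup.card_le_of_le h2
  rwa [card_cj] at h3

/-- A normal `p`-subgroup lies in every Sylow subgroup. -/
theorem le_of_isSylowIn_of_normal {K H L : Subgroup G} (hLH : L ≤ H) (h : IsSylowIn p K H)
    (hLp : IsPGroup p L) (hL : ∀ n ∈ H, ∀ l ∈ L, n * l * n⁻¹ ∈ L) : L ≤ K := by
  obtain ⟨n, hn, hnL⟩ := h.exists_conj_le hLH hLp
  intro l hl
  have h1 : n⁻¹ * l * n⁻¹⁻¹ ∈ L := hL _ (H.inv_mem hn) l hl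
  have h2 := hnL (conj_mem_cj (g := n) h1)
  simpa [mul_assoc] using h2

end Group

/-! ### Transport along `T ≃ T'` -/

theorem map_stabIn {T T' R R' : Subgroup Ω} (E : T ≃* T')
    (hE : ∀ t : T, ((E t : T') : Ω) ∈ R' ↔ (t : Ω) ∈ R) :
    (stabIn T R).map (MulAut.congr E).toMonoidHom = stabIn T' R' := by
  have key : ∀ (γ : MulAut T) (t : T'), (MulAut.congr E γ) t = E (γ (E.symm t)) := fun _ _ => rfl
  ext δ
  constructor
  · rintro ⟨γ, hγ, rfl⟩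
    intro t
    show (((MulAut.congr E γ) t : T') : Ω) ∈ R' ↔ _
    rw [key, hE]
    have h1 := hγ (E.symm t)
    rw [h1, ← hE, MulEquiv.apply_symm_apply]
  · intro hδ
    refine ⟨(MulAut.congr E).symm δ, ?_, (MulAut.congr E).apply_symm_apply δ⟩
    intro t
    have e : (((MulAut.congr E).symm δ) t : T) = E.symm (δ (E t)) := rfl
    rw [e, ← hE, MulEquiv.apply_symm_apply, hδ, hE]

section Main

variable [Finite S] {p : ℕ} [Fact p.Prime]

/-- The model of `(T, R)` at a fully automized receptive level. -/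
theorem exists_model_T (hS : IsPGroup p S) {R T : Subgroup Ω} (hRT : R ≤ T) (hTS : T ≤ S)
    (hTN : T ≤ normalizerIn S R) (hNT : normalizerIn S R ≤ Subgroup.normalizer (T : Set Ω))
    (hRfn : F.IsFullyNormalized R)
    (hL : ∀ T' : Subgroup Ω, F.IsConj T T' → ClassSat F p T') :
    ∃ (T' R₅ : Subgroup Ω) (v : normalizerIn S R →* Ω), T' ≤ S ∧ F.IsReceptive T' ∧
      Nice F p T' R₅ ∧ v ∈ F.Hom (normalizerIn S R) ∧ v.range = normalizerIn S R₅ ∧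
      (R.subgroupOf (normalizerIn S R)).map v = R₅ ∧ (T.subgroupOf (normalizerIn S R)).map v = T' := by
  obtain ⟨T', R₅, e, hT'S, -, hT'r, hT'n, -, he, her, hem⟩ := exists_nice_map (R := R) hS hTS hL
  obtain ⟨δ, hδ, v, hv, hvag, hvm⟩ := extend_nice hS hT'S hT'r hT'n he her hRT hem hTN
    (le_inf normalizerIn_le hNT) inf_le_right
  have hRN := le_normalizerIn hRfn.1
  have hvN : ∀ x, v x ∈ normalizerIn S R₅ := fun x =>
    ⟨map_mem_S hv x, map_mem_normalizer hvm x x.2.2⟩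
  have hconj : F.IsConj R R₅ := isConj_of_map hv hRN hvm
  have : Finite (normalizerIn S R₅) := finite_of_le normalizerIn_le
  refine ⟨T', R₅, v, hT'S, hT'r, hT'n, hv, range_eq_of_card hv hvN (hRfn.2 _ hconj), hvm, ?_⟩
  ext y
  constructor
  · rintro ⟨x, hx, rfl⟩
    have hxT : (x : Ω) ∈ T := hx
    have h0 : e ⟨x, hxT⟩ ∈ T' := by rw [← her]; exact ⟨_, rfl⟩
    have := hvag ⟨x, hxT⟩ h0
    have e2 : v x = v ⟨x, hTN hxT⟩ := rfl
    rw [e2, this]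
    exact (δ ⟨_, h0⟩).2
  · intro hy
    obtain ⟨a, ha⟩ : ((δ⁻¹ ⟨y, hy⟩ : T') : Ω) ∈ e.range := by rw [her]; exact (δ⁻¹ ⟨y, hy⟩).2
    have h0 : e a ∈ T' := by rw [← her]; exact ⟨_, rfl⟩
    refine ⟨⟨a, hTN a.2⟩, a.2, ?_⟩
    rw [hvag a h0]
    have e4 : (⟨e a, h0⟩ : T') = δ⁻¹ ⟨y, hy⟩ := Subtype.ext ha
    rw [e4]
    simp

/-- `Aut_N(T)` is Sylow in the stabilizer of `R` in `Aut_F(T)`. -/
theorem rel_sylow (hS : IsPGroup p S) {R T : Subgroup Ω} (hRT : R ≤ T) (hTS : T ≤ S)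
    (hTN : T ≤ normalizerIn S R) (hNT : normalizerIn S R ≤ Subgroup.normalizer (T : Set Ω))
    (hRfn : F.IsFullyNormalized R)
    (hL : ∀ T' : Subgroup Ω, F.IsConj T T' → ClassSat F p T') :
    IsSylowIn p (autInducedBy (normalizerIn S R) T) (F.autGroup T ⊓ stabIn T R) := by
  obtain ⟨T', R₅, v, hT'S, hT'r, hT'n, hv, hvr, hvm, hvT⟩ := exists_model_T hS hRT hTS hTN hNT hRfn hL
  have hinj := F.injective_of_mem hv
  let vT : T →* Ω := v.comp (Subgroup.inclusion hTN)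
  have hvT' : vT ∈ F.Hom T := res_mem hv hTN
  have hvTr : vT.range = T' := by
    refine Eq.trans ?_ hvT
    ext y
    constructor
    · rintro ⟨x, rfl⟩
      exact ⟨Subgroup.inclusion hTN x, x.2, rfl⟩
    · rintro ⟨x, hx, rfl⟩
      exact ⟨⟨x, hx⟩, rfl⟩
  let E : T ≃* T' := isoOfRange (F.injective_of_mem hvT') hvTr
  have hE : ∀ t : T, ((E t : T') : Ω) = v ⟨t, hTN t.2⟩ := fun _ => rfl
  have hEmem : ∀ t : T, ((E t : T') : Ω) ∈ R₅ ↔ (t : Ω) ∈ R := by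
    intro t
    rw [hE]
    constructor
    · intro h
      rw [← hvm] at h
      obtain ⟨z, hz, hze⟩ := h
      have h9 : (z : Ω) = t := congrArg Subtype.val (hinj hze)
      have hz' : (z : Ω) ∈ R := hz
      rwa [h9] at hz'
    · intro h
      rw [← hvm]
      exact ⟨⟨t, hTN t.2⟩, h, rfl⟩
  have : Finite (MulAut T) := finite_mulAut hTS
  have : Finite (MulAut T') := finite_mulAut hT'S
  have hKle : autInducedBy (normalizerIn S R) T ≤ F.autGroup T ⊓ stabIn T R := by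
    intro α hα
    obtain ⟨y, hy, hyα⟩ := mem_autInducedBy_iff.1 hα
    refine ⟨autInducedBy_le_autGroup hTS (mem_autInducedBy_iff.2 ⟨y, hy.1, hyα⟩), fun t => ?_⟩
    rw [hyα]
    exact (Subgroup.mem_normalizer_iff.1 hy.2 t).symm
  apply isSylowIn_of_map (MulAut.congr E) hKle
  have hm1 : (F.autGroup T ⊓ stabIn T R).map (MulAut.congr E).toMonoidHom =
      F.autGroup T' ⊓ stabIn T' R₅ := by
    rw [Subgroup.map_inf _ _ _ (MulAut.congr E).injective, map_congr_autGroup hvT' E (fun _ => rfl),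
      map_stabIn E hEmem]
  have hm2 : (autInducedBy (normalizerIn S R) T).map (MulAut.congr E).toMonoidHom =
      autInducedBy S T' ⊓ stabIn T' R₅ := by
    have hcongr : ∀ (y : normalizerIn S R) (hyT : (y : Ω) ∈ Subgroup.normalizer (T : Set Ω)) (t : T'),
        ((MulAut.congr E (normConj (y : Ω) hyT) t : T') : Ω) = v y * t * (v y)⁻¹ := by
      intro y hyT t
      obtain ⟨t₀, rfl⟩ := E.surjective t
      have e1 : (MulAut.congr E (normConj (y : Ω) hyT)) (E t₀) = E (normConj (y : Ω) hyT t₀) := by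
        simp [MulAut.congr_apply]
      rw [e1, hE, hE]
      have e2 : (⟨((normConj (y : Ω) hyT t₀ : T) : Ω), hTN (normConj (y : Ω) hyT t₀).2⟩ : normalizerIn S R) =
          y * ⟨t₀, hTN t₀.2⟩ * y⁻¹ := rfl
      rw [e2]
      simp
    ext β
    constructor
    · rintro ⟨α, hα, rfl⟩
      obtain ⟨y, hy, hyα⟩ := mem_autInducedBy_iff.1 hα
      have hyT := hNT hy
      have hα' : α = normConj y hyT := by
        ext t
        exact hyα t
      subst hα'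
      have hval := hcongr ⟨y, hy⟩ hyT
      have hvy : v ⟨y, hy⟩ ∈ normalizerIn S R₅ := by rw [← hvr]; exact ⟨_, rfl⟩
      refine ⟨mem_autInducedBy_iff.2 ⟨v ⟨y, hy⟩, hvy.1, hval⟩, fun t => ?_⟩
      have e3 := hval t
      show ((MulAut.congr E (normConj y hyT) t : T') : Ω) ∈ R₅ ↔ _
      rw [e3]
      exact (Subgroup.mem_normalizer_iff.1 hvy.2 t).symm
    · rintro ⟨hβ1, hβ2⟩
      obtain ⟨h, hh, hhβ⟩ := mem_autInducedBy_iff.1 hβ1
      have hhT : h ∈ Subgroup.normalizer (T' : Set Ω) := mem_normalizer_of_aut hhβ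
      have hR₅T : R₅ ≤ T' := by
        rw [← hvT, ← hvm]
        rintro _ ⟨x, hx, rfl⟩
        have hxT : (x : Ω) ∈ T := hRT hx
        exact ⟨x, hxT, rfl⟩
      have hhR : h ∈ Subgroup.normalizer (R₅ : Set Ω) := by
        rw [Subgroup.mem_normalizer_iff]
        intro y
        constructor
        · intro hy
          have h1 := (hβ2 ⟨y, hR₅T hy⟩).2 hy
          rwa [hhβ] at h1
        · intro hy
          have hyT : y ∈ T' := (Subgroup.mem_normalizer_iff.1 hhT y).2 (hR₅T hy)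
          have h1 := hβ2 ⟨y, hyT⟩
          rw [hhβ] at h1
          exact h1.1 hy
      have hrange : h ∈ v.range := by rw [hvr]; exact ⟨hh, hhR⟩
      obtain ⟨y, rfl⟩ := hrange
      have hyT := hNT y.2
      refine ⟨normConj (y : Ω) hyT, normConj_mem_autInducedBy y.2 hyT, ?_⟩
      ext t
      exact (hcongr y hyT t).trans (hhβ t).symm
  rw [hm1, hm2]
  exact hT'n

/-- Relative receptivity at `T`. -/
theorem rel_ext (hS : IsPGroup p S) {R T M : Subgroup Ω} (hRT : R ≤ T) (hTS : T ≤ S)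
    (hTN : T ≤ normalizerIn S R) (hNT : normalizerIn S R ≤ Subgroup.normalizer (T : Set Ω))
    (hRfn : F.IsFullyNormalized R)
    (hL : ∀ T' : Subgroup Ω, F.IsConj T T' → ClassSat F p T')
    {μ : MulAut T} (hμ : μ ∈ F.autGroup T) (hTM : T ≤ M) (hMN : M ≤ normalizerIn S R)
    (hM : ∀ x ∈ M, ∃ y ∈ normalizerIn S R, ∀ (t : T) (ht : x * (t : Ω) * x⁻¹ ∈ T),
      ((μ ⟨_, ht⟩ : T) : Ω) = y * μ t * y⁻¹) :
    ∃ w ∈ F.Hom M, (∀ (t : T), w ⟨t, hTM t.2⟩ = μ t) ∧ ∀ z, w z ∈ normalizerIn S R := by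
  obtain ⟨T', R₅, v, hT'S, hT'r, hT'n, hv, hvr, hvm, hvT⟩ := exists_model_T hS hRT hTS hTN hNT hRfn hL
  have hinj := F.injective_of_mem hv
  let vT : T →* Ω := v.comp (Subgroup.inclusion hTN)
  have hvT' : vT ∈ F.Hom T := res_mem hv hTN
  have hvTr : vT.range = T' := by
    refine Eq.trans ?_ hvT
    ext y
    constructor
    · rintro ⟨x, rfl⟩
      exact ⟨Subgroup.inclusion hTN x, x.2, rfl⟩
    · rintro ⟨x, hx, rfl⟩
      exact ⟨⟨x, hx⟩, rfl⟩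
  let E : T ≃* T' := isoOfRange (F.injective_of_mem hvT') hvTr
  have hE : ∀ t : T, ((E t : T') : Ω) = v ⟨t, hTN t.2⟩ := fun _ => rfl
  let φ : T →* Ω := T'.subtype.comp (E.toMonoidHom.comp μ.toMonoidHom)
  have hφv : ∀ t : T, φ t = v ⟨μ t, hTN (μ t).2⟩ := fun _ => rfl
  have hφ : φ ∈ F.Hom T :=
    comp_mem' (autGroup_mem_hom hTS hμ) hvT' (fun t => (μ t).2) (fun _ => rfl)
  have hφr : φ.range = T' := by
    ext y
    constructor
    · rintro ⟨x, rfl⟩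
      exact (E (μ x)).2
    · intro hy
      refine ⟨μ⁻¹ (E.symm ⟨y, hy⟩), ?_⟩
      show ((E (μ (μ⁻¹ (E.symm ⟨y, hy⟩))) : T') : Ω) = y
      simp
  have hext : ∀ x ∈ M, x ∈ S ∧ x ∈ Subgroup.normalizer (T : Set Ω) ∧
      ∃ h ∈ S, ∀ (a : T) (hx : x * (a : Ω) * x⁻¹ ∈ T), φ ⟨x * a * x⁻¹, hx⟩ = h * φ a * h⁻¹ := by
    intro x hx
    have hxN := hMN hx
    refine ⟨hxN.1, hNT hxN, ?_⟩
    obtain ⟨y, hy, hyv⟩ := hM x hx
    refine ⟨v ⟨y, hy⟩, map_mem_S hv _, fun a hxa => ?_⟩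
    rw [hφv, hφv]
    have e1 : (⟨((μ ⟨_, hxa⟩ : T) : Ω), hTN (μ ⟨_, hxa⟩).2⟩ : normalizerIn S R) =
        ⟨y, hy⟩ * ⟨μ a, hTN (μ a).2⟩ * ⟨y, hy⟩⁻¹ := Subtype.ext (hyv a hxa)
    rw [e1, map_mul, map_mul, map_inv]
  obtain ⟨w₁, hw₁, hw₁ag⟩ := exists_ext hT'r hφ hφr hTM hext
  -- values of `w₁` normalize `R₅`
  have hw₁N : ∀ z : M, w₁ z ∈ normalizerIn S R₅ := by
    intro z
    obtain ⟨y, hy, hyv⟩ := hM z z.2
    have hvy : v ⟨y, hy⟩ ∈ normalizerIn S R₅ := by rw [← hvr]; exact ⟨_, rfl⟩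
    have hzT := hNT (hMN z.2)
    have hcomm : ∀ t' : T', w₁ z * (t' : Ω) * (w₁ z)⁻¹ = v ⟨y, hy⟩ * t' * (v ⟨y, hy⟩)⁻¹ := by
      intro t'
      have h1 : (t' : Ω) ∈ φ.range := by rw [hφr]; exact t'.2
      obtain ⟨t, ht⟩ := h1
      rw [← ht]
      have hzt : (z : Ω) * t * (z : Ω)⁻¹ ∈ T := (Subgroup.mem_normalizer_iff.1 hzT t).1 t.2
      have e0 : w₁ ⟨t, hTM t.2⟩ = φ t := hw₁ag t
      have e2 : w₁ z * φ t * (w₁ z)⁻¹ = w₁ ⟨_, hTM hzt⟩ := by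
        rw [← e0, ← map_inv, ← map_mul, ← map_mul]
        rfl
      have e3 : w₁ ⟨_, hTM hzt⟩ = φ ⟨_, hzt⟩ := hw₁ag ⟨_, hzt⟩
      have e1 : (⟨((μ ⟨_, hzt⟩ : T) : Ω), hTN (μ ⟨_, hzt⟩).2⟩ : normalizerIn S R) =
          ⟨y, hy⟩ * ⟨μ t, hTN (μ t).2⟩ * ⟨y, hy⟩⁻¹ := Subtype.ext (hyv t hzt)
      rw [e2, e3, hφv, hφv, e1, map_mul, map_mul, map_inv]
    have hR₅T : R₅ ≤ T' := by
      rw [← hvT, ← hvm]
      rintro _ ⟨x, hx, rfl⟩
      have hxT : (x : Ω) ∈ T := hRT hx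
      exact ⟨x, hxT, rfl⟩
    refine ⟨map_mem_S hw₁ z, ?_⟩
    show w₁ z ∈ Subgroup.normalizer (R₅ : Set Ω)
    rw [Subgroup.mem_normalizer_iff]
    intro r
    have h2 := Subgroup.mem_normalizer_iff.1 hvy.2 r
    constructor
    · intro hr
      have h3 := hcomm ⟨r, hR₅T hr⟩
      show w₁ z * r * (w₁ z)⁻¹ ∈ R₅
      rw [show w₁ z * r * (w₁ z)⁻¹ = v ⟨y, hy⟩ * r * (v ⟨y, hy⟩)⁻¹ from h3]
      exact h2.1 hr
    · intro hr
      -- `r` lies in `T'` since `w₁ z` normalizes `T'`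
      have hmap : (T.subgroupOf M).map w₁ = T' :=
        map_subgroupOf_of_agree hTM hφr (fun x hx hx' => hw₁ag ⟨x, hx⟩)
      have hnT' : w₁ z ∈ Subgroup.normalizer (T' : Set Ω) := map_mem_normalizer hmap z hzT
      have hrT : r ∈ T' := (Subgroup.mem_normalizer_iff.1 hnT' r).2 (hR₅T hr)
      have h3 := hcomm ⟨r, hrT⟩
      have h4 : w₁ z * r * (w₁ z)⁻¹ = v ⟨y, hy⟩ * r * (v ⟨y, hy⟩)⁻¹ := h3
      have hr' : v ⟨y, hy⟩ * r * (v ⟨y, hy⟩)⁻¹ ∈ R₅ := by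
        rw [← h4]
        exact hr
      exact h2.2 hr'
  obtain ⟨ω, hω, hωr, h1, -⟩ := exists_inv hv hvr
  have hωv : ∀ y, ω y ∈ normalizerIn S R := fun y => (SetLike.ext_iff.1 hωr _).1 ⟨y, rfl⟩
  refine ⟨ω.comp (w₁.codRestrict _ hw₁N), F.comp_mem hw₁ hω hw₁N, fun t => ?_, fun z => hωv _⟩
  show ω ⟨w₁ ⟨t, hTM t.2⟩, _⟩ = _
  have e1 : (⟨w₁ ⟨t, hTM t.2⟩, hw₁N _⟩ : normalizerIn S R₅) =
      ⟨v ⟨μ t, hTN (μ t).2⟩, by rw [← hvr]; exact ⟨_, rfl⟩⟩ :=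
    Subtype.ext ((hw₁ag t).trans (hφv t))
  rw [e1]
  exact h1 _ _

end Main

end Cfsg.Agent.Lib.Fusion.SatCrit
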