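/-
Saturated subsystems of `p`-power index over a normal subgroup are normal (S5120).
-/
import Mathlib
import Cfsg.Prelude.Def_FusionSystem
import Cfsg.Agent.Lib.Fusion.Basic
import Cfsg.Agent.Lib.Fusion.Saturated
import Cfsg.Agent.Lib.Fusion.Alperin
import Cfsg.Agent.Lib.Fusion.Focal
import Cfsg.Agent.Lib.Fusion.Hyperfocal
import Cfsg.Agent.Lib.Fusion.Tate
import Cfsg.Agent.Lib.Fusion.PPowerIndex
import Cfsg.Agent.Lib.Fusion.SatCrit6
import Cfsg.Agent.Lib.Fusion.PPrime2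

set_option autoImplicit false

namespace Cfsg.Agent.Lib.Fusion.PPowerNormal

open Cfsg Cfsg.FusionSystem Cfsg.Agent.Lib.Fusion.Basic Cfsg.Agent.Lib.Fusion.Saturated
open Cfsg.Agent.Lib.Fusion.SatCrit (imgOf mem_imgOf imgOf_le stabIn mem_stabIn resAut resAut_apply resHom resHom_apply)
open Cfsg.Agent.Lib.Fusion.PPrime
open Cfsg.Agent.Lib.Fusion.Hyperfocal

variable {Ω : Type*} [Group Ω] {S : Subgroup Ω} {F : FusionSystem S}

/-- A subgroup normal in `S` containing the hyperfocal subgroup is strongly closed. -/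
theorem stronglyClosed_of_hyp_le [Finite S] {p : ℕ} [Fact p.Prime] (hS : IsPGroup p S) (hF : F.IsSaturated p)
    {T : Subgroup Ω} (hTS : T ≤ S) (hTn : (T.subgroupOf S).Normal) (hT : F.hyperfocalSubgroup p ≤ T) :
    F.StronglyClosed T := by
  refine ⟨hTS, fun R hR φ hφ x => ?_⟩
  obtain ⟨h, hh, hv⟩ := Tate.exists_conj_mod_hyperfocal hS hF hφ
  have h1 := hT (hv x)
  have h2 : h⁻¹ * φ x * h ∈ T := by
    have e : h⁻¹ * φ x * h = (x : Ω) * ((x : Ω)⁻¹ * (h⁻¹ * φ x * h)) := by group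
    rw [e]
    exact T.mul_mem (hR x.2) h1
  have h3 : φ x ∈ S := map_mem_S hφ x
  have h4 : h⁻¹ * φ x * h ∈ S := S.mul_mem (S.mul_mem (S.inv_mem hh) h3) hh
  have h5 : (⟨h⁻¹ * φ x * h, h4⟩ : S) ∈ T.subgroupOf S := h2
  have h6 := hTn.conj_mem _ h5 ⟨h, hh⟩
  have h7 : ((⟨h, hh⟩ : S) * ⟨h⁻¹ * φ x * h, h4⟩ * (⟨h, hh⟩ : S)⁻¹ : S) = ⟨φ x, h3⟩ := by
    apply Subtype.ext
    show h * (h⁻¹ * φ x * h) * h⁻¹ = φ x
    group
  rw [h7] at h6
  exact h6

/-- Transport of an element of `O^p(Aut_F(P))` by an automorphism of `T`: maps into a system containing all `O^p`. -/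
theorem conj_residual_mem [Finite S] {p : ℕ} [Fact p.Prime] {T : Subgroup Ω} (hTS : T ≤ S) {E : FusionSystem T}
    (hE : ∀ P : Subgroup Ω, P ≤ T → (pResidual p (F.autGroup P)).map (F.autGroup P).subtype ≤ E.autGroup P)
    {α : MulAut T} (hα : α ∈ F.autGroup T) {P : Subgroup Ω} (hP : P ≤ T) :
    (pResidual p (F.autGroup P)).map (F.autGroup P).subtype ≤ (conjSys E α).autGroup P := by
  rw [Subgroup.map_le_iff_le_comap, pResidual, Subgroup.closure_le]
  intro r hr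
  have hco : Nat.Coprime (orderOf r) p := hr
  have hm : resA α hP ∈ F.Hom P := mem_of_eq_res (autGroup_mem_hom hTS hα) hP (fun x => rfl)
  have hinj := F.injective_of_mem hm
  let e := isoOfRange hinj (range_resA α hP)
  have he : ∀ x : P, ((e x : imgOf α P) : Ω) = resA α hP x := fun x => rfl
  have hr' : MulAut.congr e (r : MulAut P) ∈ F.autGroup (imgOf α P) := congr_mem_autGroup hm e he r.2
  have hord : orderOf (⟨MulAut.congr e (r : MulAut P), hr'⟩ : F.autGroup (imgOf α P)) = orderOf r := by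
    rw [← Subgroup.orderOf_coe, ← Subgroup.orderOf_coe r]
    exact orderOf_injective (MulAut.congr e).toMonoidHom (MulEquiv.injective _) _
  have h1 : MulAut.congr e (r : MulAut P) ∈ E.autGroup (imgOf α P) :=
    hE _ (imgOf_le α P) ⟨⟨_, hr'⟩, Subgroup.subset_closure (by
      show Nat.Coprime _ p
      rw [hord]
      exact hco), rfl⟩
  refine mem_autGroup_of_mem ⟨hP, fun x => hP ((r : MulAut P) x).2, _, autGroup_mem_hom (imgOf_le α P) h1, ?_⟩
  intro a b ha hb hab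
  have e1 : (⟨((α a : T) : Ω), hb⟩ : imgOf α P) = e ⟨a, ha⟩ := Subtype.ext rfl
  show (((MulAut.congr e (r : MulAut P)) ⟨((α a : T) : Ω), hb⟩ : imgOf α P) : Ω) = _
  rw [e1]
  have e2 : (MulAut.congr e (r : MulAut P)) (e ⟨a, ha⟩) = e ((r : MulAut P) ⟨a, ha⟩) := by
    simp [MulAut.congr_apply]
  rw [e2]
  have e3 : (⟨(((r : MulAut P) ⟨a, ha⟩ : P) : Ω), hP ((r : MulAut P) ⟨a, ha⟩).2⟩ : T) = b := Subtype.ext hab
  show ((α ⟨(((r : MulAut P) ⟨a, ha⟩ : P) : Ω), hP ((r : MulAut P) ⟨a, ha⟩).2⟩ : T) : Ω) = _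
  rw [e3]

/-- A saturated subsystem of `p`-power index is invariant under `Aut_F(T)`. -/
theorem isInvUnder_of_pPowerIndex [Finite S] {p : ℕ} [Fact p.Prime] (hS : IsPGroup p S) {T : Subgroup Ω}
    (hTS : T ≤ S) {E : FusionSystem T} (hEs : E.IsSaturated p) (hEF : E.IsSubsystemOf F)
    (hE : ∀ P : Subgroup Ω, P ≤ T → (pResidual p (F.autGroup P)).map (F.autGroup P).subtype ≤ E.autGroup P) :
    IsInvUnder E (F.autGroup T) := by
  haveI : Finite T := finite_of_le hTS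
  have hTp : IsPGroup p T := isPGroup_of_le hS hTS
  intro α hα P φ hφ
  have h1 := PPowerIndex.hom_subset_of_residual_le (T := T) (T₁ := T) rfl hTp hEs hEF hTS
    (E₁ := conjSys E α) (fun Q hQ => conj_residual_mem hTS hE hα hQ) P hφ
  obtain ⟨hP, hv, χ, hχ, hc⟩ := h1
  rwa [← hc.eq_conjMap hP]

/-! ### Lifting a system on a strongly closed subgroup -/

/-- The maps of `F` whose restrictions to subgroups of `T` are maps of `D`. -/
def liftSys (F : FusionSystem S) {T : Subgroup Ω} (hT : F.StronglyClosed T) (D : FusionSystem T)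
    (hconj : ∀ (R : Subgroup Ω) (g : Ω), R ≤ T → g ∈ S → conjHom R g ∈ D.Hom R) : FusionSystem S where
  Hom Q := {φ | φ ∈ F.Hom Q ∧ ∀ (R : Subgroup Ω) (hRQ : R ≤ Q), R ≤ T → φ.comp (Subgroup.inclusion hRQ) ∈ D.Hom R}
  le_of_mem h := F.le_of_mem h.1
  injective_of_mem h := F.injective_of_mem h.1
  conj_mem := by
    intro P g hP hg
    exact ⟨F.conj_mem hP hg, fun R hRQ hRT => hconj R g hRT hg⟩
  comp_mem := by
    rintro P Q φ ψ ⟨hφ, hφ'⟩ ⟨hψ, hψ'⟩ h
    refine ⟨F.comp_mem hφ hψ h, fun R hRP hRT => ?_⟩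
    have h1 := hφ' R hRP hRT
    have hrT : (φ.comp (Subgroup.inclusion hRP)).range ≤ T := by
      rintro _ ⟨x, rfl⟩
      exact hT.2 R hRT _ (res_mem hφ hRP) x
    have hrQ : (φ.comp (Subgroup.inclusion hRP)).range ≤ Q := by
      rintro _ ⟨x, rfl⟩
      exact h _
    have h2 := hψ' _ hrQ hrT
    exact comp_mem' h1 h2 (fun x => ⟨x, rfl⟩) (fun x => rfl)
  inv_mem := by
    rintro P φ ⟨hφ, hφ'⟩
    obtain ⟨ψ, hψ, hψx⟩ := F.inv_mem hφ
    have hψP : ∀ y : φ.range, ψ y ∈ P := by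
      rintro ⟨_, x, rfl⟩
      rw [hψx x]
      exact x.2
    refine ⟨ψ, ⟨hψ, fun R hRQ hRT => ?_⟩, hψx⟩
    let R₀ : Subgroup Ω := (ψ.comp (Subgroup.inclusion hRQ)).range
    have hR₀P : R₀ ≤ P := by
      rintro _ ⟨y, rfl⟩
      exact hψP _
    have hR₀T : R₀ ≤ T := by
      rintro _ ⟨y, rfl⟩
      exact hT.2 R hRT _ (res_mem hψ hRQ) y
    have h1 := hφ' R₀ hR₀P hR₀T
    have hφψ : ∀ y : φ.range, φ ⟨ψ y, hψP y⟩ = y := by
      rintro ⟨_, x, rfl⟩
      have e : (⟨ψ ⟨φ x, x, rfl⟩, hψP _⟩ : P) = x := Subtype.ext (hψx x)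
      rw [e]
    have hr : (φ.comp (Subgroup.inclusion hR₀P)).range = R := by
      ext y
      constructor
      · rintro ⟨⟨_, z, rfl⟩, rfl⟩
        show φ ⟨ψ (Subgroup.inclusion hRQ z), hψP _⟩ ∈ R
        rw [hφψ]
        exact z.2
      · intro hy
        refine ⟨⟨ψ ⟨y, hRQ hy⟩, ⟨⟨y, hy⟩, rfl⟩⟩, ?_⟩
        exact hφψ ⟨y, hRQ hy⟩
    obtain ⟨σ, hσ, -, hσ1, -⟩ := exists_inv h1 hr
    have e : ψ.comp (Subgroup.inclusion hRQ) = σ := by
      ext ⟨y, hy⟩
      have h2 : (⟨y, hy⟩ : R) = ⟨(φ.comp (Subgroup.inclusion hR₀P)) ⟨ψ ⟨y, hRQ hy⟩, ⟨⟨y, hy⟩, rfl⟩⟩, by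
          show φ ⟨ψ ⟨y, hRQ hy⟩, _⟩ ∈ R
          rw [hφψ ⟨y, hRQ hy⟩]
          exact hy⟩ := by
        apply Subtype.ext
        exact (hφψ ⟨y, hRQ hy⟩).symm
      rw [h2, hσ1]
      show ψ (Subgroup.inclusion hRQ ⟨_, _⟩) = ψ ⟨y, hRQ hy⟩
      congr 1
      apply Subtype.ext
      exact hφψ ⟨y, hRQ hy⟩
    rw [e]
    exact hσ

/-- `F` is contained in the lift of a system containing the `O^p(Aut_F(Q))`, `Q ≤ T`. -/
theorem le_liftSys [Finite S] {p : ℕ} [Fact p.Prime] (hS : IsPGroup p S) (hF : F.IsSaturated p) {T : Subgroup Ω}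
    (hT : F.StronglyClosed T) {D : FusionSystem T} (hconj : ∀ (R : Subgroup Ω) (g : Ω), R ≤ T → g ∈ S → conjHom R g ∈ D.Hom R)
    (hD : ∀ P : Subgroup Ω, P ≤ T → (pResidual p (F.autGroup P)).map (F.autGroup P).subtype ≤ D.autGroup P) :
    F ≤ liftSys F hT D hconj := by
  classical
  refine Alperin.le_of_autGroup_le hS hF ?_
  intro Q hQa hQr α hα
  have hQS : Q ≤ S := hQa.1
  haveI : Finite Q := finite_of_le hQS
  haveI : Finite (MulAut Q) := Finite.of_injective (fun α : MulAut Q => (α : Q → Q))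
    (fun a b h => MulEquiv.ext (congrFun h))
  obtain ⟨-, R, hR⟩ := hQa
  obtain ⟨τ, hτ, r, hr, he⟩ := Focal.exists_sylow_mul_residual R ⟨α, hα⟩
  have hτS : (τ : MulAut Q) ∈ autInducedBy S Q := by
    rw [hR] at hτ
    exact hτ
  have h1 : (τ : MulAut Q) ∈ (liftSys F hT D hconj).autGroup Q := autInducedBy_le_autGroup hQS hτS
  have h5 : α = (τ : MulAut Q) * (r : MulAut Q) := congrArg Subtype.val he
  rw [h5]
  refine Subgroup.mul_mem _ h1 ?_
  clear h5 he h1 hτS hτ τ hR R hQr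
  -- the residual
  have hgen : ∀ x : F.autGroup Q, Nat.Coprime (orderOf x) p → (x : MulAut Q) ∈ (liftSys F hT D hconj).autGroup Q := by
    intro x hx
    refine mem_autGroup_of_mem ⟨autGroup_mem_hom hQS x.2, fun P hPQ hPT => ?_⟩
    have hQ₀ : Q ⊓ T ≤ Q := inf_le_left
    have hkeep : ∀ a ∈ F.autGroup Q, ∀ y : Q, (y : Ω) ∈ T → ((a y : Q) : Ω) ∈ T := by
      intro a ha y hy
      have h1 := res_mem (autGroup_mem_hom hQS ha) hQ₀
      exact hT.2 (Q ⊓ T) inf_le_right _ h1 ⟨y, y.2, hy⟩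
    have hstab : (x : MulAut Q) ∈ stabIn Q (Q ⊓ T) := by
      intro y
      constructor
      · intro hy
        refine ⟨y.2, ?_⟩
        have h2 := hkeep _ ((F.autGroup Q).inv_mem x.2) ((x : MulAut Q) y) hy.2
        simpa using h2
      · intro hy
        exact ⟨((x : MulAut Q) y).2, hkeep _ x.2 y hy.2⟩
    let ρ : MulAut ↥(Q ⊓ T) := resHom hQ₀ ⟨x, hstab⟩
    have hρF : ρ ∈ F.autGroup (Q ⊓ T) :=
      mem_autGroup_of_mem (mem_of_eq_res (autGroup_mem_hom hQS x.2) hQ₀ (fun z => rfl))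
    have hord : orderOf (⟨ρ, hρF⟩ : F.autGroup (Q ⊓ T)) ∣ orderOf x := by
      rw [← Subgroup.orderOf_coe, ← Subgroup.orderOf_coe x]
      have h1 := orderOf_map_dvd (resHom hQ₀ : stabIn Q (Q ⊓ T) →* _) ⟨x, hstab⟩
      rwa [Subgroup.orderOf_mk] at h1
    have hρD : ρ ∈ D.autGroup (Q ⊓ T) :=
      hD _ inf_le_right ⟨⟨ρ, hρF⟩, Subgroup.subset_closure (Nat.Coprime.coprime_dvd_left hord hx), rfl⟩
    exact mem_of_eq_res (autGroup_mem_hom inf_le_right hρD) (le_inf hPQ hPT) (fun z => rfl)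
  induction hr using Subgroup.closure_induction with
  | mem x hx => exact hgen x hx
  | one => exact Subgroup.one_mem _
  | mul a b _ _ ha hb => exact Subgroup.mul_mem _ ha hb
  | inv a _ ha => exact Subgroup.inv_mem _ ha

theorem mem_normalizer_of_normal {T : Subgroup Ω} (hTS : T ≤ S) (hTn : (T.subgroupOf S).Normal) {g : Ω} (hg : g ∈ S) :
    g ∈ Subgroup.normalizer (T : Set Ω) := by
  rw [Subgroup.mem_normalizer_iff]
  intro h
  constructor
  · intro hh
    have h1 : (⟨h, hTS hh⟩ : S) ∈ T.subgroupOf S := hh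
    have h2 := hTn.conj_mem _ h1 ⟨g, hg⟩
    exact h2
  · intro hh
    have h0 : g * h * g⁻¹ ∈ S := hTS hh
    have h1 : (⟨g * h * g⁻¹, h0⟩ : S) ∈ T.subgroupOf S := hh
    have h2 := hTn.conj_mem _ h1 (⟨g, hg⟩ : S)⁻¹
    have e : ((⟨g, hg⟩ : S)⁻¹ * ⟨g * h * g⁻¹, h0⟩ * (⟨g, hg⟩ : S)⁻¹⁻¹ : S).1 = h := by
      show g⁻¹ * (g * h * g⁻¹) * g⁻¹⁻¹ = h
      group
    have h3 : ((⟨g, hg⟩ : S)⁻¹ * ⟨g * h * g⁻¹, h0⟩ * (⟨g, hg⟩ : S)⁻¹⁻¹ : S).1 ∈ T := h2
    rwa [e] at h3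

theorem imgOf_eq_map {T : Subgroup Ω} (α : MulAut T) (P : Subgroup Ω) :
    imgOf α P = (P.subgroupOf T).map (T.subtype.comp α.toMonoidHom) :=
  Subgroup.map_map _ _ _

section Main

variable [Finite S] {p : ℕ} [Fact p.Prime]

/-- The Frattini and invariance parts, for a system invariant under `Aut_F(T)` containing all `O^p(Aut_F(P))`. -/
theorem isInvariantIn_of_inv (hS : IsPGroup p S) (hF : F.IsSaturated p) {T : Subgroup Ω} (hTS : T ≤ S)
    (hTn : (T.subgroupOf S).Normal) (hSC : F.StronglyClosed T) {E : FusionSystem T} (hEF : E.IsSubsystemOf F)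
    (hinv : IsInvUnder E (F.autGroup T))
    (hE : ∀ P : Subgroup Ω, P ≤ T → (pResidual p (F.autGroup P)).map (F.autGroup P).subtype ≤ E.autGroup P) :
    E.IsInvariantIn F := by
  have hconj : ∀ (R : Subgroup Ω) (g : Ω), R ≤ T → g ∈ S → conjHom R g ∈ (prodSys (F.autGroup T) E hinv).Hom R := by
    intro R g hRT hg
    have hgN := mem_normalizer_of_normal hTS hTn hg
    exact ⟨normConj g hgN, autInducedBy_le_autGroup hTS (normConj_mem_autInducedBy hg hgN), R.subtype,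
      subtype_mem hRT, fun x hx => rfl⟩
  have hle := le_liftSys hS hF hSC hconj (fun P hP => (hE P hP).trans (autGroup_mono le_prodSys P))
  refine ⟨hEF, hSC, ?_, ?_⟩
  · intro P hPT φ hφ α hα
    have h1 := hinv α hα P φ hφ
    have hle2 : (P.subgroupOf T).map (T.subtype.comp α.toMonoidHom) ≤ imgOf α P := (imgOf_eq_map α P).ge
    refine ⟨_, res_mem h1 hle2, fun x hφx hαx => ?_⟩
    exact isConjBy_conjMap α φ (map_mem_S hφ) ⟨x, hPT x.2⟩ ⟨φ x, hφx⟩ x.2 (hle2 hαx) rfl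
  · intro P hPT φ hφ
    obtain ⟨α, hα, φ₀, hφ₀, he⟩ := (hle P hφ).2 P le_rfl hPT
    exact ⟨α, hα, φ₀, hφ₀, fun x hx => he x hx⟩

/-- Automorphisms of a strongly closed `T` extend to `T C_S(T)`. -/
theorem exists_ext_TC (hS : IsPGroup p S) (hF : F.IsSaturated p) {T : Subgroup Ω} (hSC : F.StronglyClosed T)
    {a : MulAut T} (ha : a ∈ F.autGroup T) :
    ∃ β ∈ F.autGroup (T ⊔ centralizerIn S T),
      (∀ x : T, ((β (Subgroup.inclusion le_sup_left x) : ↥(T ⊔ centralizerIn S T)) : Ω) = a x) ∧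
      ∀ c : ↥(T ⊔ centralizerIn S T), (c : Ω) ∈ centralizerIn S T → ((β c : ↥(T ⊔ centralizerIn S T)) : Ω) ∈ centralizerIn S T := by
  classical
  have hTS : T ≤ S := hSC.1
  have hFN : F.IsFullyNormalized T := by
    refine ⟨hTS, ?_⟩
    rintro Q ⟨φ, hφ, rfl⟩
    have hle : φ.range ≤ T := by
      rintro _ ⟨x, rfl⟩
      exact hSC.2 T le_rfl φ hφ x
    haveI : Finite T := finite_of_le hTS
    have heq : φ.range = T := Subgroup.eq_of_le_of_card_ge hle (card_eq_of_range hφ rfl).le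
    rw [heq]
  have hrec := fullyNormalized_receptive hS hF hFN
  have hφ := autGroup_mem_hom hTS ha
  have hr : (T.subtype.comp a.toMonoidHom).range = T := by
    ext y
    constructor
    · rintro ⟨z, rfl⟩
      exact (a z).2
    · intro hy
      exact ⟨a⁻¹ ⟨y, hy⟩, by simp⟩
  obtain ⟨ψ, hψ, hext⟩ := hrec.2 T _ hφ hr
  have hle := sup_centralizerIn_le_extender (φ := T.subtype.comp a.toMonoidHom) hTS (map_mem_S hφ)
  have hV : T ⊔ centralizerIn S T ≤ S := sup_le hTS inf_le_left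
  let ψ' : ↥(T ⊔ centralizerIn S T) →* Ω := ψ.comp (Subgroup.inclusion hle)
  have hψ' : ψ' ∈ F.Hom (T ⊔ centralizerIn S T) := res_mem hψ hle
  have hψT : ∀ x : T, ψ' (Subgroup.inclusion le_sup_left x) = a x := fun x =>
    hext x x.2 (hle ((le_sup_left : T ≤ T ⊔ centralizerIn S T) x.2))
  have hψC : ∀ c : ↥(T ⊔ centralizerIn S T), (c : Ω) ∈ centralizerIn S T → ψ' c ∈ centralizerIn S T := by
    intro c hc
    refine ⟨map_mem_S hψ' c, Subgroup.mem_centralizer_iff.2 ?_⟩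
    intro t ht
    obtain ⟨s, hs⟩ : ∃ s : T, a s = ⟨t, ht⟩ := ⟨a⁻¹ ⟨t, ht⟩, by simp⟩
    have h1 : (Subgroup.inclusion le_sup_left s : ↥(T ⊔ centralizerIn S T)) * c = c * Subgroup.inclusion le_sup_left s :=
      Subtype.ext ((Subgroup.mem_centralizer_iff.1 hc.2) s s.2)
    have h2 := congrArg ψ' h1
    rw [map_mul, map_mul, hψT, hs] at h2
    exact h2
  have hval : ∀ v : ↥(T ⊔ centralizerIn S T), ψ' v ∈ T ⊔ centralizerIn S T := by
    have hK : T ⊔ centralizerIn S T ≤ ((T ⊔ centralizerIn S T).comap ψ').map (T ⊔ centralizerIn S T).subtype := by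
      refine sup_le ?_ ?_
      · intro t ht
        refine ⟨Subgroup.inclusion le_sup_left ⟨t, ht⟩, ?_, rfl⟩
        show ψ' _ ∈ T ⊔ centralizerIn S T
        rw [hψT]
        exact (le_sup_left : T ≤ T ⊔ centralizerIn S T) (a ⟨t, ht⟩).2
      · intro c hc
        refine ⟨⟨c, (le_sup_right : centralizerIn S T ≤ T ⊔ centralizerIn S T) hc⟩, ?_, rfl⟩
        exact (le_sup_right : centralizerIn S T ≤ T ⊔ centralizerIn S T) (hψC _ hc)
    intro v
    obtain ⟨v', hv', e⟩ := hK v.2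
    have : v' = v := Subtype.ext e
    rw [← this]
    exact hv'
  haveI : Finite ↥(T ⊔ centralizerIn S T) := finite_of_le hV
  have hrange : ψ'.range = T ⊔ centralizerIn S T := range_eq_of_card hψ' hval le_rfl
  let β : MulAut ↥(T ⊔ centralizerIn S T) := isoOfRange (F.injective_of_mem hψ') hrange
  have hβ : ∀ v, ((β v : ↥(T ⊔ centralizerIn S T)) : Ω) = ψ' v := fun v => rfl
  refine ⟨β, mem_autGroup_of_mem ?_, fun x => hψT x, fun c hc => hψC c hc⟩
  exact mem_of_eq_res hψ' le_rfl (fun z => rfl)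

/-- The extension property `(N1)` of an automorphism of `T`. -/
def ExtN1 (F : FusionSystem S) {T : Subgroup Ω} (α : MulAut T) : Prop :=
  ∃ β ∈ F.autGroup (T ⊔ centralizerIn S T),
      (∀ x : T, ((β (Subgroup.inclusion le_sup_left x) : ↥(T ⊔ centralizerIn S T)) : Ω) = ((α x : T) : Ω)) ∧
      ∀ c : ↥(T ⊔ centralizerIn S T), (c : Ω) ∈ centralizerIn S T →
        (c : Ω)⁻¹ * ((β c : ↥(T ⊔ centralizerIn S T)) : Ω) ∈ T ⊓ Subgroup.centralizer (T : Set Ω)

omit [Finite S] [Fact p.Prime] in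
theorem ExtN1.one {T : Subgroup Ω} (hTS : T ≤ S) : ExtN1 F (1 : MulAut T) := by
  refine ⟨1, Subgroup.one_mem _, fun x => rfl, fun c _ => ?_⟩
  have e : (c : Ω)⁻¹ * (((1 : MulAut _) c : ↥(T ⊔ centralizerIn S T)) : Ω) = 1 := by simp
  rw [e]
  exact Subgroup.one_mem _

omit [Finite S] [Fact p.Prime] in
theorem ExtN1.mul {T : Subgroup Ω} {a b : MulAut T} (ha : ExtN1 F a) (hb : ExtN1 F b) : ExtN1 F (a * b) := by
  obtain ⟨β₁, hβ₁, h1, h1'⟩ := ha
  obtain ⟨β₂, hβ₂, h2, h2'⟩ := hb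
  refine ⟨β₁ * β₂, Subgroup.mul_mem _ hβ₁ hβ₂, fun x => ?_, fun c hc => ?_⟩
  · have e : β₂ (Subgroup.inclusion le_sup_left x) = Subgroup.inclusion le_sup_left (b x) := Subtype.ext (h2 x)
    show ((β₁ (β₂ (Subgroup.inclusion le_sup_left x)) : ↥(T ⊔ centralizerIn S T)) : Ω) = _
    rw [e, h1]
    rfl
  · obtain ⟨hzT, hzC⟩ := h2' c hc
    set z : T := ⟨(c : Ω)⁻¹ * ((β₂ c : ↥(T ⊔ centralizerIn S T)) : Ω), hzT⟩ with hz
    have e : β₂ c = c * Subgroup.inclusion le_sup_left z := by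
      apply Subtype.ext
      show ((β₂ c : ↥(T ⊔ centralizerIn S T)) : Ω) = (c : Ω) * ((c : Ω)⁻¹ * ((β₂ c : ↥(T ⊔ centralizerIn S T)) : Ω))
      group
    have e2 : (c : Ω)⁻¹ * (((β₁ * β₂) c : ↥(T ⊔ centralizerIn S T)) : Ω) =
        ((c : Ω)⁻¹ * ((β₁ c : ↥(T ⊔ centralizerIn S T)) : Ω)) * ((a z : T) : Ω) := by
      show (c : Ω)⁻¹ * ((β₁ (β₂ c) : ↥(T ⊔ centralizerIn S T)) : Ω) = _
      rw [e, map_mul]
      show (c : Ω)⁻¹ * (((β₁ c : ↥(T ⊔ centralizerIn S T)) : Ω) *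
        ((β₁ (Subgroup.inclusion le_sup_left z) : ↥(T ⊔ centralizerIn S T)) : Ω)) = _
      rw [h1]
      group
    rw [e2]
    refine Subgroup.mul_mem _ (h1' c hc) ⟨(a z).2, Subgroup.mem_centralizer_iff.2 ?_⟩
    intro t ht
    obtain ⟨s, hs⟩ : ∃ s : T, a s = ⟨t, ht⟩ := ⟨a⁻¹ ⟨t, ht⟩, by simp⟩
    have h3 : s * z = z * s := Subtype.ext ((Subgroup.mem_centralizer_iff.1 hzC) s s.2)
    have h4 := congrArg a h3
    rw [map_mul, map_mul, hs] at h4
    exact congrArg (fun w : T => (w : Ω)) h4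

omit [Fact p.Prime] in
theorem ExtN1.inv {T : Subgroup Ω} (hTS : T ≤ S) {a : MulAut T} (ha : ExtN1 F a) : ExtN1 F a⁻¹ := by
  haveI : Finite T := finite_of_le hTS
  haveI : Finite (MulAut T) := Finite.of_injective (fun α : MulAut T => (α : T → T))
    (fun a b h => MulEquiv.ext (congrFun h))
  have hpow : ∀ n : ℕ, ExtN1 F (a ^ n) := by
    intro n
    induction n with
    | zero => simpa using ExtN1.one hTS
    | succ n ih =>
      rw [pow_succ]
      exact ih.mul ha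
  have e : a⁻¹ = a ^ (orderOf a - 1) := by
    apply inv_eq_of_mul_eq_one_left
    rw [← pow_succ, Nat.sub_add_cancel (orderOf_pos a), pow_orderOf_eq_one]
  rw [e]
  exact hpow _

/-- `p'`-elements of `Aut_F(T)` have the extension property when `T` contains the hyperfocal subgroup. -/
theorem extN1_of_coprime (hS : IsPGroup p S) (hF : F.IsSaturated p) {T : Subgroup Ω} (hSC : F.StronglyClosed T)
    (hT : F.hyperfocalSubgroup p ≤ T) {r : MulAut T} (hr : r ∈ F.autGroup T) (hco : Nat.Coprime (orderOf r) p) :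
    ExtN1 F r := by
  classical
  have hTS : T ≤ S := hSC.1
  have hV : T ⊔ centralizerIn S T ≤ S := sup_le hTS inf_le_left
  obtain ⟨β₀, hβ₀, h1, h2⟩ := exists_ext_TC hS hF hSC hr
  haveI : Finite ↥(T ⊔ centralizerIn S T) := finite_of_le hV
  haveI : Finite (MulAut ↥(T ⊔ centralizerIn S T)) :=
    Finite.of_injective (fun α : MulAut ↥(T ⊔ centralizerIn S T) => (α : ↥(T ⊔ centralizerIn S T) → ↥(T ⊔ centralizerIn S T)))
    (fun a b h => MulEquiv.ext (congrFun h))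
  have hpos : orderOf β₀ ≠ 0 := (orderOf_pos β₀).ne'
  obtain ⟨e, n, hn, hβo⟩ := Nat.exists_eq_pow_mul_and_not_dvd hpos p (Fact.out : p.Prime).ne_one
  have hco2 : Nat.Coprime (orderOf r) (p ^ e) := Nat.Coprime.pow_right e hco
  obtain ⟨k, hk1, hk2⟩ := Nat.chineseRemainder hco2 1 0
  have hk2' : p ^ e ∣ k := (Nat.modEq_zero_iff_dvd).1 hk2
  have hrk : r ^ k = r := by
    have := (pow_eq_pow_iff_modEq (x := r)).2 hk1
    rwa [pow_one] at this
  -- the `p'`-automorphism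
  have hres : ∀ m : ℕ, ∀ x : T, (((β₀ ^ m) (Subgroup.inclusion le_sup_left x) : ↥(T ⊔ centralizerIn S T)) : Ω) = ((r ^ m) x : T) := by
    intro m
    induction m with
    | zero => intro x; rfl
    | succ m ih =>
      intro x
      rw [pow_succ, pow_succ]
      have e1 : β₀ (Subgroup.inclusion le_sup_left x) = Subgroup.inclusion le_sup_left (r x) := Subtype.ext (h1 x)
      show (((β₀ ^ m) (β₀ (Subgroup.inclusion le_sup_left x)) : ↥(T ⊔ centralizerIn S T)) : Ω) = _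
      rw [e1, ih]
      rfl
  have hCm : ∀ m : ℕ, ∀ c : ↥(T ⊔ centralizerIn S T), (c : Ω) ∈ centralizerIn S T →
      (((β₀ ^ m) c : ↥(T ⊔ centralizerIn S T)) : Ω) ∈ centralizerIn S T := by
    intro m
    induction m with
    | zero => intro c hc; exact hc
    | succ m ih =>
      intro c hc
      rw [pow_succ]
      exact ih _ (h2 c hc)
  have hβk : β₀ ^ k ∈ F.autGroup (T ⊔ centralizerIn S T) := Subgroup.pow_mem _ hβ₀ k
  have hordk : orderOf (⟨β₀ ^ k, hβk⟩ : F.autGroup (T ⊔ centralizerIn S T)) ∣ n := by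
    rw [← Subgroup.orderOf_coe]
    apply orderOf_dvd_of_pow_eq_one
    show (β₀ ^ k) ^ n = 1
    rw [← pow_mul]
    apply orderOf_dvd_iff_pow_eq_one.1
    rw [hβo]
    exact Nat.mul_dvd_mul hk2' dvd_rfl
  have hcop : Nat.Coprime (orderOf (⟨β₀ ^ k, hβk⟩ : F.autGroup (T ⊔ centralizerIn S T))) p := by
    refine Nat.Coprime.coprime_dvd_left hordk ?_
    exact ((Nat.Prime.coprime_iff_not_dvd Fact.out).2 hn).symm
  refine ⟨β₀ ^ k, hβk, fun x => ?_, fun c hc => ?_⟩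
  · rw [hres, hrk]
  · have h3 := mem_hyperfocal_of_coprime (F := F) (p := p) hV hcop c
    have h4 : (c : Ω)⁻¹ * (((β₀ ^ k) c : ↥(T ⊔ centralizerIn S T)) : Ω) ∈ T := hT h3
    refine ⟨h4, ?_⟩
    exact Subgroup.mul_mem _ (Subgroup.inv_mem _ hc.2) (hCm k c hc).2

/-- Inner automorphisms of `T` have the extension property. -/
theorem extN1_of_inner {T : Subgroup Ω} (hTS : T ≤ S) {a : MulAut T} {t : Ω} (ht : t ∈ T)
    (h : ∀ x : T, ((a x : T) : Ω) = t * x * t⁻¹) : ExtN1 F a := by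
  have htV : t ∈ T ⊔ centralizerIn S T := (le_sup_left : T ≤ T ⊔ centralizerIn S T) ht
  have hN : t ∈ Subgroup.normalizer ((T ⊔ centralizerIn S T : Subgroup Ω) : Set Ω) :=
    Subgroup.le_normalizer htV
  have hV : T ⊔ centralizerIn S T ≤ S := sup_le hTS inf_le_left
  refine ⟨normConj t hN, autInducedBy_le_autGroup hV (normConj_mem_autInducedBy (hTS ht) hN), fun x => ?_, fun c hc => ?_⟩
  · exact (h x).symm
  · have h1 : t * (c : Ω) = (c : Ω) * t := (Subgroup.mem_centralizer_iff.1 hc.2 t ht)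
    have e : (c : Ω)⁻¹ * ((normConj t hN c : ↥(T ⊔ centralizerIn S T)) : Ω) = 1 := by
      show (c : Ω)⁻¹ * (t * c * t⁻¹) = 1
      rw [h1]
      group
    rw [e]
    exact Subgroup.one_mem _

/-- **S5120**: a saturated subsystem of `p`-power index over `T ⊴ S` is normal. -/
theorem isNormalIn_of_pPowerIndex (hS : IsPGroup p S) (hF : F.IsSaturated p) {T : Subgroup Ω} (hTS : T ≤ S)
    (hTn : (T.subgroupOf S).Normal) (hT : F.hyperfocalSubgroup p ≤ T) {E : FusionSystem T} (hEs : E.IsSaturated p)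
    (hEi : E.HasPPowerIndexIn F p) : E.IsNormalIn F p := by
  classical
  have hSC := stronglyClosed_of_hyp_le hS hF hTS hTn hT
  have hinv := isInvUnder_of_pPowerIndex hS hTS hEs hEi.1 hEi.2.2
  refine ⟨⟨hEs, hF, isInvariantIn_of_inv hS hF hTS hTn hSC hEi.1 hinv hEi.2.2⟩, ?_⟩
  intro α hα
  haveI : Finite T := finite_of_le hTS
  haveI : Finite (E.autGroup T) := finite_autGroup (le_rfl : T ≤ T)
  haveI : Finite (MulAut T) := Finite.of_injective (fun α : MulAut T => (α : T → T))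
    (fun a b h => MulEquiv.ext (congrFun h))
  obtain ⟨Q, hQ, hQa, -⟩ := hEs T le_rfl
  have hQT : Q = T := Subgroup.eq_of_le_of_card_ge (Basic.IsConj.le_right hQ) (Basic.IsConj.card_eq hQ).le
  subst hQT
  obtain ⟨-, R, hR⟩ := hQa
  obtain ⟨τ, hτ, r, hr, he⟩ := Focal.exists_sylow_mul_residual R ⟨α, hα⟩
  have hτS : (τ : MulAut Q) ∈ autInducedBy Q Q := by
    rw [hR] at hτ
    exact hτ
  obtain ⟨t, ht, htv⟩ := mem_autInducedBy_iff.1 hτS
  have h5 : α = (τ : MulAut Q) * (r : MulAut Q) := congrArg Subtype.val he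
  rw [h5]
  refine (extN1_of_inner hTS ht htv).mul ?_
  clear he h5
  induction hr using Subgroup.closure_induction with
  | mem x hx =>
    have hxF : (x : MulAut Q) ∈ F.autGroup Q := mem_autGroup_of_mem (hEi.1 _ (autGroup_mem_hom le_rfl x.2))
    refine extN1_of_coprime hS hF hSC hT hxF ?_
    rw [Subgroup.orderOf_coe]
    exact hx
  | one => exact ExtN1.one hTS
  | mul a b _ _ ha hb => exact ha.mul hb
  | inv a _ ha => exact ExtN1.inv hTS ha

end Main

end Cfsg.Agent.Lib.Fusion.PPowerNormal
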