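/-
Subsystems of index prime to `p`, part 1: transport of a fusion system along an automorphism of `S`,
intersections of fusion systems, and the product `Γ · G` of an invariant system with a group of automorphisms.
-/
import Mathlib
import Cfsg.Prelude.Def_FusionSystem
import Cfsg.Agent.Lib.Fusion.Basic
import Cfsg.Agent.Lib.Fusion.Saturated
import Cfsg.Agent.Lib.Fusion.SatCrit2

set_option autoImplicit false

namespace Cfsg.Agent.Lib.Fusion.PPrime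

open Cfsg Cfsg.FusionSystem Cfsg.Agent.Lib.Fusion.Basic Cfsg.Agent.Lib.Fusion.Saturated
open Cfsg.Agent.Lib.Fusion.SatCrit (imgOf mem_imgOf imgOf_le)

variable {Ω : Type*} [Group Ω] {S : Subgroup Ω}

theorem apply_mem_imgOf (β : MulAut S) {P : Subgroup Ω} (a : S) :
    ((β a : S) : Ω) ∈ imgOf β P ↔ (a : Ω) ∈ P := by
  rw [mem_imgOf (β a)]
  simp

/-- `χ` is the transport of `φ` through the automorphism `β` of `S`: `χ (β a) = β (φ a)`. -/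
def IsConjBy (β : MulAut S) {P Q : Subgroup Ω} (φ : P →* Ω) (χ : Q →* Ω) : Prop :=
  ∀ (a b : S) (ha : (a : Ω) ∈ P) (hb : ((β a : S) : Ω) ∈ Q), φ ⟨a, ha⟩ = b → χ ⟨β a, hb⟩ = β b

/-- Pull an element of `imgOf β P` back to `P`. -/
def backTo (β : MulAut S) (P : Subgroup Ω) : imgOf β P →* P :=
  MonoidHom.codRestrict (S.subtype.comp ((β⁻¹).toMonoidHom.comp (Subgroup.inclusion (imgOf_le β P)))) P
    (fun y => (mem_imgOf (⟨y, imgOf_le β P y.2⟩ : S)).1 y.2)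

theorem backTo_apply (β : MulAut S) {P : Subgroup Ω} {a : S} (hb : ((β a : S) : Ω) ∈ imgOf β P) :
    ((backTo β P ⟨β a, hb⟩ : P) : Ω) = a := by
  show (((β⁻¹) ((⟨((β a : S) : Ω), imgOf_le β P hb⟩ : S)) : S) : Ω) = a
  have e : (⟨((β a : S) : Ω), imgOf_le β P hb⟩ : S) = β a := rfl
  rw [e]
  simp

/-- The transported map. -/
def conjMap (β : MulAut S) {P : Subgroup Ω} (φ : P →* Ω) (hv : ∀ x : P, φ x ∈ S) : imgOf β P →* Ω :=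
  S.subtype.comp (β.toMonoidHom.comp ((φ.codRestrict S hv).comp (backTo β P)))

theorem isConjBy_conjMap (β : MulAut S) {P : Subgroup Ω} (φ : P →* Ω) (hv : ∀ x : P, φ x ∈ S) :
    IsConjBy β φ (conjMap β φ hv) := by
  intro a b ha hb hab
  have h1 : backTo β P ⟨β a, hb⟩ = ⟨a, ha⟩ := Subtype.ext (backTo_apply β hb)
  show ((β (φ.codRestrict S hv (backTo β P ⟨β a, hb⟩)) : S) : Ω) = _
  rw [h1]
  have h2 : φ.codRestrict S hv ⟨a, ha⟩ = b := Subtype.ext hab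
  rw [h2]

theorem IsConjBy.eq_conjMap {β : MulAut S} {P : Subgroup Ω} {φ : P →* Ω} {χ : imgOf β P →* Ω}
    (h : IsConjBy β φ χ) (hP : P ≤ S) (hv : ∀ x : P, φ x ∈ S) : χ = conjMap β φ hv := by
  ext y
  have hyS : (y : Ω) ∈ S := imgOf_le β P y.2
  set t : S := β⁻¹ ⟨y, hyS⟩ with ht
  have hty : β t = ⟨y, hyS⟩ := by simp [ht]
  have hyt : (y : Ω) = ((β t : S) : Ω) := by rw [hty]
  have hb : ((β t : S) : Ω) ∈ imgOf β P := hyt ▸ y.2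
  have hta : (t : Ω) ∈ P := (apply_mem_imgOf β t).1 hb
  have e : y = ⟨β t, hb⟩ := Subtype.ext hyt
  rw [e, h t ⟨φ ⟨t, hta⟩, hv _⟩ hta hb rfl, isConjBy_conjMap β φ hv t ⟨φ ⟨t, hta⟩, hv _⟩ hta hb rfl]

/-- The fusion system `E` read through `β`: its maps are the `φ` such that `β φ β⁻¹` is a map of `E`. -/
def conjSys (E : FusionSystem S) (β : MulAut S) : FusionSystem S where
  Hom P := {φ | P ≤ S ∧ (∀ x : P, φ x ∈ S) ∧ ∃ χ ∈ E.Hom (imgOf β P), IsConjBy β φ χ}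
  le_of_mem h := ⟨h.1, h.2.1⟩
  injective_of_mem := by
    rintro P φ ⟨hP, hv, χ, hχ, hc⟩ x y hxy
    have hx : ((β ⟨x, hP x.2⟩ : S) : Ω) ∈ imgOf β P := (apply_mem_imgOf β _).2 x.2
    have hy : ((β ⟨y, hP y.2⟩ : S) : Ω) ∈ imgOf β P := (apply_mem_imgOf β _).2 y.2
    have h1 := hc ⟨x, hP x.2⟩ ⟨φ x, hv x⟩ x.2 hx rfl
    have h2 := hc ⟨y, hP y.2⟩ ⟨φ y, hv y⟩ y.2 hy rfl
    have h3 : (⟨φ x, hv x⟩ : S) = ⟨φ y, hv y⟩ := Subtype.ext hxy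
    rw [h3, ← h2] at h1
    have h4 := E.injective_of_mem hχ h1
    have h5 : β ⟨x, hP x.2⟩ = β ⟨y, hP y.2⟩ := Subtype.ext (congrArg (fun z : imgOf β P => (z : Ω)) h4)
    have h6 := β.injective h5
    exact Subtype.ext (congrArg (fun z : S => (z : Ω)) h6)
  conj_mem := by
    intro P g hP hg
    refine ⟨hP, fun x => S.mul_mem (S.mul_mem hg (hP x.2)) (S.inv_mem hg), conjHom _ ((β ⟨g, hg⟩ : S) : Ω),
      E.conj_mem (imgOf_le β P) (β ⟨g, hg⟩).2, ?_⟩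
    intro a b ha hb hab
    have e : b = ⟨g, hg⟩ * a * ⟨g, hg⟩⁻¹ := Subtype.ext hab.symm
    subst e
    simp [conjHom]
  comp_mem := by
    rintro P Q φ ψ ⟨hP, hv, χ, hχ, hc⟩ ⟨hQ, hw, χ', hχ', hc'⟩ h
    have hval : ∀ y : imgOf β P, χ y ∈ imgOf β Q := by
      intro y
      have hyS : (y : Ω) ∈ S := imgOf_le β P y.2
      have hty : β (β⁻¹ ⟨y, hyS⟩) = ⟨y, hyS⟩ := by simp
      have hyt : (y : Ω) = ((β (β⁻¹ ⟨y, hyS⟩) : S) : Ω) := by rw [hty]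
      have hb : ((β (β⁻¹ ⟨y, hyS⟩) : S) : Ω) ∈ imgOf β P := hyt ▸ y.2
      have hta := (apply_mem_imgOf β _).1 hb
      have e : y = ⟨_, hb⟩ := Subtype.ext hyt
      rw [e, hc _ ⟨φ ⟨_, hta⟩, hv _⟩ hta hb rfl]
      exact (apply_mem_imgOf β _).2 (h _)
    refine ⟨hP, fun x => hw _, χ'.comp (χ.codRestrict _ hval), E.comp_mem hχ hχ' hval, ?_⟩
    intro a b ha hb hab
    have hax := hc a ⟨φ ⟨a, ha⟩, hv _⟩ ha hb rfl
    have hm : ((β ⟨φ ⟨a, ha⟩, hv _⟩ : S) : Ω) ∈ imgOf β Q := (apply_mem_imgOf β _).2 (h _)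
    have h1 : χ.codRestrict (imgOf β Q) hval ⟨β a, hb⟩ = ⟨β ⟨φ ⟨a, ha⟩, hv _⟩, hm⟩ := Subtype.ext hax
    show χ' (χ.codRestrict (imgOf β Q) hval ⟨β a, hb⟩) = _
    rw [h1]
    exact hc' ⟨φ ⟨a, ha⟩, hv _⟩ b (h _) hm hab
  inv_mem := by
    rintro P φ ⟨hP, hv, χ, hχ, hc⟩
    have hinj : Function.Injective φ := by
      intro x y hxy
      have hx : ((β ⟨x, hP x.2⟩ : S) : Ω) ∈ imgOf β P := (apply_mem_imgOf β _).2 x.2
      have hy : ((β ⟨y, hP y.2⟩ : S) : Ω) ∈ imgOf β P := (apply_mem_imgOf β _).2 y.2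
      have h1 := hc ⟨x, hP x.2⟩ ⟨φ x, hv x⟩ x.2 hx rfl
      have h2 := hc ⟨y, hP y.2⟩ ⟨φ y, hv y⟩ y.2 hy rfl
      have h3 : (⟨φ x, hv x⟩ : S) = ⟨φ y, hv y⟩ := Subtype.ext hxy
      rw [h3, ← h2] at h1
      have h4 := E.injective_of_mem hχ h1
      have h5 : β ⟨x, hP x.2⟩ = β ⟨y, hP y.2⟩ := Subtype.ext (congrArg (fun z : imgOf β P => (z : Ω)) h4)
      have h6 := β.injective h5
      exact Subtype.ext (congrArg (fun z : S => (z : Ω)) h6)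
    let ψ : φ.range →* Ω := P.subtype.comp (MonoidHom.ofInjective hinj).symm.toMonoidHom
    have hψ : ∀ x : P, ψ ⟨φ x, ⟨x, rfl⟩⟩ = x := by
      intro x
      have e : (⟨φ x, ⟨x, rfl⟩⟩ : φ.range) = MonoidHom.ofInjective hinj x := rfl
      show (((MonoidHom.ofInjective hinj).symm ⟨φ x, ⟨x, rfl⟩⟩ : P) : Ω) = x
      rw [e, MulEquiv.symm_apply_apply]
    refine ⟨ψ, ⟨?_, ?_, ?_⟩, hψ⟩
    · rintro _ ⟨x, rfl⟩
      exact hv x
    · rintro ⟨_, x, rfl⟩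
      rw [hψ x]
      exact hP x.2
    · have hr : χ.range = imgOf β φ.range := by
        ext y
        constructor
        · rintro ⟨z, rfl⟩
          have hzS : (z : Ω) ∈ S := imgOf_le β P z.2
          have hty : β (β⁻¹ ⟨z, hzS⟩) = ⟨z, hzS⟩ := by simp
          have hyt : (z : Ω) = ((β (β⁻¹ ⟨z, hzS⟩) : S) : Ω) := by rw [hty]
          have hb : ((β (β⁻¹ ⟨z, hzS⟩) : S) : Ω) ∈ imgOf β P := hyt ▸ z.2
          have hta := (apply_mem_imgOf β _).1 hb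
          have e : z = ⟨_, hb⟩ := Subtype.ext hyt
          rw [e, hc _ ⟨φ ⟨_, hta⟩, hv _⟩ hta hb rfl]
          exact (apply_mem_imgOf β _).2 ⟨⟨_, hta⟩, rfl⟩
        · intro hy
          have hyS : y ∈ S := imgOf_le β _ hy
          have hty : β (β⁻¹ ⟨y, hyS⟩) = ⟨y, hyS⟩ := by simp
          have hyr := (mem_imgOf (⟨y, hyS⟩ : S)).1 hy
          obtain ⟨x, hx⟩ := hyr
          have hmem : ((β ⟨x, hP x.2⟩ : S) : Ω) ∈ imgOf β P := (apply_mem_imgOf β _).2 x.2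
          refine ⟨⟨_, hmem⟩, ?_⟩
          rw [hc ⟨x, hP x.2⟩ ⟨φ x, hv x⟩ x.2 hmem rfl]
          have h2 : (⟨φ x, hv x⟩ : S) = β⁻¹ ⟨y, hyS⟩ := Subtype.ext hx
          rw [h2, hty]
      obtain ⟨σ, hσ, -, hσ1, -⟩ := exists_inv hχ hr
      refine ⟨σ, hσ, ?_⟩
      rintro a b ⟨x, hx⟩ hb hab
      obtain rfl : (⟨φ x, hv x⟩ : S) = a := Subtype.ext hx
      have hxb : (x : Ω) = b := by
        have h1 := hψ x
        rw [show ψ ⟨φ x, ⟨x, rfl⟩⟩ = (b : Ω) from hab] at h1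
        exact h1.symm
      obtain rfl : (⟨x, hP x.2⟩ : S) = b := Subtype.ext hxb
      have hmem : ((β ⟨x, hP x.2⟩ : S) : Ω) ∈ imgOf β P := (apply_mem_imgOf β _).2 x.2
      have h3 := hc ⟨x, hP x.2⟩ ⟨φ x, hv x⟩ x.2 hmem rfl
      have h4 : (⟨((β ⟨φ x, hv x⟩ : S) : Ω), hb⟩ : imgOf β φ.range) =
          ⟨χ ⟨_, hmem⟩, by rw [← hr]; exact ⟨_, rfl⟩⟩ := Subtype.ext h3.symm
      rw [h4, hσ1 ⟨_, hmem⟩]

theorem mem_conjSys {E : FusionSystem S} {β : MulAut S} {P : Subgroup Ω} {φ : P →* Ω} :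
    φ ∈ (conjSys E β).Hom P ↔ P ≤ S ∧ (∀ x : P, φ x ∈ S) ∧ ∃ χ ∈ E.Hom (imgOf β P), IsConjBy β φ χ := Iff.rfl

/-- The restriction of an automorphism of `S` to a subgroup, as a map to `Ω`. -/
def resA (β : MulAut S) {P : Subgroup Ω} (hP : P ≤ S) : P →* Ω :=
  S.subtype.comp (β.toMonoidHom.comp (Subgroup.inclusion hP))

@[simp] theorem resA_apply (β : MulAut S) {P : Subgroup Ω} (hP : P ≤ S) (x : P) :
    resA β hP x = ((β ⟨x, hP x.2⟩ : S) : Ω) := rfl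

theorem resA_mem {F : FusionSystem S} {β : MulAut S} (hβ : β ∈ F.autGroup S) {P : Subgroup Ω} (hP : P ≤ S) :
    resA β hP ∈ F.Hom P :=
  res_mem (autGroup_mem_hom le_rfl hβ) hP

/-- Maps of `F` are stable under transport along `Aut_F(S)`: forward direction. -/
theorem conjMap_mem {F : FusionSystem S} {β : MulAut S} (hβ : β ∈ F.autGroup S) {P : Subgroup Ω} {φ : P →* Ω}
    (hφ : φ ∈ F.Hom P) : conjMap β φ (map_mem_S hφ) ∈ F.Hom (imgOf β P) := by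
  have hP := source_le hφ
  have hβi : β⁻¹ ∈ F.autGroup S := (F.autGroup S).inv_mem hβ
  have h1 := comp_mem' (F := F) (resA_mem hβi (imgOf_le β P)) hφ (φ := resA β⁻¹ (imgOf_le β P))
    (ψ := φ) (χ := φ.comp (backTo β P)) (fun y => (backTo β P y).2) (fun y => rfl)
  exact comp_mem' h1 (resA_mem hβ le_rfl) (fun y => map_mem_S hφ _) (fun y => rfl)

/-- Maps of `F` are stable under transport along `Aut_F(S)`: backward direction. -/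
theorem mem_of_isConjBy {F : FusionSystem S} {β : MulAut S} (hβ : β ∈ F.autGroup S) {P : Subgroup Ω} {φ : P →* Ω}
    {χ : imgOf β P →* Ω} (hχ : χ ∈ F.Hom (imgOf β P)) (hc : IsConjBy β φ χ) (hP : P ≤ S)
    (hv : ∀ x : P, φ x ∈ S) : φ ∈ F.Hom P := by
  have hβi : β⁻¹ ∈ F.autGroup S := (F.autGroup S).inv_mem hβ
  have h1 := resA_mem hβ hP
  have hm : ∀ x : P, resA β hP x ∈ imgOf β P := fun x => (apply_mem_imgOf β _).2 x.2
  have h2 := comp_mem' h1 hχ (χ := χ.comp ((resA β hP).codRestrict _ hm)) hm (fun y => rfl)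
  refine comp_mem' h2 (resA_mem hβi (le_rfl : S ≤ S)) (fun y => map_mem_S hχ _) (fun x => ?_)
  have h3 := hc ⟨x, hP x.2⟩ ⟨φ x, hv x⟩ x.2 (hm x) rfl
  have h4 : (χ.comp ((resA β hP).codRestrict _ hm)) x = ((β ⟨φ x, hv x⟩ : S) : Ω) := h3
  have h5 : (⟨(χ.comp ((resA β hP).codRestrict _ hm)) x, map_mem_S hχ _⟩ : S) = β ⟨φ x, hv x⟩ := Subtype.ext h4
  rw [resA_apply]
  change (φ x : Ω) = ((β⁻¹ (⟨(χ.comp ((resA β hP).codRestrict _ hm)) x, map_mem_S hχ _⟩ : S) : S) : Ω)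
  rw [h5]
  simp

/-- `F` read through an element of `Aut_F(S)` is `F`. -/
theorem conjSys_hom_eq {F : FusionSystem S} {β : MulAut S} (hβ : β ∈ F.autGroup S) (P : Subgroup Ω) :
    (conjSys F β).Hom P = F.Hom P := by
  ext φ
  constructor
  · rintro ⟨hP, hv, χ, hχ, hc⟩
    exact mem_of_isConjBy hβ hχ hc hP hv
  · intro hφ
    exact ⟨source_le hφ, map_mem_S hφ, _, conjMap_mem hβ hφ, isConjBy_conjMap β φ (map_mem_S hφ)⟩

/-! ### Intersections -/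

/-- The intersection of a nonempty family of fusion systems. -/
def sInfSys (𝔖 : Set (FusionSystem S)) (F₀ : FusionSystem S) (hF₀ : F₀ ∈ 𝔖) : FusionSystem S where
  Hom P := {φ | ∀ E ∈ 𝔖, φ ∈ E.Hom P}
  le_of_mem h := F₀.le_of_mem (h F₀ hF₀)
  injective_of_mem h := F₀.injective_of_mem (h F₀ hF₀)
  conj_mem hP hg := fun E _ => E.conj_mem hP hg
  comp_mem hφ hψ hv := fun E hE => E.comp_mem (hφ E hE) (hψ E hE) hv
  inv_mem := by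
    intro P φ hφ
    obtain ⟨ψ, hψ, h⟩ := F₀.inv_mem (hφ F₀ hF₀)
    refine ⟨ψ, fun E hE => ?_, h⟩
    obtain ⟨ψ', hψ', h'⟩ := E.inv_mem (hφ E hE)
    have e : ψ = ψ' := by
      ext ⟨_, x, rfl⟩
      rw [h x, h' x]
    rwa [e]

theorem mem_sInfSys {𝔖 : Set (FusionSystem S)} {F₀ : FusionSystem S} {hF₀ : F₀ ∈ 𝔖} {P : Subgroup Ω}
    {φ : P →* Ω} : φ ∈ (sInfSys 𝔖 F₀ hF₀).Hom P ↔ ∀ E ∈ 𝔖, φ ∈ E.Hom P := Iff.rfl

/-! ### Products with automorphisms -/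

/-- `G` is invariant under the group `Γ` of automorphisms of `S`. -/
def IsInvUnder (G : FusionSystem S) (Γ : Subgroup (MulAut S)) : Prop :=
  ∀ β ∈ Γ, ∀ (P : Subgroup Ω) (φ : P →* Ω) (hφ : φ ∈ G.Hom P), conjMap β φ (map_mem_S hφ) ∈ G.Hom (imgOf β P)

theorem IsConjBy.apply' {β : MulAut S} {P Q : Subgroup Ω} {φ : P →* Ω} {χ : Q →* Ω} (h : IsConjBy β φ χ)
    {a y b : S} (ha : (a : Ω) ∈ P) (hy : (y : Ω) ∈ Q) (e : β a = y) (hb : φ ⟨a, ha⟩ = b) :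
    χ ⟨y, hy⟩ = β b := by
  subst e
  exact h a b ha hy hb

/-- The maps `β ∘ φ₀`, with `β ∈ Γ` and `φ₀ ∈ G`. -/
def prodSys (Γ : Subgroup (MulAut S)) (G : FusionSystem S) (hinv : IsInvUnder G Γ) : FusionSystem S where
  Hom P := {φ | ∃ β ∈ Γ, ∃ φ₀ ∈ G.Hom P, ∀ (x : P) (hx : φ₀ x ∈ S), φ x = ((β ⟨φ₀ x, hx⟩ : S) : Ω)}
  le_of_mem := by
    rintro P φ ⟨β, -, φ₀, h₀, h⟩
    refine ⟨source_le h₀, fun x => ?_⟩
    rw [h x (map_mem_S h₀ x)]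
    exact (β _).2
  injective_of_mem := by
    rintro P φ ⟨β, -, φ₀, h₀, h⟩ x y hxy
    rw [h x (map_mem_S h₀ x), h y (map_mem_S h₀ y)] at hxy
    have := β.injective (Subtype.ext hxy)
    exact G.injective_of_mem h₀ (congrArg (fun z : S => (z : Ω)) this)
  conj_mem := by
    intro P g hP hg
    exact ⟨1, Γ.one_mem, conjHom P g, G.conj_mem hP hg, fun x hx => rfl⟩
  comp_mem := by
    rintro P Q φ ψ ⟨β, hβ, φ₀, hφ₀, hφ⟩ ⟨β', hβ', ψ₀, hψ₀, hψ⟩ h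
    have hψ₁ := hinv β⁻¹ (Γ.inv_mem hβ) Q ψ₀ hψ₀
    have hc := isConjBy_conjMap β⁻¹ ψ₀ (map_mem_S hψ₀)
    have hm : ∀ x : P, φ₀ x ∈ imgOf β⁻¹ Q := by
      intro x
      rw [show φ₀ x = ((⟨φ₀ x, map_mem_S hφ₀ x⟩ : S) : Ω) from rfl, mem_imgOf]
      rw [inv_inv, ← hφ x (map_mem_S hφ₀ x)]
      exact h x
    refine ⟨β' * β, Γ.mul_mem hβ' hβ, (conjMap β⁻¹ ψ₀ _).comp (φ₀.codRestrict _ hm),
      G.comp_mem hφ₀ hψ₁ hm, fun x hx => ?_⟩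
    have hQS : Q ≤ S := source_le hψ₀
    have e1 : (⟨φ x, h x⟩ : Q) = φ.codRestrict Q h x := rfl
    have e2 : β⁻¹ (⟨φ x, hQS (h x)⟩ : S) = ⟨φ₀ x, map_mem_S hφ₀ x⟩ := by
      apply (MulEquiv.symm_apply_eq β).2
      exact Subtype.ext (hφ x (map_mem_S hφ₀ x))
    have h3 := hc.apply' (a := ⟨φ x, hQS (h x)⟩) (y := ⟨φ₀ x, map_mem_S hφ₀ x⟩)
      (b := ⟨ψ₀ ⟨φ x, h x⟩, map_mem_S hψ₀ _⟩) (h x) (hm x) e2 rfl
    have h4 : ((conjMap β⁻¹ ψ₀ (map_mem_S hψ₀)).comp (φ₀.codRestrict _ hm)) x =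
        ((β⁻¹ (⟨ψ₀ ⟨φ x, h x⟩, map_mem_S hψ₀ _⟩ : S) : S) : Ω) := h3
    have h5 : (⟨((conjMap β⁻¹ ψ₀ (map_mem_S hψ₀)).comp (φ₀.codRestrict _ hm)) x, hx⟩ : S) =
        β⁻¹ (⟨ψ₀ ⟨φ x, h x⟩, map_mem_S hψ₀ _⟩ : S) := Subtype.ext h4
    rw [h5]
    show ψ (φ.codRestrict Q h x) = ((β' (β (β⁻¹ (⟨ψ₀ ⟨φ x, h x⟩, map_mem_S hψ₀ _⟩ : S))) : S) : Ω)
    rw [← e1, hψ ⟨φ x, h x⟩ (map_mem_S hψ₀ _)]
    simp
  inv_mem := by
    rintro P φ ⟨β, hβ, φ₀, hφ₀, hφ⟩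
    have hinj : Function.Injective φ := by
      intro x y hxy
      rw [hφ x (map_mem_S hφ₀ x), hφ y (map_mem_S hφ₀ y)] at hxy
      have := β.injective (Subtype.ext hxy)
      exact G.injective_of_mem hφ₀ (congrArg (fun z : S => (z : Ω)) this)
    let ψ : φ.range →* Ω := P.subtype.comp (MonoidHom.ofInjective hinj).symm.toMonoidHom
    have hψ : ∀ x : P, ψ ⟨φ x, ⟨x, rfl⟩⟩ = x := by
      intro x
      have e : (⟨φ x, ⟨x, rfl⟩⟩ : φ.range) = MonoidHom.ofInjective hinj x := rfl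
      show (((MonoidHom.ofInjective hinj).symm ⟨φ x, ⟨x, rfl⟩⟩ : P) : Ω) = x
      rw [e, MulEquiv.symm_apply_apply]
    refine ⟨ψ, ?_, hψ⟩
    obtain ⟨σ, hσ, hσx⟩ := G.inv_mem hφ₀
    have hχ := hinv β hβ _ σ hσ
    have hc := isConjBy_conjMap β σ (map_mem_S hσ)
    have hPS : P ≤ S := source_le hφ₀
    have hle : φ.range ≤ imgOf β φ₀.range := by
      rintro _ ⟨x, rfl⟩
      rw [hφ x (map_mem_S hφ₀ x), apply_mem_imgOf]
      exact ⟨x, rfl⟩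
    refine ⟨β⁻¹, Γ.inv_mem hβ, _, res_mem hχ hle, ?_⟩
    rintro ⟨_, x, rfl⟩ hx
    have e2 : β (⟨φ₀ x, map_mem_S hφ₀ x⟩ : S) = ⟨φ x, by
        rw [hφ x (map_mem_S hφ₀ x)]; exact (β _).2⟩ :=
      Subtype.ext (hφ x (map_mem_S hφ₀ x)).symm
    have h3 := hc.apply' (a := ⟨φ₀ x, map_mem_S hφ₀ x⟩) (y := ⟨φ x, by
        rw [hφ x (map_mem_S hφ₀ x)]; exact (β _).2⟩) (b := ⟨x, hPS x.2⟩) ⟨x, rfl⟩
      (hle ⟨x, rfl⟩) e2 (hσx x)
    have h5 : (⟨((conjMap β σ (map_mem_S hσ)).comp (Subgroup.inclusion hle)) ⟨φ x, ⟨x, rfl⟩⟩, hx⟩ : S) =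
        β ⟨x, hPS x.2⟩ := Subtype.ext h3
    rw [h5, hψ]
    simp

theorem mem_prodSys {Γ : Subgroup (MulAut S)} {G : FusionSystem S} {hinv : IsInvUnder G Γ} {P : Subgroup Ω}
    {φ : P →* Ω} : φ ∈ (prodSys Γ G hinv).Hom P ↔
      ∃ β ∈ Γ, ∃ φ₀ ∈ G.Hom P, ∀ (x : P) (hx : φ₀ x ∈ S), φ x = ((β ⟨φ₀ x, hx⟩ : S) : Ω) := Iff.rfl

theorem le_prodSys {Γ : Subgroup (MulAut S)} {G : FusionSystem S} {hinv : IsInvUnder G Γ} :
    G ≤ prodSys Γ G hinv :=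
  fun _ φ hφ => ⟨1, Γ.one_mem, φ, hφ, fun _ _ => rfl⟩

theorem le_autGroup_prodSys {Γ : Subgroup (MulAut S)} {G : FusionSystem S} {hinv : IsInvUnder G Γ} :
    Γ ≤ (prodSys Γ G hinv).autGroup S := by
  intro β hβ
  apply mem_autGroup_of_mem
  exact ⟨β, hβ, S.subtype, subtype_mem le_rfl, fun x hx => rfl⟩

theorem prodSys_le {F : FusionSystem S} {Γ : Subgroup (MulAut S)} {G : FusionSystem S} {hinv : IsInvUnder G Γ}
    (hG : G ≤ F) (hΓ : Γ ≤ F.autGroup S) : prodSys Γ G hinv ≤ F := by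
  rintro P φ ⟨β, hβ, φ₀, hφ₀, hφ⟩
  exact comp_mem' (hG P hφ₀) (autGroup_mem_hom le_rfl (hΓ hβ)) (map_mem_S hφ₀)
    (fun x => hφ x (map_mem_S hφ₀ x))

end Cfsg.Agent.Lib.Fusion.PPrime
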