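/-
Subsystems of index prime to `p`, part 2: the criterion on centric subgroups.
-/
import Mathlib
import Cfsg.Prelude.Def_FusionSystem
import Cfsg.Agent.Lib.Fusion.Basic
import Cfsg.Agent.Lib.Fusion.Saturated
import Cfsg.Agent.Lib.Fusion.Alperin
import Cfsg.Agent.Lib.Fusion.Centric
import Cfsg.Agent.Lib.Fusion.Subsystem
import Cfsg.Agent.Lib.Fusion.GroupSylow
import Cfsg.Agent.Lib.Fusion.SatCrit2
import Cfsg.Agent.Lib.Fusion.PPrime1

set_option autoImplicit false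

namespace Cfsg.Agent.Lib.Fusion.PPrime

open Cfsg Cfsg.FusionSystem Cfsg.Agent.Lib.Fusion.Basic Cfsg.Agent.Lib.Fusion.Saturated
open Cfsg.Agent.Lib.Fusion.SatCrit (imgOf mem_imgOf imgOf_le)
open Cfsg.Agent.Lib.Fusion.Alperin (lt_normalizerIn mem_of_range_eq_of_autGroup_le)
open Cfsg.Agent.Lib.Fusion.Centric (isCentric_of_le)
open Cfsg.Agent.Lib.Fusion.Subsystem (isCentric_of_isConj)

variable {Ω : Type*} [Group Ω] {S : Subgroup Ω} {F : FusionSystem S}

/-- `O^{p'}(Aut_F(P))`, as a subgroup of `MulAut P`. -/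
def KK (F : FusionSystem S) (p : ℕ) (P : Subgroup Ω) : Subgroup (MulAut P) :=
  (Subgroup.closure {α : F.autGroup P | ∃ k : ℕ, orderOf α = p ^ k}).map (F.autGroup P).subtype

theorem KK_le_autGroup (F : FusionSystem S) (p : ℕ) (P : Subgroup Ω) : KK F p P ≤ F.autGroup P := by
  rintro _ ⟨a, -, rfl⟩
  exact a.2

theorem mem_KK {p : ℕ} {P : Subgroup Ω} {α : MulAut P} (hα : α ∈ F.autGroup P) (hk : ∃ k : ℕ, orderOf α = p ^ k) :
    α ∈ KK F p P := by
  refine ⟨⟨α, hα⟩, Subgroup.subset_closure ?_, rfl⟩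
  obtain ⟨k, hk⟩ := hk
  exact ⟨k, by rw [← Subgroup.orderOf_coe]; exact hk⟩

theorem KK_le_iff {p : ℕ} {P : Subgroup Ω} {A : Subgroup (MulAut P)} :
    KK F p P ≤ A ↔ ∀ α ∈ F.autGroup P, (∃ k : ℕ, orderOf α = p ^ k) → α ∈ A := by
  constructor
  · intro h α hα hk
    exact h (mem_KK hα hk)
  · intro h
    rw [KK, Subgroup.map_le_iff_le_comap, Subgroup.closure_le]
    rintro a ⟨k, hk⟩
    exact h a a.2 ⟨k, by rw [Subgroup.orderOf_coe]; exact hk⟩

theorem autGroup_mono {E E' : FusionSystem S} (h : E ≤ E') (P : Subgroup Ω) : E.autGroup P ≤ E'.autGroup P :=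
  Subgroup.closure_mono fun _ hα => h P hα

section Main

variable [Finite S] {p : ℕ} [Fact p.Prime]

/-- The inductive step of Alperin's theorem, in the centric version. -/
theorem hom_mem_of_larger_centric (hS : IsPGroup p S)
    {F E : FusionSystem S}
    {P : Subgroup Ω} {Q : Subgroup Ω}
    (hQa : F.IsFullyAutomized p Q) (hQr : F.IsReceptive Q) (hPQ : F.IsConj P Q) (hPc : F.IsCentric P)
    (hIH : ∀ R : Subgroup Ω, F.IsCentric R → Nat.card P < Nat.card R → ∀ θ : R →* Ω, θ ∈ F.Hom R → θ ∈ E.Hom R)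
    (hAut : F.autGroup Q ≤ E.autGroup Q)
    (φ : P →* Ω) (hφ : φ ∈ F.Hom P) : φ ∈ E.Hom P := by
  classical
  have hPS : P ≤ S := source_le hφ
  by_cases hPeq : P = S
  · -- `P = S`
    subst hPeq
    have hQS : Q = P := by
      have h1 : Q ≤ P := Basic.IsConj.le_right hPQ
      have hc := Basic.IsConj.card_eq hPQ
      exact Subgroup.eq_of_le_of_card_ge h1 (le_of_eq hc)
    subst hQS
    have hr : φ.range = Q := range_eq_of_card hφ (fun x => map_mem_S hφ x) (le_refl _)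
    exact mem_of_range_eq_of_autGroup_le hAut hφ hr
  -- `P < S`
  have hP'le : φ.range ≤ S := range_le hφ
  have hcardP' : Nat.card φ.range = Nat.card P := (card_eq_of_range hφ rfl).symm
  have hP'conj : F.IsConj φ.range Q := Basic.IsConj.trans (Basic.IsConj.symm (F := F) ⟨φ, hφ, rfl⟩) hPQ
  have hP'c : F.IsCentric φ.range := isCentric_of_isConj hPc ⟨φ, hφ, rfl⟩
  have hP'ne : φ.range ≠ S := by
    intro h
    apply hPeq
    refine Subgroup.eq_of_le_of_card_ge hPS ?_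
    rw [← hcardP', h]
  have hcardlt : ∀ {A : Subgroup Ω}, A ≤ S → A ≠ S → Nat.card A = Nat.card P →
      Nat.card P < Nat.card (normalizerIn S A) := by
    intro A hA hAne hAc
    rw [← hAc]
    have hlt := lt_normalizerIn hS hA hAne
    have hfin : Finite (normalizerIn S A) := finite_of_le normalizerIn_le
    by_contra hcon
    exact hlt.ne (Subgroup.eq_of_le_of_card_ge hlt.le (not_lt.1 hcon))
  obtain ⟨φ1, hφ1, hφ1v, hφ1r⟩ := Saturated.exists_map_normalizerIn hS hQa hQr hPQ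
  obtain ⟨φ2, hφ2, hφ2v, hφ2r⟩ := Saturated.exists_map_normalizerIn hS hQa hQr hP'conj
  have hPN : P ≤ normalizerIn S P := le_normalizerIn hPS
  have hP'N : φ.range ≤ normalizerIn S φ.range := le_normalizerIn hP'le
  have hE1 : φ1 ∈ E.Hom (normalizerIn S P) :=
    hIH _ (isCentric_of_le hPc hPN normalizerIn_le) (hcardlt hPS hPeq rfl) φ1 hφ1
  have hE2 : φ2 ∈ E.Hom (normalizerIn S φ.range) :=
    hIH _ (isCentric_of_le hP'c hP'N normalizerIn_le) (hcardlt hP'le hP'ne hcardP') φ2 hφ2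
  -- restrictions
  let a : P →* Ω := φ1.comp (Subgroup.inclusion hPN)
  let b : φ.range →* Ω := φ2.comp (Subgroup.inclusion hP'N)
  have haF : a ∈ F.Hom P := res_mem hφ1 hPN
  have haE : a ∈ E.Hom P := res_mem hE1 hPN
  have hbF : b ∈ F.Hom φ.range := res_mem hφ2 hP'N
  have hbE : b ∈ E.Hom φ.range := res_mem hE2 hP'N
  have har : a.range = Q := by
    rw [← hφ1r]
    ext y
    constructor
    · rintro ⟨x, rfl⟩
      exact ⟨Subgroup.inclusion hPN x, x.2, rfl⟩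
    · rintro ⟨x, hx, rfl⟩
      exact ⟨⟨x, hx⟩, rfl⟩
  have hbr : b.range = Q := by
    rw [← hφ2r]
    ext y
    constructor
    · rintro ⟨x, rfl⟩
      exact ⟨Subgroup.inclusion hP'N x, x.2, rfl⟩
    · rintro ⟨x, hx, rfl⟩
      exact ⟨⟨x, hx⟩, rfl⟩
  -- the automorphism of `Q`
  obtain ⟨ψ, hψ, hψr, hψ1, hψ2⟩ := exists_inv haF har
  have hψP : ∀ y : Q, ψ y ∈ P := fun y => by
    have : ψ y ∈ ψ.range := ⟨y, rfl⟩
    rwa [hψr] at this
  let c : Q →* Ω := (b.comp (φ.rangeRestrict)).comp (ψ.codRestrict P hψP)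
  have hcF : c ∈ F.Hom Q := by
    have h1 : (φ.comp (ψ.codRestrict P hψP)) ∈ F.Hom Q := F.comp_mem hψ hφ hψP
    have h2 : ∀ x : Q, (φ.comp (ψ.codRestrict P hψP)) x ∈ φ.range := fun x => ⟨_, rfl⟩
    exact F.comp_mem h1 hbF h2
  have hcr : c.range = Q := by
    refine Eq.trans ?_ hbr
    ext y
    constructor
    · rintro ⟨x, rfl⟩
      exact ⟨_, rfl⟩
    · rintro ⟨⟨_, x, rfl⟩, rfl⟩
      have hax : a x ∈ Q := by
        have : a x ∈ a.range := ⟨x, rfl⟩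
        rwa [har] at this
      refine ⟨⟨a x, hax⟩, ?_⟩
      have hψax : ψ.codRestrict P hψP ⟨a x, hax⟩ = x := Subtype.ext (hψ1 x hax)
      show b (φ.rangeRestrict (ψ.codRestrict P hψP ⟨a x, hax⟩)) = _
      rw [hψax]
      rfl
  have hcE : c ∈ E.Hom Q := mem_of_range_eq_of_autGroup_le hAut hcF hcr
  obtain ⟨η, hη, -, hη1, -⟩ := exists_inv hbE hbr
  have hav : ∀ x : P, a x ∈ Q := fun x => by
    have : a x ∈ a.range := ⟨x, rfl⟩
    rwa [har] at this
  have hca : ∀ x : P, c ⟨a x, hav x⟩ = b ⟨φ x, ⟨x, rfl⟩⟩ := by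
    intro x
    have hψax : ψ.codRestrict P hψP ⟨a x, hav x⟩ = x := Subtype.ext (hψ1 x (hav x))
    show b (φ.rangeRestrict (ψ.codRestrict P hψP ⟨a x, hav x⟩)) = _
    rw [hψax]
    rfl
  have hbv : ∀ x : φ.range, b x ∈ Q := fun x => by
    have : b x ∈ b.range := ⟨x, rfl⟩
    rwa [hbr] at this
  have hcv : ∀ x : Q, c x ∈ Q := fun x => by
    show b _ ∈ Q
    exact hbv _
  have hcaE : (c.comp (a.codRestrict Q hav)) ∈ E.Hom P := E.comp_mem haE hcE hav
  have hfinal : ∀ x : P, φ x = η ⟨(c.comp (a.codRestrict Q hav)) x, hcv _⟩ := by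
    intro x
    have h1 := hη1 ⟨φ x, ⟨x, rfl⟩⟩ (hbv _)
    have h2 : (c.comp (a.codRestrict Q hav)) x = b ⟨φ x, ⟨x, rfl⟩⟩ := hca x
    have h3 : (⟨(c.comp (a.codRestrict Q hav)) x, hcv _⟩ : Q) = ⟨b ⟨φ x, ⟨x, rfl⟩⟩, hbv _⟩ :=
      Subtype.ext h2
    rw [h3, h1]
  exact comp_mem' hcaE hη (fun x => hcv _) hfinal

/-- The subgroup generated by elements of `p`-power order is normal. -/
theorem closure_p_normal (A : Type*) [Group A] :
    (Subgroup.closure {α : A | ∃ k : ℕ, orderOf α = p ^ k}).Normal := by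
  refine ⟨fun n hn g => ?_⟩
  induction hn using Subgroup.closure_induction with
  | mem x hx =>
    obtain ⟨k, hk⟩ := hx
    refine Subgroup.subset_closure ⟨k, ?_⟩
    rw [← hk]
    exact orderOf_injective (MulAut.conj g).toMonoidHom (MulEquiv.injective _) x
  | one => simp
  | mul x y _ _ hx hy =>
    have e : g * (x * y) * g⁻¹ = (g * x * g⁻¹) * (g * y * g⁻¹) := by group
    rw [e]
    exact Subgroup.mul_mem _ hx hy
  | inv x _ hx =>
    have e : g * x⁻¹ * g⁻¹ = (g * x * g⁻¹)⁻¹ := by group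
    rw [e]
    exact Subgroup.inv_mem _ hx

/-- Frattini: `Aut_F(Q) = O^{p'}(Aut_F(Q)) N(Aut_S(Q))`, and `N(Aut_S(Q))` consists of maps extending to `N_S(Q)`. -/
theorem autGroup_le_of_good {E : FusionSystem S} {Q : Subgroup Ω}
    (hQa : F.IsFullyAutomized p Q) (hQr : F.IsReceptive Q)
    (hK : KK F p Q ≤ E.autGroup Q)
    (hIH : ∀ θ : normalizerIn S Q →* Ω, θ ∈ F.Hom (normalizerIn S Q) → θ ∈ E.Hom (normalizerIn S Q)) :
    F.autGroup Q ≤ E.autGroup Q := by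
  classical
  obtain ⟨hQS, R, hR⟩ := hQa
  haveI : Finite (F.autGroup Q) := finite_autGroup hQS
  intro α hα
  let K : Subgroup (F.autGroup Q) := Subgroup.closure {α : F.autGroup Q | ∃ k : ℕ, orderOf α = p ^ k}
  haveI hKn : K.Normal := closure_p_normal _
  have hRK : (R : Subgroup (F.autGroup Q)) ≤ K := by
    intro x hx
    refine Subgroup.subset_closure ?_
    obtain ⟨k, hk⟩ := (IsPGroup.iff_orderOf.1 R.isPGroup') ⟨x, hx⟩
    exact ⟨k, by rw [← Subgroup.orderOf_mk x hx]; exact hk⟩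
  let P' : Sylow p K := R.subtype hRK
  have hP' : ((P' : Subgroup K).map K.subtype) = R := by
    show ((R : Subgroup (F.autGroup Q)).subgroupOf K).map K.subtype = R
    rw [Subgroup.map_subgroupOf_eq_of_le hRK]
  have htop := Sylow.normalizer_sup_eq_top P'
  rw [hP'] at htop
  have hmem : (⟨α, hα⟩ : F.autGroup Q) ∈ Subgroup.normalizer ((R : Subgroup (F.autGroup Q)) : Set (F.autGroup Q)) ⊔ K := by
    rw [htop]
    trivial
  obtain ⟨n, hn, k, hk, hnk⟩ := Subgroup.mem_sup_of_normal_right.1 hmem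
  have hα' : α = (n : MulAut Q) * (k : MulAut Q) := by
    have := congrArg (fun z : F.autGroup Q => (z : MulAut Q)) hnk
    simpa using this.symm
  rw [hα']
  refine (E.autGroup Q).mul_mem ?_ (hK ⟨k, hk, rfl⟩)
  -- `n` extends to `N_S(Q)`
  have hnF : Q.subtype.comp (n : MulAut Q).toMonoidHom ∈ F.Hom Q := autGroup_mem_hom hQS n.2
  have hr : (Q.subtype.comp (n : MulAut Q).toMonoidHom).range = Q := by
    ext y
    constructor
    · rintro ⟨z, rfl⟩
      exact ((n : MulAut Q) z).2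
    · intro hy
      exact ⟨(n : MulAut Q)⁻¹ ⟨y, hy⟩, by simp⟩
  obtain ⟨ψ, hψ, hext⟩ := hQr.2 Q _ hnF hr
  have hNle : normalizerIn S Q ≤ extender S Q (Q.subtype.comp (n : MulAut Q).toMonoidHom) := by
    rintro g ⟨hgS, hgN⟩
    have hc : normConj g hgN ∈ F.autGroup Q :=
      autInducedBy_le_autGroup hQS (normConj_mem_autInducedBy hgS hgN)
    have hcR : (⟨normConj g hgN, hc⟩ : F.autGroup Q) ∈ (R : Subgroup (F.autGroup Q)) := by
      rw [hR, Subgroup.mem_subgroupOf]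
      exact normConj_mem_autInducedBy hgS hgN
    have h2 : n * ⟨normConj g hgN, hc⟩ * n⁻¹ ∈ (R : Subgroup (F.autGroup Q)) :=
      (Subgroup.mem_normalizer_iff.1 hn _).1 hcR
    rw [hR, Subgroup.mem_subgroupOf] at h2
    obtain ⟨h', hh', hhv⟩ := mem_autInducedBy_iff.1 h2
    refine extender_closure_mem hgS hgN hh' (fun x hx => ?_)
    have h3 := hhv ((n : MulAut Q) x)
    have e : ((n * ⟨normConj g hgN, hc⟩ * n⁻¹ : F.autGroup Q) : MulAut Q) ((n : MulAut Q) x) =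
        (n : MulAut Q) (normConj g hgN x) := by
      simp
    rw [e] at h3
    have e2 : normConj g hgN x = ⟨g * x * g⁻¹, hx⟩ := Subtype.ext rfl
    rw [e2] at h3
    exact h3
  have hψ' : ψ.comp (Subgroup.inclusion hNle) ∈ F.Hom (normalizerIn S Q) := res_mem hψ hNle
  have hE := hIH _ hψ'
  have hQN : Q ≤ normalizerIn S Q := le_normalizerIn hQS
  refine mem_autGroup_of_mem (mem_of_eq_res hE hQN (fun x => ?_))
  exact (hext x x.2 (hNle (hQN x.2))).symm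

/-- **Generation on centric subgroups**: a fusion system containing `O^{p'}(Aut_F(R))`, for all `F`-centric `R`, and
`Aut_F(S)`, contains `F`. -/
theorem le_of_centric (hS : IsPGroup p S) (hF : F.IsSaturated p) {D : FusionSystem S}
    (h1 : ∀ R : Subgroup Ω, F.IsCentric R → KK F p R ≤ D.autGroup R) (h2 : F.autGroup S ≤ D.autGroup S) : F ≤ D := by
  have key : ∀ n : ℕ, ∀ R : Subgroup Ω, F.IsCentric R → Nat.card S - Nat.card R = n →
      ∀ θ : R →* Ω, θ ∈ F.Hom R → θ ∈ D.Hom R := by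
    intro n
    induction n using Nat.strong_induction_on with
    | _ n ih =>
      intro R hRc hn φ hφ
      obtain ⟨Q, hRQ, hQa, hQr⟩ := hF R hRc.1
      have hQc := isCentric_of_isConj hRc hRQ
      have hIH : ∀ R' : Subgroup Ω, F.IsCentric R' → Nat.card R < Nat.card R' → ∀ θ : R' →* Ω,
          θ ∈ F.Hom R' → θ ∈ D.Hom R' := by
        intro R' hR' hlt θ hθ
        have hc : Nat.card R' ≤ Nat.card S := Subgroup.card_le_of_le hR'.1
        exact ih (Nat.card S - Nat.card R') (by omega) R' hR' rfl θ hθ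
      refine hom_mem_of_larger_centric hS hQa hQr hRQ hRc hIH ?_ φ hφ
      by_cases hQS : Q = S
      · subst hQS
        exact h2
      refine autGroup_le_of_good hQa hQr (h1 Q hQc) (fun θ hθ => hIH _ ?_ ?_ θ hθ)
      · exact isCentric_of_le hQc (le_normalizerIn hQc.1) normalizerIn_le
      · rw [Basic.IsConj.card_eq hRQ]
        have hlt := lt_normalizerIn hS hQc.1 hQS
        have hfin : Finite (normalizerIn S Q) := finite_of_le normalizerIn_le
        by_contra hcon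
        exact hlt.ne (Subgroup.eq_of_le_of_card_ge hlt.le (not_lt.1 hcon))
  refine Alperin.le_of_essential hS hF ?_
  rintro P (rfl | he) α hα
  · exact h2 hα
  · exact mem_autGroup_of_mem (key _ P he.1 rfl _ (autGroup_mem_hom he.1.1 hα))

/-- A `p`-element of `Aut_F(P)` is conjugate in the system to the conjugation by an element of `S`. -/
theorem exists_map_conj_p_element (hF : F.IsSaturated p) {P : Subgroup Ω} (hP : P ≤ S)
    {α : MulAut P} (hα : α ∈ F.autGroup P) (hk : ∃ k : ℕ, orderOf α = p ^ k) :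
    ∃ ψ ∈ F.Hom P, ∃ x ∈ S, ∀ a : P, ψ (α a) = x * ψ a * x⁻¹ := by
  classical
  obtain ⟨Q, ⟨ω, hω, hωr⟩, ⟨hQS, R, hR⟩, -⟩ := hF P hP
  haveI : Finite (F.autGroup Q) := finite_autGroup hQS
  let e := isoOfRange (F.injective_of_mem hω) hωr
  have he : ∀ x : P, ((e x : Q) : Ω) = ω x := fun x => rfl
  have hα' : MulAut.congr e α ∈ F.autGroup Q := congr_mem_autGroup hω e he hα
  obtain ⟨k, hk⟩ := hk
  let a : F.autGroup Q := ⟨MulAut.congr e α, hα'⟩
  have hao : orderOf a = p ^ k := by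
    rw [← Subgroup.orderOf_coe, ← hk]
    exact orderOf_injective (MulAut.congr e).toMonoidHom (MulEquiv.injective _) α
  have hzp : IsPGroup p (Subgroup.zpowers a) := by
    rw [IsPGroup.iff_card, Nat.card_zpowers, hao]
    exact ⟨k, rfl⟩
  obtain ⟨R', hR'⟩ := hzp.exists_le_sylow
  obtain ⟨g, hg⟩ := MulAction.exists_smul_eq (F.autGroup Q) R' R
  have hgR : g * a * g⁻¹ ∈ (R : Subgroup (F.autGroup Q)) := by
    rw [← hg, Sylow.coe_subgroup_smul]
    exact ⟨a, hR' (Subgroup.mem_zpowers a), rfl⟩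
  rw [hR, Subgroup.mem_subgroupOf] at hgR
  obtain ⟨x, hx, hxv⟩ := mem_autInducedBy_iff.1 hgR
  have hvQ : ∀ z : P, ω z ∈ Q := fun z => (he z) ▸ (e z).2
  have hψ : (Q.subtype.comp (g : MulAut Q).toMonoidHom).comp e.toMonoidHom ∈ F.Hom P :=
    comp_mem' hω (autGroup_mem_hom hQS g.2) hvQ (fun z => rfl)
  refine ⟨_, hψ, x, hx, fun b => ?_⟩
  have h1 := hxv ((g : MulAut Q) (e b))
  have e1 : ((g * a * g⁻¹ : F.autGroup Q) : MulAut Q) ((g : MulAut Q) (e b)) = (g : MulAut Q) (e (α b)) := by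
    simp [a, MulAut.congr_apply]
  rw [e1] at h1
  exact h1

/-- If every map of `F` is an automorphism of `S` composed with a map of `E`, then `Aut_E(P)` contains the elements of
`p`-power order of `Aut_F(P)`. -/
theorem mem_autGroup_of_prod {E : FusionSystem S} (hF : F.IsSaturated p)
    (h2 : ∀ (P : Subgroup Ω) (φ : P →* Ω), φ ∈ F.Hom P → ∃ α ∈ F.autGroup S, ∃ φ₀ ∈ E.Hom P,
      ∀ (x : P) (hx : φ₀ x ∈ S), φ x = ((α ⟨φ₀ x, hx⟩ : S) : Ω))
    {P : Subgroup Ω} (hP : P ≤ S) {α : MulAut P} (hα : α ∈ F.autGroup P) (hk : ∃ k : ℕ, orderOf α = p ^ k) :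
    α ∈ E.autGroup P := by
  obtain ⟨ψ, hψ, x, hx, hψα⟩ := exists_map_conj_p_element hF hP hα hk
  obtain ⟨β, -, ψ₀, hψ₀, hψe⟩ := h2 P ψ hψ
  set y : S := β⁻¹ ⟨x, hx⟩ with hy
  have hβy : β y = ⟨x, hx⟩ := by simp [hy]
  have key : ∀ a : P, ψ₀ (α a) = (y : Ω) * ψ₀ a * (y : Ω)⁻¹ := by
    intro a
    have h1 := hψα a
    rw [hψe _ (map_mem_S hψ₀ _), hψe _ (map_mem_S hψ₀ _)] at h1
    have h3 : β ⟨ψ₀ (α a), map_mem_S hψ₀ _⟩ = β (y * ⟨ψ₀ a, map_mem_S hψ₀ _⟩ * y⁻¹) := by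
      apply Subtype.ext
      rw [h1, map_mul, map_mul, map_inv, hβy]
      rfl
    exact congrArg (fun z : S => (z : Ω)) (β.injective h3)
  obtain ⟨σ, hσ, hσx⟩ := E.inv_mem hψ₀
  have hc := E.conj_mem (range_le hψ₀) y.2
  have hm : ∀ a : P, ψ₀ a ∈ ψ₀.range := fun a => ⟨a, rfl⟩
  have h3 : (conjHom ψ₀.range (y : Ω)).comp (ψ₀.codRestrict _ hm) ∈ E.Hom P := E.comp_mem hψ₀ hc hm
  have hm2 : ∀ a : P, ((conjHom ψ₀.range (y : Ω)).comp (ψ₀.codRestrict _ hm)) a ∈ ψ₀.range := by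
    intro a
    show (y : Ω) * ψ₀ a * (y : Ω)⁻¹ ∈ _
    rw [← key]
    exact ⟨α a, rfl⟩
  refine mem_autGroup_of_mem (comp_mem' h3 hσ hm2 (fun a => ?_))
  have e1 : (⟨((conjHom ψ₀.range (y : Ω)).comp (ψ₀.codRestrict _ hm)) a, hm2 a⟩ : ψ₀.range) =
      ⟨ψ₀ (α a), ⟨α a, rfl⟩⟩ := Subtype.ext (key a).symm
  rw [e1, hσx]
  rfl

/-- Under the factorization property, centric in `E` and in `F` are the same. -/
theorem isCentric_iff_of_prod {E : FusionSystem S} (hEF : E ≤ F)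
    (h2 : ∀ (P : Subgroup Ω) (φ : P →* Ω), φ ∈ F.Hom P → ∃ α ∈ F.autGroup S, ∃ φ₀ ∈ E.Hom P,
      ∀ (x : P) (hx : φ₀ x ∈ S), φ x = ((α ⟨φ₀ x, hx⟩ : S) : Ω)) (P : Subgroup Ω) :
    E.IsCentric P ↔ F.IsCentric P := by
  constructor
  · rintro ⟨hP, hc⟩
    refine ⟨hP, ?_⟩
    rintro Q ⟨φ, hφ, rfl⟩ c ⟨hcS, hcC⟩
    obtain ⟨β, -, φ₀, hφ₀, he⟩ := h2 P φ hφ
    have hcC' : (β⁻¹ ⟨c, hcS⟩ : S).1 ∈ centralizerIn S φ₀.range := by
      refine ⟨(β⁻¹ ⟨c, hcS⟩ : S).2, ?_⟩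
      refine Subgroup.mem_centralizer_iff.2 ?_
      rintro _ ⟨a, rfl⟩
      have h1 := (Subgroup.mem_centralizer_iff.1 hcC) (φ a) ⟨a, rfl⟩
      rw [he a (map_mem_S hφ₀ a)] at h1
      have h3 : β (⟨φ₀ a, map_mem_S hφ₀ a⟩ * β⁻¹ ⟨c, hcS⟩) = β (β⁻¹ ⟨c, hcS⟩ * ⟨φ₀ a, map_mem_S hφ₀ a⟩) := by
        apply Subtype.ext
        rw [map_mul, map_mul]
        simpa using h1
      exact congrArg (fun z : S => (z : Ω)) (β.injective h3)
    obtain ⟨a, ha⟩ := hc _ ⟨φ₀, hφ₀, rfl⟩ hcC'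
    refine ⟨a, ?_⟩
    rw [he a (map_mem_S hφ₀ a)]
    have h3 : (⟨φ₀ a, map_mem_S hφ₀ a⟩ : S) = β⁻¹ ⟨c, hcS⟩ := Subtype.ext ha
    rw [h3]
    simp
  · rintro ⟨hP, hc⟩
    refine ⟨hP, ?_⟩
    rintro Q ⟨φ, hφ, hr⟩
    exact hc Q ⟨φ, hEF P hφ, hr⟩

end Main

/-! ### The smallest system -/

/-- The fusion systems containing `O^{p'}(Aut_F(R))` for all `F`-centric `R`. -/
def coreClass (F : FusionSystem S) (p : ℕ) : Set (FusionSystem S) :=
  {E | ∀ R : Subgroup Ω, F.IsCentric R → KK F p R ≤ E.autGroup R}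

theorem self_mem_coreClass (F : FusionSystem S) (p : ℕ) : F ∈ coreClass F p :=
  fun R _ => KK_le_autGroup F p R

/-- The fusion system generated by `O^{p'}(Aut_F(R))`, `R` centric. -/
def coreSys (F : FusionSystem S) (p : ℕ) : FusionSystem S :=
  sInfSys (coreClass F p) F (self_mem_coreClass F p)

theorem coreSys_le {E : FusionSystem S} {p : ℕ} (hE : E ∈ coreClass F p) : coreSys F p ≤ E :=
  fun _ _ h => h E hE

theorem coreSys_mem (F : FusionSystem S) (p : ℕ) : coreSys F p ∈ coreClass F p := by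
  intro R hR α hα
  refine mem_autGroup_of_mem (fun E hE => ?_)
  exact autGroup_mem_hom hR.1 (hE R hR hα)

theorem range_resA (β : MulAut S) {P : Subgroup Ω} (hP : P ≤ S) : (resA β hP).range = imgOf β P := by
  ext y
  constructor
  · rintro ⟨x, rfl⟩
    exact (apply_mem_imgOf β _).2 x.2
  · intro hy
    have hyS : y ∈ S := imgOf_le β P hy
    have h1 := (mem_imgOf (⟨y, hyS⟩ : S)).1 hy
    refine ⟨⟨_, h1⟩, ?_⟩
    simp

theorem conjSys_mem_coreClass {E : FusionSystem S} {p : ℕ} (hE : E ∈ coreClass F p) {β : MulAut S}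
    (hβ : β ∈ F.autGroup S) : conjSys E β ∈ coreClass F p := by
  intro R hR
  rw [KK_le_iff]
  intro α hα hk
  have hRS := hR.1
  have hm := resA_mem hβ hRS
  have hinj := F.injective_of_mem hm
  let e := isoOfRange hinj (range_resA β hRS)
  have he : ∀ x : R, ((e x : imgOf β R) : Ω) = resA β hRS x := fun x => rfl
  have hα' : MulAut.congr e α ∈ F.autGroup (imgOf β R) := congr_mem_autGroup hm e he hα
  have hk' : ∃ k : ℕ, orderOf (MulAut.congr e α) = p ^ k := by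
    obtain ⟨k, hk⟩ := hk
    refine ⟨k, ?_⟩
    rw [← hk]
    exact orderOf_injective (MulAut.congr e).toMonoidHom (MulEquiv.injective _) α
  have hR' : F.IsCentric (imgOf β R) := isCentric_of_isConj hR ⟨_, hm, range_resA β hRS⟩
  have h1 := hE _ hR' (mem_KK hα' hk')
  refine mem_autGroup_of_mem ⟨hRS, fun x => hRS (α x).2, _, autGroup_mem_hom (imgOf_le β R) h1, ?_⟩
  intro a b ha hb hab
  have e1 : (⟨((β a : S) : Ω), hb⟩ : imgOf β R) = e ⟨a, ha⟩ := Subtype.ext rfl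
  show (((MulAut.congr e α) ⟨((β a : S) : Ω), hb⟩ : imgOf β R) : Ω) = _
  rw [e1]
  have e2 : (MulAut.congr e α) (e ⟨a, ha⟩) = e (α ⟨a, ha⟩) := by
    simp [MulAut.congr_apply]
  rw [e2]
  have e3 : (⟨((α ⟨a, ha⟩ : R) : Ω), hRS (α ⟨a, ha⟩).2⟩ : S) = b := Subtype.ext hab
  show ((β ⟨((α ⟨a, ha⟩ : R) : Ω), hRS (α ⟨a, ha⟩).2⟩ : S) : Ω) = _
  rw [e3]

theorem coreSys_inv (F : FusionSystem S) (p : ℕ) : IsInvUnder (coreSys F p) (F.autGroup S) := by
  intro β hβ P φ hφ E hE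
  obtain ⟨hP, hv, χ, hχ, hc⟩ := hφ (conjSys E β) (conjSys_mem_coreClass hE hβ)
  rwa [← hc.eq_conjMap hP]

section Main2

variable [Finite S] {p : ℕ} [Fact p.Prime]

/-- The factorization `F = Aut_F(S) ⬝ coreSys F p`. -/
theorem exists_prod_coreSys (hS : IsPGroup p S) (hF : F.IsSaturated p) {P : Subgroup Ω} {φ : P →* Ω}
    (hφ : φ ∈ F.Hom P) : ∃ α ∈ F.autGroup S, ∃ φ₀ ∈ (coreSys F p).Hom P,
      ∀ (x : P) (hx : φ₀ x ∈ S), φ x = ((α ⟨φ₀ x, hx⟩ : S) : Ω) := by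
  have hle : F ≤ prodSys (F.autGroup S) (coreSys F p) (coreSys_inv F p) := by
    refine le_of_centric hS hF (fun R hR => ?_) le_autGroup_prodSys
    exact (coreSys_mem F p R hR).trans (autGroup_mono le_prodSys R)
  exact hle P hφ

/-- **The criterion** (S5114). -/
theorem main_of_centric (hS : IsPGroup p S) (hF : F.IsSaturated p) {E : FusionSystem S} (hEF : E.IsSubsystemOf F)
    (h : ∀ P : Subgroup Ω, F.IsCentric P →
      (Subgroup.closure {α : ↥(F.autGroup P) | ∃ k : ℕ, orderOf α = p ^ k}).map (F.autGroup P).subtype ≤ E.autGroup P) :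
    E.HasPrimeToPIndexIn F p ∧ (∀ (P : Subgroup Ω) (φ : P →* Ω), φ ∈ F.Hom P → ∃ α ∈ F.autGroup S, ∃ φ₀ ∈ E.Hom P,
      ∀ (x : P) (hx : φ₀ x ∈ S), φ x = ((α ⟨φ₀ x, hx⟩ : S) : Ω)) ∧ ∀ P : Subgroup Ω, E.IsCentric P ↔ F.IsCentric P := by
  have h2 : ∀ (P : Subgroup Ω) (φ : P →* Ω), φ ∈ F.Hom P → ∃ α ∈ F.autGroup S, ∃ φ₀ ∈ E.Hom P,
      ∀ (x : P) (hx : φ₀ x ∈ S), φ x = ((α ⟨φ₀ x, hx⟩ : S) : Ω) := by
    intro P φ hφ
    obtain ⟨α, hα, φ₀, hφ₀, he⟩ := exists_prod_coreSys hS hF hφ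
    exact ⟨α, hα, φ₀, coreSys_le (E := E) h P hφ₀, he⟩
  refine ⟨⟨hEF, fun P hP => ?_⟩, h2, isCentric_iff_of_prod hEF h2⟩
  exact KK_le_iff.2 (fun α hα hk => mem_autGroup_of_prod hF h2 hP hα hk)

end Main2

end Cfsg.Agent.Lib.Fusion.PPrime
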