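/-
`p`-stable fusion systems: quadratic automorphisms, transport, passage to subsystems.
-/
import Mathlib
import Cfsg.Prelude.Def_FusionSystem
import Cfsg.Agent.Lib.Basic.PCore
import Cfsg.Agent.Lib.Fusion.Basic
import Cfsg.Agent.Lib.Fusion.Saturated
import Cfsg.Agent.Lib.Fusion.Joins
import Cfsg.Agent.Lib.Transfer.SectionBasic
import Cfsg.Agent.Lib.Fusion.GroupSylow
import Cfsg.Agent.Lib.Fusion.Saturated2
import Cfsg.Agent.Lib.Fusion.LocalSystems
import Cfsg.Agent.Lib.Fusion.Alperin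
import Cfsg.Agent.Lib.Fusion.ModelLocal
import Cfsg.Agent.S5104

set_option autoImplicit false
set_option linter.style.haveILetI false

namespace Cfsg.Agent.Lib.Fusion.PStable

open Cfsg Cfsg.FusionSystem Cfsg.Agent.Lib.Fusion.Basic Cfsg.Agent.Lib.Fusion.Saturated

/-- `χ` acts quadratically: `χ` fixes `a⁻¹ χ(a)` for every `a`. -/
def Quad {Q : Type*} [Group Q] (χ : MulAut Q) : Prop :=
  ∀ a : Q, (χ a⁻¹) * a * (χ a⁻¹) * (χ (χ a)) = 1

section quad

variable {Q : Type*} [Group Q] {χ : MulAut Q}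

theorem Quad.fixed (h : Quad χ) (a : Q) : χ (a⁻¹ * χ a) = a⁻¹ * χ a := by
  have := h a
  rw [map_mul]
  have h2 : χ a⁻¹ * a * (χ a⁻¹ * χ (χ a)) = 1 := by simpa [mul_assoc] using this
  have h3 : χ a⁻¹ * χ (χ a) = a⁻¹ * χ a := by
    have h4 : (χ a⁻¹ * a)⁻¹ = χ a⁻¹ * χ (χ a) := eq_comm.1 (eq_inv_of_mul_eq_one_right h2)
    rw [← h4]
    simp
  exact h3

theorem Quad.pow_apply (h : Quad χ) (a : Q) (n : ℕ) : (χ ^ n) a = a * (a⁻¹ * χ a) ^ n := by
  induction n with
  | zero => simp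
  | succ n ih =>
    rw [pow_succ', MulAut.mul_apply, ih, map_mul, map_pow, h.fixed a]
    rw [pow_succ', ← mul_assoc, ← mul_assoc]
    simp

theorem Quad.pow_card [Finite Q] (h : Quad χ) : χ ^ Nat.card Q = 1 := by
  ext a
  rw [h.pow_apply, pow_card_eq_one']
  simp

theorem Quad.congr {P : Type*} [Group P] (e : Q ≃* P) (h : Quad χ) : Quad (MulAut.congr e χ) := by
  intro a
  have := h (e.symm a)
  have h2 := congrArg e this
  simpa [MulAut.congr_apply, mul_assoc] using h2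

end quad

section pcore

variable {G : Type*} [Group G] {p : ℕ} [Fact p.Prime]

/-- Elements of `O_p(B)` lying in a subgroup `A ≤ B` lie in `O_p(A)`. -/
theorem mem_pCore_map_of_le [Finite G] {A B : Subgroup G} (hAB : A ≤ B) {χ : G} (hχ : χ ∈ A)
    (hm : χ ∈ (pCore p B).map B.subtype) : χ ∈ (pCore p A).map A.subtype := by
  obtain ⟨y, hy, rfl⟩ := hm
  refine ⟨⟨y, hχ⟩, ?_, rfl⟩
  let K : Subgroup A := (pCore p B).comap (Subgroup.inclusion hAB)
  haveI : (pCore p B).Normal := Cfsg.Agent.Lib.Basic.PCore.pCore_normal p B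
  have hKn : K.Normal := Subgroup.Normal.comap inferInstance _
  have hKp : IsPGroup p K :=
    (Cfsg.Agent.Lib.Basic.PCore.pCore_isPGroup (G := B) p).comap_of_injective _
      (Subgroup.inclusion_injective hAB)
  refine Cfsg.Agent.Lib.Basic.PCore.le_pCore hKn hKp ?_
  show Subgroup.inclusion hAB ⟨_, hχ⟩ ∈ pCore p B
  exact hy

/-- In a commutative finite `A`, a `p`-element lies in `O_p(A)`. -/
theorem mem_pCore_map_of_comm [Finite G] {A : Subgroup G} (hcomm : ∀ x ∈ A, ∀ y ∈ A, x * y = y * x) {χ : G} (hχ : χ ∈ A)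
    (n : ℕ) (hn : χ ^ p ^ n = 1) : χ ∈ (pCore p A).map A.subtype := by
  refine ⟨⟨χ, hχ⟩, ?_, rfl⟩
  let K : Subgroup A := Subgroup.zpowers ⟨χ, hχ⟩
  have hKn : K.Normal := by
    constructor
    intro x hx g
    have : g * x * g⁻¹ = x := by
      apply Subtype.ext
      have h1 := hcomm g g.2 x x.2
      simp only [Subgroup.coe_mul, Subgroup.coe_inv]
      rw [h1]
      simp
    rw [this]
    exact hx
  have hKp : IsPGroup p K := by
    rw [IsPGroup.iff_card]
    have h0 : (⟨χ, hχ⟩ : A) ^ p ^ n = 1 := Subtype.ext hn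
    have h1 : orderOf (⟨χ, hχ⟩ : A) ∣ p ^ n := orderOf_dvd_of_pow_eq_one h0
    obtain ⟨k, -, hk⟩ := (Nat.dvd_prime_pow (Fact.out : p.Prime)).1 h1
    exact ⟨k, by rw [Nat.card_zpowers, hk]⟩
  exact Cfsg.Agent.Lib.Basic.PCore.le_pCore hKn hKp (Subgroup.mem_zpowers _)

omit [Fact p.Prime] in
theorem pCore_map_congr {A B : Subgroup G} (h : A = B) :
    (pCore p A).map A.subtype = (pCore p B).map B.subtype := by
  subst h
  rfl

end pcore

variable {Ω : Type*} [Group Ω] {S : Subgroup Ω} {F : FusionSystem S} {p : ℕ} [Fact p.Prime]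

/-- A fusion system is `p`-stable. -/
def IsPStableSys {T : Subgroup Ω} (E : FusionSystem T) (p : ℕ) : Prop :=
  ∀ Q : Subgroup Ω, E.IsFullyNormalized Q → ∀ χ : MulAut Q, χ ∈ E.autGroup Q → Quad χ →
    χ ∈ ((pCore p (E.autGroup Q)).map (E.autGroup Q).subtype : Subgroup (MulAut Q))

/-- Transport of `O_p(Aut_F)`-membership along a map of the system. -/
theorem mem_pCore_of_conj [Finite S] {P Q : Subgroup Ω} {φ : P →* Ω} (hφ : φ ∈ F.Hom P) (e : P ≃* Q)
    (he : ∀ x : P, ((e x : Q) : Ω) = φ x) {χ : MulAut P}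
    (hm : MulAut.congr e χ ∈ ((pCore p (F.autGroup Q)).map (F.autGroup Q).subtype : Subgroup (MulAut Q))) :
    χ ∈ ((pCore p (F.autGroup P)).map (F.autGroup P).subtype : Subgroup (MulAut P)) := by
  have hPS : P ≤ S := source_le hφ
  have hQS : Q ≤ S := by
    intro y hy
    have : y = φ (e.symm ⟨y, hy⟩) := by rw [← he]; simp
    rw [this]
    exact map_mem_S hφ _
  let c : MulAut P ≃* MulAut Q := MulAut.congr e
  have hmap : (F.autGroup P).map c.toMonoidHom = F.autGroup Q := map_congr_autGroup hφ e he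
  let E : F.autGroup P ≃* F.autGroup Q :=
    (c.subgroupMap (F.autGroup P)).trans (MulEquiv.subgroupCongr hmap)
  have hE : ∀ a : F.autGroup P, ((E a : F.autGroup Q) : MulAut Q) = c a := fun _ => rfl
  haveI : Finite (F.autGroup P) := finite_autGroup hPS
  haveI : Finite (F.autGroup Q) := finite_autGroup hQS
  have h1 := Cfsg.Agent.Lib.Transfer.SectionBasic.map_pCore_equiv (p := p) E
  obtain ⟨y, hy, hyv⟩ := hm
  rw [← h1] at hy
  obtain ⟨x, hx, rfl⟩ := hy
  refine ⟨x, hx, ?_⟩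
  apply c.injective
  exact hyv

/-- Quadratic automorphisms are in `O_p` for all subgroups, if they are for fully normalized ones. -/
theorem IsPStableSys.of_conj [Finite S] (h : IsPStableSys F p)
    {Q : Subgroup Ω} (hQ : Q ≤ S) {χ : MulAut Q} (hχ : χ ∈ F.autGroup Q) (hq : Quad χ) :
    χ ∈ ((pCore p (F.autGroup Q)).map (F.autGroup Q).subtype : Subgroup (MulAut Q)) := by
  obtain ⟨Q', ⟨φ, hφ, hr⟩, hQ'⟩ := exists_fullyNormalized (F := F) hQ
  obtain ⟨e, he⟩ : ∃ e : Q ≃* Q', ∀ x : Q, ((e x : Q') : Ω) = φ x :=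
    ⟨isoOfRange (F.injective_of_mem hφ) hr, fun _ => rfl⟩
  refine mem_pCore_of_conj hφ e he (h Q' hQ' _ ?_ (hq.congr e))
  exact congr_mem_autGroup hφ e he hχ

/-- Subsystems of `p`-stable saturated systems are `p`-stable. -/
theorem IsPStableSys.of_le [Finite S] (h : IsPStableSys F p)
    {T : Subgroup Ω} (hT : T ≤ S) (E : FusionSystem T) (hE : ∀ P : Subgroup Ω, E.Hom P ⊆ F.Hom P) :
    IsPStableSys E p := by
  intro Q hQ χ hχ hq
  have hQS : Q ≤ S := hQ.1.trans hT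
  haveI : Finite T := finite_of_le hT
  have hAB : E.autGroup Q ≤ F.autGroup Q := by
    intro α hα
    rw [mem_autGroup_iff hQ.1] at hα
    rw [mem_autGroup_iff hQS]
    exact hE Q hα
  haveI : Finite (MulAut Q) := finite_mulAut hQS
  exact mem_pCore_map_of_le hAB hχ (h.of_conj hQS (hAB hχ) hq)

/-- The normalizer system of a subgroup `R` inherits `p`-stability. -/
theorem IsPStableSys.normalizer [Finite S] (h : IsPStableSys F p) {R : Subgroup Ω}
    {N : FusionSystem (normalizerIn S R)} (hN : F.IsNormalizerSystem R N) : IsPStableSys N p :=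
  h.of_le normalizerIn_le N (fun P => by rw [hN P]; exact fun _ h => h.1)

/-- Cyclic subgroups: quadratic automorphisms lie in `O_p(Aut_F(Q))`. -/
theorem mem_pCore_of_cyclic [Finite S] (hS : IsPGroup p S) {Q : Subgroup Ω} (hQ : Q ≤ S)
    [hc : IsCyclic Q] {χ : MulAut Q} (hχ : χ ∈ F.autGroup Q) (hq : Quad χ) :
    χ ∈ ((pCore p (F.autGroup Q)).map (F.autGroup Q).subtype : Subgroup (MulAut Q)) := by
  haveI : Finite Q := finite_of_le hQ
  haveI : Finite (MulAut Q) := finite_mulAut hQ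
  obtain ⟨n, hn⟩ := IsPGroup.iff_card.1 (isPGroup_of_le hS hQ)
  refine mem_pCore_map_of_comm ?_ hχ n ?_
  · intro x _ y _
    obtain ⟨g, hg⟩ := hc.exists_generator
    ext a
    obtain ⟨i, rfl⟩ := Subgroup.mem_zpowers_iff.1 (hg a)
    obtain ⟨j, hj⟩ := Subgroup.mem_zpowers_iff.1 (hg (x g))
    obtain ⟨k, hk⟩ := Subgroup.mem_zpowers_iff.1 (hg (y g))
    simp only [MulAut.mul_apply, map_zpow, ← hj, ← hk]
    simp only [← zpow_mul]
    congr 2
    ring
  · rw [← hn]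
    exact hq.pow_card

/-! ### Centric radical overgroups -/

section pair

theorem normConj_mul {R : Subgroup Ω} {a b : Ω} (ha : a ∈ Subgroup.normalizer (R : Set Ω))
    (hb : b ∈ Subgroup.normalizer (R : Set Ω)) :
    normConj (a * b) (Subgroup.mul_mem _ ha hb) = normConj a ha * normConj b hb := by
  ext x
  simp [mul_assoc]

theorem normConj_inv {R : Subgroup Ω} {a : Ω} (ha : a ∈ Subgroup.normalizer (R : Set Ω)) :
    normConj a⁻¹ (Subgroup.inv_mem _ ha) = (normConj a ha)⁻¹ := by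
  apply eq_inv_of_mul_eq_one_left
  ext x
  simp [mul_assoc]

theorem normConj_one {R : Subgroup Ω} : normConj (1 : Ω) (Subgroup.one_mem _) = (1 : MulAut R) := by
  ext x
  simp

/-- The subgroup `{y ∈ N_S(R) | c_y ∈ O}`. -/
def liftOf (S R : Subgroup Ω) (O : Subgroup (MulAut R)) : Subgroup Ω where
  carrier := {y | y ∈ S ∧ ∃ hy : y ∈ Subgroup.normalizer (R : Set Ω), normConj y hy ∈ O}
  one_mem' := ⟨S.one_mem, Subgroup.one_mem _, by rw [normConj_one]; exact O.one_mem⟩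
  mul_mem' := by
    rintro a b ⟨ha, ha', ha''⟩ ⟨hb, hb', hb''⟩
    refine ⟨S.mul_mem ha hb, Subgroup.mul_mem _ ha' hb', ?_⟩
    rw [normConj_mul ha' hb']
    exact O.mul_mem ha'' hb''
  inv_mem' := by
    rintro a ⟨ha, ha', ha''⟩
    refine ⟨S.inv_mem ha, Subgroup.inv_mem _ ha', ?_⟩
    rw [normConj_inv ha']
    exact O.inv_mem ha''

/-- The extension data towards a centric radical overgroup. -/
structure IsPair (F : FusionSystem S) (Q₀ Q R : Subgroup Ω) : Prop where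
  conj : F.IsConj Q₀ Q
  fn : F.IsFullyNormalized Q
  le : Q ≤ R
  leS : R ≤ S
  nor : normalizerIn S Q ≤ Subgroup.normalizer (R : Set Ω)
  ext : ∀ f : Q →* Ω, f ∈ F.Hom Q → (∀ x, f x ∈ Q) → ∃ ψ ∈ F.Hom R, (∀ x, ψ x ∈ R) ∧
    ∀ (x : Ω) (hx : x ∈ Q) (hx' : x ∈ R), ψ ⟨x, hx'⟩ = f ⟨x, hx⟩

theorem IsPair.start {Q : Subgroup Ω} (hQ : F.IsFullyNormalized Q) : IsPair F Q Q Q where
  conj := Basic.IsConj.refl hQ.1
  fn := hQ
  le := le_rfl
  leS := hQ.1
  nor := inf_le_right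
  ext := fun f hf hv => ⟨f, hf, hv, fun _ _ _ => rfl⟩

/-- Transport of a pair along a map defined on `N_S(R)`. -/
theorem IsPair.transport [Finite S] {Q₀ Q R R₁ : Subgroup Ω} (h : IsPair F Q₀ Q R)
    {φ : normalizerIn S R →* Ω} (hφ : φ ∈ F.Hom (normalizerIn S R)) (hv : ∀ x, φ x ∈ normalizerIn S R₁)
    (hm : (R.subgroupOf (normalizerIn S R)).map φ = R₁) :
    IsPair F Q₀ ((Q.subgroupOf (normalizerIn S R)).map φ) R₁ := by
  have hRN : R ≤ normalizerIn S R := le_normalizerIn h.leS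
  have hQN : Q ≤ normalizerIn S R := h.le.trans hRN
  have hNN : normalizerIn S Q ≤ normalizerIn S R := fun x hx => ⟨hx.1, h.nor hx⟩
  set Q₁ := (Q.subgroupOf (normalizerIn S R)).map φ with hQ₁
  -- the restriction to `Q`
  let φ₀ : Q →* Ω := φ.comp (Subgroup.inclusion hQN)
  have hφ₀ : φ₀ ∈ F.Hom Q := res_mem hφ hQN
  have hφ₀r : φ₀.range = Q₁ := by
    ext y
    constructor
    · rintro ⟨x, rfl⟩
      exact ⟨Subgroup.inclusion hQN x, x.2, rfl⟩
    · rintro ⟨z, hz, rfl⟩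
      exact ⟨⟨z, hz⟩, rfl⟩
  let φ₁ : R →* Ω := φ.comp (Subgroup.inclusion hRN)
  have hφ₁ : φ₁ ∈ F.Hom R := res_mem hφ hRN
  have hφ₁r : φ₁.range = R₁ := by
    rw [← hm]
    ext y
    constructor
    · rintro ⟨x, rfl⟩
      exact ⟨Subgroup.inclusion hRN x, x.2, rfl⟩
    · rintro ⟨z, hz, rfl⟩
      exact ⟨⟨z, hz⟩, rfl⟩
  have hconj : F.IsConj Q Q₁ := ⟨φ₀, hφ₀, hφ₀r⟩
  have hcard : Nat.card (normalizerIn S Q) ≤ Nat.card (normalizerIn S Q₁) :=
    card_normalizerIn_le hNN hφ rfl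
  haveI : Finite (normalizerIn S Q₁) := finite_of_le normalizerIn_le
  have hfn : F.IsFullyNormalized Q₁ := by
    refine ⟨Basic.IsConj.le_right hconj, fun X hX => ?_⟩
    exact (h.fn.2 X (Basic.IsConj.trans hconj hX)).trans hcard
  -- `N_S(Q₁)` is the image of `N_S(Q)`
  have himg : ∀ y ∈ normalizerIn S Q₁, ∃ z : normalizerIn S Q, φ (Subgroup.inclusion hNN z) = y := by
    let g : normalizerIn S Q →* normalizerIn S Q₁ :=
      (φ.comp (Subgroup.inclusion hNN)).codRestrict _ (fun z =>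
        ⟨map_mem_S hφ _, map_mem_normalizer (P := Q₁) rfl _ z.2.2⟩)
    have hg : Function.Injective g := by
      intro a b hab
      have h1 : φ (Subgroup.inclusion hNN a) = φ (Subgroup.inclusion hNN b) := congrArg Subtype.val hab
      have h2 := F.injective_of_mem hφ h1
      exact Subgroup.inclusion_injective hNN h2
    have hgs : Function.Surjective g :=
      ((Nat.bijective_iff_injective_and_card _).2 ⟨hg, le_antisymm (Nat.card_le_card_of_injective g hg)
        (h.fn.2 Q₁ hconj)⟩).2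
    intro y hy
    obtain ⟨z, hz⟩ := hgs ⟨y, hy⟩
    exact ⟨z, congrArg Subtype.val hz⟩
  refine ⟨Basic.IsConj.trans h.conj hconj, hfn, ?_, ?_, ?_, ?_⟩
  · rw [← hm]
    exact Subgroup.map_mono (fun x hx => h.le hx)
  · rw [← hφ₁r]
    exact range_le hφ₁
  · intro y hy
    obtain ⟨z, rfl⟩ := himg y hy
    have := map_mem_normalizer hm (Subgroup.inclusion hNN z) (h.nor z.2)
    exact this
  · intro f hf hfv
    obtain ⟨g₀, hg₀, hg₀r, hg₀1, hg₀2⟩ := exists_inv hφ₀ hφ₀r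
    have hg₀v : ∀ x, g₀ x ∈ Q := fun x => by
      rw [← hg₀r]
      exact ⟨x, rfl⟩
    have hφ₀v : ∀ x : Q, φ₀ x ∈ Q₁ := fun x => by
      rw [← hφ₀r]
      exact ⟨x, rfl⟩
    let f₁ : Q →* Ω := f.comp (φ₀.codRestrict Q₁ hφ₀v)
    have hf₁ : f₁ ∈ F.Hom Q := comp_mem' hφ₀ hf hφ₀v (fun _ => rfl)
    have hf₁v : ∀ x, f₁ x ∈ Q₁ := fun x => hfv _
    let f₂ : Q →* Ω := g₀.comp (f₁.codRestrict Q₁ hf₁v)
    have hf₂ : f₂ ∈ F.Hom Q := comp_mem' hf₁ hg₀ hf₁v (fun _ => rfl)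
    have hf₂v : ∀ x, f₂ x ∈ Q := fun x => hg₀v _
    obtain ⟨ψ, hψ, hψv, hψe⟩ := h.ext f₂ hf₂ hf₂v
    obtain ⟨k, hk, hkr, hk1, hk2⟩ := exists_inv hφ₁ hφ₁r
    have hkv : ∀ x, k x ∈ R := fun x => by
      rw [← hkr]
      exact ⟨x, rfl⟩
    let r₁ : R₁ →* Ω := ψ.comp (k.codRestrict R hkv)
    have hr₁ : r₁ ∈ F.Hom R₁ := comp_mem' hk hψ hkv (fun _ => rfl)
    have hr₁v : ∀ x, r₁ x ∈ R := fun x => hψv _
    let r₂ : R₁ →* Ω := φ₁.comp (r₁.codRestrict R hr₁v)
    have hr₂ : r₂ ∈ F.Hom R₁ := comp_mem' hr₁ hφ₁ hr₁v (fun _ => rfl)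
    have hr₂v : ∀ x, r₂ x ∈ R₁ := fun x => hφ₁r.le ⟨_, rfl⟩
    refine ⟨r₂, hr₂, hr₂v, ?_⟩
    intro x hx hx'
    obtain ⟨q, rfl⟩ : x ∈ φ₀.range := by rwa [hφ₀r]
    have e1 : k ⟨φ₀ q, hx'⟩ = q := hk1 (Subgroup.inclusion h.le q) hx'
    have e2 : (⟨k ⟨φ₀ q, hx'⟩, hkv _⟩ : R) = ⟨q, h.le q.2⟩ := Subtype.ext e1
    have e3 : r₁ ⟨φ₀ q, hx'⟩ = f₂ q := by
      show ψ ⟨k ⟨φ₀ q, hx'⟩, hkv _⟩ = f₂ q
      rw [e2]
      exact hψe q q.2 _
    have e4 : (⟨r₁ ⟨φ₀ q, hx'⟩, hr₁v _⟩ : R) = ⟨f₂ q, h.le (hf₂v q)⟩ := Subtype.ext e3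
    show φ₁ ⟨r₁ ⟨φ₀ q, hx'⟩, hr₁v _⟩ = f ⟨φ₀ q, hx⟩
    rw [e4]
    have e5 := hg₀2 ⟨f₁ q, hf₁v q⟩ (hg₀v _)
    exact e5

omit [Fact p.Prime] in
theorem pCore_map_invariant {R : Subgroup Ω} {a δ : MulAut R} (ha : a ∈ F.autGroup R)
    (hδ : δ ∈ ((pCore p (F.autGroup R)).map (F.autGroup R).subtype : Subgroup (MulAut R))) :
    a * δ * a⁻¹ ∈ ((pCore p (F.autGroup R)).map (F.autGroup R).subtype : Subgroup (MulAut R)) := by
  obtain ⟨d, hd, rfl⟩ := hδ
  haveI : (pCore p (F.autGroup R)).Normal := Cfsg.Agent.Lib.Basic.PCore.pCore_normal p _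
  exact ⟨_, Subgroup.Normal.conj_mem inferInstance d hd ⟨a, ha⟩, rfl⟩

omit [Fact p.Prime] in
theorem inn_le_pCore_map [Finite S] (hS : IsPGroup p S) {R : Subgroup Ω} (hR : R ≤ S) :
    Inn R ≤ ((pCore p (F.autGroup R)).map (F.autGroup R).subtype : Subgroup (MulAut R)) := by
  haveI : Finite (MulAut R) := finite_mulAut hR
  have hInn_le : Inn R ≤ F.autGroup R := inn_le_autGroup hR
  have hInnp : IsPGroup p (Inn R) :=
    (isPGroup_autInducedBy hS R).to_le (inn_le_autInducedBy hR)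
  have hnorm : ((Inn R).subgroupOf (F.autGroup R)).Normal :=
    Cfsg.Agent.Lib.Fusion.Alperin.inn_subgroupOf_normal R _
  have hpg : IsPGroup p ((Inn R).subgroupOf (F.autGroup R)) :=
    hInnp.of_equiv (Subgroup.subgroupOfEquivOfLe hInn_le).symm
  have hInnK : (Inn R).subgroupOf (F.autGroup R) ≤ pCore p (F.autGroup R) :=
    Cfsg.Agent.Lib.Basic.PCore.le_pCore hnorm hpg
  intro x hx
  exact ⟨⟨x, hInn_le hx⟩, hInnK (by simpa [Subgroup.mem_subgroupOf] using hx), rfl⟩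

theorem pCore_map_le_autInducedBy [Finite S] (hS : IsPGroup p S) (hF : F.IsSaturated p) {R : Subgroup Ω}
    (hR : F.IsFullyNormalized R) :
    ((pCore p (F.autGroup R)).map (F.autGroup R).subtype : Subgroup (MulAut R)) ≤ autInducedBy S R := by
  obtain ⟨-, T, hT⟩ := (fullyNormalized_props hS hF hR).2
  rintro _ ⟨γ, hγ, rfl⟩
  haveI : Finite (F.autGroup R) := finite_autGroup hR.1
  have := Cfsg.Agent.Lib.Basic.PCore.pCore_le_sylow T hγ
  rw [hT] at this
  exact this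

/-- The one-step enlargement of the pair. -/
theorem IsPair.step [Finite S] (hS : IsPGroup p S) (hF : F.IsSaturated p) {Q₀ Q R : Subgroup Ω}
    (h : IsPair F Q₀ Q R) (hR : F.IsFullyNormalized R) :
    IsPair F Q₀ Q (liftOf S R ((pCore p (F.autGroup R)).map (F.autGroup R).subtype)) := by
  have hRS := h.leS
  set O : Subgroup (MulAut R) := (pCore p (F.autGroup R)).map (F.autGroup R).subtype with hO
  have hRL : R ≤ liftOf S R O := by
    intro y hy
    refine ⟨hRS hy, Subgroup.le_normalizer hy, ?_⟩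
    apply inn_le_pCore_map hS hRS
    exact ⟨⟨y, hy⟩, by ext x; simp [MulAut.conj_apply]⟩
  have hLS : liftOf S R O ≤ S := fun y hy => hy.1
  have key : ∀ s ∈ S, ∀ hs' : s ∈ Subgroup.normalizer (R : Set Ω), ∀ y ∈ liftOf S R O, s * y * s⁻¹ ∈ liftOf S R O := by
    rintro s hs hs' y ⟨h1, h2, h3⟩
    refine ⟨S.mul_mem (S.mul_mem hs h1) (S.inv_mem hs),
      Subgroup.mul_mem _ (Subgroup.mul_mem _ hs' h2) (Subgroup.inv_mem _ hs'), ?_⟩
    have e : normConj (s * y * s⁻¹) (Subgroup.mul_mem _ (Subgroup.mul_mem _ hs' h2) (Subgroup.inv_mem _ hs')) =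
        normConj s hs' * normConj y h2 * (normConj s hs')⁻¹ := by
      rw [normConj_mul (Subgroup.mul_mem _ hs' h2) (Subgroup.inv_mem _ hs'), normConj_mul hs' h2, normConj_inv hs']
    rw [e]
    exact pCore_map_invariant (autInducedBy_le_autGroup hRS (normConj_mem_autInducedBy hs hs')) h3
  refine ⟨h.conj, h.fn, h.le.trans hRL, hLS, ?_, ?_⟩
  · intro s hs
    have hs' := h.nor hs
    rw [Subgroup.mem_normalizer_iff]
    intro y
    refine ⟨key s hs.1 hs' y, fun hy => ?_⟩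
    have := key s⁻¹ (S.inv_mem hs.1) (Subgroup.inv_mem _ hs') _ hy
    simpa [mul_assoc] using this
  · intro f hf hfv
    obtain ⟨ψ, hψ, hψv, hψe⟩ := h.ext f hf hfv
    haveI : Finite R := finite_of_le hRS
    have hψr : ψ.range = R := range_eq_of_card hψ hψv le_rfl
    obtain ⟨ψ₂, hψ₂, hψ₂e⟩ := (fullyNormalized_receptive hS hF hR).2 R ψ hψ hψr
    obtain ⟨a, ha, hav⟩ : ∃ a ∈ F.autGroup R, ∀ x : R, ((a x : R) : Ω) = ψ x :=
      ⟨Cfsg.Agent.Lib.Fusion.Saturated2.autOfHom ψ (F.injective_of_mem hψ) hψv,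
        Cfsg.Agent.Lib.Fusion.Saturated2.autOfHom_mem hψ hψv, fun _ => rfl⟩
    have hL : liftOf S R O ≤ extender S R ψ := by
      rintro y ⟨hyS, hyN, hyO⟩
      have h1 := pCore_map_le_autInducedBy hS hF hR (pCore_map_invariant ha hyO)
      obtain ⟨c, hc, hval⟩ := mem_autInducedBy_iff.1 h1
      refine extender_closure_mem hyS hyN hc (fun x hx => ?_)
      have h2 := hval (a x)
      have e : (a * normConj y hyN * a⁻¹) (a x) = a ⟨y * x * y⁻¹, hx⟩ := by
        simp only [MulAut.mul_apply, MulAut.inv_apply_self]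
        rfl
      rw [e, hav, hav] at h2
      exact h2
    let ψ₃ : liftOf S R O →* Ω := ψ₂.comp (Subgroup.inclusion hL)
    have hψ₃ : ψ₃ ∈ F.Hom (liftOf S R O) := res_mem hψ₂ hL
    have hRE : R ≤ extender S R ψ := le_extender hRS (map_mem_S hψ)
    have hmapR : (R.subgroupOf (extender S R ψ)).map ψ₂ = R := map_subgroupOf_of_agree hRE hψr hψ₂e
    refine ⟨ψ₃, hψ₃, ?_, ?_⟩
    · rintro ⟨y, hy⟩
      obtain ⟨hyS, hyN, hyO⟩ := id hy
      have hzN : ψ₂ ⟨y, hL hy⟩ ∈ Subgroup.normalizer (R : Set Ω) :=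
        map_mem_normalizer hmapR _ hyN
      refine ⟨map_mem_S hψ₂ _, hzN, ?_⟩
      have e : normConj _ hzN = a * normConj y hyN * a⁻¹ := by
        ext x
        obtain ⟨x', rfl⟩ := a.surjective x
        have hx'L : (x' : Ω) ∈ extender S R ψ := hRE x'.2
        have h1 : ψ₂ ⟨x', hx'L⟩ = a x' := by rw [hav]; exact hψ₂e x' x'.2 hx'L
        simp only [normConj_apply, MulAut.mul_apply, MulAut.inv_apply_self]
        rw [← h1, hav]
        have hmem : y * x' * y⁻¹ ∈ R := (Subgroup.mem_normalizer_iff.1 hyN x').1 x'.2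
        have h2 := hψ₂e (y * x' * y⁻¹) hmem (hRE hmem)
        show _ = ψ ⟨y * x' * y⁻¹, hmem⟩
        rw [← h2]
        have e3 : (⟨y * x' * y⁻¹, hRE hmem⟩ : extender S R ψ) = ⟨y, hL hy⟩ * ⟨x', hx'L⟩ * ⟨y, hL hy⟩⁻¹ := rfl
        rw [e3]
        simp only [map_mul, map_inv]
      change normConj (ψ₂ ⟨y, hL hy⟩) hzN ∈ O
      rw [e]
      exact pCore_map_invariant ha hyO
    · intro x hx hx'
      have e1 := hψ₂e x (h.le hx) (hL hx')
      rw [← hψe x hx (h.le hx)]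
      exact e1

/-- A pair for which the one-step enlargement does not enlarge consists of a centric radical subgroup. -/
theorem IsPair.centric_radical [Finite S] (hS : IsPGroup p S) (hF : F.IsSaturated p) {R : Subgroup Ω}
    (hR : F.IsFullyNormalized R)
    (hle : liftOf S R ((pCore p (F.autGroup R)).map (F.autGroup R).subtype) ≤ R) :
    F.IsCentric R ∧ F.IsRadical p R := by
  have hRS := hR.1
  have hFC := (fullyNormalized_props hS hF hR).1
  constructor
  · refine Cfsg.Agent.S5104.result p hS F hF R hFC ?_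
    rintro y ⟨hyS, hyC⟩
    apply hle
    have hyN : y ∈ Subgroup.normalizer (R : Set Ω) := centralizer_le_normalizer' R hyC
    refine ⟨hyS, hyN, ?_⟩
    have : normConj y hyN = 1 := by
      ext x
      have := Subgroup.mem_centralizer_iff.1 hyC x x.2
      simp [← this]
    rw [this]
    exact Subgroup.one_mem _
  · refine ⟨hRS, le_antisymm ?_ (inn_le_pCore_map hS hRS)⟩
    intro γ hγ
    obtain ⟨y, hyS, hval⟩ := mem_autInducedBy_iff.1 (pCore_map_le_autInducedBy hS hF hR hγ)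
    have hyN := mem_normalizer_of_aut hval
    have hyO : normConj y hyN = γ := by
      ext x
      exact (hval x).symm
    have hyR : y ∈ R := hle ⟨hyS, hyN, by rw [hyO]; exact hγ⟩
    refine ⟨⟨y, hyR⟩, ?_⟩
    ext x
    simp only [MulAut.conj_apply]
    exact (hval x).symm

/-- Every pair leads to a pair with a fully normalized centric radical subgroup. -/
theorem IsPair.exists_good [Finite S] (hS : IsPGroup p S) (hF : F.IsSaturated p) {Q₀ Q R : Subgroup Ω}
    (h : IsPair F Q₀ Q R) :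
    ∃ Q' R', IsPair F Q₀ Q' R' ∧ F.IsFullyNormalized R' ∧ F.IsCentric R' ∧ F.IsRadical p R' := by
  induction' hn : Nat.card S - Nat.card R using Nat.strong_induction_on with n ih generalizing Q R
  obtain ⟨R₁, hconj, hR₁⟩ := exists_fullyNormalized (F := F) h.leS
  obtain ⟨φ, hφ, hv, hm⟩ := exists_map_to_fullyNormalized hS hF hR₁ hconj
  have h₁ := h.transport hφ hv hm
  have hcardR : Nat.card R = Nat.card R₁ := Basic.IsConj.card_eq hconj
  by_cases hle : liftOf S R₁ ((pCore p (F.autGroup R₁)).map (F.autGroup R₁).subtype) ≤ R₁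
  · exact ⟨_, R₁, h₁, hR₁, IsPair.centric_radical hS hF hR₁ hle⟩
  · have h₂ := h₁.step hS hF hR₁
    refine ih (Nat.card S - Nat.card (liftOf S R₁ ((pCore p (F.autGroup R₁)).map (F.autGroup R₁).subtype))) ?_ h₂ rfl
    have hlt : R₁ < liftOf S R₁ ((pCore p (F.autGroup R₁)).map (F.autGroup R₁).subtype) := by
      have h3 : R₁ ≤ liftOf S R₁ ((pCore p (F.autGroup R₁)).map (F.autGroup R₁).subtype) := by
        intro y hy
        refine ⟨hR₁.1 hy, Subgroup.le_normalizer hy, ?_⟩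
        apply inn_le_pCore_map hS hR₁.1
        exact ⟨⟨y, hy⟩, by ext x; simp [MulAut.conj_apply]⟩
      exact lt_of_le_of_ne h3 (fun e => hle e.ge)
    have hleS := h₂.leS
    haveI : Finite (liftOf S R₁ ((pCore p (F.autGroup R₁)).map (F.autGroup R₁).subtype)) := finite_of_le hleS
    have h4 := Cfsg.Agent.Lib.Fusion.Saturated2.card_lt_of_lt hlt
    have h5 : Nat.card (liftOf S R₁ ((pCore p (F.autGroup R₁)).map (F.autGroup R₁).subtype)) ≤ Nat.card S := by
      exact Subgroup.card_le_of_le hleS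
    omega

/-- `p`-stability at centric radical subgroups implies `p`-stability. -/
theorem isPStableSys_of_centric_radical [Finite S] (hS : IsPGroup p S) (hF : F.IsSaturated p)
    (h : ∀ (R : Subgroup Ω) (hR : F.IsFullyNormalized R), F.IsCentric R → F.IsRadical p R →
      IsPStableSys (Cfsg.Agent.Lib.Fusion.LocalSystems.normalizerSystem F R hR.1) p) :
    IsPStableSys F p := by
  intro Q₀ hQ₀ χ hχ hq
  obtain ⟨Q, R, hp, hRN, hRC, hRR⟩ := (IsPair.start hQ₀).exists_good hS hF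
  obtain ⟨φ, hφ, hr⟩ := hp.conj
  obtain ⟨e, he⟩ : ∃ e : Q₀ ≃* Q, ∀ x : Q₀, ((e x : Q) : Ω) = φ x :=
    ⟨isoOfRange (F.injective_of_mem hφ) hr, fun _ => rfl⟩
  refine mem_pCore_of_conj hφ e he ?_
  have hχ' := congr_mem_autGroup hφ e he hχ
  have hq' := hq.congr e
  set χ' := MulAut.congr e χ
  have hN := Cfsg.Agent.Lib.Fusion.LocalSystems.normalizerSystem_isNormalizerSystem F R hRN.1
  set N := Cfsg.Agent.Lib.Fusion.LocalSystems.normalizerSystem F R hRN.1 with hNdef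
  have hQRN : Q ≤ normalizerIn S R := hp.le.trans (le_normalizerIn hRN.1)
  have hQS : Q ≤ S := hQRN.trans normalizerIn_le
  haveI : Finite (normalizerIn S R) := finite_of_le normalizerIn_le
  -- `Aut_N(Q) = Aut_F(Q)`
  have hA : N.autGroup Q = F.autGroup Q := by
    apply le_antisymm
    · intro α hα
      rw [mem_autGroup_iff hQRN] at hα
      rw [mem_autGroup_iff hQS]
      rw [hN Q] at hα
      exact hα.1
    · intro α hα
      rw [mem_autGroup_iff hQRN]
      rw [mem_autGroup_iff hQS] at hα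
      rw [hN Q]
      obtain ⟨ψ, hψ, hψv, hψe⟩ := hp.ext _ hα (fun x => (α x).2)
      haveI : Finite R := finite_of_le hRN.1
      have hψr : ψ.range = R := range_eq_of_card hψ hψv le_rfl
      refine ⟨hα, hQRN, fun x => hQRN (α x).2, ?_⟩
      obtain ⟨ψ', hψ', hψ'e⟩ := Cfsg.Agent.Lib.Fusion.Joins.exists_hom_of_eq F (sup_eq_right.2 hp.le).symm ψ hψ
      refine ⟨ψ', hψ', ?_, ?_⟩
      · intro x
        refine Eq.trans (hψ'e _ (hp.le x.2) _) ?_
        exact hψe _ x.2 _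
      · refine Eq.trans ?_ hψr
        ext y
        constructor
        · rintro ⟨z, hz, rfl⟩
          exact ⟨⟨z, hz⟩, (hψ'e _ hz _).symm⟩
        · rintro ⟨z, rfl⟩
          exact ⟨⟨z, le_sup_right (a := Q) z.2⟩, z.2, hψ'e _ z.2 _⟩
  have hQN : N.IsFullyNormalized Q := by
    refine ⟨hQRN, fun X hX => ?_⟩
    have hXF : F.IsConj Q X := by
      obtain ⟨g, hg, hgr⟩ := hX
      rw [hN Q] at hg
      exact ⟨g, hg.1, hgr⟩
    have h1 : normalizerIn (normalizerIn S R) Q = normalizerIn S Q := by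
      apply le_antisymm
      · exact fun x hx => ⟨hx.1.1, hx.2⟩
      · exact fun x hx => ⟨⟨hx.1, hp.nor hx⟩, hx.2⟩
    have h2 : normalizerIn (normalizerIn S R) X ≤ normalizerIn S X := fun x hx => ⟨hx.1.1, hx.2⟩
    haveI : Finite (normalizerIn S X) := finite_of_le normalizerIn_le
    rw [h1]
    exact (Subgroup.card_le_of_le h2).trans (hp.fn.2 X hXF)
  have := h R hRN hRC hRR Q hQN χ' (hA ▸ hχ') hq'
  rwa [pCore_map_congr hA] at this

end pair

end Cfsg.Agent.Lib.Fusion.PStable
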