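/-
The BCGLO saturation criterion, part 7: from the extension of all of `Aut_F(R)` to `T` to `R` being
fully automized and receptive.
-/
import Mathlib
import Cfsg.Prelude.Def_FusionSystem
import Cfsg.Agent.Lib.Fusion.Basic
import Cfsg.Agent.Lib.Fusion.Saturated
import Cfsg.Agent.Lib.Fusion.Saturated2
import Cfsg.Agent.Lib.Fusion.GroupSylow
import Cfsg.Agent.Lib.Fusion.SatCrit1
import Cfsg.Agent.Lib.Fusion.SatCrit2
import Cfsg.Agent.Lib.Fusion.SatCrit3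
import Cfsg.Agent.Lib.Fusion.SatCrit4
import Cfsg.Agent.Lib.Fusion.SatCrit5
import Cfsg.Agent.Lib.Fusion.SatCrit6

set_option autoImplicit false

namespace Cfsg.Agent.Lib.Fusion.SatCrit

open Cfsg Cfsg.FusionSystem Cfsg.Agent.Lib.Fusion.Basic Cfsg.Agent.Lib.Fusion.Saturated
  Cfsg.Agent.Lib.Fusion.Saturated2
open Cfsg.Agent.Lib.Fusion.GroupSylow (cj mem_cj conj_mem_cj cj_le_iff card_cj IsSylowIn isSylowIn_iff_card
  IsSylowIn.exists_conj_le cj_inv_cj cj_mono)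

variable {Ω : Type*} [Group Ω] {S : Subgroup Ω} {F : FusionSystem S}

section Main

variable [Finite S] {p : ℕ} [Fact p.Prime]

/-- An automorphism of `R` extending to `T` lifts to `Aut_F(T) ∩ Stab(R)`. -/
theorem exists_lift {R T : Subgroup Ω} {Ξ : Subgroup (MulAut R)} (C : Core F R T Ξ) {α : MulAut R}
    (hα : α ∈ F.autGroup R) (hE : ExtTo F T R C.hRT α) :
    ∃ μ ∈ F.autGroup T ⊓ stabIn T R, ∀ r : R, μ ⟨r, C.hRT r.2⟩ = ⟨((α r : R) : Ω), C.hRT (α r).2⟩ := by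
  obtain ⟨ψ, hψ, hag⟩ := hE
  have : Finite T := finite_of_le C.le_S
  have hmaps := C.maps hα hψ hag
  have hinj := F.injective_of_mem hψ
  refine ⟨autOfHom ψ hinj hmaps, ⟨autOfHom_mem hψ hmaps, fun t => ?_⟩, fun r => Subtype.ext (hag r)⟩
  rw [autOfHom_coe]
  constructor
  · intro h
    have e := hag (α⁻¹ ⟨ψ t, h⟩)
    rw [MulAut.apply_inv_self] at e
    have e2 := hinj e
    rw [← e2]
    exact (α⁻¹ ⟨ψ t, h⟩).2
  · intro h
    have e := hag ⟨t, h⟩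
    have e2 : ψ t = ψ ⟨((⟨t, h⟩ : R) : Ω), C.hRT h⟩ := rfl
    rw [e2, e]
    exact (α ⟨t, h⟩).2

/-- The criterion at `R`. -/
theorem fa_rec_of_ext (hS : IsPGroup p S) {R T : Subgroup Ω} {Ξ : Subgroup (MulAut R)} (C : Core F R T Ξ)
    (hRfn : F.IsFullyNormalized R) (hL : ∀ T' : Subgroup Ω, F.IsConj T T' → ClassSat F p T')
    (hArrow : ∀ Q, F.IsConj R Q → Arrow F Q R)
    (hExt : ∀ α ∈ F.autGroup R, ExtTo F T R C.hRT α) :
    F.IsFullyAutomized p R ∧ F.IsReceptive R := by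
  have hTS := C.le_S
  have hTN := C.le_normalizerIn
  have hNT := C.normalizer_le
  have hRT := C.hRT
  have hRS := C.hRS
  have hsyl := rel_sylow hS hRT hTS hTN hNT hRfn hL
  have : Finite T := finite_of_le hTS
  have : Finite (MulAut T) := finite_mulAut hTS
  have hKle : autInducedBy (normalizerIn S R) T ≤ F.autGroup T ⊓ stabIn T R := by
    intro α hα
    obtain ⟨y, hy, hyα⟩ := mem_autInducedBy_iff.1 hα
    refine ⟨autInducedBy_le_autGroup hTS (mem_autInducedBy_iff.2 ⟨y, hy.1, hyα⟩), fun t => ?_⟩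
    rw [hyα]
    exact (Subgroup.mem_normalizer_iff.1 hy.2 t).symm
  constructor
  · -- fully automized
    let Δ : Subgroup (MulAut T) := F.autGroup T ⊓ stabIn T R
    let f : Δ →* F.autGroup R :=
      { toFun := fun δ => ⟨resAut hRT δ.1 δ.2.2, resAut_mem_autGroup hTS hRT δ.2.2 δ.2.1⟩
        map_one' := by
          apply Subtype.ext
          ext r
          rfl
        map_mul' := fun a b => by
          apply Subtype.ext
          ext r
          rfl }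
    have hfv : ∀ (δ : Δ) (r : R), (((f δ : MulAut R) r : R) : Ω) = (δ : MulAut T) ⟨r, hRT r.2⟩ :=
      fun _ _ => rfl
    have hf : Function.Surjective f := by
      intro α
      obtain ⟨μ, hμ, hμv⟩ := exists_lift C α.2 (hExt α α.2)
      refine ⟨⟨μ, hμ⟩, ?_⟩
      apply Subtype.ext
      ext r
      exact congrArg (fun z : T => (z : Ω)) (hμv r)
    obtain ⟨Q, hQ⟩ := hsyl
    refine ⟨hRS, Q.mapSurjective hf, ?_⟩
    rw [Sylow.coe_mapSurjective, hQ]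
    ext β
    constructor
    · rintro ⟨δ, hδ, rfl⟩
      have hδ' : (δ : MulAut T) ∈ autInducedBy (normalizerIn S R) T := hδ
      obtain ⟨y, hy, hyv⟩ := mem_autInducedBy_iff.1 hδ'
      rw [Subgroup.mem_subgroupOf]
      refine mem_autInducedBy_iff.2 ⟨y, hy.1, fun r => ?_⟩
      rw [hfv, hyv]
    · intro hβ
      rw [Subgroup.mem_subgroupOf] at hβ
      obtain ⟨h, hh, hhv⟩ := mem_autInducedBy_iff.1 hβ
      have hhN : h ∈ normalizerIn S R := ⟨hh, mem_normalizer_of_aut hhv⟩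
      have hmemK : normConj h (hNT hhN) ∈ autInducedBy (normalizerIn S R) T :=
        normConj_mem_autInducedBy hhN (hNT hhN)
      refine ⟨⟨normConj h (hNT hhN), hKle hmemK⟩, hmemK, ?_⟩
      apply Subtype.ext
      ext r
      exact (hhv r).symm
  · -- receptive
    refine ⟨hRS, fun U φ hφ hφr => ?_⟩
    have hUR : F.IsConj R U := Basic.IsConj.symm ⟨φ, hφ, hφr⟩
    obtain ⟨g, hg, hgv, hgm⟩ := hArrow U hUR
    have hUS : U ≤ S := source_le hφ
    have hUN := le_normalizerIn hUS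
    let ρ : U →* Ω := g.comp (Subgroup.inclusion hUN)
    have hρv : ∀ x : U, ρ x = g ⟨x, hUN x.2⟩ := fun _ => rfl
    have hρ : ρ ∈ F.Hom U := res_mem hg hUN
    have hρr : ρ.range = R := by
      refine Eq.trans ?_ hgm
      ext y
      constructor
      · rintro ⟨x, rfl⟩
        exact ⟨Subgroup.inclusion hUN x, x.2, rfl⟩
      · rintro ⟨x, hx, rfl⟩
        exact ⟨⟨x, hx⟩, rfl⟩
    obtain ⟨μ₀, hμ₀, hμ₀v⟩ := exists_alpha hρ hφ hρr hφr
    obtain ⟨μ, hμ, hμv⟩ := exists_lift C hμ₀ (hExt μ₀ hμ₀)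
    have hμv' : ∀ r : R, ((μ ⟨r, hRT r.2⟩ : T) : Ω) = ((μ₀ r : R) : Ω) := fun r =>
      congrArg Subtype.val (hμv r)
    let μ' : R →* Ω := R.subtype.comp μ₀.toMonoidHom
    have hμ'v : ∀ r : R, μ' r = ((μ ⟨r, hRT r.2⟩ : T) : Ω) := fun r => (hμv' r).symm
    have hMN : extender S R μ' ≤ normalizerIn S R := extender_le_normalizerIn
    have hTM : T ≤ extender S R μ' := by
      intro t ht
      have htN := hTN ht
      refine extender_closure_mem htN.1 htN.2 (hTS (μ ⟨t, ht⟩).2) (fun r hx => ?_)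
      rw [hμ'v, hμ'v]
      have e : (⟨((⟨_, hx⟩ : R) : Ω), hRT hx⟩ : T) = ⟨t, ht⟩ * ⟨r, hRT r.2⟩ * ⟨t, ht⟩⁻¹ := rfl
      rw [e, map_mul, map_mul, map_inv]
      rfl
    -- the `p`-group to move
    have hMT : extender S R μ' ≤ Subgroup.normalizer (T : Set Ω) := hMN.trans hNT
    let X₀ : Subgroup (MulAut T) := (normHom T _ hMT).range
    have hMp : IsPGroup p (extender S R μ') := hS.to_le (hMN.trans normalizerIn_le)
    have hX₀p : IsPGroup p X₀ := hMp.of_surjective (normHom T _ hMT).rangeRestrict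
      (normHom T _ hMT).rangeRestrict_surjective
    let D : Subgroup (MulAut T) := (F.autGroup T ⊓ stabIn T R) ⊓ preIm hRT (autInducedBy S R)
    have hKD : autInducedBy (normalizerIn S R) T ≤ D := by
      intro α hα
      refine ⟨hKle hα, mem_preIm.2 ⟨(hKle hα).2, ?_⟩⟩
      obtain ⟨y, hy, hyv⟩ := mem_autInducedBy_iff.1 hα
      refine mem_autInducedBy_iff.2 ⟨y, hy.1, fun r => ?_⟩
      rw [resAut_apply, hyv]
    have hsylD := isSylowIn_of_le hKle hKD inf_le_left hsyl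
    have hXD : cj μ X₀ ≤ D := by
      rw [cj_le_iff]
      rintro _ ⟨⟨x, hx⟩, rfl⟩
      have hxN := hMN hx
      have hcm : normHom T _ hMT ⟨x, hx⟩ ∈ autInducedBy (normalizerIn S R) T :=
        normConj_mem_autInducedBy hxN (hMT hx)
      have hmem : μ * normHom T _ hMT ⟨x, hx⟩ * μ⁻¹ ∈ F.autGroup T ⊓ stabIn T R :=
        (F.autGroup T ⊓ stabIn T R).mul_mem ((F.autGroup T ⊓ stabIn T R).mul_mem hμ (hKle hcm))
          ((F.autGroup T ⊓ stabIn T R).inv_mem hμ)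
      refine ⟨hmem, mem_preIm.2 ⟨hmem.2, ?_⟩⟩
      obtain ⟨h, hh, hhv⟩ := exists_of_mem_extender hx
      refine mem_autInducedBy_iff.2 ⟨h, hh, fun r => ?_⟩
      rw [resAut_apply]
      -- `r = μ₀ r₀`
      obtain ⟨r₀, rfl⟩ := μ₀.surjective r
      have e1 : μ⁻¹ ⟨((μ₀ r₀ : R) : Ω), hRT (μ₀ r₀).2⟩ = ⟨r₀, hRT r₀.2⟩ := by
        rw [← hμv r₀]
        simp
      rw [MulAut.mul_apply, MulAut.mul_apply, e1]
      obtain ⟨hx2, e2⟩ := hhv r₀
      have e3 : normHom T _ hMT ⟨x, hx⟩ ⟨r₀, hRT r₀.2⟩ = ⟨_, hRT hx2⟩ := rfl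
      rw [e3]
      have e4 := hμv' ⟨_, hx2⟩
      rw [e4]
      exact e2
    have hXp : IsPGroup p (cj μ X₀) := hX₀p.map _
    obtain ⟨n, hnD, hnX⟩ := hsylD.exists_conj_le hXD hXp
    obtain ⟨hn1, hn2⟩ := hnD
    obtain ⟨hn3, hn4⟩ := mem_preIm.1 hn2
    obtain ⟨y, hy, hyv⟩ := mem_autInducedBy_iff.1 hn4
    have hyN : y ∈ normalizerIn S R := ⟨hy, mem_normalizer_of_aut hyv⟩
    have hcK : normConj y (hNT hyN) ∈ autInducedBy (normalizerIn S R) T :=
      normConj_mem_autInducedBy hyN (hNT hyN)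
    let lam : MulAut T := (normConj y (hNT hyN))⁻¹ * n
    have hlamfix : ∀ r : R, lam ⟨r, hRT r.2⟩ = ⟨r, hRT r.2⟩ := by
      intro r
      have e1 : n ⟨r, hRT r.2⟩ = normConj y (hNT hyN) ⟨r, hRT r.2⟩ := Subtype.ext (hyv r)
      show (normConj y (hNT hyN))⁻¹ (n ⟨r, hRT r.2⟩) = _
      rw [e1]
      simp
    have hlamF : lam ∈ F.autGroup T :=
      (F.autGroup T).mul_mem ((F.autGroup T).inv_mem ((hKle hcK).1)) hn1.1
    have hμ₂F : lam * μ ∈ F.autGroup T := (F.autGroup T).mul_mem hlamF hμ.1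
    have hext : ∀ x ∈ extender S R μ', ∃ y' ∈ normalizerIn S R, ∀ (t : T) (ht : x * (t : Ω) * x⁻¹ ∈ T),
        (((lam * μ) ⟨_, ht⟩ : T) : Ω) = y' * ((lam * μ) t : T) * y'⁻¹ := by
      intro x hx
      have h1 : n * (μ * normHom T _ hMT ⟨x, hx⟩ * μ⁻¹) * n⁻¹ ∈ autInducedBy (normalizerIn S R) T :=
        hnX (conj_mem_cj ⟨_, ⟨⟨x, hx⟩, rfl⟩, rfl⟩)
      have h2 : lam * (μ * normHom T _ hMT ⟨x, hx⟩ * μ⁻¹) * lam⁻¹ ∈ autInducedBy (normalizerIn S R) T := by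
        have e : lam * (μ * normHom T _ hMT ⟨x, hx⟩ * μ⁻¹) * lam⁻¹ =
            (normConj y (hNT hyN))⁻¹ * (n * (μ * normHom T _ hMT ⟨x, hx⟩ * μ⁻¹) * n⁻¹) *
              (normConj y (hNT hyN)) := by
          show ((normConj y (hNT hyN))⁻¹ * n) * _ * ((normConj y (hNT hyN))⁻¹ * n)⁻¹ = _
          group
        rw [e]
        exact (autInducedBy _ T).mul_mem ((autInducedBy _ T).mul_mem
          ((autInducedBy _ T).inv_mem hcK) h1) hcK
      obtain ⟨y', hy', hy'v⟩ := mem_autInducedBy_iff.1 h2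
      refine ⟨y', hy', fun t ht => ?_⟩
      have h3 := hy'v ((lam * μ) t)
      rw [← h3]
      have e : normHom T _ hMT ⟨x, hx⟩ t = ⟨_, ht⟩ := rfl
      simp only [MulAut.mul_apply, MulAut.inv_apply_self, e]
    obtain ⟨w, hw, hwag, hwv⟩ := rel_ext hS hRT hTS hTN hNT hRfn hL hμ₂F hTM hMN hext
    -- the final composite
    have hUeN : extender S U φ ≤ normalizerIn S U := extender_le_normalizerIn
    have hgM : ∀ z : extender S U φ, g ⟨z, hUeN z.2⟩ ∈ extender S R μ' := by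
      intro z
      obtain ⟨h, hh, hhv⟩ := exists_of_mem_extender z.2
      have hgzN := hgv ⟨z, hUeN z.2⟩
      refine extender_closure_mem hgzN.1 hgzN.2 hh (fun r hx => ?_)
      have hr1 : (r : Ω) ∈ ρ.range := by rw [hρr]; exact r.2
      obtain ⟨u, hu⟩ := hr1
      obtain ⟨hzu, e2⟩ := hhv u
      have e3 : μ' r = φ u := by
        have h9 := hμ₀v u (by rw [hu]; exact r.2)
        have h8 : (⟨ρ u, by rw [hu]; exact r.2⟩ : R) = r := Subtype.ext hu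
        rw [h8] at h9
        exact h9
      have hzuN : (z : Ω) * u * (z : Ω)⁻¹ ∈ U := hzu
      have e4 : g ⟨z, hUeN z.2⟩ * (r : Ω) * (g ⟨z, hUeN z.2⟩)⁻¹ = ρ ⟨_, hzuN⟩ := by
        rw [← hu, hρv, hρv, ← map_inv, ← map_mul, ← map_mul]
        rfl
      have e5 : μ' ⟨_, hx⟩ = φ ⟨_, hzuN⟩ := by
        have h9 := hμ₀v ⟨_, hzuN⟩ (by rw [← e4]; exact hx)
        have h8 : (⟨ρ ⟨_, hzuN⟩, by rw [← e4]; exact hx⟩ : R) = ⟨_, hx⟩ := Subtype.ext e4.symm
        rw [h8] at h9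
        exact h9
      rw [e5, e2, e3]
    let g' : extender S U φ →* Ω := g.comp (Subgroup.inclusion hUeN)
    have hg' : g' ∈ F.Hom _ := res_mem hg hUeN
    refine ⟨w.comp (g'.codRestrict _ hgM), F.comp_mem hg' hw hgM, fun x hU hE => ?_⟩
    show w ⟨g ⟨x, hUeN hE⟩, hgM ⟨x, hE⟩⟩ = _
    have hmem : ρ ⟨x, hU⟩ ∈ R := by rw [← hρr]; exact ⟨_, rfl⟩
    have e1 : g ⟨x, hUeN hE⟩ = ρ ⟨x, hU⟩ := rfl
    have e2 : (⟨g ⟨x, hUeN hE⟩, hgM ⟨x, hE⟩⟩ : extender S R μ') =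
        ⟨((⟨ρ ⟨x, hU⟩, hRT hmem⟩ : T) : Ω), hTM (hRT hmem)⟩ := Subtype.ext e1
    rw [e2, hwag]
    have e3 : (lam * μ) ⟨ρ ⟨x, hU⟩, hRT hmem⟩ = lam (μ ⟨((⟨ρ ⟨x, hU⟩, hmem⟩ : R) : Ω), hRT hmem⟩) := rfl
    rw [e3, hμv ⟨_, hmem⟩, hlamfix]
    exact hμ₀v ⟨x, hU⟩ hmem

end Main

end Cfsg.Agent.Lib.Fusion.SatCrit
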