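/-
The BCGLO saturation criterion, part 8: the property `GoodX` in the two cases, the class-level theorem,
and the saturation criterion.
-/
import Mathlib
import Cfsg.Prelude.Def_FusionSystem
import Cfsg.Agent.Lib.Fusion.Basic
import Cfsg.Agent.Lib.Fusion.Saturated
import Cfsg.Agent.Lib.Fusion.Saturated2
import Cfsg.Agent.Lib.Fusion.GroupSylow
import Cfsg.Agent.Lib.Fusion.PStable
import Cfsg.Agent.Lib.Fusion.SatCrit1
import Cfsg.Agent.Lib.Fusion.SatCrit2
import Cfsg.Agent.Lib.Fusion.SatCrit3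
import Cfsg.Agent.Lib.Fusion.SatCrit4
import Cfsg.Agent.Lib.Fusion.SatCrit5
import Cfsg.Agent.Lib.Fusion.SatCrit6
import Cfsg.Agent.Lib.Fusion.SatCrit7

set_option autoImplicit false

namespace Cfsg.Agent.Lib.Fusion.SatCrit

open Cfsg Cfsg.FusionSystem Cfsg.Agent.Lib.Fusion.Basic Cfsg.Agent.Lib.Fusion.Saturated
  Cfsg.Agent.Lib.Fusion.Saturated2
open Cfsg.Agent.Lib.Fusion.GroupSylow (cj mem_cj conj_mem_cj cj_le_iff card_cj IsSylowIn isSylowIn_iff_card
  IsSylowIn.exists_conj_le cj_inv_cj cj_mono exists_mul_of_mem_sup)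
open Cfsg.Agent.Lib.Fusion.PStable (mem_pCore_of_conj pCore_map_invariant inn_le_pCore_map)

variable {Ω : Type*} [Group Ω] {S : Subgroup Ω} {F : FusionSystem S}

/-- Automorphisms of `T` fixing `R` elementwise. -/
def fixIn (T R : Subgroup Ω) : Subgroup (MulAut T) where
  carrier := {δ | ∀ t : T, (t : Ω) ∈ R → ((δ t : T) : Ω) = t}
  mul_mem' := by
    intro a b ha hb t ht
    have e : b t = t := Subtype.ext (hb t ht)
    show ((a (b t) : T) : Ω) = t
    rw [e]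
    exact ha t ht
  one_mem' := fun _ _ => rfl
  inv_mem' := by
    intro a ha t ht
    have e : a t = t := Subtype.ext (ha t ht)
    have e2 : a⁻¹ t = t := by
      conv_lhs => rw [← e]
      simp
    rw [e2]

section Main

variable [Finite S] {p : ℕ} [Fact p.Prime]

/-- Common facts about the conjugation action transported to `T'`. -/
theorem tau_facts {R T' R₅ A B : Subgroup Ω} {e : A →* Ω} (e' : A ≃* T')
    (he' : ∀ a, ((e' a : T') : Ω) = e a) (he : e ∈ F.Hom A) (hRA : R ≤ A) (hem : (R.subgroupOf A).map e = R₅)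
    (hBS : B ≤ S) (hBA : B ≤ Subgroup.normalizer (A : Set Ω)) (hBR : B ≤ Subgroup.normalizer (R : Set Ω)) :
    (∀ a : A, ((e' a : T') : Ω) ∈ R₅ ↔ (a : Ω) ∈ R) ∧
    ∀ b : B, MulAut.congr e' (normHom A B hBA b) ∈ F.autGroup T' ⊓ stabIn T' R₅ := by
  have hAS : A ≤ S := source_le he
  have hinj := F.injective_of_mem he
  have hmem : ∀ a : A, ((e' a : T') : Ω) ∈ R₅ ↔ (a : Ω) ∈ R := by
    intro a
    rw [he']
    constructor
    · intro h
      rw [← hem] at h
      obtain ⟨z, hz, hze⟩ := h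
      have := hinj hze
      rw [← this]
      exact hz
    · intro h
      rw [← hem]
      exact ⟨a, h, rfl⟩
  refine ⟨hmem, fun b => ⟨?_, fun t => ?_⟩⟩
  · exact congr_mem_autGroup he e' he' (autInducedBy_le_autGroup hAS
      (normConj_mem_autInducedBy (hBS b.2) (hBA b.2)))
  · obtain ⟨a, rfl⟩ := e'.surjective t
    have e1 : (MulAut.congr e' (normHom A B hBA b)) (e' a) = e' (normHom A B hBA b a) := by
      simp [MulAut.congr_apply]
    rw [e1, hmem, hmem]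
    exact (Subgroup.mem_normalizer_iff.1 (hBR b.2) a).symm

/-- Elements centralizing `R` are good. -/
theorem good_of_centralizer (hS : IsPGroup p S) {R : Subgroup Ω} {x : Ω} (hx : x ∈ centralizerIn S R) :
    GoodX F p R x := by
  intro T' R₅ A e e' he' he hRA hAN hxN hem hT'S hN
  have : Finite (MulAut T') := finite_mulAut hT'S
  have hBC : Subgroup.zpowers x ≤ centralizerIn S R := (Subgroup.zpowers_le).2 hx
  have hBS : Subgroup.zpowers x ≤ S := hBC.trans inf_le_left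
  have hBA : Subgroup.zpowers x ≤ Subgroup.normalizer (A : Set Ω) := (Subgroup.zpowers_le).2 hxN
  have hBR : Subgroup.zpowers x ≤ Subgroup.normalizer (R : Set Ω) :=
    hBC.trans centralizerIn_le_normalizerIn |>.trans inf_le_right
  obtain ⟨hmem, hf⟩ := tau_facts e' he' he hRA hem hBS hBA hBR
  let f : Subgroup.zpowers x →* MulAut T' := (MulAut.congr e').toMonoidHom.comp (normHom A _ hBA)
  have hfv : ∀ (b : Subgroup.zpowers x) (a : A), f b (e' a) = e' (normHom A _ hBA b a) := by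
    intro b a
    show e' ((normHom A _ hBA b) (e'.symm (e' a))) = _
    rw [MulEquiv.symm_apply_apply]
  have hXp : IsPGroup p f.range := by
    have hBp : IsPGroup p (Subgroup.zpowers x) := hS.to_le hBS
    exact hBp.of_surjective f.rangeRestrict f.rangeRestrict_surjective
  let H₅ : Subgroup (MulAut T') := F.autGroup T' ⊓ stabIn T' R₅
  let L : Subgroup (MulAut T') := H₅ ⊓ fixIn T' R₅
  have hXL : f.range ≤ L := by
    rintro _ ⟨b, rfl⟩
    refine ⟨hf b, fun t ht => ?_⟩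
    obtain ⟨a, rfl⟩ := e'.surjective t
    have ha : (a : Ω) ∈ R := (hmem a).1 ht
    rw [hfv]
    congr 2
    apply Subtype.ext
    show (b : Ω) * a * (b : Ω)⁻¹ = a
    have hbC := (hBC b.2).2
    have hb2 : (b : Ω) ∈ Subgroup.centralizer (R : Set Ω) := hbC
    rw [← Subgroup.mem_centralizer_iff.1 hb2 a ha]
    simp
  have hLnorm : ∀ n ∈ H₅, ∀ l ∈ L, n * l * n⁻¹ ∈ L := by
    intro n hn l hl
    refine ⟨H₅.mul_mem (H₅.mul_mem hn hl.1) (H₅.inv_mem hn), fun t ht => ?_⟩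
    have h1 : ((n⁻¹ t : T') : Ω) ∈ R₅ := (H₅.inv_mem hn).2 t |>.2 ht
    have h2 : l (n⁻¹ t) = n⁻¹ t := Subtype.ext (hl.2 _ h1)
    show ((n (l (n⁻¹ t)) : T') : Ω) = t
    rw [h2]
    simp
  have hsylL := isSylowIn_inf_of_normal
    (inf_le_inf_right _ (autInducedBy_le_autGroup hT'S)) inf_le_left hN hLnorm
  obtain ⟨lam, hlamL, hlamX⟩ := hsylL.exists_conj_le hXL hXp
  refine ⟨lam, hlamL.1.1, hlamL.2, ?_⟩
  have h1 : lam * f ⟨x, Subgroup.mem_zpowers x⟩ * lam⁻¹ ∈ _ :=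
    hlamX (conj_mem_cj ⟨_, rfl⟩)
  obtain ⟨h, hh, hhv⟩ := mem_autInducedBy_iff.1 h1.1.1
  refine ⟨h, hh, fun a hxa => ?_⟩
  have h3 := hhv (lam (e' a))
  rw [← h3]
  have e5 : f ⟨x, Subgroup.mem_zpowers x⟩ (e' a) = e' ⟨_, hxa⟩ := hfv _ a
  simp only [MulAut.mul_apply, MulAut.inv_apply_self, e5]

/-- A stability lemma: an automorphism of `T` fixing `R` elementwise has `p`-power order, if
`R` is normal in `T` and contains its centralizer in `S`. -/
theorem pow_card_eq_one_of_fix {R T : Subgroup Ω} (hRT : R ≤ T) (hTS : T ≤ S)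
    (hTN : T ≤ Subgroup.normalizer (R : Set Ω)) (hC : centralizerIn S R ≤ R) {δ : MulAut T}
    (hδ : δ ∈ fixIn T R) : δ ^ Nat.card R = 1 := by
  have hR : Finite R := finite_of_le (hRT.trans hTS)
  have hz : ∀ t : T, (t : Ω)⁻¹ * (δ t : T) ∈ R := by
    intro t
    apply hC
    refine ⟨S.mul_mem (S.inv_mem (hTS t.2)) (hTS (δ t).2), ?_⟩
    show _ ∈ Subgroup.centralizer (R : Set Ω)
    rw [Subgroup.mem_centralizer_iff]
    intro r hr
    have hrR : r ∈ R := hr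
    have h1 : (t : Ω) * r * (t : Ω)⁻¹ ∈ R := (Subgroup.mem_normalizer_iff.1 (hTN t.2) r).1 hrR
    have h2 := hδ ⟨_, hRT h1⟩ h1
    have h3 : (⟨(t : Ω) * r * (t : Ω)⁻¹, hRT h1⟩ : T) = t * ⟨r, hRT hrR⟩ * t⁻¹ := rfl
    rw [h3, map_mul, map_mul, map_inv] at h2
    have h4 : δ ⟨r, hRT hrR⟩ = ⟨r, hRT hrR⟩ := Subtype.ext (hδ _ hrR)
    rw [h4] at h2
    have h5 : ((δ t : T) : Ω) * r * ((δ t : T) : Ω)⁻¹ = (t : Ω) * r * (t : Ω)⁻¹ := h2
    have h6 : ((t : Ω)⁻¹ * (δ t : T)) * r = r * ((t : Ω)⁻¹ * (δ t : T)) := by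
      have : ((δ t : T) : Ω) * r = (t : Ω) * r * (t : Ω)⁻¹ * ((δ t : T) : Ω) := by
        rw [← h5]
        group
      calc ((t : Ω)⁻¹ * (δ t : T)) * r = (t : Ω)⁻¹ * (((δ t : T) : Ω) * r) := by group
        _ = (t : Ω)⁻¹ * ((t : Ω) * r * (t : Ω)⁻¹ * ((δ t : T) : Ω)) := by rw [this]
        _ = _ := by group
    exact h6.symm
  ext t
  have hpow : ∀ m : ℕ, (((δ ^ m) t : T) : Ω) = (t : Ω) * ((t : Ω)⁻¹ * (δ t : T)) ^ m := by
    intro m
    induction m with
    | zero => simp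
    | succ m ih =>
      have e1 : (δ ^ (m + 1)) t = δ ((δ ^ m) t) := by
        rw [pow_succ']
        rfl
      rw [e1]
      set z : Ω := (t : Ω)⁻¹ * (δ t : T) with hzdef
      have hzR : z ∈ R := hz t
      have e2 : (δ ^ m) t = t * ⟨z, hRT hzR⟩ ^ m := Subtype.ext (by rw [ih]; simp)
      rw [e2, map_mul, map_pow]
      have h4 : δ ⟨z, hRT hzR⟩ = ⟨z, hRT hzR⟩ := Subtype.ext (hδ _ hzR)
      rw [h4]
      simp only [Subgroup.coe_mul, Subgroup.coe_pow]
      rw [pow_succ', ← mul_assoc]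
      congr 1
      rw [hzdef]
      group
  have h0 := hpow (Nat.card R)
  have h1 : ((t : Ω)⁻¹ * (δ t : T)) ^ Nat.card R = 1 := by
    have := pow_card_eq_one' (G := R) (x := ⟨_, hz t⟩)
    exact congrArg Subtype.val this
  rw [h1, mul_one] at h0
  exact h0

/-- Elements inducing `O_p(Aut_F(R))` on a centric `R` are good. -/
theorem good_of_pCore (hS : IsPGroup p S) {R : Subgroup Ω} {x : Ω} (hC : F.IsCentric R) (hxS : x ∈ S)
    (hxR : x ∈ Subgroup.normalizer (R : Set Ω))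
    (hm : normConj x hxR ∈ ((pCore p (F.autGroup R)).map (F.autGroup R).subtype : Subgroup (MulAut R))) :
    GoodX F p R x := by
  intro T' R₅ A e e' he' he hRA hAN hxN hem hT'S hN
  have : Finite (MulAut T') := finite_mulAut hT'S
  have hBS : Subgroup.zpowers x ≤ S := (Subgroup.zpowers_le).2 hxS
  have hBA : Subgroup.zpowers x ≤ Subgroup.normalizer (A : Set Ω) := (Subgroup.zpowers_le).2 hxN
  have hBR : Subgroup.zpowers x ≤ Subgroup.normalizer (R : Set Ω) := (Subgroup.zpowers_le).2 hxR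
  obtain ⟨hmem, hf⟩ := tau_facts e' he' he hRA hem hBS hBA hBR
  let τ : MulAut T' := MulAut.congr e' (normHom A _ hBA ⟨x, Subgroup.mem_zpowers x⟩)
  have hτv : ∀ a : A, τ (e' a) = e' (normHom A _ hBA ⟨x, Subgroup.mem_zpowers x⟩ a) := by
    intro a
    show e' ((normHom A _ hBA ⟨x, Subgroup.mem_zpowers x⟩) (e'.symm (e' a))) = _
    rw [MulEquiv.symm_apply_apply]
  have hτH : τ ∈ F.autGroup T' ⊓ stabIn T' R₅ := hf _
  have hinj := F.injective_of_mem he
  have hR₅T : R₅ ≤ T' := by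
    rw [← hem]
    rintro _ ⟨a, -, rfl⟩
    rw [← he']
    exact (e' a).2
  have hT'N : T' ≤ Subgroup.normalizer (R₅ : Set Ω) := by
    intro t ht
    obtain ⟨a, ha⟩ := e'.surjective ⟨t, ht⟩
    have e1 : t = e a := by
      rw [← he', ha]
    rw [e1]
    exact map_mem_normalizer hem a (hAN a.2).2
  have hconj : F.IsConj R R₅ := isConj_of_map he hRA hem
  have hCR₅ : centralizerIn S R₅ ≤ R₅ := hC.2 R₅ hconj
  have hR₅S : R₅ ≤ S := Basic.IsConj.le_right hconj
  have : Finite (F.autGroup R₅) := finite_autGroup hR₅S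
  let H₅ : Subgroup (MulAut T') := F.autGroup T' ⊓ stabIn T' R₅
  let Ξ₅ : Subgroup (MulAut R₅) := (pCore p (F.autGroup R₅)).map (F.autGroup R₅).subtype
  let L : Subgroup (MulAut T') := H₅ ⊓ preIm hR₅T Ξ₅
  have hLnorm : ∀ n ∈ H₅, ∀ l ∈ L, n * l * n⁻¹ ∈ L := by
    intro n hn l hl
    have hmemH : n * l * n⁻¹ ∈ H₅ := H₅.mul_mem (H₅.mul_mem hn hl.1) (H₅.inv_mem hn)
    refine ⟨hmemH, mem_preIm.2 ⟨hmemH.2, ?_⟩⟩
    obtain ⟨hl1, hl2⟩ := mem_preIm.1 hl.2
    have e1 : resAut hR₅T (n * l * n⁻¹) hmemH.2 =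
        resAut hR₅T n hn.2 * resAut hR₅T l hl1 * (resAut hR₅T n hn.2)⁻¹ := by
      have e2 : (⟨n * l * n⁻¹, hmemH.2⟩ : stabIn T' R₅) = ⟨n, hn.2⟩ * ⟨l, hl1⟩ * ⟨n, hn.2⟩⁻¹ := rfl
      have e3 : resAut hR₅T (n * l * n⁻¹) hmemH.2 = resHom hR₅T ⟨n * l * n⁻¹, hmemH.2⟩ := rfl
      rw [e3, e2, map_mul, map_mul, map_inv]
      rfl
    rw [e1]
    exact pCore_map_invariant (resAut_mem_autGroup hT'S hR₅T hn.2 hn.1) hl2
  have hLp : IsPGroup p L := by
    rintro ⟨δ, hδH, hδp⟩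
    obtain ⟨hδs, ρ₀, hρ₀, hρe⟩ := mem_preIm.1 hδp
    obtain ⟨k, hk⟩ := Cfsg.Agent.Lib.Basic.PCore.pCore_isPGroup p (G := F.autGroup R₅) ⟨ρ₀, hρ₀⟩
    have hk' : (ρ₀ : MulAut R₅) ^ p ^ k = 1 := by
      have := congrArg (fun z : pCore p (F.autGroup R₅) => ((z : F.autGroup R₅) : MulAut R₅)) hk
      simpa using this
    have hρe' : (ρ₀ : MulAut R₅) = resHom hR₅T ⟨δ, hδs⟩ := hρe
    rw [hρe', ← map_pow] at hk'
    have hfix : δ ^ p ^ k ∈ fixIn T' R₅ := by
      intro t ht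
      have e1 := DFunLike.congr_fun hk' ⟨t, ht⟩
      have e2 := congrArg (fun z : R₅ => (z : Ω)) e1
      exact e2
    have h2 := pow_card_eq_one_of_fix hR₅T hT'S hT'N hCR₅ hfix
    have : Finite R₅ := finite_of_le hR₅S
    obtain ⟨a, ha⟩ := IsPGroup.iff_card.1 (hS.to_le hR₅S)
    refine ⟨k + a, Subtype.ext ?_⟩
    show δ ^ p ^ (k + a) = 1
    rw [pow_add, pow_mul, ← ha]
    exact h2
  have hLK := le_of_isSylowIn_of_normal inf_le_left hN hLp hLnorm
  -- `τ` lies in `L`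
  let ρ : R →* Ω := e.comp (Subgroup.inclusion hRA)
  have hρ : ρ ∈ F.Hom R := res_mem he hRA
  have hρr : ρ.range = R₅ := by
    refine Eq.trans ?_ hem
    ext y
    constructor
    · rintro ⟨x, rfl⟩
      exact ⟨Subgroup.inclusion hRA x, x.2, rfl⟩
    · rintro ⟨x, hx, rfl⟩
      exact ⟨⟨x, hx⟩, rfl⟩
  obtain ⟨ω, hω, hωr, h1, h2⟩ := exists_inv hρ hρr
  have hωv : ∀ y, ω y ∈ R := fun y => (SetLike.ext_iff.1 hωr _).1 ⟨y, rfl⟩
  let eR : R ≃* R₅ := isoOfRange (F.injective_of_mem hρ) hρr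
  have heR : ∀ r, ((eR r : R₅) : Ω) = ρ r := fun _ => rfl
  have heRs : ∀ y : R₅, ((eR.symm y : R) : Ω) = ω y := by
    intro y
    have e1 : eR ⟨ω y, hωv y⟩ = y := Subtype.ext (h2 y (hωv y))
    have e2 := (MulEquiv.symm_apply_eq eR).2 e1.symm
    rw [e2]
  have hτres : resAut hR₅T τ hτH.2 ∈ Ξ₅ := by
    refine mem_pCore_of_conj hω eR.symm heRs ?_
    have e1 : MulAut.congr eR.symm (resAut hR₅T τ hτH.2) = normConj x hxR := by
      ext r
      have e2 : (MulAut.congr eR.symm (resAut hR₅T τ hτH.2)) r = eR.symm (resAut hR₅T τ hτH.2 (eR r)) := rfl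
      rw [e2]
      have hrA : (r : Ω) ∈ A := hRA r.2
      have e3 : (⟨((eR r : R₅) : Ω), hR₅T (eR r).2⟩ : T') = e' ⟨r, hrA⟩ := Subtype.ext (he' _).symm
      have e4 : resAut hR₅T τ hτH.2 (eR r) = eR (normConj x hxR r) := by
        apply Subtype.ext
        rw [resAut_apply, e3, hτv, he']
        rfl
      rw [e4]
      simp
    rw [e1]
    exact hm
  have hτK := hLK ⟨hτH, mem_preIm.2 ⟨hτH.2, hτres⟩⟩
  obtain ⟨h, hh, hhv⟩ := mem_autInducedBy_iff.1 hτK.1
  refine ⟨1, (F.autGroup T').one_mem, fun t _ => rfl, h, hh, fun a hx => ?_⟩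
  have h3 := hhv (e' a)
  rw [hτv] at h3
  exact h3

/-- Growth inside a normal subgroup. -/
theorem exists_normalizing (hS : IsPGroup p S) {N U A : Subgroup Ω} (hNS : N ≤ S) (hUN : U ≤ N) (hAN : A ≤ N)
    (hU : N ≤ Subgroup.normalizer (U : Set Ω)) (hUA : ¬ U ≤ A) :
    ∃ x ∈ U, x ∉ A ∧ x ∈ Subgroup.normalizer (A : Set Ω) := by
  have hWS : A ⊔ U ≤ S := sup_le (hAN.trans hNS) (hUN.trans hNS)
  have : Finite ↥(A ⊔ U) := finite_of_le hWS
  have hlt : A < A ⊔ U := lt_of_le_of_ne le_sup_left (fun e => hUA (by rw [e]; exact le_sup_right))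
  have hgrow := lt_normalizerIn (hS.to_le hWS) hlt
  obtain ⟨y, hy, hyA⟩ := SetLike.exists_of_lt hgrow
  obtain ⟨a, ha, u, hu, rfl⟩ := exists_mul_of_mem_sup (hAN.trans hU) hy.1
  refine ⟨u, hu, fun h => hyA (A.mul_mem ha h), ?_⟩
  have h1 : a⁻¹ * (a * u) ∈ Subgroup.normalizer (A : Set Ω) :=
    Subgroup.mul_mem _ (Subgroup.inv_mem _ (Subgroup.le_normalizer ha)) hy.2
  simpa using h1

/-- The subgroup of `N_S(R)` inducing `Ξ` on `R`. -/
noncomputable def TOf (S R : Subgroup Ω) (Ξ : Subgroup (MulAut R)) : Subgroup Ω :=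
  (Ξ.comap (normHom R (normalizerIn S R) inf_le_right)).map (normalizerIn S R).subtype

omit [Finite S] [Fact p.Prime] in
theorem mem_TOf {R : Subgroup Ω} {Ξ : Subgroup (MulAut R)} {x : Ω} :
    x ∈ TOf S R Ξ ↔ ∃ h : x ∈ normalizerIn S R, normConj x h.2 ∈ Ξ := by
  constructor
  · rintro ⟨⟨x, hN⟩, hm, rfl⟩
    exact ⟨hN, hm⟩
  · rintro ⟨hN, hm⟩
    exact ⟨⟨x, hN⟩, hm, rfl⟩

/-- Transport of `O_p` along arrows. -/
theorem transport_pCore {Q R : Subgroup Ω} (hQS : Q ≤ S) {g : normalizerIn S Q →* Ω}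
    (hg : g ∈ F.Hom (normalizerIn S Q)) (hgm : (Q.subgroupOf (normalizerIn S Q)).map g = R)
    (y : normalizerIn S Q)
    (hy : normConj (y : Ω) y.2.2 ∈ ((pCore p (F.autGroup Q)).map (F.autGroup Q).subtype : Subgroup (MulAut Q)))
    (hgy : g y ∈ Subgroup.normalizer (R : Set Ω)) :
    normConj (g y) hgy ∈ ((pCore p (F.autGroup R)).map (F.autGroup R).subtype : Subgroup (MulAut R)) := by
  have hQN := le_normalizerIn hQS
  let ρ : Q →* Ω := g.comp (Subgroup.inclusion hQN)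
  have hρ : ρ ∈ F.Hom Q := res_mem hg hQN
  have hρv : ∀ q : Q, ρ q = g ⟨q, hQN q.2⟩ := fun _ => rfl
  have hρr : ρ.range = R := by
    refine Eq.trans ?_ hgm
    ext z
    constructor
    · rintro ⟨x, rfl⟩
      exact ⟨Subgroup.inclusion hQN x, x.2, rfl⟩
    · rintro ⟨x, hx, rfl⟩
      exact ⟨⟨x, hx⟩, rfl⟩
  obtain ⟨ω, hω, hωr, h1, h2⟩ := exists_inv hρ hρr
  have hωv : ∀ z, ω z ∈ Q := fun z => (SetLike.ext_iff.1 hωr _).1 ⟨z, rfl⟩
  let eR : Q ≃* R := isoOfRange (F.injective_of_mem hρ) hρr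
  have heRs : ∀ z : R, ((eR.symm z : Q) : Ω) = ω z := by
    intro z
    have e1 : eR ⟨ω z, hωv z⟩ = z := Subtype.ext (h2 z (hωv z))
    have e2 := (MulEquiv.symm_apply_eq eR).2 e1.symm
    rw [e2]
  refine mem_pCore_of_conj hω eR.symm heRs ?_
  have e1 : MulAut.congr eR.symm (normConj (g y) hgy) = normConj (y : Ω) y.2.2 := by
    ext q
    have e2 : (MulAut.congr eR.symm (normConj (g y) hgy)) q = eR.symm (normConj (g y) hgy (eR q)) := rfl
    rw [e2]
    have e4 : normConj (g y) hgy (eR q) = eR (normConj (y : Ω) y.2.2 q) := by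
      apply Subtype.ext
      show g y * ρ q * (g y)⁻¹ = ρ _
      rw [hρv, hρv, ← map_inv, ← map_mul, ← map_mul]
      rfl
    rw [e4]
    simp
  rw [e1]
  exact hy

/-- The class-level saturation theorem. -/
theorem classSat_of_not_mem (hS : IsPGroup p S) {ℋ : Set (Subgroup Ω)}
    (hgen : ∀ E : FusionSystem S, (∀ P ∈ ℋ, F.Hom P ⊆ E.Hom P) → F ≤ E) {R₀ : Subgroup Ω} (hR₀ : R₀ ≤ S)
    (hL : ∀ T : Subgroup Ω, T ≤ S → Nat.card R₀ < Nat.card T → ClassSat F p T)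
    (hCl : ∀ Q, F.IsConj R₀ Q → Q ∉ ℋ ∧ Q < S)
    (hstar : F.IsCentric R₀ → ∃ Q, F.IsConj R₀ Q ∧
      ¬ (autInducedBy S Q ⊓ (pCore p (F.autGroup Q)).map (F.autGroup Q).subtype ≤ Inn Q)) :
    ClassSat F p R₀ := by
  obtain ⟨R, hR₀R, hRfn⟩ := exists_fullyNormalized (F := F) hR₀
  have hRS := hRfn.1
  have hcardR : Nat.card R₀ = Nat.card R := Basic.IsConj.card_eq hR₀R
  have hArrow : ∀ Q, F.IsConj R Q → Arrow F Q R := fun Q hQ =>
    arrow_to_fn hS hgen hL hCl hRfn hR₀R (Basic.IsConj.trans hR₀R hQ)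
  have hClR : ∀ Q, F.IsConj R Q → Q ∉ ℋ ∧ Q < S := fun Q hQ => hCl Q (Basic.IsConj.trans hR₀R hQ)
  have hLR : ∀ T : Subgroup Ω, T ≤ S → Nat.card R < Nat.card T → ClassSat F p T := by
    intro T hT hc
    exact hL T hT (by omega)
  have hRN := le_normalizerIn hRS
  have hNfin : Finite (normalizerIn S R) := finite_of_le normalizerIn_le
  -- the common conclusion
  have key : ∀ {Ξ : Subgroup (MulAut R)} (C : Core F R (TOf S R Ξ) Ξ), (∃ x ∈ TOf S R Ξ, x ∉ R) →
      (∀ A : Subgroup Ω, R ≤ A → A ≤ normalizerIn S R → ¬ TOf S R Ξ ≤ A →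
        ∃ x ∈ TOf S R Ξ, x ∉ A ∧ x ∈ Subgroup.normalizer (A : Set Ω) ∧ GoodX F p R x) →
      ClassSat F p R₀ := by
    intro Ξ C hbig hgrow
    have hExt := ext_all hS hgen C hLR hClR hArrow hgrow
    obtain ⟨x, hxT, hxR⟩ := hbig
    have hlt : R < TOf S R Ξ := lt_of_le_of_ne C.hRT (fun e => hxR (by rw [e]; exact hxT))
    have : Finite (TOf S R Ξ) := finite_of_le C.le_S
    have hc := card_lt_of_lt hlt
    obtain ⟨h1, h2⟩ := fa_rec_of_ext hS C hRfn
      (fun T' hT' => hLR T' (Basic.IsConj.le_right hT') (by rw [← Basic.IsConj.card_eq hT']; exact hc))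
      hArrow hExt
    exact ⟨R, hR₀R, h1, h2⟩
  by_cases hc : F.IsCentric R₀
  · have hcR : F.IsCentric R :=
      ⟨hRS, fun Q hQ => hc.2 Q (Basic.IsConj.trans hR₀R hQ)⟩
    obtain ⟨Q, hQ, hQnot⟩ := hstar hc
    obtain ⟨a, ⟨ha1, ha2⟩, ha3⟩ := SetLike.not_le_iff_exists.1 hQnot
    have hRQ : F.IsConj R Q := Basic.IsConj.trans (Basic.IsConj.symm hR₀R) hQ
    have hQS : Q ≤ S := Basic.IsConj.le_right hQ
    obtain ⟨g, hg, hgv, hgm⟩ := hArrow Q hRQ
    obtain ⟨y, hy, hyv⟩ := mem_autInducedBy_iff.1 ha1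
    have hyN : y ∈ normalizerIn S Q := ⟨hy, mem_normalizer_of_aut hyv⟩
    have ha : a = normConj y hyN.2 := by
      ext q
      exact hyv q
    let Ξ : Subgroup (MulAut R) := (pCore p (F.autGroup R)).map (F.autGroup R).subtype
    have C : Core F R (TOf S R Ξ) Ξ := by
      refine ⟨hRS, ?_, fun γ hγ ξ hξ => pCore_map_invariant hγ hξ, fun x => mem_TOf⟩
      intro r hr
      refine mem_TOf.2 ⟨hRN hr, ?_⟩
      refine inn_le_pCore_map hS hRS ⟨⟨r, hr⟩, ?_⟩
      ext z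
      rfl
    refine key C ⟨g ⟨y, hyN⟩, mem_TOf.2 ⟨hgv _, ?_⟩, ?_⟩ ?_
    · refine transport_pCore hQS hg hgm ⟨y, hyN⟩ ?_ (hgv _).2
      rw [← ha]
      exact ha2
    · intro hmem
      rw [← hgm] at hmem
      obtain ⟨q, hq, hqe⟩ := hmem
      have e1 := F.injective_of_mem hg hqe
      have hyQ : y ∈ Q := by
        have h9 : (q : Ω) = y := congrArg Subtype.val e1
        rw [← h9]
        exact hq
      apply ha3
      refine ⟨⟨y, hyQ⟩, ?_⟩
      rw [ha]
      ext z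
      rfl
    · intro A hRA hAN hTA
      obtain ⟨x, hxT, hxA, hxN⟩ := exists_normalizing hS normalizerIn_le C.le_normalizerIn hAN
        C.normalizer_le hTA
      refine ⟨x, hxT, hxA, hxN, ?_⟩
      obtain ⟨hN, hm⟩ := mem_TOf.1 hxT
      exact good_of_pCore hS hcR hN.1 hN.2 hm
  · -- the non-centric case
    have hc2 : ¬ ∀ Q, F.IsConj R₀ Q → centralizerIn S Q ≤ Q := fun h => hc ⟨hR₀, h⟩
    push_neg at hc2
    obtain ⟨Q, hQ, hQnot⟩ := hc2
    obtain ⟨y, hy, hyQ⟩ := SetLike.not_le_iff_exists.1 hQnot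
    have hRQ : F.IsConj R Q := Basic.IsConj.trans (Basic.IsConj.symm hR₀R) hQ
    have hQS : Q ≤ S := Basic.IsConj.le_right hQ
    obtain ⟨g, hg, hgv, hgm⟩ := hArrow Q hRQ
    have hyN : y ∈ normalizerIn S Q := centralizerIn_le_normalizerIn hy
    have hCN : centralizerIn S R ≤ normalizerIn S R := centralizerIn_le_normalizerIn
    let Ξ : Subgroup (MulAut R) := Inn R
    have hΞ : ∀ γ ∈ F.autGroup R, ∀ ξ ∈ Ξ, γ * ξ * γ⁻¹ ∈ Ξ := by
      rintro γ - _ ⟨z, rfl⟩
      refine ⟨γ z, ?_⟩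
      ext w
      simp [MulAut.mul_apply, MulAut.conj_apply]
    have C : Core F R (TOf S R Ξ) Ξ := by
      refine ⟨hRS, ?_, hΞ, fun x => mem_TOf⟩
      intro r hr
      refine mem_TOf.2 ⟨hRN hr, ⟨⟨r, hr⟩, ?_⟩⟩
      ext z
      rfl
    have hCT : centralizerIn S R ≤ TOf S R Ξ := by
      intro c hc'
      refine mem_TOf.2 ⟨hCN hc', ⟨1, ?_⟩⟩
      ext z
      have := Subgroup.mem_centralizer_iff.1 hc'.2 z z.2
      have e0 : (MulAut.conj (1 : R)) z = z := by simp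
      rw [e0]
      show (z : Ω) = c * z * c⁻¹
      rw [← this]
      simp
    have hgyC : g ⟨y, hyN⟩ ∈ centralizerIn S R :=
      ⟨map_mem_S hg _, map_mem_centralizer hgm ⟨y, hyN⟩ hy.2⟩
    refine key C ⟨g ⟨y, hyN⟩, hCT hgyC, ?_⟩ ?_
    · intro hmem
      rw [← hgm] at hmem
      obtain ⟨q, hq, hqe⟩ := hmem
      have e1 := F.injective_of_mem hg hqe
      apply hyQ
      have : (q : Ω) = y := congrArg Subtype.val e1
      rw [← this]
      exact hq
    · intro A hRA hAN hTA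
      have hCA : ¬ centralizerIn S R ≤ A := by
        intro hle
        apply hTA
        intro x hx
        obtain ⟨hN, z, hz⟩ := mem_TOf.1 hx
        have hzc : (z : Ω)⁻¹ * x ∈ centralizerIn S R := by
          refine ⟨S.mul_mem (S.inv_mem (hRS z.2)) hN.1, ?_⟩
          show _ ∈ Subgroup.centralizer (R : Set Ω)
          rw [Subgroup.mem_centralizer_iff]
          intro r hr
          have e2 := DFunLike.congr_fun hz ⟨r, hr⟩
          have e3 : (z : Ω) * r * (z : Ω)⁻¹ = x * r * x⁻¹ := congrArg (fun w : R => (w : Ω)) e2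
          have e4 : (x : Ω) * r = (z : Ω) * r * (z : Ω)⁻¹ * x := by
            rw [e3]
            group
          calc r * ((z : Ω)⁻¹ * x) = (z : Ω)⁻¹ * ((z : Ω) * r * (z : Ω)⁻¹ * x) := by group
            _ = (z : Ω)⁻¹ * (x * r) := by rw [e4]
            _ = _ := by group
        have := A.mul_mem (hRA z.2) (hle hzc)
        simpa using this
      have hCnorm : normalizerIn S R ≤ Subgroup.normalizer (centralizerIn S R : Set Ω) := by
        intro n hn
        rw [Subgroup.mem_normalizer_iff]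
        have hkey : ∀ n ∈ normalizerIn S R, ∀ c ∈ centralizerIn S R, n * c * n⁻¹ ∈ centralizerIn S R := by
          intro n hn c hc'
          refine ⟨S.mul_mem (S.mul_mem hn.1 hc'.1) (S.inv_mem hn.1), ?_⟩
          show _ ∈ Subgroup.centralizer (R : Set Ω)
          rw [Subgroup.mem_centralizer_iff]
          intro r hr
          have h1 : n⁻¹ * r * n ∈ R := by
            have := (Subgroup.mem_normalizer_iff.1 ((normalizerIn S R).inv_mem hn).2 r).1 hr
            simpa using this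
          have h2 := Subgroup.mem_centralizer_iff.1 hc'.2 _ h1
          calc r * (n * c * n⁻¹) = n * ((n⁻¹ * r * n) * c) * n⁻¹ := by group
            _ = n * (c * (n⁻¹ * r * n)) * n⁻¹ := by rw [h2]
            _ = _ := by group
        intro c
        constructor
        · exact hkey n hn c
        · intro h
          have := hkey n⁻¹ ((normalizerIn S R).inv_mem hn) _ h
          simpa [mul_assoc] using this
      obtain ⟨x, hxC, hxA, hxN⟩ := exists_normalizing hS normalizerIn_le hCN hAN hCnorm hCA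
      exact ⟨x, hCT hxC, hxA, hxN, good_of_centralizer hS hxC⟩

/-- The saturation criterion. -/
theorem isSaturated_of_family (hS : IsPGroup p S) (ℋ : Set (Subgroup Ω)) (hℋS : ∀ P ∈ ℋ, P ≤ S)
    (hℋconj : ∀ P ∈ ℋ, ∀ Q, F.IsConj P Q → Q ∈ ℋ)
    (hsat : ∀ P ∈ ℋ, ∃ Q, F.IsConj P Q ∧ F.IsFullyAutomized p Q ∧ F.IsReceptive Q)
    (hgen : ∀ E : FusionSystem S, (∀ P ∈ ℋ, F.Hom P ⊆ E.Hom P) → F ≤ E)
    (hstar : ∀ P : Subgroup Ω, F.IsCentric P → P ∉ ℋ → ∃ Q, F.IsConj P Q ∧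
      ¬ (autInducedBy S Q ⊓ (pCore p ↥(F.autGroup Q)).map (F.autGroup Q).subtype ≤ Inn Q)) :
    F.IsSaturated p := by
  have hSℋ : S ∈ ℋ := by
    by_contra hS'
    have hSC : F.IsCentric S := by
      refine ⟨le_rfl, fun Q hQ => ?_⟩
      have hQS := Basic.IsConj.le_right hQ
      have : Q = S := Subgroup.eq_of_le_of_card_ge hQS (Basic.IsConj.card_eq hQ).le
      rw [this]
      exact inf_le_left
    obtain ⟨Q, hQ, hQn⟩ := hstar S hSC hS'
    have hQS := Basic.IsConj.le_right hQ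
    have : Q = S := Subgroup.eq_of_le_of_card_ge hQS (Basic.IsConj.card_eq hQ).le
    subst this
    apply hQn
    rintro α ⟨hα, -⟩
    obtain ⟨y, hy, hyv⟩ := mem_autInducedBy_iff.1 hα
    refine ⟨⟨y, hy⟩, ?_⟩
    ext z
    exact (hyv z).symm
  have key : ∀ m (P : Subgroup Ω), Nat.card S - Nat.card P = m → P ≤ S → ClassSat F p P := by
    intro m
    induction m using Nat.strong_induction_on with
    | _ m ih =>
    intro P hm hP
    by_cases hPℋ : P ∈ ℋ
    · exact hsat P hPℋ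
    refine classSat_of_not_mem hS hgen hP ?_ ?_ (fun hc => hstar P hc hPℋ)
    · intro T hT hc
      have := card_le_S hT
      exact ih (Nat.card S - Nat.card T) (by omega) T rfl hT
    · intro Q hQ
      have hQ1 : Q ∉ ℋ := fun h => hPℋ (hℋconj Q h P (Basic.IsConj.symm hQ))
      refine ⟨hQ1, lt_of_le_of_ne (Basic.IsConj.le_right hQ) (fun e => hQ1 (e ▸ hSℋ))⟩
  intro P hP
  exact key _ P rfl hP

end Main

end Cfsg.Agent.Lib.Fusion.SatCrit
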