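/-
Subsystems of index prime to `p`, part 3: existence of the `p'`-residual subsystem.

The system is `Γ⁰ · G`, with `G` generated by `O^{p'}(Aut_F(R))`, `R` centric, and `Γ⁰` generated by the `β ∈ Aut_F(S)`
whose restriction to some centric subgroup is a map of `G`.
-/
import Mathlib
import Cfsg.Prelude.Def_FusionComponents
import Cfsg.Agent.Lib.Fusion.Basic
import Cfsg.Agent.Lib.Fusion.Saturated
import Cfsg.Agent.Lib.Fusion.Alperin
import Cfsg.Agent.Lib.Fusion.Centric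
import Cfsg.Agent.Lib.Fusion.Subsystem
import Cfsg.Agent.Lib.Fusion.SatCrit8
import Cfsg.Agent.Lib.Fusion.PPrime2

set_option autoImplicit false

namespace Cfsg.Agent.Lib.Fusion.PPrime

open Cfsg Cfsg.FusionSystem Cfsg.Agent.Lib.Fusion.Basic Cfsg.Agent.Lib.Fusion.Saturated
open Cfsg.Agent.Lib.Fusion.SatCrit (imgOf mem_imgOf imgOf_le)
open Cfsg.Agent.Lib.Fusion.Alperin (lt_normalizerIn isFullyNormalized_of_good)
open Cfsg.Agent.Lib.Fusion.Centric (isCentric_of_le eq_comp_conj_of_agree)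
open Cfsg.Agent.Lib.Fusion.Subsystem (isCentric_of_isConj)

variable {Ω : Type*} [Group Ω] {S : Subgroup Ω} {F : FusionSystem S}

/-- An automorphism of `S` carries the normalizer of `A` into the normalizer of `B`, if it carries `A` to `B`. -/
theorem apply_mem_normalizer {A B : Subgroup Ω} (hA : A ≤ S) (hB : B ≤ S) (β : MulAut S)
    (h : ∀ s : S, (s : Ω) ∈ A ↔ ((β s : S) : Ω) ∈ B) {g : S} (hg : (g : Ω) ∈ Subgroup.normalizer (A : Set Ω)) :
    ((β g : S) : Ω) ∈ Subgroup.normalizer (B : Set Ω) := by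
  rw [Subgroup.mem_normalizer_iff]
  intro t
  by_cases ht : t ∈ S
  · obtain ⟨u, rfl⟩ : ∃ u : S, ((β u : S) : Ω) = t := ⟨β⁻¹ ⟨t, ht⟩, by simp⟩
    have e2 : ((β g : S) : Ω) * ((β u : S) : Ω) * ((β g : S) : Ω)⁻¹ = ((β (g * u * g⁻¹) : S) : Ω) := by
      simp
    rw [e2, ← h, ← h]
    exact (Subgroup.mem_normalizer_iff.1 hg) _
  · constructor
    · intro hh
      exact absurd (hB hh) ht
    · intro hh
      exfalso
      apply ht
      have h1 := hB hh
      have h2 : t = ((β g : S) : Ω)⁻¹ * (((β g : S) : Ω) * t * ((β g : S) : Ω)⁻¹) * ((β g : S) : Ω) := by group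
      rw [h2]
      exact S.mul_mem (S.mul_mem (S.inv_mem (β g).2) h1) (β g).2

theorem imgOf_iff (β : MulAut S) (P : Subgroup Ω) (s : S) : (s : Ω) ∈ P ↔ ((β s : S) : Ω) ∈ imgOf β P :=
  (apply_mem_imgOf β s).symm

theorem card_normalizerIn_le [Finite S] {A B : Subgroup Ω} (hA : A ≤ S) (hB : B ≤ S) (β : MulAut S)
    (h : ∀ s : S, (s : Ω) ∈ A ↔ ((β s : S) : Ω) ∈ B) : Nat.card (normalizerIn S A) ≤ Nat.card (normalizerIn S B) := by
  haveI : Finite (normalizerIn S B) := finite_of_le normalizerIn_le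
  refine Nat.card_le_card_of_injective
    (fun x : normalizerIn S A => (⟨β ⟨x, x.2.1⟩, (β ⟨x, x.2.1⟩).2,
      apply_mem_normalizer hA hB β h (g := ⟨x, x.2.1⟩) x.2.2⟩ : normalizerIn S B)) ?_
  intro x y hxy
  have h1 := congrArg (fun z : normalizerIn S B => (z : Ω)) hxy
  have h2 : β ⟨x, x.2.1⟩ = β ⟨y, y.2.1⟩ := Subtype.ext h1
  have h3 := β.injective h2
  exact Subtype.ext (congrArg (fun z : S => (z : Ω)) h3)

section Main

variable [Finite S] {p : ℕ} [Fact p.Prime]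

/-- If `D ≤ F` is saturated, and an element of `Aut_F(S)` restricts to a map of `D` on an `F`-centric subgroup,
then it lies in `Aut_D(S)`. -/
theorem mem_autGroup_of_res (hS : IsPGroup p S) (hF : F.IsSaturated p) {D : FusionSystem S} (hD : D.IsSaturated p)
    (hDF : D ≤ F) {β : MulAut S} (hβ : β ∈ F.autGroup S) :
    ∀ (n : ℕ) (R : Subgroup Ω) (hR : F.IsCentric R), Nat.card S - Nat.card R = n → resA β hR.1 ∈ D.Hom R →
      β ∈ D.autGroup S := by
  intro n
  induction n using Nat.strong_induction_on with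
  | _ n ih =>
  intro R hR hn hres
  have hRS : R ≤ S := hR.1
  by_cases hRe : R = S
  · subst hRe
    refine mem_autGroup_of_mem (mem_of_eq_res hres le_rfl (fun x => rfl))
  -- the target
  have hr : (resA β hRS).range = imgOf β R := range_resA β hRS
  obtain ⟨Rs, hRs, hRa, hRr⟩ := hD (imgOf β R) (imgOf_le β R)
  obtain ⟨ω, hω, hωv, hωm⟩ := exists_map_normalizerIn hS hRa hRr hRs
  have hcases : ∀ g : S, (g : Ω) ∈ Subgroup.normalizer (R : Set Ω) →
      ((β g : S) : Ω) ∈ normalizerIn S (imgOf β R) := fun g hg =>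
    ⟨(β g).2, apply_mem_normalizer hRS (imgOf_le β R) β (imgOf_iff β R) hg⟩
  -- the composite `τ₂ = ω ∘ β` on `N_S(R)`
  let j : normalizerIn S R →* normalizerIn S (imgOf β R) :=
    MonoidHom.codRestrict (resA β normalizerIn_le) _
      (fun x => hcases ⟨x, x.2.1⟩ x.2.2)
  have hj : ∀ x : normalizerIn S R, ((j x : normalizerIn S (imgOf β R)) : Ω) = β ⟨x, x.2.1⟩ := fun x => rfl
  let τ₂ : normalizerIn S R →* Ω := ω.comp j
  have hjF : (resA β normalizerIn_le : normalizerIn S R →* Ω) ∈ F.Hom (normalizerIn S R) := resA_mem hβ normalizerIn_le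
  have hτ₂F : τ₂ ∈ F.Hom (normalizerIn S R) := comp_mem' hjF (hDF _ hω) (fun x => (j x).2) (fun x => rfl)
  -- `τ` on `R`
  have hRN : R ≤ normalizerIn S R := le_normalizerIn hRS
  have hR'N : imgOf β R ≤ normalizerIn S (imgOf β R) := le_normalizerIn (imgOf_le β R)
  let τ : R →* Ω := τ₂.comp (Subgroup.inclusion hRN)
  have hτ : τ ∈ D.Hom R := by
    have hω' := res_mem hω hR'N
    refine comp_mem' hres hω' (fun x => (apply_mem_imgOf β _).2 x.2) (fun x => ?_)
    rfl
  have hτr : τ.range = Rs := by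
    rw [← hωm]
    ext y
    constructor
    · rintro ⟨x, rfl⟩
      exact ⟨j (Subgroup.inclusion hRN x), (apply_mem_imgOf β _).2 x.2, rfl⟩
    · rintro ⟨x, hx, rfl⟩
      have hxS : ((x : normalizerIn S (imgOf β R)) : Ω) ∈ S := normalizerIn_le x.2
      have hm : (x : Ω) ∈ imgOf β R := hx
      have h1 := (mem_imgOf (⟨x, hxS⟩ : S)).1 hm
      refine ⟨⟨_, h1⟩, ?_⟩
      show ω (j _) = _
      congr 1
      apply Subtype.ext
      show ((β (β⁻¹ ⟨x, hxS⟩) : S) : Ω) = _
      simp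
  obtain ⟨ψ, hψ, hext⟩ := hRr.2 R τ hτ hτr
  have hNle : normalizerIn S R ≤ extender S R τ := by
    rintro g ⟨hgS, hgN⟩
    refine extender_closure_mem hgS hgN (map_mem_S (hDF _ hω) (j ⟨g, hgS, hgN⟩)) (fun x hx => ?_)
    show τ₂ (Subgroup.inclusion hRN ⟨g * x * g⁻¹, hx⟩) = _
    have e2 : Subgroup.inclusion hRN ⟨g * x * g⁻¹, hx⟩ = ⟨g, hgS, hgN⟩ * Subgroup.inclusion hRN x * ⟨g, hgS, hgN⟩⁻¹ :=
      Subtype.ext rfl
    rw [e2, map_mul, map_mul, map_inv]
    rfl
  have hψ1 : ψ.comp (Subgroup.inclusion hNle) ∈ D.Hom (normalizerIn S R) := res_mem hψ hNle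
  have hagree : ∀ x : normalizerIn S R, (x : Ω) ∈ R → (ψ.comp (Subgroup.inclusion hNle)) x = τ₂ x := by
    intro x hx
    exact hext x hx (hNle x.2)
  obtain ⟨z, hzR, -, hz⟩ := eq_comp_conj_of_agree hS hF hRN hR (hDF _ hψ1) hτ₂F hagree
  have hτ₂D : τ₂ ∈ D.Hom (normalizerIn S R) := by
    have hc := D.conj_mem (P := normalizerIn S R) normalizerIn_le (normalizerIn_le z.2)
    exact comp_mem' hc hψ1 (fun y => (z * y * z⁻¹).2) (fun y => hz y)
  obtain ⟨σ, hσ, hσx⟩ := D.inv_mem hω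
  have hres' : resA β (normalizerIn_le : normalizerIn S R ≤ S) ∈ D.Hom (normalizerIn S R) := by
    refine comp_mem' hτ₂D hσ (fun x => ⟨j x, rfl⟩) (fun x => ?_)
    exact (hσx (j x)).symm
  have hN : F.IsCentric (normalizerIn S R) := isCentric_of_le hR hRN normalizerIn_le
  have hfin : Finite (normalizerIn S R) := finite_of_le normalizerIn_le
  have hlt : Nat.card R < Nat.card (normalizerIn S R) := by
    have hlt := lt_normalizerIn hS hRS hRe
    by_contra hcon
    exact hlt.ne (Subgroup.eq_of_le_of_card_ge hlt.le (not_lt.1 hcon))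
  have hcN : Nat.card (normalizerIn S R) ≤ Nat.card S := Subgroup.card_le_of_le normalizerIn_le
  exact ih _ (by omega) _ hN rfl hres'

/-- The elements of `Aut_F(S)` with restriction in `G` on a centric subgroup. -/
def gammaGens (F : FusionSystem S) (p : ℕ) : Set (MulAut S) :=
  {β | β ∈ F.autGroup S ∧ ∃ (R : Subgroup Ω) (hR : F.IsCentric R), resA β hR.1 ∈ (coreSys F p).Hom R}

/-- The subgroup `Γ⁰` of `Aut_F(S)`. -/
def gamma0 (F : FusionSystem S) (p : ℕ) : Subgroup (MulAut S) := Subgroup.closure (gammaGens F p)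

omit [Finite S] [Fact p.Prime] in
theorem gamma0_le (F : FusionSystem S) (p : ℕ) : gamma0 F p ≤ F.autGroup S :=
  (Subgroup.closure_le _).2 fun _ h => h.1

omit [Finite S] [Fact p.Prime] in
theorem coreSys_inv0 (F : FusionSystem S) (p : ℕ) : IsInvUnder (coreSys F p) (gamma0 F p) :=
  fun β hβ P φ hφ => coreSys_inv F p β (gamma0_le F p hβ) P φ hφ

/-- The `p'`-residual subsystem. -/
def residSys (F : FusionSystem S) (p : ℕ) : FusionSystem S :=
  prodSys (gamma0 F p) (coreSys F p) (coreSys_inv0 F p)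

omit [Finite S] [Fact p.Prime] in
theorem coreSys_le_self (F : FusionSystem S) (p : ℕ) : coreSys F p ≤ F := coreSys_le (self_mem_coreClass F p)

omit [Finite S] [Fact p.Prime] in
theorem residSys_le (F : FusionSystem S) (p : ℕ) : residSys F p ≤ F :=
  prodSys_le (coreSys_le_self F p) (gamma0_le F p)

omit [Finite S] [Fact p.Prime] in
theorem residSys_mem (F : FusionSystem S) (p : ℕ) : residSys F p ∈ coreClass F p :=
  fun R hR => (coreSys_mem F p R hR).trans (autGroup_mono le_prodSys R)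

/-- A smaller fusion system is fully automized wherever the larger one is. -/
theorem isFullyAutomized_of_le (hS : IsPGroup p S) {E : FusionSystem S} (hEF : E ≤ F) {Q : Subgroup Ω}
    (h : F.IsFullyAutomized p Q) : E.IsFullyAutomized p Q := by
  have hQ : Q ≤ S := h.1
  rw [isFullyAutomized_iff hS hQ] at h ⊢
  intro hd
  apply h
  have h1 := Subgroup.relIndex_mul_relIndex (autInducedBy S Q) (E.autGroup Q) (F.autGroup Q)
    (autInducedBy_le_autGroup hQ) (autGroup_mono hEF Q)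
  rw [← h1]
  exact Dvd.dvd.mul_right hd _

/-- An element of `Aut_F(S)` whose restriction to a centric subgroup is in `residSys` lies in `Γ⁰`. -/
theorem mem_gamma0_of_res {β₂ : MulAut S} (hβ₂ : β₂ ∈ F.autGroup S) {R : Subgroup Ω} (hR : F.IsCentric R)
    (h : resA β₂ hR.1 ∈ (residSys F p).Hom R) : β₂ ∈ gamma0 F p := by
  obtain ⟨β₁, hβ₁, γ, hγ, he⟩ := h
  have hgen : β₁⁻¹ * β₂ ∈ gamma0 F p := by
    refine Subgroup.subset_closure ⟨(F.autGroup S).mul_mem
      ((F.autGroup S).inv_mem (gamma0_le F p hβ₁)) hβ₂, R, hR, ?_⟩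
    refine mem_of_eq_res hγ le_rfl (fun x => ?_)
    have h1 := he x (map_mem_S hγ x)
    have h2 : β₂ ⟨x, hR.1 x.2⟩ = β₁ ⟨γ x, map_mem_S hγ x⟩ := Subtype.ext h1
    show ((β₁⁻¹ (β₂ ⟨x, hR.1 x.2⟩) : S) : Ω) = γ x
    rw [h2]
    simp
  have e : β₂ = β₁ * (β₁⁻¹ * β₂) := by group
  rw [e]
  exact (gamma0 F p).mul_mem hβ₁ hgen

/-- `residSys` has index prime to `p` and the factorization property. -/
theorem residSys_main (hS : IsPGroup p S) (hF : F.IsSaturated p) :
    (residSys F p).HasPrimeToPIndexIn F p ∧ (∀ (P : Subgroup Ω) (φ : P →* Ω), φ ∈ F.Hom P →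
      ∃ α ∈ F.autGroup S, ∃ φ₀ ∈ (residSys F p).Hom P,
      ∀ (x : P) (hx : φ₀ x ∈ S), φ x = ((α ⟨φ₀ x, hx⟩ : S) : Ω)) ∧
      ∀ P : Subgroup Ω, (residSys F p).IsCentric P ↔ F.IsCentric P :=
  main_of_centric hS hF (E := residSys F p) (residSys_le F p) (residSys_mem F p)

/-- The class of `F`-good subgroups, in `residSys`. -/
theorem exists_good (hS : IsPGroup p S) (hF : F.IsSaturated p) {P : Subgroup Ω} (hPc : F.IsCentric P) :
    ∃ Q, (residSys F p).IsConj P Q ∧ (residSys F p).IsFullyAutomized p Q ∧ (residSys F p).IsReceptive Q := by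
  obtain ⟨Q₁, ⟨ω, hω, hωr⟩, hQ₁a, hQ₁r⟩ := hF P hPc.1
  obtain ⟨-, hfac, -⟩ := residSys_main hS hF
  obtain ⟨β, hβ, ω₀, hω₀, he⟩ := hfac P ω hω
  have hQ₁fn : F.IsFullyNormalized Q₁ := isFullyNormalized_of_good hS hQ₁a hQ₁r
  have hω₀F := residSys_le F p P hω₀
  have hQle : ω₀.range ≤ S := range_le hω₀
  have hQ₁S : Q₁ ≤ S := hQ₁a.1
  -- `β` carries `ω₀.range` to `Q₁`
  have hiff : ∀ s : S, (s : Ω) ∈ Q₁ ↔ ((β⁻¹ s : S) : Ω) ∈ ω₀.range := by
    intro s
    constructor
    · intro hs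
      rw [← hωr] at hs
      obtain ⟨x, hx⟩ := hs
      refine ⟨x, ?_⟩
      have h1 : (⟨ω₀ x, map_mem_S hω₀ x⟩ : S) = β⁻¹ s := by
        apply (MulEquiv.eq_symm_apply β).2
        exact Subtype.ext ((he x (map_mem_S hω₀ x)).symm.trans hx)
      exact congrArg (fun z : S => (z : Ω)) h1
    · rintro ⟨x, hx⟩
      rw [← hωr]
      refine ⟨x, ?_⟩
      rw [he x (map_mem_S hω₀ x)]
      have h1 : (⟨ω₀ x, map_mem_S hω₀ x⟩ : S) = β⁻¹ s := Subtype.ext hx
      rw [h1]
      simp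
  have hconj : F.IsConj ω₀.range Q₁ := by
    refine Basic.IsConj.trans (Basic.IsConj.symm ⟨ω₀, hω₀F, rfl⟩) ⟨ω, hω, hωr⟩
  have hfn : F.IsFullyNormalized ω₀.range := by
    refine ⟨hQle, fun Q' hQ' => ?_⟩
    refine (hQ₁fn.2 Q' (Basic.IsConj.trans (Basic.IsConj.symm hconj) hQ')).trans ?_
    exact card_normalizerIn_le hQ₁S hQle β⁻¹ hiff
  have hfa := (fullyNormalized_props hS hF hfn).2
  have hfr := fullyNormalized_receptive hS hF hfn
  refine ⟨ω₀.range, ⟨ω₀, hω₀, rfl⟩, isFullyAutomized_of_le hS (residSys_le F p) hfa, hQle, ?_⟩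
  intro P' φ hφ hφr
  obtain ⟨ψ, hψ, hext⟩ := hfr.2 P' φ (residSys_le F p _ hφ) hφr
  obtain ⟨β₂, hβ₂, ψ₀, hψ₀, hψe⟩ := hfac _ ψ hψ
  refine ⟨ψ, ?_, hext⟩
  -- `P'` is centric
  have hP'conj : F.IsConj P P' := by
    refine Basic.IsConj.trans ⟨ω₀, hω₀F, rfl⟩ (Basic.IsConj.symm (F := F) ⟨φ, residSys_le F p _ hφ, hφr⟩)
  have hP'c : F.IsCentric P' := isCentric_of_isConj hPc hP'conj
  have hP'le : P' ≤ extender S P' φ := le_extender hP'c.1 (map_mem_S hφ)
  -- the image `R` of `P'` under `ψ₀`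
  have hres := res_mem hψ₀ hP'le
  have hRc : F.IsCentric (ψ₀.comp (Subgroup.inclusion hP'le)).range :=
    isCentric_of_isConj hP'c ⟨_, residSys_le F p _ hres, rfl⟩
  obtain ⟨σ, hσ, hσx⟩ := (residSys F p).inv_mem hres
  have hσv : ∀ y : (ψ₀.comp (Subgroup.inclusion hP'le)).range, σ y ∈ P' := by
    rintro ⟨_, x, rfl⟩
    rw [hσx x]
    exact x.2
  have hβres : resA β₂ hRc.1 ∈ (residSys F p).Hom (ψ₀.comp (Subgroup.inclusion hP'le)).range := by
    refine comp_mem' hσ hφ hσv (fun y => ?_)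
    obtain ⟨_, x, rfl⟩ := y
    have h1 : (⟨σ ⟨(ψ₀.comp (Subgroup.inclusion hP'le)) x, ⟨x, rfl⟩⟩, hσv _⟩ : P') = x := Subtype.ext (hσx x)
    rw [h1, ← hext x x.2 (hP'le x.2)]
    have h2 := hψe (Subgroup.inclusion hP'le x) (map_mem_S hψ₀ _)
    rw [resA_apply]
    exact h2.symm
  have hβ₂0 : β₂ ∈ gamma0 F p := mem_gamma0_of_res hβ₂ hRc hβres
  exact comp_mem' hψ₀ (autGroup_mem_hom le_rfl (le_autGroup_prodSys hβ₂0)) (map_mem_S hψ₀)
    (fun x => hψe x (map_mem_S hψ₀ x))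

/-- Saturation of `residSys`. -/
theorem residSys_saturated (hS : IsPGroup p S) (hF : F.IsSaturated p) : (residSys F p).IsSaturated p := by
  obtain ⟨-, -, hcent⟩ := residSys_main hS hF
  refine SatCrit.isSaturated_of_family hS {P | F.IsCentric P} (fun P hP => hP.1) ?_ ?_ ?_ ?_
  · rintro P hP Q ⟨φ, hφ, hr⟩
    exact isCentric_of_isConj hP ⟨φ, residSys_le F p _ hφ, hr⟩
  · intro P hP
    exact exists_good hS hF hP
  · intro E' hE'
    have hcls : E' ∈ coreClass F p := by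
      intro R hR α hα
      have h1 := residSys_mem F p R hR hα
      exact mem_autGroup_of_mem (hE' R hR (autGroup_mem_hom hR.1 h1))
    have hSc : F.IsCentric S := by
      refine ⟨le_rfl, fun Q hQ => ?_⟩
      have hQS := Basic.IsConj.le_right hQ
      have : Q = S := Subgroup.eq_of_le_of_card_ge hQS (Basic.IsConj.card_eq hQ).le
      rw [this]
      exact inf_le_left
    have hΓ : gamma0 F p ≤ E'.autGroup S := by
      intro β hβ
      exact mem_autGroup_of_mem (hE' S hSc (autGroup_mem_hom le_rfl (le_autGroup_prodSys hβ)))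
    exact prodSys_le (coreSys_le hcls) hΓ
  · intro P hP hP'
    exact absurd ((hcent P).1 hP) hP'

/-- **Existence of the `p'`-residual subsystem** (S5140). -/
theorem isPPrimeResidual_residSys (hS : IsPGroup p S) (hF : F.IsSaturated p) : F.IsPPrimeResidual p (residSys F p) := by
  refine ⟨residSys_saturated hS hF, (residSys_main hS hF).1, ?_⟩
  intro D hD hDi
  have hcls : D ∈ coreClass F p := fun R hR => hDi.2 R hR.1
  have hΓ : gamma0 F p ≤ D.autGroup S := by
    refine (Subgroup.closure_le _).2 ?_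
    rintro β ⟨hβ, R, hR, hres⟩
    exact mem_autGroup_of_res hS hF hD hDi.1 hβ _ R hR rfl (coreSys_le hcls R hres)
  exact prodSys_le (coreSys_le hcls) hΓ

end Main

end Cfsg.Agent.Lib.Fusion.PPrime
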