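/-
Isomorphic transport of fusion systems along an injective homomorphism `θ` defined on a subgroup `S`
(the ambient groups may differ): subsystems, strong closure, saturation, normality, subnormality.
-/
import Mathlib
import Cfsg.Prelude.Def_FusionComponents
import Cfsg.Agent.Lib.Fusion.Basic
import Cfsg.Agent.Lib.Fusion.Joins
import Cfsg.Agent.Lib.Fusion.Factor
import Cfsg.Agent.Lib.Fusion.FactorMorphism
import Cfsg.Agent.Lib.Fusion.Transport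
import Cfsg.Agent.Lib.Fusion.Pullback

set_option autoImplicit false

namespace Cfsg.Agent.Lib.Fusion.IsoTr

open Cfsg Cfsg.FusionSystem Cfsg.Agent.Lib.Fusion.Basic
open Cfsg.Agent.Lib.Fusion.Joins (exists_hom_of_eq)
open Cfsg.Agent.Lib.Fusion.FactorMorphism (preimage_le mem_preimage exists_induced)

variable {Ω Ω' : Type*} [Group Ω] [Group Ω'] {S : Subgroup Ω} {θ : S →* Ω'}

theorem mem_image {P : Subgroup Ω} {y : Ω'} :
    y ∈ imageAlong θ P ↔ ∃ (x : Ω) (hS : x ∈ S), x ∈ P ∧ θ ⟨x, hS⟩ = y := by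
  constructor
  · rintro ⟨s, hs, rfl⟩
    exact ⟨s, s.2, hs, rfl⟩
  · rintro ⟨x, hS, hx, rfl⟩
    exact ⟨⟨x, hS⟩, hx, rfl⟩

theorem image_mem {P : Subgroup Ω} {x : Ω} (hS : x ∈ S) (hx : x ∈ P) : θ ⟨x, hS⟩ ∈ imageAlong θ P :=
  ⟨⟨x, hS⟩, hx, rfl⟩

theorem mem_of_image_mem (hinj : Function.Injective θ) {P : Subgroup Ω} {x : Ω} {hS : x ∈ S}
    (h : θ ⟨x, hS⟩ ∈ imageAlong θ P) : x ∈ P := by
  obtain ⟨s, hs, he⟩ := h
  have : s = ⟨x, hS⟩ := hinj he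
  rw [this] at hs
  exact hs

theorem image_mono {P R : Subgroup Ω} (h : P ≤ R) : imageAlong θ P ≤ imageAlong θ R :=
  Subgroup.map_mono (fun _ hx => h hx)

theorem preimage_image (hinj : Function.Injective θ) {P : Subgroup Ω} (hP : P ≤ S) :
    preimageAlong θ (imageAlong θ P) = P := by
  ext x
  rw [mem_preimage]
  constructor
  · rintro ⟨h, hx⟩
    exact mem_of_image_mem hinj hx
  · intro hx
    exact ⟨hP hx, image_mem _ hx⟩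

theorem image_preimage {P' : Subgroup Ω'} (hP' : P' ≤ θ.range) :
    imageAlong θ (preimageAlong θ P') = P' := by
  ext y
  rw [mem_image]
  constructor
  · rintro ⟨x, hS, hx, rfl⟩
    obtain ⟨_, hh⟩ := mem_preimage.1 hx
    exact hh
  · intro hy
    obtain ⟨s, hs⟩ := hP' hy
    refine ⟨s, s.2, mem_preimage.2 ⟨s.2, ?_⟩, hs⟩
    show θ s ∈ P'
    rw [hs]
    exact hy

theorem image_le_range (P : Subgroup Ω) : imageAlong θ P ≤ θ.range := by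
  rintro _ ⟨s, -, rfl⟩
  exact ⟨s, rfl⟩

theorem image_sup {A B : Subgroup Ω} (hA : A ≤ S) (hB : B ≤ S) :
    imageAlong θ (A ⊔ B) = imageAlong θ A ⊔ imageAlong θ B := by
  unfold imageAlong
  rw [Subgroup.subgroupOf_sup hA hB, Subgroup.map_sup]

/-- Two homomorphisms on an image agreeing on images of elements are equal. -/
theorem hom_ext_image {P : Subgroup Ω} {f g : ↥(imageAlong θ P) →* Ω'}
    (h : ∀ (x : Ω) (_ : x ∈ P) (hS : x ∈ S) (hx' : θ ⟨x, hS⟩ ∈ imageAlong θ P),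
      f ⟨θ ⟨x, hS⟩, hx'⟩ = g ⟨θ ⟨x, hS⟩, hx'⟩) : f = g := by
  ext ⟨_, s, hs, rfl⟩
  exact h s hs s.2 _

/-- `E'` over `T'` is the image along `θ` of `E` over `T ≤ S`. -/
structure Rel (θ : S →* Ω') {T : Subgroup Ω} {T' : Subgroup Ω'} (E : FusionSystem T)
    (E' : FusionSystem T') : Prop where
  le : T ≤ S
  img : imageAlong θ T = T'
  up : ∀ {P : Subgroup Ω} {φ : P →* Ω}, φ ∈ E.Hom P →
    ∃ φ' ∈ E'.Hom (imageAlong θ P), InducedAlong θ φ φ'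
  down : ∀ {P' : Subgroup Ω'} {φ' : P' →* Ω'}, φ' ∈ E'.Hom P' →
    ∃ φ ∈ E.Hom (preimageAlong θ P'), InducedAlong θ φ φ'

section basic

variable {T : Subgroup Ω} {T' : Subgroup Ω'} {E : FusionSystem T} {E' : FusionSystem T'}

theorem Rel.up' (h : Rel θ E E') {P : Subgroup Ω} {φ : P →* Ω} (hφ : φ ∈ E.Hom P) :
    ∃ φ' ∈ E'.Hom (imageAlong θ P), ∀ (x : P) (hx : (x : Ω) ∈ S) (hv : φ x ∈ S)
      (hx' : θ ⟨x, hx⟩ ∈ imageAlong θ P), φ' ⟨θ ⟨x, hx⟩, hx'⟩ = θ ⟨φ x, hv⟩ := by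
  obtain ⟨φ', hφ', hP, hv, hmem, he⟩ := h.up hφ
  exact ⟨φ', hφ', fun x _ _ _ => he x⟩

theorem Rel.exists_image (h : Rel θ E E') (hinj : Function.Injective θ) {P' : Subgroup Ω'} (hP' : P' ≤ T') :
    ∃ P : Subgroup Ω, P ≤ T ∧ imageAlong θ P = P' := by
  have hr : T' ≤ θ.range := by
    rw [← h.img]
    exact image_le_range T
  refine ⟨preimageAlong θ P', ?_, image_preimage (hP'.trans hr)⟩
  intro x hx
  obtain ⟨hS, hh⟩ := mem_preimage.1 hx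
  have : θ ⟨x, hS⟩ ∈ imageAlong θ T := by
    rw [h.img]
    exact hP' hh
  exact mem_of_image_mem hinj this

theorem Rel.down' (h : Rel θ E E') (hinj : Function.Injective θ) {P : Subgroup Ω} (hP : P ≤ T)
    {φ' : ↥(imageAlong θ P) →* Ω'} (hφ' : φ' ∈ E'.Hom (imageAlong θ P)) :
    ∃ φ ∈ E.Hom P, ∀ (x : P) (hx : (x : Ω) ∈ S) (hv : φ x ∈ S)
      (hx' : θ ⟨x, hx⟩ ∈ imageAlong θ P), φ' ⟨θ ⟨x, hx⟩, hx'⟩ = θ ⟨φ x, hv⟩ := by
  obtain ⟨ψ, hψ, hP₁, hv₁, hmem, he⟩ := h.down hφ'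
  have e := preimage_image hinj (hP.trans h.le)
  obtain ⟨φ, hφ, hφe⟩ := exists_hom_of_eq E e ψ hψ
  refine ⟨φ, hφ, fun x hx hv hx' => ?_⟩
  have hxp : (x : Ω) ∈ preimageAlong θ (imageAlong θ P) := e.ge x.2
  have h1 := he ⟨x, hxp⟩
  have h2 : φ x = ψ ⟨x, hxp⟩ := hφe x hxp x.2
  have h3 : (⟨φ x, hv⟩ : S) = ⟨ψ ⟨x, hxp⟩, hv₁ _⟩ := Subtype.ext h2
  rw [h3]
  exact h1

theorem map_mem_S' (h : Rel θ E E') {P : Subgroup Ω} {φ : P →* Ω} (hφ : φ ∈ E.Hom P) (x : P) : φ x ∈ S :=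
  h.le ((E.le_of_mem hφ).2 x)

theorem source_mem_S (h : Rel θ E E') {P : Subgroup Ω} {φ : P →* Ω} (hφ : φ ∈ E.Hom P) (x : P) : (x : Ω) ∈ S :=
  h.le ((E.le_of_mem hφ).1 x.2)

/-- Uniqueness of the image. -/
theorem Rel.hom_eq {T₂ : Subgroup Ω'} {E₂ : FusionSystem T₂} (h : Rel θ E E') (h₂ : Rel θ E E₂)
    (hinj : Function.Injective θ) (P' : Subgroup Ω') : E'.Hom P' ⊆ E₂.Hom P' := by
  intro φ' hφ'
  obtain ⟨P, hP, rfl⟩ := h.exists_image hinj (E'.le_of_mem hφ').1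
  obtain ⟨φ, hφ, he⟩ := h.down' hinj hP hφ'
  obtain ⟨φ₂, hφ₂, he₂⟩ := h₂.up' hφ
  have : φ' = φ₂ := by
    apply hom_ext_image
    intro x hx hS hx'
    have h1 := he ⟨x, hx⟩ hS (map_mem_S' h hφ _) hx'
    have h2 := he₂ ⟨x, hx⟩ hS (map_mem_S' h hφ _) hx'
    exact h1.trans h2.symm
  rw [this]
  exact hφ₂

/-- A hom with values in `X`, surjective on `X`, in the system gives an element of the automizer. -/
theorem exists_aut_of_hom {Y : Subgroup Ω} {F : FusionSystem Y} {X : Subgroup Ω} (hX : X ≤ Y) {φ : X →* Ω}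
    (hφ : φ ∈ F.Hom X) (hv : ∀ x, φ x ∈ X) (hs : ∀ y : X, ∃ x, φ x = y) :
    ∃ α ∈ F.autGroup X, ∀ x : X, ((α x : X) : Ω) = φ x := by
  have hbij : Function.Bijective (φ.codRestrict X hv) := by
    constructor
    · intro a b hab
      exact F.injective_of_mem hφ (congrArg Subtype.val hab)
    · intro y
      obtain ⟨x, hx⟩ := hs y
      exact ⟨x, Subtype.ext hx⟩
  refine ⟨MulEquiv.ofBijective _ hbij, ?_, fun x => rfl⟩
  rw [mem_autGroup_iff hX]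
  convert hφ using 1
  ext x
  rfl

/-- Automizer up. -/
theorem Rel.aut_up (h : Rel θ E E') {X : Subgroup Ω} (hX : X ≤ T) {X' : Subgroup Ω'}
    (e : imageAlong θ X = X') {α : MulAut X} (hα : α ∈ E.autGroup X) :
    ∃ α' ∈ E'.autGroup X', ∀ (x : X) (hx : (x : Ω) ∈ S) (hx' : θ ⟨x, hx⟩ ∈ X')
      (hv : ((α x : X) : Ω) ∈ S), ((α' ⟨θ ⟨x, hx⟩, hx'⟩ : X') : Ω') = θ ⟨α x, hv⟩ := by
  subst e
  have hφ := (mem_autGroup_iff hX).1 hα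
  obtain ⟨φ', hφ', he⟩ := h.up' hφ
  have hX' : imageAlong θ X ≤ T' := by
    rw [← h.img]
    exact image_mono hX
  have hXS : ∀ x : X, (x : Ω) ∈ S := fun x => h.le (hX x.2)
  have hv : ∀ x : ↥(imageAlong θ X), φ' x ∈ imageAlong θ X := by
    rintro ⟨_, s, hs, rfl⟩
    have h1 := he ⟨s, hs⟩ s.2 (h.le (hX (α ⟨s, hs⟩).2)) ⟨s, hs, rfl⟩
    exact h1.symm ▸ image_mem _ (α ⟨s, hs⟩).2
  have hs : ∀ y : ↥(imageAlong θ X), ∃ x, φ' x = y := by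
    rintro ⟨_, s, hs, rfl⟩
    refine ⟨⟨θ ⟨_, hXS (α.symm ⟨s, hs⟩)⟩, image_mem _ (α.symm ⟨s, hs⟩).2⟩, ?_⟩
    have h1 := he (α.symm ⟨s, hs⟩) (hXS _) (h.le (hX (α (α.symm ⟨s, hs⟩)).2)) (image_mem _ (α.symm ⟨s, hs⟩).2)
    refine h1.trans ?_
    simp only [MonoidHom.coe_comp, Function.comp_apply, Subgroup.coe_subtype, MulEquiv.coe_toMonoidHom,
      MulEquiv.apply_symm_apply]
  obtain ⟨α', hα', hαe⟩ := exists_aut_of_hom hX' hφ' hv hs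
  refine ⟨α', hα', fun x hx hx' hv' => ?_⟩
  rw [hαe]
  exact he x hx (h.le (hX (α x).2)) hx'

/-- Automizer down. -/
theorem Rel.aut_down (h : Rel θ E E') (hinj : Function.Injective θ) {X : Subgroup Ω} (hX : X ≤ T)
    {X' : Subgroup Ω'} (e : imageAlong θ X = X') {α' : MulAut X'} (hα' : α' ∈ E'.autGroup X') :
    ∃ α ∈ E.autGroup X, ∀ (x : X) (hx : (x : Ω) ∈ S) (hx' : θ ⟨x, hx⟩ ∈ X')
      (hv : ((α x : X) : Ω) ∈ S), ((α' ⟨θ ⟨x, hx⟩, hx'⟩ : X') : Ω') = θ ⟨α x, hv⟩ := by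
  subst e
  have hX' : imageAlong θ X ≤ T' := by
    rw [← h.img]
    exact image_mono hX
  have hφ' := (mem_autGroup_iff hX').1 hα'
  obtain ⟨φ, hφ, he⟩ := h.down' hinj hX hφ'
  have hXS : ∀ x : X, (x : Ω) ∈ S := fun x => h.le (hX x.2)
  have hv : ∀ x : X, φ x ∈ X := by
    intro x
    have h1 := he x (hXS x) (map_mem_S' h hφ x) (image_mem _ x.2)
    have h2 : θ ⟨φ x, map_mem_S' h hφ x⟩ ∈ imageAlong θ X := by
      rw [← h1]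
      exact (α' _).2
    exact mem_of_image_mem hinj h2
  have hs : ∀ y : X, ∃ x, φ x = y := by
    intro y
    obtain ⟨s, hs, hse⟩ := (α'.symm ⟨θ ⟨y, hXS y⟩, image_mem _ y.2⟩).2
    refine ⟨⟨s, hs⟩, ?_⟩
    have h1 := he ⟨s, hs⟩ s.2 (map_mem_S' h hφ _) ⟨s, hs, rfl⟩
    have h2 : (⟨θ s, ⟨s, hs, rfl⟩⟩ : ↥(imageAlong θ X)) = α'.symm ⟨θ ⟨y, hXS y⟩, image_mem _ y.2⟩ :=
      Subtype.ext hse
    have h3 : θ ⟨φ ⟨s, hs⟩, map_mem_S' h hφ _⟩ = θ ⟨y, hXS y⟩ := by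
      rw [← h1]
      show ((α' ⟨θ s, ⟨s, hs, rfl⟩⟩ : ↥(imageAlong θ X)) : Ω') = _
      rw [h2]
      simp
    exact congrArg Subtype.val (hinj h3)
  obtain ⟨α, hα, hαe⟩ := exists_aut_of_hom hX hφ hv hs
  refine ⟨α, hα, fun x hx hx' hv' => ?_⟩
  have h4 : (⟨(α x : X), hv'⟩ : S) = ⟨φ x, map_mem_S' h hφ x⟩ := Subtype.ext (hαe x)
  rw [h4]
  exact he x hx (map_mem_S' h hφ x) hx'

end basic

section normal

variable {T U : Subgroup Ω} {T' U' : Subgroup Ω'} {E : FusionSystem T} {E' : FusionSystem T'}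
  {F : FusionSystem U} {F' : FusionSystem U'}

theorem Rel.isSubsystem (hE : Rel θ E E') (hF : Rel θ F F') (hinj : Function.Injective θ)
    (h : E.IsSubsystemOf F) : E'.IsSubsystemOf F' := by
  intro P' φ' hφ'
  obtain ⟨P, hP, rfl⟩ := hE.exists_image hinj (E'.le_of_mem hφ').1
  obtain ⟨φ, hφ, he⟩ := hE.down' hinj hP hφ'
  obtain ⟨φ₂, hφ₂, he₂⟩ := hF.up' (h P hφ)
  have : φ' = φ₂ := by
    apply hom_ext_image
    intro x hx hS hx'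
    have h1 := he ⟨x, hx⟩ hS (map_mem_S' hE hφ _) hx'
    have h2 := he₂ ⟨x, hx⟩ hS (map_mem_S' hE hφ _) hx'
    exact h1.trans h2.symm
  rw [this]
  exact hφ₂

theorem Rel.stronglyClosed (hF : Rel θ F F') (hinj : Function.Injective θ) {R : Subgroup Ω}
    {R' : Subgroup Ω'} (e : imageAlong θ R = R') (h : F.StronglyClosed R) : F'.StronglyClosed R' := by
  subst e
  refine ⟨?_, fun Q' hQ' φ' hφ' x' => ?_⟩
  · rw [← hF.img]
    exact image_mono h.1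
  · obtain ⟨Q, hQ, rfl⟩ := hF.exists_image hinj (F'.le_of_mem hφ').1
    have hQR : Q ≤ R := by
      intro x hx
      have hxS : x ∈ S := hF.le (hQ hx)
      exact mem_of_image_mem hinj (hQ' (image_mem hxS hx))
    obtain ⟨φ, hφ, he⟩ := hF.down' hinj hQ hφ'
    obtain ⟨_, s, hs, rfl⟩ := x'
    have h1 := he ⟨s, hs⟩ s.2 (map_mem_S' hF hφ _) ⟨s, hs, rfl⟩
    rw [show φ' ⟨θ s, ⟨s, hs, rfl⟩⟩ = _ from h1]
    exact image_mem _ (h.2 Q hQR φ hφ ⟨s, hs⟩)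

theorem Rel.isInvariantIn (hE : Rel θ E E') (hF : Rel θ F F') (hinj : Function.Injective θ)
    (h : E.IsInvariantIn F) : E'.IsInvariantIn F' := by
  obtain ⟨hsub, hsc, hinv, hfr⟩ := h
  have hTU : T ≤ U := hsc.1
  have hT'U' : T' ≤ U' := by
    rw [← hE.img, ← hF.img]
    exact image_mono hTU
  refine ⟨hE.isSubsystem hF hinj hsub, hF.stronglyClosed hinj hE.img hsc, ?_, ?_⟩
  · intro P' hPT' φ' hφ' α' hα'
    obtain ⟨P, hP, rfl⟩ := hE.exists_image hinj hPT'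
    obtain ⟨φ, hφ, he⟩ := hE.down' hinj hP hφ'
    obtain ⟨α, hα, hαe⟩ := hF.aut_down hinj hTU hE.img hα'
    obtain ⟨χ, hχ, hχe⟩ := hinv P hP φ hφ α hα
    obtain ⟨χ₁, hχ₁, hχ₁e⟩ := hE.up' hχ
    have hTS : ∀ t : T, (t : Ω) ∈ S := fun t => hE.le t.2
    have hT'm : ∀ t : T, θ ⟨t, hTS t⟩ ∈ T' := fun t => by
      rw [← hE.img]
      exact image_mem _ t.2
    have hαv : ∀ t : T, ((α t : T) : Ω) ∈ S := fun t => hTS _
    have hαe' : ∀ t : T, ((α' ⟨θ ⟨t, hTS t⟩, hT'm t⟩ : T') : Ω') = θ ⟨α t, hαv t⟩ := fun t =>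
      hαe t (hTS t) (hT'm t) (hαv t)
    have ei : imageAlong θ ((P.subgroupOf T).map (T.subtype.comp α.toMonoidHom)) =
        ((imageAlong θ P).subgroupOf T').map (T'.subtype.comp α'.toMonoidHom) := by
      ext y
      rw [mem_image]
      constructor
      · rintro ⟨z, hzS, ⟨t, ht, rfl⟩, rfl⟩
        refine ⟨⟨θ ⟨t, hTS t⟩, hT'm t⟩, ?_, hαe' t⟩
        exact image_mem (hTS t) ht
      · rintro ⟨⟨w, hw⟩, hwP, rfl⟩
        obtain ⟨s, hs, rfl⟩ := (show w ∈ imageAlong θ P from hwP)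
        have hsT : (s : Ω) ∈ T := hP hs
        refine ⟨_, hαv ⟨s, hsT⟩, ⟨⟨s, hsT⟩, hs, rfl⟩, ?_⟩
        exact (hαe' ⟨s, hsT⟩).symm
    obtain ⟨χ', hχ', hχ'e⟩ := exists_hom_of_eq E' ei χ₁ hχ₁
    refine ⟨χ', hχ', fun x hφx hαx => ?_⟩
    obtain ⟨_, s, hs, rfl⟩ := x
    have hsT : (s : Ω) ∈ T := hP hs
    let t : T := ⟨s, hsT⟩
    have h1 := hαe' t
    have hαt : ((α t : T) : Ω) ∈ (P.subgroupOf T).map (T.subtype.comp α.toMonoidHom) := ⟨t, hs, rfl⟩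
    have hφv : φ ⟨s, hs⟩ ∈ T := (E.le_of_mem hφ).2 _
    have h2 := hχe ⟨s, hs⟩ hφv hαt
    have h3 := hχ₁e ⟨_, hαt⟩ (hαv t) (map_mem_S' hE hχ _) (image_mem _ hαt)
    have h4 := he ⟨s, hs⟩ s.2 (map_mem_S' hE hφ _) ⟨s, hs, rfl⟩
    have h5 := hαe' ⟨_, hφv⟩
    have e1 : χ' ⟨((α' ⟨θ s, hPT' ⟨s, hs, rfl⟩⟩ : T') : Ω'), hαx⟩ =
        χ' ⟨θ ⟨α t, hαv t⟩, ei ▸ image_mem _ hαt⟩ := congrArg χ' (Subtype.ext h1)
    have e2 := hχ'e (θ ⟨α t, hαv t⟩) (image_mem _ hαt) (ei ▸ image_mem _ hαt)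
    have e3 : (⟨χ ⟨α t, hαt⟩, map_mem_S' hE hχ _⟩ : S) = ⟨α ⟨φ ⟨s, hs⟩, hφv⟩, hαv _⟩ := Subtype.ext h2
    have e4 : (⟨φ' ⟨θ s, ⟨s, hs, rfl⟩⟩, hφx⟩ : T') = ⟨θ ⟨φ ⟨s, hs⟩, map_mem_S' hE hφ _⟩, hT'm ⟨_, hφv⟩⟩ :=
      Subtype.ext h4
    calc _ = _ := e1
      _ = _ := e2
      _ = θ ⟨χ ⟨α t, hαt⟩, map_mem_S' hE hχ _⟩ := h3
      _ = θ ⟨α ⟨φ ⟨s, hs⟩, hφv⟩, hαv _⟩ := by rw [e3]
      _ = ((α' ⟨θ ⟨φ ⟨s, hs⟩, map_mem_S' hE hφ _⟩, hT'm ⟨_, hφv⟩⟩ : T') : Ω') := h5.symm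
      _ = _ := by rw [← e4]
  · intro P' hPT' φ' hφ'
    obtain ⟨P, hP, rfl⟩ := hE.exists_image hinj hPT'
    have hPU : P ≤ U := hP.trans hTU
    obtain ⟨φ, hφ, he⟩ := hF.down' hinj hPU hφ'
    obtain ⟨α, hα, φ₀, hφ₀, hfe⟩ := hfr P hP φ hφ
    obtain ⟨α', hα', hαe⟩ := hF.aut_up hTU hE.img hα
    obtain ⟨φ₀', hφ₀', he₀⟩ := hE.up' hφ₀
    refine ⟨α', hα', φ₀', hφ₀', fun x hx => ?_⟩
    obtain ⟨_, s, hs, rfl⟩ := x
    have hTS : ∀ t : T, (t : Ω) ∈ S := fun t => hE.le t.2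
    have hT'm : ∀ t : T, θ ⟨t, hTS t⟩ ∈ T' := fun t => by
      rw [← hE.img]
      exact image_mem _ t.2
    have hv₀ : φ₀ ⟨s, hs⟩ ∈ T := (E.le_of_mem hφ₀).2 _
    have h1 := he ⟨s, hs⟩ s.2 (map_mem_S' hF hφ _) ⟨s, hs, rfl⟩
    have h2 := hfe ⟨s, hs⟩ hv₀
    have h3 := he₀ ⟨s, hs⟩ s.2 (map_mem_S' hE hφ₀ _) ⟨s, hs, rfl⟩
    have h4 := hαe ⟨_, hv₀⟩ (hTS _) (hT'm ⟨_, hv₀⟩) (hTS _)
    have e1 : (⟨φ ⟨s, hs⟩, map_mem_S' hF hφ _⟩ : S) = ⟨α ⟨φ₀ ⟨s, hs⟩, hv₀⟩, hTS _⟩ := Subtype.ext h2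
    have e2 : (⟨φ₀' ⟨θ s, ⟨s, hs, rfl⟩⟩, hx⟩ : T') = ⟨θ ⟨φ₀ ⟨s, hs⟩, hTS ⟨_, hv₀⟩⟩, hT'm ⟨_, hv₀⟩⟩ :=
      Subtype.ext h3
    calc φ' ⟨θ s, ⟨s, hs, rfl⟩⟩ = _ := h1
      _ = θ ⟨α ⟨φ₀ ⟨s, hs⟩, hv₀⟩, hTS _⟩ := by rw [e1]
      _ = _ := h4.symm
      _ = _ := by rw [← e2]

theorem image_centralizerIn (hE : Rel θ E E') (hF : Rel θ F F') (hinj : Function.Injective θ) :
    imageAlong θ (centralizerIn U T) = centralizerIn U' T' := by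
  ext y
  rw [mem_image]
  constructor
  · rintro ⟨x, hS, ⟨hxU, hxc⟩, rfl⟩
    refine ⟨?_, Subgroup.mem_centralizer_iff.2 ?_⟩
    · rw [← hF.img]
      exact image_mem hS hxU
    · intro t' ht'
      rw [SetLike.mem_coe, ← hE.img] at ht'
      obtain ⟨t, ht, rfl⟩ := ht'
      rw [← map_mul, ← map_mul]
      congr 1
      exact Subtype.ext ((Subgroup.mem_centralizer_iff.1 hxc) t ht)
  · rintro ⟨hyU, hyc⟩
    rw [← hF.img] at hyU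
    obtain ⟨s, hs, rfl⟩ := hyU
    refine ⟨s, s.2, ⟨hs, Subgroup.mem_centralizer_iff.2 fun t ht => ?_⟩, rfl⟩
    have htS : t ∈ S := hE.le ht
    have h1 : θ ⟨t, htS⟩ ∈ T' := by
      rw [← hE.img]
      exact image_mem htS ht
    have h2 := (Subgroup.mem_centralizer_iff.1 hyc) _ h1
    rw [← map_mul, ← map_mul] at h2
    exact congrArg Subtype.val (hinj h2)

theorem Rel.isSaturated (h : Rel θ E E') (hinj : Function.Injective θ) {p : ℕ} [Fact p.Prime]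
    (hs : E.IsSaturated p) : E'.IsSaturated p := by
  have hι₁ := T.subtype_injective
  have hr : T ≤ T.subtype.range := by
    rw [Subgroup.range_subtype]
  have h₁ := Pullback.isTransportAlong_pullback E T.subtype hι₁ hr
  have hD₀ := Pullback.isSaturated_rev h₁ hs
  let ι₂ : ↥T →* Ω' := θ.comp (Subgroup.inclusion h.le)
  have hι₂ : Function.Injective ι₂ := hinj.comp (Subgroup.inclusion_injective h.le)
  have h₂ : Transport.IsTransportAlong ι₂ (Pullback.pullback E T.subtype hι₁ hr) E' := by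
    refine ⟨hι₂, ?_, ?_⟩
    · rw [← h.img]
      ext y
      rw [mem_image]
      constructor
      · rintro ⟨t, -, rfl⟩
        exact ⟨_, h.le t.2, t.2, rfl⟩
      · rintro ⟨x, hS, hx, rfl⟩
        exact ⟨⟨x, hx⟩, by simp, rfl⟩
    · intro P₀ φ φ₀ hc
      have e : imageAlong θ (P₀.map T.subtype) = P₀.map ι₂ := by
        ext y
        rw [mem_image]
        constructor
        · rintro ⟨x, hS, ⟨t, ht, rfl⟩, rfl⟩
          exact ⟨t, ht, rfl⟩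
        · rintro ⟨t, ht, rfl⟩
          exact ⟨t, h.le t.2, ⟨t, ht, rfl⟩, rfl⟩
      have hPT : P₀.map T.subtype ≤ T := by
        rintro _ ⟨t, -, rfl⟩
        exact t.2
      show φ ∈ E'.Hom (P₀.map ι₂) ↔ Transport.push T.subtype hι₁ φ₀ ∈ E.Hom (P₀.map T.subtype)
      constructor
      · intro hφ
        obtain ⟨φ₁, hφ₁, he₁⟩ := exists_hom_of_eq E' e.symm φ hφ
        obtain ⟨ψ, hψ, hψe⟩ := h.down' hinj hPT hφ₁
        have : ψ = Transport.push T.subtype hι₁ φ₀ := by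
          apply Pullback.eq_push
          intro x₀
          have hm : ι₂ x₀ ∈ imageAlong θ (P₀.map T.subtype) := e ▸ ⟨x₀, x₀.2, rfl⟩
          have h1 := hψe ⟨T.subtype x₀, ⟨x₀, x₀.2, rfl⟩⟩ (h.le (x₀ : T).2) (h.le ((E.le_of_mem hψ).2 _)) hm
          have h2 := he₁ (ι₂ x₀) ⟨x₀, x₀.2, rfl⟩ hm
          have h3 := hc x₀
          have h4 : θ ⟨ψ ⟨T.subtype x₀, ⟨x₀, x₀.2, rfl⟩⟩, h.le ((E.le_of_mem hψ).2 _)⟩ = ι₂ (φ₀ x₀) :=
            h1.symm.trans (h2.trans h3)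
          exact congrArg Subtype.val (hinj h4)
        rw [← this]
        exact hψ
      · intro hp
        obtain ⟨φ₁, hφ₁, he₁⟩ := h.up' hp
        obtain ⟨φ₂, hφ₂, he₂⟩ := exists_hom_of_eq E' e φ₁ hφ₁
        have : φ = φ₂ := by
          ext ⟨_, x₀, hx₀, rfl⟩
          have hm : ι₂ x₀ ∈ imageAlong θ (P₀.map T.subtype) := e ▸ ⟨x₀, hx₀, rfl⟩
          have h1 := hc ⟨x₀, hx₀⟩
          have h2 := he₂ (ι₂ x₀) hm ⟨x₀, hx₀, rfl⟩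
          have h3 := he₁ ⟨T.subtype x₀, ⟨x₀, hx₀, rfl⟩⟩ (h.le (x₀ : T).2) (h.le ((E.le_of_mem hp).2 _)) hm
          have h4 := Transport.push_apply T.subtype hι₁ φ₀ ⟨x₀, hx₀⟩
          have e5 : (⟨Transport.push T.subtype hι₁ φ₀ ⟨T.subtype x₀, ⟨x₀, hx₀, rfl⟩⟩, h.le ((E.le_of_mem hp).2 _)⟩ : S) =
              Subgroup.inclusion h.le (φ₀ ⟨x₀, hx₀⟩) := Subtype.ext h4
          refine h1.trans (Eq.trans ?_ h2.symm)
          refine Eq.trans ?_ h3.symm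
          rw [e5]
          rfl
        rw [this]
        exact hφ₂
  exact Transport.isSaturated h₂ hD₀

/-- **Normality transports** along an injective `θ`. -/
theorem Rel.isNormalIn (hE : Rel θ E E') (hF : Rel θ F F') (hinj : Function.Injective θ) {p : ℕ}
    [Fact p.Prime] (h : E.IsNormalIn F p) : E'.IsNormalIn F' p := by
  obtain ⟨⟨hEs, hFs, hinv⟩, hN⟩ := h
  refine ⟨⟨hE.isSaturated hinj hEs, hF.isSaturated hinj hFs, hE.isInvariantIn hF hinj hinv⟩, ?_⟩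
  intro α' hα'
  obtain ⟨α, hα, hαe⟩ := hE.aut_down hinj le_rfl hE.img hα'
  obtain ⟨β, hβ, hβ1, hβ2⟩ := hN α hα
  have hTU : T ≤ U := hinv.2.1.1
  have hCU : centralizerIn U T ≤ U := inf_le_left
  have hUS : U ≤ S := hF.le
  have eX : imageAlong θ (T ⊔ centralizerIn U T) = T' ⊔ centralizerIn U' T' := by
    rw [image_sup (hTU.trans hUS) (hCU.trans hUS), hE.img, image_centralizerIn hE hF hinj]
  have hX : T ⊔ centralizerIn U T ≤ U := sup_le hTU hCU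
  obtain ⟨β', hβ', hβe⟩ := hF.aut_up hX eX hβ
  have hXS : ∀ x : ↥(T ⊔ centralizerIn U T), (x : Ω) ∈ S := fun x => hUS (hX x.2)
  have hXm : ∀ x : ↥(T ⊔ centralizerIn U T), θ ⟨x, hXS x⟩ ∈ T' ⊔ centralizerIn U' T' := fun x => by
    rw [← eX]
    exact image_mem _ x.2
  have hβe' : ∀ x : ↥(T ⊔ centralizerIn U T),
      ((β' ⟨θ ⟨x, hXS x⟩, hXm x⟩ : ↥(T' ⊔ centralizerIn U' T')) : Ω') = θ ⟨β x, hXS _⟩ := fun x =>
    hβe x (hXS x) (hXm x) (hXS _)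
  refine ⟨β', hβ', fun x => ?_, fun c hc => ?_⟩
  · obtain ⟨x', hx'⟩ := x
    rw [← hE.img] at hx'
    obtain ⟨s, hs, rfl⟩ := hx'
    have hsX : (s : Ω) ∈ T ⊔ centralizerIn U T := Subgroup.mem_sup_left hs
    have h1 := hβe' ⟨s, hsX⟩
    have h2 := hβ1 ⟨s, hs⟩
    have h3 := hαe ⟨s, hs⟩ s.2 (hE.img ▸ image_mem s.2 hs) (hE.le (α ⟨s, hs⟩).2)
    have e1 : (⟨β ⟨s, hsX⟩, hXS _⟩ : S) = ⟨α ⟨s, hs⟩, hE.le (α ⟨s, hs⟩).2⟩ := Subtype.ext h2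
    rw [e1] at h1
    exact h1.trans h3.symm
  · obtain ⟨c', hc'⟩ := c
    have hc'2 := hc'
    rw [← eX] at hc'2
    obtain ⟨s, hs, rfl⟩ := hc'2
    have hsX : (s : Ω) ∈ T ⊔ centralizerIn U T := hs
    have hsC : (s : Ω) ∈ centralizerIn U T := by
      have : θ s ∈ imageAlong θ (centralizerIn U T) := by
        rw [image_centralizerIn hE hF hinj]
        exact hc
      exact mem_of_image_mem hinj this
    have h1 := hβe' ⟨s, hsX⟩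
    obtain ⟨h2a, h2b⟩ := hβ2 ⟨s, hsX⟩ hsC
    have e0 : (⟨θ s, hc'⟩ : ↥(T' ⊔ centralizerIn U' T')) = ⟨θ ⟨s, hXS ⟨s, hsX⟩⟩, hXm ⟨s, hsX⟩⟩ := rfl
    have hv : (s : Ω)⁻¹ * ((β ⟨s, hsX⟩ : ↥(T ⊔ centralizerIn U T)) : Ω) ∈ S :=
      S.mul_mem (S.inv_mem s.2) (hXS _)
    have e2 : θ s⁻¹ * θ ⟨β ⟨s, hsX⟩, hXS _⟩ = θ ⟨_, hv⟩ := by
      rw [← map_mul]
      rfl
    have e3 : (θ s)⁻¹ * ((β' ⟨θ s, hc'⟩ : ↥(T' ⊔ centralizerIn U' T')) : Ω') = θ ⟨_, hv⟩ := by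
      rw [e0, h1, ← e2, map_inv]
    show (θ s)⁻¹ * ((β' ⟨θ s, hc'⟩ : ↥(T' ⊔ centralizerIn U' T')) : Ω') ∈ T' ⊓ Subgroup.centralizer (T' : Set Ω')
    rw [e3]
    refine ⟨?_, Subgroup.mem_centralizer_iff.2 ?_⟩
    · rw [← hE.img]
      exact image_mem hv h2a
    · intro t' ht'
      rw [SetLike.mem_coe, ← hE.img] at ht'
      obtain ⟨t, ht, rfl⟩ := ht'
      rw [← map_mul, ← map_mul]
      congr 1
      exact Subtype.ext ((Subgroup.mem_centralizer_iff.1 h2b) t ht)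

end normal

end Cfsg.Agent.Lib.Fusion.IsoTr
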