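/-
The upper central series of a subgroup of a fusion system, the largest normal subgroup of a normal subsystem, and
the transport of normal subgroups along `IsoTr.Rel`.
-/
import Mathlib
import Cfsg.Prelude.Def_FusionComponents
import Cfsg.Agent.Lib.Fusion.Basic
import Cfsg.Agent.Lib.Fusion.Joins
import Cfsg.Agent.Lib.Fusion.Chain
import Cfsg.Agent.Lib.Fusion.Normal
import Cfsg.Agent.Lib.Fusion.NormalCR
import Cfsg.Agent.Lib.Fusion.IsoTr
import Cfsg.Agent.Lib.Fusion.IsoTr2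

set_option autoImplicit false

namespace Cfsg.Agent.Lib.Fusion.ResidSeries

open Cfsg Cfsg.FusionSystem Cfsg.Agent.Lib.Fusion.Basic
open Cfsg.Agent.Lib.Fusion.Joins (exists_hom_of_eq isNormal_core)
open Cfsg.Agent.Lib.Fusion.IsoTr
open scoped commutatorElement

variable {Ω Ω' : Type*} [Group Ω] [Group Ω'] {S : Subgroup Ω}

/-- The upper central series of `Q`, inside the ambient group. -/
def uc (Q : Subgroup Ω) (i : ℕ) : Subgroup Ω := (Subgroup.upperCentralSeries Q i).map Q.subtype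

theorem uc_le (Q : Subgroup Ω) (i : ℕ) : uc Q i ≤ Q := Subgroup.map_subtype_le _

theorem uc_zero (Q : Subgroup Ω) : uc Q 0 = ⊥ := by simp [uc, Subgroup.upperCentralSeries_zero]

theorem exists_uc_eq {p : ℕ} [Fact p.Prime] {Q : Subgroup Ω} [Finite Q] (hQ : IsPGroup p Q) : ∃ n, uc Q n = Q := by
  have hnil : Group.IsNilpotent Q := hQ.isNilpotent
  obtain ⟨n, hn⟩ := Group.IsNilpotent.nilpotent' (G := Q)
  refine ⟨n, ?_⟩
  show Subgroup.map Q.subtype (Subgroup.upperCentralSeries Q n) = Q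
  rw [hn, ← MonoidHom.range_eq_map, Subgroup.range_subtype]

theorem comm_uc (Q : Subgroup Ω) (i : ℕ) : ⁅Q, uc Q (i + 1)⁆ ≤ uc Q i := by
  rw [Subgroup.commutator_comm, Subgroup.commutator_le]
  rintro _ ⟨z, hz, rfl⟩ g₂ h₂
  have h1 := (Subgroup.mem_upperCentralSeries_succ_iff (G := Q) (n := i) (x := z)).1 hz ⟨g₂, h₂⟩
  exact ⟨_, h1, rfl⟩

theorem uc_subgroupOf_char (Q : Subgroup Ω) (i : ℕ) : ((uc Q i).subgroupOf Q).Characteristic := by
  have e : ((Subgroup.upperCentralSeries Q i).map Q.subtype).subgroupOf Q = Subgroup.upperCentralSeries Q i :=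
    Subgroup.comap_map_eq_self_of_injective Q.subtype_injective _
  show (((Subgroup.upperCentralSeries Q i).map Q.subtype).subgroupOf Q).Characteristic
  rw [e]
  infer_instance

/-- A normal subgroup with a strongly closed upper central series. -/
theorem isNormal_of_uc [Finite S] {p : ℕ} [Fact p.Prime] (hS : IsPGroup p S) {F : FusionSystem S} (hF : F.IsSaturated p)
    {Q : Subgroup Ω} (hQ : F.StronglyClosed Q) (hsc : ∀ i, F.StronglyClosed (uc Q i)) : F.IsNormal Q := by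
  haveI : Finite Q := finite_of_le hQ.1
  obtain ⟨n, hn⟩ := exists_uc_eq (isPGroup_of_le hS hQ.1)
  exact Chain.isNormal_of_series hS hF hQ (uc_zero Q) hn (fun i _ => hsc i) (fun i _ => comm_uc Q i)

/-- An injective endomorphism of a finite `Q` preserves the upper central series. -/
theorem map_mem_uc {Q : Subgroup Ω} [Finite Q] (f : Q →* Ω) (hf : ∀ x : Q, f x ∈ Q) (hinj : Function.Injective f)
    (i : ℕ) {x : Q} (hx : (x : Ω) ∈ uc Q i) : f x ∈ uc Q i := by
  classical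
  let g : Q →* Q := f.codRestrict Q hf
  have hg : Function.Injective g := fun a b h => hinj (congrArg (fun t : Q => (t : Ω)) h)
  have hb : Function.Bijective g := Finite.injective_iff_bijective.1 hg
  let e : Q ≃* Q := MulEquiv.ofBijective g hb
  have hc := uc_subgroupOf_char Q i
  have h1 := hc.fixed e
  have h2 : x ∈ (uc Q i).subgroupOf Q := hx
  have h3 : e x ∈ (uc Q i).subgroupOf Q := by
    rw [← h1] at h2
    exact h2
  exact h3

/-- The strong closure of the upper central series, from extensions of maps to `Q`. -/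
theorem stronglyClosed_uc_of_ext {F : FusionSystem S} {Q : Subgroup Ω} [Finite Q] (hQS : Q ≤ S)
    (hext : ∀ (P : Subgroup Ω) (hP : P ≤ Q) (φ : P →* Ω), φ ∈ F.Hom P → ∃ f : Q →* Ω, (∀ x : Q, f x ∈ Q) ∧
      Function.Injective f ∧ ∀ x : P, f (Subgroup.inclusion hP x) = φ x) (i : ℕ) : F.StronglyClosed (uc Q i) := by
  refine ⟨(uc_le Q i).trans hQS, fun P hP φ hφ x => ?_⟩
  obtain ⟨f, hf, hinj, he⟩ := hext P (hP.trans (uc_le Q i)) φ hφ
  rw [← he]
  exact map_mem_uc f hf hinj i (hP x.2)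

theorem isNormal_uc {F : FusionSystem S} {Q : Subgroup Ω} (hQ : F.IsNormal Q) (i : ℕ) : F.IsNormal (uc Q i) :=
  Normal.isNormal_of_characteristic hQ (uc_le Q i) (uc_subgroupOf_char Q i)

theorem Rel.isNormal {θ : S →* Ω'} {T : Subgroup Ω} {T' : Subgroup Ω'} {E : FusionSystem T} {E' : FusionSystem T'}
    (h : Rel θ E E') (hinj : Function.Injective θ) {Q : Subgroup Ω} (hQ : E.IsNormal Q) :
    E'.IsNormal (imageAlong θ Q) := by
  have hQS : Q ≤ S := hQ.1.trans h.le
  refine ⟨h.img ▸ image_mono hQ.1, fun P' φ' hφ' => ?_⟩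
  have hP'T := (E'.le_of_mem hφ').1
  have hr : T' ≤ θ.range := by
    rw [← h.img]
    exact image_le_range T
  obtain ⟨φ, hφ, hP₁, hv₁, hmem, he⟩ := h.down hφ'
  obtain ⟨ψ, hψ, hag, himg⟩ := hQ.2 _ φ hφ
  obtain ⟨ψ', hψ', hP₂, hv₂, hmem₂, he₂⟩ := h.up hψ
  have hPS : preimageAlong θ P' ≤ S := FactorMorphism.preimage_le θ P'
  have eI : imageAlong θ (preimageAlong θ P' ⊔ Q) = P' ⊔ imageAlong θ Q := by
    rw [image_sup hPS hQS, image_preimage (hP'T.trans hr)]
  obtain ⟨χ, hχ, hχe⟩ := exists_hom_of_eq E' eI ψ' hψ'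
  refine ⟨χ, hχ, fun x => ?_, ?_⟩
  · -- agreement on `P'`
    obtain ⟨s, hsP, hsx⟩ : ∃ (s : S), (s : Ω) ∈ preimageAlong θ P' ∧ θ s = x := by
      obtain ⟨s, hs⟩ := hP'T.trans hr x.2
      refine ⟨s, (FactorMorphism.mem_preimage).2 ⟨s.2, ?_⟩, hs⟩
      show θ s ∈ P'
      rw [hs]
      exact x.2
    have hx1 : (x : Ω') ∈ imageAlong θ (preimageAlong θ P' ⊔ Q) := eI.ge (le_sup_left (a := P') x.2)
    have h1 := hχe x hx1 (le_sup_left (a := P') x.2)
    have h2 := he ⟨s, hsP⟩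
    have h3 := he₂ ⟨s, (le_sup_left : preimageAlong θ P' ≤ _) hsP⟩
    have h4 := hag ⟨s, hsP⟩
    have e1 : Subgroup.inclusion le_sup_left x = (⟨x, le_sup_left (a := P') x.2⟩ : ↥(P' ⊔ imageAlong θ Q)) := rfl
    rw [e1, h1]
    have e2 : (⟨(x : Ω'), hx1⟩ : ↥(imageAlong θ (preimageAlong θ P' ⊔ Q))) =
        ⟨θ ⟨s, hP₂ ((le_sup_left : preimageAlong θ P' ≤ _) hsP)⟩, hmem₂ ⟨s, (le_sup_left : preimageAlong θ P' ≤ _) hsP⟩⟩ := by
      apply Subtype.ext
      exact hsx.symm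
    rw [e2, h3]
    have e3 : (⟨ψ ⟨s, (le_sup_left : preimageAlong θ P' ≤ _) hsP⟩, hv₂ _⟩ : S) = ⟨φ ⟨s, hsP⟩, hv₁ _⟩ :=
      Subtype.ext h4
    rw [e3, ← h2]
    congr 1
    exact Subtype.ext hsx
  · -- the image
    ext y
    constructor
    · rintro ⟨⟨z, hz⟩, hzQ, rfl⟩
      have hzQ' : z ∈ imageAlong θ Q := hzQ
      obtain ⟨s, hsQ, hsz⟩ := hzQ'
      have hmemS : (s : Ω) ∈ preimageAlong θ P' ⊔ Q := (le_sup_right : Q ≤ _) hsQ
      have hz1 : z ∈ imageAlong θ (preimageAlong θ P' ⊔ Q) := eI.ge hz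
      have h1 := hχe z hz1 hz
      have h3 := he₂ ⟨s, hmemS⟩
      have e2 : (⟨z, hz1⟩ : ↥(imageAlong θ (preimageAlong θ P' ⊔ Q))) = ⟨θ ⟨s, hP₂ hmemS⟩, hmem₂ ⟨s, hmemS⟩⟩ := by
        apply Subtype.ext
        exact hsz.symm
      show χ ⟨z, hz⟩ ∈ imageAlong θ Q
      rw [h1, e2, h3]
      have hmq : ψ ⟨s, hmemS⟩ ∈ Q := by
        have : ψ ⟨s, hmemS⟩ ∈ (Q.subgroupOf (preimageAlong θ P' ⊔ Q)).map ψ := ⟨⟨s, hmemS⟩, hsQ, rfl⟩
        rw [himg] at this
        exact this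
      exact image_mem _ hmq
    · intro hy
      obtain ⟨s, hsQ, hsy⟩ := hy
      have hsm : (s : Ω) ∈ (Q.subgroupOf (preimageAlong θ P' ⊔ Q)).map ψ := by
        rw [himg]
        exact hsQ
      obtain ⟨⟨w, hw⟩, hwQ, hws⟩ := hsm
      have hwQ' : w ∈ Q := hwQ
      have hwS : w ∈ S := hQS hwQ'
      have hzz : θ ⟨w, hwS⟩ ∈ P' ⊔ imageAlong θ Q := (le_sup_right : imageAlong θ Q ≤ _) (image_mem _ hwQ')
      refine ⟨⟨θ ⟨w, hwS⟩, hzz⟩, image_mem _ hwQ', ?_⟩
      have hz1 : θ ⟨w, hwS⟩ ∈ imageAlong θ (preimageAlong θ P' ⊔ Q) := eI.ge hzz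
      have h1 := hχe _ hz1 hzz
      have h3 := he₂ ⟨w, hw⟩
      refine h1.trans ?_
      refine Eq.trans ?_ hsy
      refine h3.trans ?_
      congr 1
      exact Subtype.ext hws

/-- An automorphism of `T` in `F` preserves the largest normal subgroup of an invariant subsystem on `T`. -/
theorem aut_mem_core {F : FusionSystem S} {T : Subgroup Ω} [Finite T] {N : FusionSystem T} (hN : N.IsInvariantIn F)
    {a : MulAut T} (ha : a ∈ F.autGroup T) (x : T) (hx : (x : Ω) ∈ N.core) : ((a x : T) : Ω) ∈ N.core := by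
  have hinj : Function.Injective (T.subtype.comp a.toMonoidHom) :=
    T.subtype_injective.comp a.injective
  have h1 := Rel.isNormal (rel_of_invariant hN ha) hinj (isNormal_core N)
  have h2 : imageAlong (T.subtype.comp a.toMonoidHom) N.core ≤ N.core := le_sSup h1
  exact h2 (image_mem _ hx)

/-- The largest normal subgroup of a normal subsystem is normal. -/
theorem isNormal_core_of_isNormalIn [Finite S] {p : ℕ} [Fact p.Prime] (hS : IsPGroup p S) {F : FusionSystem S}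
    (hF : F.IsSaturated p) {T : Subgroup Ω} {N : FusionSystem T} (hN : N.IsNormalIn F p) : F.IsNormal N.core := by
  obtain ⟨⟨-, -, hsub, hTc, hinv, hfr⟩, -⟩ := hN
  have hinvv : N.IsInvariantIn F := ⟨hsub, hTc, hinv, hfr⟩
  have hTS : T ≤ S := hTc.1
  haveI : Finite T := finite_of_le hTS
  have hcore := isNormal_core N
  have hQT : N.core ≤ T := hcore.1
  haveI : Finite N.core := finite_of_le hQT
  have key : ∀ i, F.StronglyClosed (uc N.core i) := by
    intro i
    refine ⟨(uc_le _ i).trans (hQT.trans hTS), fun P hP φ hφ x => ?_⟩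
    have hPT : P ≤ T := hP.trans ((uc_le _ i).trans hQT)
    obtain ⟨α, hα, φ₀, hφ₀, he⟩ := hfr P hPT φ hφ
    have hsc := NormalCR.IsNormal.stronglyClosed (isNormal_uc hcore i)
    have h1 : φ₀ x ∈ uc N.core i := hsc.2 P hP φ₀ hφ₀ x
    have hφT : φ₀ x ∈ T := hQT (uc_le _ i h1)
    rw [he x hφT]
    let f : N.core →* Ω := T.subtype.comp (α.toMonoidHom.comp (Subgroup.inclusion hQT))
    have hf : ∀ y : N.core, f y ∈ N.core := fun y => aut_mem_core hinvv hα _ y.2
    have hfi : Function.Injective f :=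
      T.subtype_injective.comp (α.injective.comp (Subgroup.inclusion_injective hQT))
    exact map_mem_uc f hf hfi i (x := ⟨φ₀ x, uc_le _ i h1⟩) h1
  obtain ⟨n, hn⟩ := exists_uc_eq (isPGroup_of_le hS (hQT.trans hTS))
  exact isNormal_of_uc hS hF (hn ▸ key n) key

/-- A normal subgroup of `F` is normal in every saturated subsystem on the same `S`. -/
theorem isNormal_of_le [Finite S] {p : ℕ} [Fact p.Prime] (hS : IsPGroup p S) {F E : FusionSystem S}
    (hE : E.IsSaturated p) (hEF : E.IsSubsystemOf F) {Q : Subgroup Ω} (hQ : F.IsNormal Q) : E.IsNormal Q := by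
  have hsc : ∀ {U : Subgroup Ω}, F.IsNormal U → E.StronglyClosed U := fun {U} hU =>
    ⟨hU.1, fun R hR φ hφ x => (NormalCR.IsNormal.stronglyClosed hU).2 R hR φ (hEF R hφ) x⟩
  exact isNormal_of_uc hS hE (hsc hQ) (fun i => hsc (isNormal_uc hQ i))

end Cfsg.Agent.Lib.Fusion.ResidSeries
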