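/-
If `D` is normal in `E` and contains the hyperfocal subgroup of `E` and `D` is constrained then so is `E`.
-/
import Mathlib
import Cfsg.Agent.Lib.Fusion.ResidSeries
import Cfsg.Agent.Lib.Fusion.ModelLocal
import Cfsg.Agent.Lib.Basic.PCore

set_option autoImplicit false

namespace Cfsg.Agent.Lib.Fusion.ResidSeries

open Cfsg Cfsg.FusionSystem Cfsg.Agent.Lib.Fusion.Basic
open Cfsg.Agent.Lib.Fusion.Joins (isNormal_core)
open Cfsg.Agent.Lib.Fusion.NormalCR
open scoped commutatorElement

variable {Ω : Type*} [Group Ω] {S : Subgroup Ω}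

theorem isPGroup_of_no_coprime {X : Type*} [Group X] [Finite X] {p : ℕ} [hp : Fact p.Prime]
    (h : ∀ x : X, Nat.Coprime (orderOf x) p → x = 1) : IsPGroup p X := by
  intro x
  have hx : orderOf x ≠ 0 := (orderOf_pos x).ne'
  obtain ⟨k, m, hm, he⟩ := Nat.exists_eq_pow_mul_and_not_dvd hx p hp.out.ne_one
  refine ⟨k, h _ ?_⟩
  have hp0 : 0 < p ^ k := pow_pos hp.out.pos k
  have h1 : orderOf (x ^ p ^ k) = m := by
    rw [orderOf_pow' x hp0.ne', he, Nat.gcd_mul_right_left]
    simp [Nat.mul_div_cancel_left _ hp0]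
  rw [h1]
  exact ((Nat.Prime.coprime_iff_not_dvd hp.out).2 hm).symm

/-- A `p'`-automorphism of a `p`-group acting trivially on `R` and on the quotient by `R` is trivial. -/
theorem eq_one_of_coprime_of_fix {W : Type*} [Group W] {p : ℕ} [hp : Fact p.Prime] (hW : IsPGroup p W)
    {a : MulAut W} (hc : Nat.Coprime (orderOf a) p) (R : Subgroup W) (hfix : ∀ r ∈ R, a r = r)
    (hcomm : ∀ u : W, u⁻¹ * a u ∈ R) : a = 1 := by
  ext u
  have hw := hcomm u
  have h1 : a u = u * (u⁻¹ * a u) := by group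
  have h2 := Chain.pow_apply_eq_mul_pow a h1 (hfix _ hw) (orderOf a)
  rw [pow_orderOf_eq_one] at h2
  have h3 : (u⁻¹ * a u) ^ orderOf a = 1 := by
    have h4 : u = u * (u⁻¹ * a u) ^ orderOf a := h2
    exact mul_left_cancel (h4.symm.trans (mul_one u).symm)
  obtain ⟨k, hk⟩ := hW (u⁻¹ * a u)
  have h5 : orderOf (u⁻¹ * a u) ∣ Nat.gcd (orderOf a) (p ^ k) :=
    Nat.dvd_gcd (orderOf_dvd_of_pow_eq_one h3) (orderOf_dvd_of_pow_eq_one hk)
  rw [Nat.Coprime.pow_right k hc] at h5
  have h6 : u⁻¹ * a u = 1 := orderOf_eq_one_iff.1 (Nat.dvd_one.1 h5)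
  have h7 : a u = u := by
    have := mul_left_cancel (h6.trans (inv_mul_cancel u).symm)
    exact this
  simpa using h7

/-- Elements `u⁻¹ α(u)` for `α` of order prime to `p` lie in the hyperfocal subgroup. -/
theorem diff_mem_hyperfocal {E : FusionSystem S} {p : ℕ} {U : Subgroup Ω} (hUS : U ≤ S) {a : MulAut U}
    (ha : a ∈ E.autGroup U) (hc : Nat.Coprime (orderOf a) p) (u : U) :
    (u : Ω)⁻¹ * ((a u : U) : Ω) ∈ E.hyperfocalSubgroup p := by
  refine Subgroup.subset_closure ⟨U, ⟨a, ha⟩, u, hUS, Subgroup.subset_closure ?_, rfl⟩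
  show Nat.Coprime (orderOf (⟨a, ha⟩ : E.autGroup U)) p
  rw [Subgroup.orderOf_mk]
  exact hc

/-- The centralizer of a normal subgroup is strongly closed. -/
theorem stronglyClosed_centralizerIn {E : FusionSystem S} {R : Subgroup Ω} (hR : E.IsNormal R) :
    E.StronglyClosed (centralizerIn S R) := by
  refine ⟨inf_le_left, fun P hP φ hφ x => ?_⟩
  obtain ⟨ψ, hψ, hag, himg⟩ := hR.2 P φ hφ
  refine ⟨map_mem_S hφ x, Subgroup.mem_centralizer_iff.2 fun r hr => ?_⟩
  have hrm : r ∈ (R.subgroupOf (P ⊔ R)).map ψ := by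
    rw [himg]
    exact hr
  obtain ⟨⟨r', hr'⟩, hr'R, he⟩ := hrm
  have hr'R' : r' ∈ R := hr'R
  have hxc : r' * (x : Ω) = x * r' := Subgroup.mem_centralizer_iff.1 (hP x.2).2 r' hr'R'
  have h1 : (⟨r', hr'⟩ : ↥(P ⊔ R)) * Subgroup.inclusion le_sup_left x =
      Subgroup.inclusion le_sup_left x * ⟨r', hr'⟩ := Subtype.ext hxc
  have h2 := congrArg ψ h1
  rw [map_mul, map_mul, hag, he] at h2
  exact h2

/-- The main step: the centralizer of `O_p(E)` lies in `O_p(E)` when `E` has a constrained normal subsystem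
containing the hyperfocal subgroup. -/
theorem centralizerIn_core_le [Finite S] {p : ℕ} [hp : Fact p.Prime] (hS : IsPGroup p S) {E : FusionSystem S}
    (hE : E.IsSaturated p) {T : Subgroup Ω} {D : FusionSystem T} (hD : D.IsNormalIn E p)
    (hT : E.hyperfocalSubgroup p ≤ T) (hDc : D.IsConstrained p) : centralizerIn S E.core ≤ E.core := by
  classical
  have hTS : T ≤ S := hD.1.2.2.2.1.1
  haveI : Finite T := finite_of_le hTS
  have hR := isNormal_core E
  have hRS := hR.1
  have hRsc := IsNormal.stronglyClosed hR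
  have hR₀ : E.IsNormal D.core := isNormal_core_of_isNormalIn hS hE hD
  have hR₀R : D.core ≤ E.core := le_sSup hR₀
  obtain ⟨-, Q, hQn, hQc⟩ := hDc
  have hQR₀ : Q ≤ D.core := le_sSup hQn
  have hCT : ∀ w ∈ T, (w ∈ Subgroup.centralizer (E.core : Set Ω)) → w ∈ E.core := by
    intro w hwT hwc
    have h1 : w ∈ centralizerIn T Q := ⟨hwT, Subgroup.mem_centralizer_iff.2 fun q hq =>
      Subgroup.mem_centralizer_iff.1 hwc q (hR₀R (hQR₀ hq))⟩
    exact hR₀R (hQR₀ (hQc.2 Q (Basic.IsConj.refl hQn.1) h1))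
  have hYsc := stronglyClosed_centralizerIn hR
  have hYn : E.IsNormal (centralizerIn S E.core) := by
    refine isNormal_of_stronglyClosed_of_le hS hE hYsc fun U hUc hUr => ?_
    have hUS := hUc.1
    have hRU : E.core ≤ U := IsNormal.le_of_centric_radical hS hR hUc hUr
    refine le_of_normalizer_inf_le hS hUS hYsc.1 (StronglyClosed.le_normalizer hYsc) fun a haY haN => ?_
    haveI : Finite U := finite_of_le hUS
    have hUp : IsPGroup p U := isPGroup_of_le hS hUS
    haveI : Finite (MulAut U) := Finite.of_injective (fun α : MulAut U => (α : U → U))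
      (fun a b h => MulEquiv.ext (congrFun h))
    let A := E.autGroup U
    -- the stabilizer of `R` pointwise
    let B : Subgroup A :=
      { carrier := {α | ∀ r : U, (r : Ω) ∈ E.core → (α : MulAut U) r = r}
        mul_mem' := by
          intro α β hα hβ r hr
          show (α : MulAut U) ((β : MulAut U) r) = r
          rw [hβ r hr, hα r hr]
        one_mem' := fun r _ => rfl
        inv_mem' := by
          intro α hα r hr
          show ((α : MulAut U)⁻¹) r = r
          have h1 := hα r hr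
          calc ((α : MulAut U)⁻¹) r = ((α : MulAut U)⁻¹) ((α : MulAut U) r) := by rw [h1]
            _ = r := by simp }
    have hBn : B.Normal := ⟨by
      intro α hα γ r hr
      show (γ : MulAut U) ((α : MulAut U) (((γ : MulAut U)⁻¹) r)) = r
      have h1 : (((γ : MulAut U)⁻¹ r : U) : Ω) ∈ E.core :=
        Chain.StronglyClosed.aut_mem hRsc hUS (A.inv_mem γ.2) r hr
      rw [hα _ h1]
      simp⟩
    have hBp : IsPGroup p B := by
      refine isPGroup_of_no_coprime fun b hb => ?_
      have hb' : Nat.Coprime (orderOf ((b : A) : MulAut U)) p := by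
        rw [Subgroup.orderOf_coe, Subgroup.orderOf_coe]
        exact hb
      have h1 : ((b : A) : MulAut U) = 1 := by
        refine eq_one_of_coprime_of_fix hUp hb' (E.core.subgroupOf U) (fun r hr => b.2 r hr) fun u => ?_
        have h2 := diff_mem_hyperfocal hUS (b : A).2 hb' u
        refine hCT _ (hT h2) ?_
        refine Subgroup.mem_centralizer_iff.2 fun r hr => ?_
        have hru : u.1 * r * u.1⁻¹ ∈ E.core := StronglyClosed.conj_mem hRsc (hUS u.2) hr
        let r₁ : U := ⟨r, hRU hr⟩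
        have h3 : ((b : A) : MulAut U) r₁ = r₁ := b.2 r₁ hr
        have h4 : ((b : A) : MulAut U) (u * r₁ * u⁻¹) = u * r₁ * u⁻¹ := b.2 _ hru
        rw [map_mul, map_mul, map_inv, h3] at h4
        have h5 : (((b : A) : MulAut U) u : Ω) * r * ((((b : A) : MulAut U) u : U) : Ω)⁻¹ = u * r * (u : Ω)⁻¹ :=
          congrArg (fun t : U => (t : Ω)) h4
        have h6 : (((b : A) : MulAut U) u : Ω) * r = (u : Ω) * r * (u : Ω)⁻¹ * (((b : A) : MulAut U) u : Ω) := by
          rw [← h5]
          group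
        show r * ((u : Ω)⁻¹ * (((b : A) : MulAut U) u : Ω)) = (u : Ω)⁻¹ * (((b : A) : MulAut U) u : Ω) * r
        rw [mul_assoc, h6]
        group
      exact Subtype.ext (Subtype.ext h1)
    have hBcore : B ≤ pCore p A := Cfsg.Agent.Lib.Basic.PCore.le_pCore hBn hBp
    have hmem : normConj a haN ∈ A := autInducedBy_le_autGroup hUS (normConj_mem_autInducedBy haY.1 haN)
    have hinB : (⟨normConj a haN, hmem⟩ : A) ∈ B := by
      intro r hr
      apply Subtype.ext
      show a * (r : Ω) * a⁻¹ = r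
      have := Subgroup.mem_centralizer_iff.1 haY.2 r hr
      rw [← this]
      group
    exact mem_of_conj_mem_pCore hUc hUr haY.1 (hBcore hinB) (fun x => rfl)
  exact le_sSup hYn

/-- Consequently `E` is constrained. -/
theorem isConstrained_of_residual [Finite S] {p : ℕ} [Fact p.Prime] (hS : IsPGroup p S) {E : FusionSystem S}
    (hE : E.IsSaturated p) {T : Subgroup Ω} {D : FusionSystem T} (hD : D.IsNormalIn E p)
    (hT : E.hyperfocalSubgroup p ≤ T) (hDc : D.IsConstrained p) : E.IsConstrained p :=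
  ⟨hE, E.core, isNormal_core E, ModelLocal.isCentric_of_isNormal (isNormal_core E) (centralizerIn_core_le hS hE hD hT hDc)⟩

end Cfsg.Agent.Lib.Fusion.ResidSeries
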