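/-
The `p'`-residual subsystem is normal, it is unique, and it has the same largest normal subgroup as the system.
-/
import Mathlib
import Cfsg.Agent.Lib.Fusion.ResidSeries2
import Cfsg.Agent.Lib.Fusion.PPrime3
import Cfsg.Agent.Lib.Fusion.PPowerNormal
import Cfsg.Agent.Lib.Fusion.Alperin

set_option autoImplicit false

namespace Cfsg.Agent.Lib.Fusion.ResidSeries

open Cfsg Cfsg.FusionSystem Cfsg.Agent.Lib.Fusion.Basic
open Cfsg.Agent.Lib.Fusion.Joins (isNormal_core)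
open Cfsg.Agent.Lib.Fusion.PPrime
open Cfsg.Agent.Lib.Fusion.SatCrit (imgOf mem_imgOf imgOf_le)
open Cfsg.Agent.Lib.Fusion.Subsystem (isCentric_of_isConj)

variable {Ω : Type*} [Group Ω] {S : Subgroup Ω}

/-- `Γ⁰` is normalized by `Aut_F(S)`. -/
theorem gamma0_conj {F : FusionSystem S} {p : ℕ} {α : MulAut S} (hα : α ∈ F.autGroup S) {β : MulAut S}
    (hβ : β ∈ gamma0 F p) : α * β * α⁻¹ ∈ gamma0 F p := by
  induction hβ using Subgroup.closure_induction with
  | mem β hβ =>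
    obtain ⟨hβF, R, hR, hres⟩ := hβ
    refine Subgroup.subset_closure ⟨(F.autGroup S).mul_mem ((F.autGroup S).mul_mem hα hβF)
      ((F.autGroup S).inv_mem hα), imgOf α R, isCentric_of_isConj hR ⟨_, resA_mem hα hR.1, range_resA α hR.1⟩, ?_⟩
    have h1 := coreSys_inv F p α hα R _ hres
    convert h1 using 1
    ext y
    have hyS : (y : Ω) ∈ S := imgOf_le α R y.2
    set t : S := α⁻¹ ⟨y, hyS⟩ with ht
    have hty : α t = ⟨y, hyS⟩ := by simp [ht]
    have h2 : ((α * β * α⁻¹) ⟨y, hyS⟩ : S) = α (β t) := rfl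
    have h3 : (t : Ω) ∈ R := (mem_imgOf (⟨y, hyS⟩ : S)).1 y.2
    have hb : ((α t : S) : Ω) ∈ imgOf α R := by
      have e0 : ((α t : S) : Ω) = y := congrArg (fun z : S => (z : Ω)) hty
      rw [e0]
      exact y.2
    have h4 := isConjBy_conjMap α (resA β hR.1) (map_mem_S hres) t (β t) h3 hb rfl
    have e : y = ⟨α t, hb⟩ := Subtype.ext (congrArg (fun z : S => (z : Ω)) hty).symm
    rw [resA_apply]
    show (((α * β * α⁻¹) ⟨y, hyS⟩ : S) : Ω) = _
    rw [h2, e]
    exact h4.symm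
  | one => simpa using (gamma0 F p).one_mem
  | mul x y _ _ hx hy =>
    have e : α * (x * y) * α⁻¹ = (α * x * α⁻¹) * (α * y * α⁻¹) := by group
    rw [e]
    exact (gamma0 F p).mul_mem hx hy
  | inv x _ hx =>
    have e : α * x⁻¹ * α⁻¹ = (α * x * α⁻¹)⁻¹ := by group
    rw [e]
    exact (gamma0 F p).inv_mem hx

/-- The residual system is invariant under `Aut_F(S)`. -/
theorem residSys_inv (F : FusionSystem S) (p : ℕ) : IsInvUnder (residSys F p) (F.autGroup S) := by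
  rintro α hα P φ ⟨β, hβ, φ₀, hφ₀, he⟩
  refine ⟨α * β * α⁻¹, gamma0_conj hα hβ, conjMap α φ₀ (map_mem_S hφ₀), coreSys_inv F p α hα P φ₀ hφ₀, ?_⟩
  intro y hy
  have e1 : (⟨conjMap α φ₀ (map_mem_S hφ₀) y, hy⟩ : S) = α ⟨φ₀ (backTo α P y), map_mem_S hφ₀ _⟩ := rfl
  rw [e1]
  have hv : ∀ x : P, φ x ∈ S := by
    intro x
    rw [he x (map_mem_S hφ₀ x)]
    exact (β _).2
  have e2 : φ.codRestrict S hv (backTo α P y) = β ⟨φ₀ (backTo α P y), map_mem_S hφ₀ _⟩ :=
    Subtype.ext (he _ (map_mem_S hφ₀ _))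
  show ((α (φ.codRestrict S hv (backTo α P y)) : S) : Ω) = ((α (β (α⁻¹ (α ⟨φ₀ (backTo α P y), map_mem_S hφ₀ _⟩))) : S) : Ω)
  rw [e2]
  simp

variable [Finite S] {p : ℕ} [Fact p.Prime]

/-- **The `p'`-residual subsystem is normal.** -/
theorem isNormalIn_residSys (hS : IsPGroup p S) {F : FusionSystem S} (hF : F.IsSaturated p) :
    (residSys F p).IsNormalIn F p := by
  have hSC : F.StronglyClosed S := ⟨le_rfl, fun P hP φ hφ x => map_mem_S hφ x⟩
  refine ⟨⟨residSys_saturated hS hF, hF, residSys_le F p, hSC, ?_, ?_⟩, ?_⟩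
  · intro P hPT φ hφ α hα
    have h1 := residSys_inv F p α hα P φ hφ
    have hle2 : (P.subgroupOf S).map (S.subtype.comp α.toMonoidHom) ≤ imgOf α P := (PPowerNormal.imgOf_eq_map α P).ge
    refine ⟨_, res_mem h1 hle2, fun x hφx hαx => ?_⟩
    exact isConjBy_conjMap α φ (map_mem_S hφ) ⟨x, hPT x.2⟩ ⟨φ x, hφx⟩ x.2 (hle2 hαx) rfl
  · intro P _ φ hφ
    exact (residSys_main hS hF).2.1 P φ hφ
  · intro α hα
    obtain ⟨β, hβ, h1, h2⟩ := PPowerNormal.exists_ext_TC hS hF hSC (autGroup_mono (residSys_le F p) S hα)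
    refine ⟨β, hβ, h1, fun c hc => ?_⟩
    exact (centralizerIn S S).mul_mem ((centralizerIn S S).inv_mem hc) (h2 c hc)

/-- Uniqueness of the `p'`-residual subsystem. -/
theorem eq_residSys (hS : IsPGroup p S) {F E : FusionSystem S} (hF : F.IsSaturated p) (hE : F.IsPPrimeResidual p E) :
    E = residSys F p := by
  have h1 := (isPPrimeResidual_residSys hS hF).2.2 E hE.1 hE.2.1
  have h2 := hE.2.2 _ (residSys_saturated hS hF) (residSys_main hS hF).1
  exact Alperin.ext_of_hom fun P => Set.Subset.antisymm (h2 P) (h1 P)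

end Cfsg.Agent.Lib.Fusion.ResidSeries
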