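/-
Restriction of automorphisms to strongly closed subgroups; extension of automorphisms to the product with a normal
subgroup, keeping the order coprime to `p` or a power of `p`; `p`-soluble groups with no nontrivial quotient of order
a power of `p` or prime to `p`.
-/
import Mathlib
import Cfsg.Agent.Lib.Fusion.ResidSeries3
import Cfsg.Agent.Lib.Fusion.SatCrit6
import Cfsg.Agent.Lib.Solvable.PSeries
import Cfsg.Agent.Lib.Coprime.PSolvable
import Cfsg.Agent.Lib.Transfer.Basic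

set_option autoImplicit false

namespace Cfsg.Agent.Lib.Fusion.ResidSeries

open Cfsg Cfsg.FusionSystem Cfsg.Agent.Lib.Fusion.Basic
open Cfsg.Agent.Lib.Fusion.Joins (exists_hom_of_eq isNormal_core)
open Cfsg.Agent.Lib.Fusion.IsoTr
open Cfsg.Agent.Lib.Fusion.SatCrit (stabIn mem_stabIn resAut resAut_apply resHom resHom_apply resAut_mem_autGroup)

variable {Ω : Type*} [Group Ω] {S : Subgroup Ω}

section groups

variable {G H : Type*} [Group G] [Group H]

/-- Extracting a part of an element of a group: the element has order `u * v`, `u` and `v` coprime, and the image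
under `f` has order dividing `u`. -/
theorem exists_pow_part (f : G →* H) (g : G) {u v : ℕ} (hg : orderOf g = u * v) (hc : Nat.Coprime u v)
    (hf : orderOf (f g) ∣ u) : ∃ k : ℕ, f (g ^ k) = f g ∧ orderOf (g ^ k) ∣ u := by
  obtain ⟨k, hk1, hk2⟩ := Nat.chineseRemainder hc 1 0
  refine ⟨k, ?_, ?_⟩
  · rw [map_pow]
    have h1 : k ≡ 1 [MOD orderOf (f g)] := hk1.of_dvd hf
    have := (pow_eq_pow_iff_modEq (x := f g)).2 h1
    rwa [pow_one] at this
  · apply orderOf_dvd_of_pow_eq_one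
    have hv : v ∣ k := (Nat.modEq_zero_iff_dvd).1 hk2
    obtain ⟨w, rfl⟩ := hv
    rw [← pow_mul]
    have e : v * w * u = (u * v) * w := by ring
    rw [e, ← hg, pow_mul, pow_orderOf_eq_one, one_pow]

variable [Finite G] {p : ℕ} [hp : Fact p.Prime]

theorem exists_pow_coprime (f : G →* H) (g : G) (hf : Nat.Coprime (orderOf (f g)) p) :
    ∃ k : ℕ, f (g ^ k) = f g ∧ Nat.Coprime (orderOf (g ^ k)) p := by
  obtain ⟨e, m, hm, he⟩ := Nat.exists_eq_pow_mul_and_not_dvd (orderOf_pos g).ne' p hp.out.ne_one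
  have hmp : Nat.Coprime m p := ((Nat.Prime.coprime_iff_not_dvd hp.out).2 hm).symm
  have hd : orderOf (f g) ∣ m := by
    have h1 : orderOf (f g) ∣ p ^ e * m := he ▸ orderOf_map_dvd f g
    exact (Nat.Coprime.pow_right e hf).dvd_of_dvd_mul_left h1
  obtain ⟨k, hk1, hk2⟩ := exists_pow_part f g (u := m) (v := p ^ e) (by rw [he]; ring)
    (Nat.Coprime.pow_right e hmp) hd
  exact ⟨k, hk1, Nat.Coprime.coprime_dvd_left hk2 hmp⟩

theorem exists_pow_ppow (f : G →* H) (g : G) (hf : ∃ t : ℕ, orderOf (f g) = p ^ t) :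
    ∃ k : ℕ, f (g ^ k) = f g ∧ ∃ s : ℕ, orderOf (g ^ k) = p ^ s := by
  obtain ⟨t, ht⟩ := hf
  obtain ⟨e, m, hm, he⟩ := Nat.exists_eq_pow_mul_and_not_dvd (orderOf_pos g).ne' p hp.out.ne_one
  have hmp : Nat.Coprime m p := ((Nat.Prime.coprime_iff_not_dvd hp.out).2 hm).symm
  have hd : orderOf (f g) ∣ p ^ e := by
    have h1 : orderOf (f g) ∣ p ^ e * m := he ▸ orderOf_map_dvd f g
    rw [ht] at h1 ⊢
    exact (Nat.Coprime.pow_left t hmp.symm).dvd_of_dvd_mul_right h1
  obtain ⟨k, hk1, hk2⟩ := exists_pow_part f g (u := p ^ e) (v := m) he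
    (Nat.Coprime.pow_left e hmp.symm) hd
  obtain ⟨s, -, hs⟩ := (Nat.dvd_prime_pow hp.out).1 hk2
  exact ⟨k, hk1, s, hs⟩

theorem isPSolvable_of_coprime_card (h : Nat.Coprime (Nat.card G) p) : IsPSolvable p G := by
  refine Cfsg.Agent.Lib.Coprime.PSolvable.isPSolvable_of_normal_good (⊤ : Subgroup G) (Or.inr ?_) ?_
  · rwa [Subgroup.card_top]
  · haveI : Subsingleton (G ⧸ (⊤ : Subgroup G)) := QuotientGroup.subsingleton_quotient_top
    exact Cfsg.Agent.Lib.Coprime.PSolvable.isPSolvable_of_subsingleton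

theorem isPSolvable_of_isPGroup (h : IsPGroup p G) : IsPSolvable p G := by
  obtain ⟨n, hn⟩ := IsPGroup.iff_card.mp h
  refine Cfsg.Agent.Lib.Coprime.PSolvable.isPSolvable_of_normal_good (⊤ : Subgroup G) (Or.inl ⟨n, ?_⟩) ?_
  · rw [Subgroup.card_top, hn]
  · haveI : Subsingleton (G ⧸ (⊤ : Subgroup G)) := QuotientGroup.subsingleton_quotient_top
    exact Cfsg.Agent.Lib.Coprime.PSolvable.isPSolvable_of_subsingleton

/-- The subgroup generated by the elements of `p`-power order. -/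
def pElts (p : ℕ) (X : Type*) [Group X] : Subgroup X := Subgroup.closure {α : X | ∃ k : ℕ, orderOf α = p ^ k}

instance pElts_normal (X : Type*) [Group X] : (pElts p X).Normal := PPrime.closure_p_normal X

/-- The quotient by the subgroup generated by the `p`-elements has order prime to `p`. -/
theorem coprime_card_quotient_pElts : Nat.Coprime (Nat.card (G ⧸ pElts p G)) p := by
  refine ((Nat.Prime.coprime_iff_not_dvd hp.out).2 fun hd => ?_).symm
  obtain ⟨y, hy⟩ := exists_prime_orderOf_dvd_card' p hd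
  obtain ⟨x, rfl⟩ := QuotientGroup.mk_surjective y
  obtain ⟨e, m, hm, he⟩ := Nat.exists_eq_pow_mul_and_not_dvd (orderOf_pos x).ne' p hp.out.ne_one
  have h1 : orderOf (x ^ m) = p ^ e := by
    have hm0 : m ≠ 0 := fun h => hm (h ▸ dvd_zero p)
    rw [orderOf_pow' x hm0, he, Nat.gcd_mul_left_left]
    simp [Nat.mul_div_cancel _ (Nat.pos_of_ne_zero hm0)]
  have h2 : x ^ m ∈ pElts p G := Subgroup.subset_closure ⟨e, h1⟩
  have h3 : (QuotientGroup.mk x : G ⧸ pElts p G) ^ m = 1 := by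
    rw [← QuotientGroup.mk_pow]
    exact (QuotientGroup.eq_one_iff _).2 h2
  have h4 := orderOf_dvd_of_pow_eq_one h3
  rw [hy] at h4
  exact hm h4

theorem isPSolvable_of_pElts (h : IsPSolvable p (pElts p G)) : IsPSolvable p G :=
  Solvable.PSeries.isPSolvable_of_normal_quotient (pElts p G) h
    (isPSolvable_of_coprime_card coprime_card_quotient_pElts)

theorem isPSolvable_of_pResidual (h : IsPSolvable p (pResidual p G)) : IsPSolvable p G := by
  haveI : (pResidual p G).Normal := Transfer.Basic.pResidual_normal p G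
  exact Solvable.PSeries.isPSolvable_of_normal_quotient (pResidual p G) h
    (isPSolvable_of_isPGroup Transfer.Basic.isPGroup_quotient_pResidual)

/-- A `p`-soluble group generated by its `p`-elements and by its `p'`-elements is trivial. -/
theorem subsingleton_of_residuals (h : IsPSolvable p G) (h1 : pResidual p G = ⊤) (h2 : pElts p G = ⊤) :
    Subsingleton G := by
  obtain ⟨n, H, h0, hn, -, hnormal, hgood⟩ := h
  have key : ∀ i : Fin (n + 1), H i = ⊤ := by
    intro i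
    induction i using Fin.reverseInduction with
    | last => exact hn
    | cast i ih =>
      haveI := hnormal i.castSucc
      rcases hgood i with ⟨m, hm⟩ | hc
      · rw [ih, Subgroup.relIndex_top_right] at hm
        have hq : IsPGroup p (G ⧸ H i.castSucc) := by
          refine IsPGroup.of_card (n := m) ?_
          rw [← hm]
          rfl
        have := Transfer.Basic.pResidual_le_of_isPGroup_quotient (H i.castSucc) hq
        rw [h1] at this
        exact top_le_iff.1 this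
      · rw [ih, Subgroup.relIndex_top_right] at hc
        rw [eq_top_iff, ← h2]
        refine (Subgroup.closure_le _).2 ?_
        rintro x ⟨k, hk⟩
        have h3 : orderOf (QuotientGroup.mk x : G ⧸ H i.castSucc) ∣ Nat.card (G ⧸ H i.castSucc) :=
          orderOf_dvd_natCard _
        have h4 : orderOf (QuotientGroup.mk x : G ⧸ H i.castSucc) ∣ p ^ k := by
          rw [← hk]
          exact orderOf_map_dvd (QuotientGroup.mk' (H i.castSucc)) x
        have hc' : Nat.Coprime (Nat.card (G ⧸ H i.castSucc)) p := hc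
        have h5 : orderOf (QuotientGroup.mk x : G ⧸ H i.castSucc) = 1 :=
          Nat.eq_one_of_dvd_coprimes (Nat.Coprime.pow_right k hc') h3 h4
        exact (QuotientGroup.eq_one_iff x).1 (orderOf_eq_one_iff.1 h5)
  have h3 := key 0
  rw [show (0 : Fin (n + 1)) = 0 from rfl, h0] at h3
  refine ⟨fun a b => ?_⟩
  have ha : a ∈ (⊥ : Subgroup G) := by rw [h3]; trivial
  have hb : b ∈ (⊥ : Subgroup G) := by rw [h3]; trivial
  rw [Subgroup.mem_bot.1 ha, Subgroup.mem_bot.1 hb]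

end groups

section restrict

variable {E : FusionSystem S} {A B : Subgroup Ω}

theorem mem_stabIn_of_sc (hsc : E.StronglyClosed A) (hBS : B ≤ S) {γ : MulAut B} (hγ : γ ∈ E.autGroup B) :
    γ ∈ stabIn B A := by
  intro x
  constructor
  · intro h
    have := Chain.StronglyClosed.aut_mem hsc hBS ((E.autGroup B).inv_mem hγ) (γ x) h
    simpa using this
  · exact Chain.StronglyClosed.aut_mem hsc hBS hγ x

/-- Restriction of automorphisms to a strongly closed subgroup. -/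
noncomputable def rho (hsc : E.StronglyClosed A) (hBS : B ≤ S) (hAB : A ≤ B) : E.autGroup B →* E.autGroup A where
  toFun γ := ⟨resAut hAB γ (mem_stabIn_of_sc hsc hBS γ.2), resAut_mem_autGroup hBS hAB _ γ.2⟩
  map_one' := by
    ext r
    rfl
  map_mul' a b := by
    ext r
    rfl

@[simp] theorem rho_apply (hsc : E.StronglyClosed A) (hBS : B ≤ S) (hAB : A ≤ B) (γ : E.autGroup B) (r : A) :
    (((rho hsc hBS hAB γ : E.autGroup A) : MulAut A) r : A).1 = ((γ : MulAut B) ⟨r, hAB r.2⟩ : B).1 := rfl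

/-- The product `Q R` is carried onto itself by a map preserving `Q` and `R`. -/
theorem range_eq_sup {Q R : Subgroup Ω} {ψ : ↥(Q ⊔ R) →* Ω} (hQ : (Q.subgroupOf (Q ⊔ R)).map ψ = Q)
    (hR : (R.subgroupOf (Q ⊔ R)).map ψ = R) : ψ.range = Q ⊔ R := by
  have h := image_sup (θ := ψ) (A := Q) (B := R) le_sup_left le_sup_right
  have h1 : imageAlong ψ (Q ⊔ R) = ψ.range := by
    unfold imageAlong
    rw [Subgroup.subgroupOf_self, ← MonoidHom.range_eq_map]
  rw [h1] at h
  rw [h]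
  exact congrArg₂ (· ⊔ ·) hQ hR

/-- Automorphisms extend to the product with a normal subgroup. -/
theorem exists_aut_sup {Q R : Subgroup Ω} (hQS : Q ≤ S) (hR : E.IsNormal R) {a : MulAut Q} (ha : a ∈ E.autGroup Q) :
    ∃ γ ∈ E.autGroup (Q ⊔ R), ∀ x : Q, ((γ (Subgroup.inclusion le_sup_left x) : ↥(Q ⊔ R)) : Ω) = a x := by
  obtain ⟨ψ, hψ, hag, himg⟩ := hR.2 Q _ (autGroup_mem_hom hQS ha)
  have hQi : (Q.subgroupOf (Q ⊔ R)).map ψ = Q := by
    ext y
    constructor
    · rintro ⟨⟨z, hz⟩, hzQ, rfl⟩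
      have h1 := hag ⟨z, hzQ⟩
      have e : (⟨z, hz⟩ : ↥(Q ⊔ R)) = Subgroup.inclusion le_sup_left ⟨z, hzQ⟩ := rfl
      rw [e, h1]
      exact (a _).2
    · intro hy
      refine ⟨Subgroup.inclusion le_sup_left (a⁻¹ ⟨y, hy⟩), ((a⁻¹ ⟨y, hy⟩ : Q)).2, ?_⟩
      rw [hag]
      show ((a (a⁻¹ ⟨y, hy⟩) : Q) : Ω) = y
      simp
  have hr := range_eq_sup hQi himg
  have hv : ∀ x, ψ x ∈ Q ⊔ R := fun x => hr.le ⟨x, rfl⟩
  have hs : ∀ y : ↥(Q ⊔ R), ∃ x, ψ x = y := fun y => hr.ge y.2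
  obtain ⟨γ, hγ, hγe⟩ := exists_aut_of_hom (sup_le hQS hR.1) hψ hv hs
  exact ⟨γ, hγ, fun x => by rw [hγe]; exact hag x⟩

theorem finite_mulAut (X : Type*) [Group X] [Finite X] : Finite (MulAut X) :=
  Finite.of_injective (fun α : MulAut X => (α : X → X)) (fun _ _ h => MulEquiv.ext (congrFun h))

variable [Finite S] {p : ℕ} [hp : Fact p.Prime]

/-- Membership in the stabilizer of `Q`, for a map extending an automorphism of `Q`. -/
theorem mem_stabIn_of_ext {Q W : Subgroup Ω} (hQW : Q ≤ W) {γ : MulAut W} {a : MulAut Q}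
    (he : ∀ x : Q, ((γ (Subgroup.inclusion hQW x) : W) : Ω) = a x) : γ ∈ stabIn W Q := by
  intro x
  constructor
  · intro h
    have h1 := he (a⁻¹ ⟨_, h⟩)
    have h2 : ((a (a⁻¹ ⟨_, h⟩) : Q) : Ω) = γ x := by simp
    rw [h2] at h1
    have h3 : γ (Subgroup.inclusion hQW (a⁻¹ ⟨_, h⟩)) = γ x := Subtype.ext h1
    rw [← γ.injective h3]
    exact (a⁻¹ ⟨_, h⟩ : Q).2
  · intro h
    have h1 := he ⟨x, h⟩
    have e : Subgroup.inclusion hQW ⟨x, h⟩ = x := rfl
    rw [e] at h1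
    rw [h1]
    exact (a _).2

theorem exists_aut_sup_coprime {Q R : Subgroup Ω} (hQS : Q ≤ S) (hR : E.IsNormal R) {a : MulAut Q}
    (ha : a ∈ E.autGroup Q) (hc : Nat.Coprime (orderOf a) p) :
    ∃ γ ∈ E.autGroup (Q ⊔ R), (∀ x : Q, ((γ (Subgroup.inclusion le_sup_left x) : ↥(Q ⊔ R)) : Ω) = a x) ∧
      ∃ b ∈ E.autGroup R, (∀ r : R, ((γ (Subgroup.inclusion le_sup_right r) : ↥(Q ⊔ R)) : Ω) = b r) ∧
        Nat.Coprime (orderOf b) p := by
  classical
  obtain ⟨γ₀, hγ₀, he⟩ := exists_aut_sup hQS hR ha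
  have hW : Q ⊔ R ≤ S := sup_le hQS hR.1
  haveI : Finite ↥(Q ⊔ R) := finite_of_le hW
  haveI := finite_mulAut ↥(Q ⊔ R)
  have hst : γ₀ ∈ stabIn (Q ⊔ R) Q := mem_stabIn_of_ext le_sup_left he
  have hf : resHom (le_sup_left : Q ≤ Q ⊔ R) ⟨γ₀, hst⟩ = a := by
    ext x
    exact he x
  obtain ⟨k, hk1, hk2⟩ := exists_pow_coprime (resHom (le_sup_left : Q ≤ Q ⊔ R)) (⟨γ₀, hst⟩ : stabIn (Q ⊔ R) Q)
    (by rw [hf]; exact hc)
  have hγ : γ₀ ^ k ∈ E.autGroup (Q ⊔ R) := (E.autGroup _).pow_mem hγ₀ k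
  have ho : Nat.Coprime (orderOf (γ₀ ^ k)) p := by
    have : orderOf ((⟨γ₀, hst⟩ : stabIn (Q ⊔ R) Q) ^ k) = orderOf (γ₀ ^ k) := by
      rw [← Subgroup.orderOf_coe]
      rfl
    rwa [← this]
  have hsc := NormalCR.IsNormal.stronglyClosed hR
  refine ⟨γ₀ ^ k, hγ, fun x => ?_, rho hsc hW le_sup_right ⟨γ₀ ^ k, hγ⟩, Subtype.property _, fun r => rfl, ?_⟩
  · rw [hf] at hk1
    have := congrArg (fun b : MulAut Q => ((b x : Q) : Ω)) hk1
    exact this
  · rw [Subgroup.orderOf_coe]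
    refine Nat.Coprime.coprime_dvd_left (orderOf_map_dvd _ _) ?_
    rwa [Subgroup.orderOf_mk]

theorem exists_aut_sup_ppow {Q R : Subgroup Ω} (hQS : Q ≤ S) (hR : E.IsNormal R) {a : MulAut Q}
    (ha : a ∈ E.autGroup Q) (hc : ∃ k : ℕ, orderOf a = p ^ k) :
    ∃ γ ∈ E.autGroup (Q ⊔ R), (∀ x : Q, ((γ (Subgroup.inclusion le_sup_left x) : ↥(Q ⊔ R)) : Ω) = a x) ∧
      ∃ b ∈ E.autGroup R, (∀ r : R, ((γ (Subgroup.inclusion le_sup_right r) : ↥(Q ⊔ R)) : Ω) = b r) ∧
        ∃ k : ℕ, orderOf b = p ^ k := by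
  classical
  obtain ⟨γ₀, hγ₀, he⟩ := exists_aut_sup hQS hR ha
  have hW : Q ⊔ R ≤ S := sup_le hQS hR.1
  haveI : Finite ↥(Q ⊔ R) := finite_of_le hW
  haveI := finite_mulAut ↥(Q ⊔ R)
  have hst : γ₀ ∈ stabIn (Q ⊔ R) Q := mem_stabIn_of_ext le_sup_left he
  have hf : resHom (le_sup_left : Q ≤ Q ⊔ R) ⟨γ₀, hst⟩ = a := by
    ext x
    exact he x
  obtain ⟨k, hk1, s, hk2⟩ := exists_pow_ppow (resHom (le_sup_left : Q ≤ Q ⊔ R)) (⟨γ₀, hst⟩ : stabIn (Q ⊔ R) Q)
    (by rw [hf]; exact hc)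
  have hγ : γ₀ ^ k ∈ E.autGroup (Q ⊔ R) := (E.autGroup _).pow_mem hγ₀ k
  have ho : orderOf (γ₀ ^ k) = p ^ s := by
    have : orderOf ((⟨γ₀, hst⟩ : stabIn (Q ⊔ R) Q) ^ k) = orderOf (γ₀ ^ k) := by
      rw [← Subgroup.orderOf_coe]
      rfl
    rwa [← this]
  have hsc := NormalCR.IsNormal.stronglyClosed hR
  refine ⟨γ₀ ^ k, hγ, fun x => ?_, rho hsc hW le_sup_right ⟨γ₀ ^ k, hγ⟩, Subtype.property _, fun r => rfl, ?_⟩
  · rw [hf] at hk1
    have := congrArg (fun b : MulAut Q => ((b x : Q) : Ω)) hk1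
    exact this
  · rw [Subgroup.orderOf_coe]
    have h1 : orderOf (rho hsc hW le_sup_right ⟨γ₀ ^ k, hγ⟩) ∣ p ^ s := by
      rw [← ho, ← Subgroup.orderOf_mk (γ₀ ^ k) hγ]
      exact orderOf_map_dvd _ _
    obtain ⟨t, -, ht⟩ := (Nat.dvd_prime_pow hp.out).1 h1
    exact ⟨t, ht⟩

end restrict

end Cfsg.Agent.Lib.Fusion.ResidSeries
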