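/-
Essential subgroups with a "small" invariant chain above the Frattini subgroup do not exist.
-/
import Mathlib
import Cfsg.Agent.Lib.Fusion.Chain
import Cfsg.Agent.Lib.Fusion.Resist.GL
import Cfsg.Agent.Lib.Fusion.Resist.Local

set_option autoImplicit false
set_option linter.style.haveILetI false

namespace Cfsg.Agent.Lib.Fusion.EssentialSmall

open Cfsg Cfsg.FusionSystem Cfsg.Agent.Lib.Fusion.Basic Cfsg.Agent.Lib.Fusion.Chain
open Cfsg.Agent.Lib.Fusion.Saturated

section Section

variable {P : Type*} [Group P] {p : ℕ} [hp : Fact p.Prime]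

/-- A `p`-element of `Aut(P)` acts trivially on an invariant section of index at most `p`
(no normality of `N` in `K` needed). -/
theorem mem_of_pow_eq_one_of_index_le [Finite P] {u : MulAut P} {k : ℕ} (hu : u ^ p ^ k = 1)
    {K N : Subgroup P} (hK : ∀ x ∈ K, u x ∈ K) (hN : ∀ x ∈ N, u x ∈ N)
    (hidx : (N.subgroupOf K).index ≤ p) {x : P} (hx : x ∈ K) : x⁻¹ * u x ∈ N := by
  classical
  let N' : Subgroup K := N.subgroupOf K
  let X := K ⧸ N'
  haveI : Fintype X := Fintype.ofFinite X
  let g : K → K := fun y => ⟨u y, hK y y.2⟩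
  have hg : ∀ a b : K, (QuotientGroup.leftRel N') a b → (QuotientGroup.leftRel N') (g a) (g b) := by
    intro a b hab
    rw [QuotientGroup.leftRel_apply] at hab ⊢
    have h1 : ((a⁻¹ * b : K) : P) ∈ N := hab
    have h2 := hN _ h1
    rw [Subgroup.mem_subgroupOf]
    show ((g a)⁻¹ * g b : P) ∈ N
    simpa [g, map_mul, map_inv] using h2
  let f : X → X := Quotient.map' g hg
  have hf : ∀ y : K, f (QuotientGroup.mk y) = QuotientGroup.mk (g y) := fun y => rfl
  have hiter : ∀ (n : ℕ) (y : K), f^[n] (QuotientGroup.mk y) =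
      QuotientGroup.mk (⟨(u ^ n) y, by
        induction n with
        | zero => exact y.2
        | succ n ih => rw [pow_succ']; exact hK _ ih⟩ : K) := by
    intro n y
    induction n with
    | zero => rfl
    | succ n ih =>
      rw [Function.iterate_succ_apply', ih, hf]
      congr 1
      apply Subtype.ext
      show u ((u ^ n) y) = (u ^ (n + 1)) (y : P)
      rw [pow_succ']
      rfl
  have hper : ∀ a : X, Function.IsPeriodicPt f (p ^ k) a := by
    intro a
    obtain ⟨y, rfl⟩ := QuotientGroup.mk_surjective a
    show f^[p ^ k] _ = _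
    rw [hiter]
    congr 1
    apply Subtype.ext
    show (u ^ p ^ k) (y : P) = y
    rw [hu]
    rfl
  let e : X := QuotientGroup.mk (1 : K)
  have hfe : f e = e := by
    show f (QuotientGroup.mk (1 : K)) = _
    rw [hf]
    congr 1
    apply Subtype.ext
    show u 1 = 1
    exact map_one u
  set a : X := QuotientGroup.mk (⟨x, hx⟩ : K) with ha
  have hm : Function.minimalPeriod f a ∣ p ^ k := (hper a).minimalPeriod_dvd
  obtain ⟨j, -, hj⟩ := (Nat.dvd_prime_pow hp.out).1 hm
  have hfix : f a = a := by
    rcases Nat.eq_zero_or_pos j with rfl | hjpos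
    · rw [pow_zero] at hj
      exact Function.minimalPeriod_eq_one_iff_isFixedPt.1 hj
    · exfalso
      set m := Function.minimalPeriod f a with hmdef
      have hpm : p ≤ m := by
        rw [hj]
        exact Nat.le_self_pow hjpos.ne' p
      have hmpos : 0 < m := Nat.lt_of_lt_of_le hp.out.pos hpm
      have hne : a ≠ e := by
        intro h
        have h1 : m = 1 := by
          rw [hmdef, h]
          exact Function.minimalPeriod_eq_one_iff_isFixedPt.2 hfe
        have := hp.out.one_lt
        omega
      have hinj := Function.iterate_injOn_Iio_minimalPeriod (f := f) (x := a)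
      let T : Finset X := (Finset.range m).image (fun i => f^[i] a)
      have hTcard : T.card = m := by
        rw [Finset.card_image_of_injOn]
        · exact Finset.card_range m
        · intro i hi l hl hil
          exact hinj (by simpa using hi) (by simpa using hl) hil
      have heT : e ∉ T := by
        intro hin
        obtain ⟨i, hi, hie⟩ := Finset.mem_image.1 hin
        have hi' : i < m := by simpa using hi
        have h1 : f^[m - i] e = e := by
          have : ∀ n, f^[n] e = e := by
            intro n
            induction n with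
            | zero => rfl
            | succ n ih => rw [Function.iterate_succ_apply', ih, hfe]
          exact this _
        have h2 : f^[m - i] (f^[i] a) = a := by
          rw [← Function.iterate_add_apply]
          have : m - i + i = m := by omega
          rw [this]
          exact Function.iterate_minimalPeriod
        rw [hie, h1] at h2
        exact hne h2.symm
      have hcard : T.card + 1 ≤ Fintype.card X := by
        have : (insert e T).card = T.card + 1 := Finset.card_insert_of_notMem heT
        rw [← this]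
        exact Finset.card_le_univ _
      have hidx' : Fintype.card X ≤ p := by
        rw [← Nat.card_eq_fintype_card]
        exact hidx
      omega
  rw [ha, hf] at hfix
  have h3 := QuotientGroup.eq.1 hfix.symm
  exact h3

/-- An automorphism of order prime to `p` stabilizing a chain from the Frattini subgroup to the top is
trivial. -/
theorem eq_one_of_stab_frattini_chain [Finite P] (hP : IsPGroup p P) {D : ℕ → Subgroup P} {m : ℕ}
    (h0 : D 0 = frattini P) (hm : D m = ⊤) {β : MulAut P}
    (hinv : ∀ i ≤ m, ∀ x ∈ D i, β x ∈ D i)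
    (hβ : ∀ i < m, ∀ x ∈ D (i + 1), x⁻¹ * β x ∈ D i)
    (hc : (orderOf β).Coprime p) : β = 1 := by
  classical
  obtain ⟨V, _, _, π, hπ, hker⟩ := Cfsg.Agent.Lib.PGroup.FrattiniBasis.exists_vector_space hP
  have hpow : ∀ x : P, (π x) ^ p = 1 := by
    intro x
    rw [← map_pow, ← MonoidHom.mem_ker, hker]
    exact Cfsg.Agent.Lib.PGroup.FrattiniBasis.pow_mem_frattini hP x
  have key : ∀ i, i ≤ m → ∀ x ∈ D i, π (β x) = π x := by
    intro i
    induction i with
    | zero =>
      intro _ x hx
      rw [h0] at hx
      have h1 : x ∈ π.ker := by rw [hker]; exact hx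
      have h2 : β x ∈ π.ker := by
        rw [hker]
        exact (Cfsg.Agent.Lib.PGroup.ActionFrattini.char_mem (frattini P) β |>.2 hx)
      rw [MonoidHom.mem_ker] at h1 h2
      rw [h1, h2]
    | succ i ih =>
      intro hi x hx
      have h1 := hβ i (by omega) x hx
      set n := x⁻¹ * β x with hn
      have hnfix : ∀ j : ℕ, π ((β ^ j) n) = π n := by
        intro j
        have hmem : ∀ j : ℕ, (β ^ j) n ∈ D i := by
          intro j
          induction j with
          | zero => exact h1
          | succ j ihj =>
            rw [pow_succ', MulAut.mul_apply]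
            exact hinv i (by omega) _ ihj
        induction j with
        | zero => rfl
        | succ j ihj =>
          rw [pow_succ', MulAut.mul_apply, ih (by omega) _ (hmem j), ihj]
      have h3 : β x = x * n := by rw [hn]; group
      have h4 : ∀ j : ℕ, π ((β ^ j) x) = π x * (π n) ^ j := by
        intro j
        induction j with
        | zero => simp
        | succ j ihj =>
          have e : (β ^ (j + 1)) x = (β ^ j) x * (β ^ j) n := by
            rw [pow_succ, MulAut.mul_apply, h3, map_mul]
          rw [e, map_mul, ihj, hnfix, pow_succ, mul_assoc]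
      have h5 := h4 (orderOf β)
      rw [pow_orderOf_eq_one] at h5
      have h6 : (π n) ^ orderOf β = 1 := by
        have : π x = π x * (π n) ^ orderOf β := h5
        simpa using this.symm
      have h7 : orderOf (π n) ∣ p := orderOf_dvd_of_pow_eq_one (hpow n)
      have h8 : orderOf (π n) ∣ orderOf β := orderOf_dvd_of_pow_eq_one h6
      have h9 : orderOf (π n) = 1 := Nat.eq_one_of_dvd_coprimes hc.symm h7 h8
      have h10 : π n = 1 := orderOf_eq_one_iff.1 h9
      rw [h3, map_mul, h10, mul_one]
  have hall : ∀ x : P, π (β x) = π x := fun x => key m le_rfl x (by rw [hm]; trivial)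
  have h1 := (Cfsg.Agent.Lib.Fusion.Resist.GL.frattGL_eq_one_iff (p := p) π hπ hker β).2 hall
  exact Cfsg.Agent.Lib.Fusion.Resist.GL.eq_one_of_frattGL_eq_one hP π hπ hker h1 (pow_orderOf_eq_one β) hc

end Section

section Fusion

variable {Ω : Type*} [Group Ω] {S : Subgroup Ω} [Finite S] {p : ℕ} [hp : Fact p.Prime]
  {F : FusionSystem S} {H : Subgroup Ω}

/-- An essential subgroup has a `p`-element of `Aut_F` which is not inner. -/
theorem exists_pElt_not_inn (hE : F.IsEssential p H) :
    ∃ u ∈ F.autGroup H, (∃ k : ℕ, u ^ p ^ k = 1) ∧ u ∉ Inn H := by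
  classical
  obtain ⟨hcent, -, hnn, E₀, hE₀⟩ := hE
  have hHS := hcent.1
  haveI := finite_autGroup (F := F) hHS
  haveI := hnn
  have hd : p ∣ Nat.card (F.autGroup H ⧸ (Inn H).subgroupOf (F.autGroup H)) := hE₀.1
  obtain ⟨x, hx⟩ := exists_prime_orderOf_dvd_card' p hd
  obtain ⟨a, rfl⟩ := QuotientGroup.mk_surjective x
  obtain ⟨k, r, hr, hn⟩ := Nat.exists_eq_pow_mul_and_not_dvd (orderOf_pos a).ne' p hp.out.ne_one
  refine ⟨((a ^ r : F.autGroup H) : MulAut H), (a ^ r).2, ⟨k, ?_⟩, ?_⟩
  · have h1 : a ^ (r * p ^ k) = 1 := by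
      rw [mul_comm, ← hn]
      exact pow_orderOf_eq_one a
    have h2 : ((a ^ r) ^ p ^ k : F.autGroup H) = 1 := by
      rw [← pow_mul]
      exact h1
    exact congrArg Subtype.val h2
  · intro hin
    have h1 : ((a ^ r : F.autGroup H) : F.autGroup H ⧸ (Inn H).subgroupOf (F.autGroup H)) = 1 :=
      (QuotientGroup.eq_one_iff _).2 (Subgroup.mem_subgroupOf.2 hin)
    have h2 : (a : F.autGroup H ⧸ (Inn H).subgroupOf (F.autGroup H)) ^ r = 1 := by
      rw [← QuotientGroup.mk_pow]
      exact h1
    have h3 := orderOf_dvd_of_pow_eq_one h2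
    rw [hx] at h3
    exact hr h3

/-- With an invariant chain from the Frattini subgroup to the top with steps of index at most `p`, every
`p`-element of `Aut_F(H)`, `H` essential, is inner. -/
theorem pElt_mem_inn_of_chain (hS : IsPGroup p S) (hE : F.IsEssential p H)
    {D : ℕ → Subgroup H} {m : ℕ} (h0 : D 0 = frattini H) (hm : D m = ⊤)
    (hinv : ∀ i ≤ m, ∀ α ∈ F.autGroup H, ∀ x ∈ D i, α x ∈ D i)
    (hidx : ∀ i < m, ((D i).subgroupOf (D (i + 1))).index ≤ p)
    {u : MulAut H} (hu : u ∈ F.autGroup H) {k : ℕ} (hk : u ^ p ^ k = 1) : u ∈ Inn H := by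
  classical
  have hHS : H ≤ S := hE.1.1
  haveI hfH : Finite H := finite_of_le hHS
  have hHp : IsPGroup p H := isPGroup_of_le hS hHS
  haveI hfM : Finite (MulAut H) := Finite.of_injective (fun α : MulAut H => (α : H → H)) DFunLike.coe_injective
  let C := chainStab (F.autGroup H) D m hinv
  have hCn : C.Normal := chainStab_normal _ D m hinv
  have hCp : IsPGroup p C := by
    refine Cfsg.Agent.Lib.Coprime.Stability.isPGroup_of_forall_coprime hp.out _ ?_
    intro γ hγ hc
    apply Subtype.ext
    have hc' : (orderOf (γ : MulAut H)).Coprime p := by rwa [Subgroup.orderOf_coe]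
    exact eq_one_of_stab_frattini_chain hHp h0 hm (fun i hi x hx => hinv i hi _ γ.2 x hx) hγ hc'
  have hmem : (⟨u, hu⟩ : F.autGroup H) ∈ C := by
    intro i hi x hx
    have hu' : ∀ j ≤ m, ∀ y ∈ D j, u y ∈ D j := fun j hj y hy => hinv j hj u hu y hy
    exact mem_of_pow_eq_one_of_index_le hk (hu' (i + 1) hi) (hu' i (by omega)) (hidx i hi) hx
  exact Cfsg.Agent.Lib.Fusion.Resist.Local.mem_inn_of_normal_of_essential hE hCn hCp hmem

/-- An essential subgroup has no such chain. -/
theorem false_of_chain (hS : IsPGroup p S) (hE : F.IsEssential p H)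
    {D : ℕ → Subgroup H} {m : ℕ} (h0 : D 0 = frattini H) (hm : D m = ⊤)
    (hinv : ∀ i ≤ m, ∀ α ∈ F.autGroup H, ∀ x ∈ D i, α x ∈ D i)
    (hidx : ∀ i < m, ((D i).subgroupOf (D (i + 1))).index ≤ p) : False := by
  obtain ⟨u, hu, ⟨k, hk⟩, hn⟩ := exists_pElt_not_inn hE
  exact hn (pElt_mem_inn_of_chain hS hE h0 hm hinv hidx hu hk)

/-- For abelian `H`, inner automorphisms are trivial. -/
theorem eq_one_of_mem_inn {G : Type*} [Group G] (hc : IsMulCommutative G) {u : MulAut G} (hu : u ∈ Inn G) : u = 1 := by
  obtain ⟨g, rfl⟩ := hu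
  ext x
  have : g * x = x * g := hc.is_comm.comm g x
  show g * x * g⁻¹ = x
  rw [this]
  group

end Fusion

end Cfsg.Agent.Lib.Fusion.EssentialSmall
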