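/-
Abelian `p`-groups of rank at most two: the characteristic maximal subgroup or homocyclic dichotomy, and
the binomial argument excluding homocyclic essential subgroups of exponent at least `p²` for `p ≥ 5`.
-/
import Mathlib
import Cfsg.Agent.Lib.PGroup.FrattiniBasis
import Cfsg.Agent.Lib.PGroup.ActionFrattini
import Cfsg.Agent.Lib.Fusion.EssentialSmall

set_option autoImplicit false
set_option linter.style.haveILetI false

namespace Cfsg.Agent.Lib.Fusion.AbelianEssential

open Cfsg.Agent.Lib.PGroup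

universe u

section Pure

variable {X : Type u} [CommGroup X] [Finite X] {p : ℕ} [hp : Fact p.Prime]

theorem frattini_eq_range_pow (hX : IsPGroup p X) :
    frattini X = (powMonoidHom p : X →* X).range := by
  apply le_antisymm
  · refine ActionFrattini.frattini_le hX _ ?_ (fun x => ⟨x, rfl⟩)
    rw [commutator_def, Subgroup.commutator_le]
    intro a _ b _
    rw [commutatorElement_eq_one_iff_mul_comm.2 (mul_comm a b)]
    exact one_mem _
  · rintro _ ⟨x, rfl⟩
    exact FrattiniBasis.pow_mem_frattini hX x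

theorem card_ker_pow (hX : IsPGroup p X) :
    Nat.card (powMonoidHom p : X →* X).ker = (frattini X).index := by
  have h1 := Subgroup.card_mul_index (powMonoidHom p : X →* X).ker
  have h2 := Subgroup.card_mul_index (frattini X)
  rw [Subgroup.index_ker, ← frattini_eq_range_pow hX] at h1
  have h3 : 0 < Nat.card (frattini X) := Nat.card_pos
  have h4 : Nat.card (frattini X) * Nat.card (powMonoidHom p : X →* X).ker =
      Nat.card (frattini X) * (frattini X).index := by
    rw [h2, mul_comm, h1]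
  exact Nat.eq_of_mul_eq_mul_left h3 h4

/-- The dichotomy. -/
theorem dichotomy (hX : IsPGroup p X) (hΦ : (frattini X).index ≤ p ^ 2) [hne : Nontrivial X] :
    (∃ M : Subgroup X, (∀ α : MulAut X, ∀ x ∈ M, α x ∈ M) ∧ frattini X ≤ M ∧ M.index = p) ∨
    (∃ a : ℕ, 1 ≤ a ∧ (∀ x : X, x ^ p ^ a = 1) ∧ (frattini X).index = p ^ 2 ∧
      ∀ x : X, x ^ p ^ (a - 1) = 1 → x ∈ frattini X) := by
  classical
  obtain ⟨n, hn⟩ := IsPGroup.iff_card.1 hX
  have hex : ∃ a : ℕ, ∀ x : X, x ^ p ^ a = 1 := ⟨n, fun x => by rw [← hn]; exact pow_card_eq_one'⟩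
  set a := Nat.find hex with ha
  have h1 : ∀ x : X, x ^ p ^ a = 1 := Nat.find_spec hex
  have ha1 : 1 ≤ a := by
    rw [Nat.one_le_iff_ne_zero]
    intro h0
    rw [h0] at h1
    obtain ⟨x, hx⟩ := exists_ne (1 : X)
    apply hx
    simpa using h1 x
  have h2 : ¬ ∀ x : X, x ^ p ^ (a - 1) = 1 := Nat.find_min hex (by omega)
  have h1' : ∀ x : X, (x ^ p ^ (a - 1)) ^ p = 1 := by
    intro x
    rw [← pow_mul, ← pow_succ]
    have : a - 1 + 1 = a := by omega
    rw [this]
    exact h1 x
  let f : X →* X := powMonoidHom (p ^ (a - 1))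
  have hf : ∀ x, f x = x ^ p ^ (a - 1) := fun _ => rfl
  have hKidx : f.ker.index = Nat.card f.range := Subgroup.index_ker f
  have hIne : f.range ≠ ⊥ := by
    intro h
    apply h2
    intro x
    have : f x ∈ f.range := ⟨x, rfl⟩
    rw [h, Subgroup.mem_bot] at this
    exact this
  have hIp : IsPGroup p f.range := IsPGroup.of_surjective hX f.rangeRestrict f.rangeRestrict_surjective
  obtain ⟨j, hj⟩ := IsPGroup.iff_card.1 hIp
  have hj0 : j ≠ 0 := by
    rintro rfl
    rw [pow_zero] at hj
    exact hIne (Subgroup.eq_bot_of_card_eq _ hj)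
  have hI : f.range ≤ (powMonoidHom p : X →* X).ker := by
    rintro _ ⟨x, rfl⟩
    exact h1' x
  have hle : Nat.card f.range ≤ Nat.card (powMonoidHom p : X →* X).ker :=
    Subgroup.card_le_of_le hI
  rw [card_ker_pow hX] at hle
  have hj2 : j ≤ 2 := by
    have : p ^ j ≤ p ^ 2 := by
      rw [← hj]
      exact hle.trans hΦ
    exact (Nat.pow_le_pow_iff_right hp.out.one_lt).1 this
  have hΦK : frattini X ≤ f.ker := by
    rw [frattini_eq_range_pow hX]
    rintro _ ⟨x, rfl⟩
    show (x ^ p) ^ p ^ (a - 1) = 1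
    rw [← pow_mul, ← pow_succ']
    have : a - 1 + 1 = a := by omega
    rw [this]
    exact h1 x
  by_cases hj1 : j = 1
  · left
    refine ⟨f.ker, fun α x hx => ?_, hΦK, ?_⟩
    · have h3 : x ^ p ^ (a - 1) = 1 := hx
      show (α x) ^ p ^ (a - 1) = 1
      rw [← map_pow, h3, map_one]
    · rw [hKidx, hj, hj1, pow_one]
  · right
    have hj' : j = 2 := by omega
    have hKi : f.ker.index = p ^ 2 := by rw [hKidx, hj, hj']
    have hdvd : f.ker.index ∣ (frattini X).index := Subgroup.index_dvd_of_le hΦK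
    have hΦi : (frattini X).index = p ^ 2 := by
      apply le_antisymm hΦ
      rw [← hKi]
      exact Nat.le_of_dvd (Nat.pos_of_ne_zero Subgroup.index_ne_zero_of_finite) hdvd
    have hKeq : f.ker = frattini X := by
      symm
      apply Subgroup.eq_of_le_of_card_ge hΦK
      have e1 := Subgroup.card_mul_index f.ker
      have e2 := Subgroup.card_mul_index (frattini X)
      rw [hKi] at e1
      rw [hΦi] at e2
      have h3 : Nat.card f.ker * p ^ 2 = Nat.card (frattini X) * p ^ 2 := by rw [e1, e2]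
      have hpos : 0 < p ^ 2 := pow_pos hp.out.pos 2
      exact (Nat.eq_of_mul_eq_mul_right hpos h3).le
    exact ⟨a, ha1, h1, hΦi, fun x hx => by
      rw [← hKeq]
      exact hx⟩

/-- Homocyclic groups. -/
theorem iso_of_data (hX : IsPGroup p X) {a : ℕ} (ha : 1 ≤ a) (h1 : ∀ x : X, x ^ p ^ a = 1)
    (h2 : (frattini X).index = p ^ 2) (h3 : ∀ x : X, x ^ p ^ (a - 1) = 1 → x ∈ frattini X) :
    Nonempty (X ≃* Multiplicative (ZMod (p ^ a) × ZMod (p ^ a))) := by
  classical
  obtain ⟨g, hg⟩ := FrattiniBasis.exists_generating_tuple hX (r := 2) h2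
  obtain ⟨V, _, _, π, hπ, hker⟩ := FrattiniBasis.exists_vector_space hX
  have hfin : Module.finrank (ZMod p) V = 2 := FrattiniBasis.finrank_eq hπ hker h2
  haveI : Finite V := FrattiniBasis.finite_of_surj hπ
  haveI : Module.Finite (ZMod p) V := Module.Finite.of_finite
  have hspan := FrattiniBasis.span_eq_top_of_closure (p := p) hπ hg
  let b : Fin 2 → V := fun i => Multiplicative.toAdd (π (g i))
  have hb : LinearIndependent (ZMod p) b := by
    apply linearIndependent_of_top_le_span_of_card_eq_finrank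
    · rw [← hspan, ← Set.range_comp]
      exact le_rfl
    · simp [hfin]
  have hpa : 1 < p ^ a := Nat.one_lt_pow (by omega) hp.out.one_lt
  haveI : NeZero (p ^ a) := ⟨(by omega)⟩
  haveI : Fact (1 < p ^ a) := ⟨hpa⟩
  have hval : ∀ (y : X) (s t : ZMod (p ^ a)), y ^ (s + t).val = y ^ s.val * y ^ t.val := by
    intro y s t
    rw [ZMod.val_add, ← pow_add, pow_eq_pow_mod (s.val + t.val) (h1 y)]
  let ψ : Multiplicative (ZMod (p ^ a) × ZMod (p ^ a)) →* X :=
    MonoidHom.mk' (fun z => g 0 ^ (Multiplicative.toAdd z).1.val * g 1 ^ (Multiplicative.toAdd z).2.val)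
      (fun u v => by
        show g 0 ^ ((Multiplicative.toAdd u).1 + (Multiplicative.toAdd v).1).val *
          g 1 ^ ((Multiplicative.toAdd u).2 + (Multiplicative.toAdd v).2).val = _
        rw [hval, hval]
        exact mul_mul_mul_comm _ _ _ _)
  have hsurj : Function.Surjective ψ := by
    rw [← MonoidHom.range_eq_top, eq_top_iff, ← hg, Subgroup.closure_le]
    rintro _ ⟨i, rfl⟩
    fin_cases i
    · refine ⟨Multiplicative.ofAdd (1, 0), ?_⟩
      show g 0 ^ (1 : ZMod (p ^ a)).val * g 1 ^ (0 : ZMod (p ^ a)).val = _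
      rw [ZMod.val_one, ZMod.val_zero, pow_one, pow_zero, mul_one]
      rfl
    · refine ⟨Multiplicative.ofAdd (0, 1), ?_⟩
      show g 0 ^ (0 : ZMod (p ^ a)).val * g 1 ^ (1 : ZMod (p ^ a)).val = _
      rw [ZMod.val_one, ZMod.val_zero, pow_one, pow_zero, one_mul]
      rfl
  have hinj : Function.Injective ψ := by
    rw [injective_iff_map_eq_one]
    intro z hz
    by_contra hz1
    -- an element of order `p` in the kernel
    have hzp : z ^ p ^ a = 1 := by
      apply Multiplicative.toAdd.injective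
      show (p ^ a) • (Multiplicative.toAdd z) = (0 : ZMod (p ^ a) × ZMod (p ^ a))
      have e0 : ∀ s : ZMod (p ^ a), (p ^ a) • s = 0 := by
        intro s
        rw [nsmul_eq_mul, ZMod.natCast_self, zero_mul]
      exact Prod.ext (e0 _) (e0 _)
    have hdvd : orderOf z ∣ p ^ a := orderOf_dvd_of_pow_eq_one hzp
    obtain ⟨j, -, hj⟩ := (Nat.dvd_prime_pow hp.out).1 hdvd
    have hj0 : j ≠ 0 := by
      rintro rfl
      rw [pow_zero] at hj
      exact hz1 (orderOf_eq_one_iff.1 hj)
    obtain ⟨i, rfl⟩ : ∃ i, j = i + 1 := ⟨j - 1, by omega⟩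
    set w := z ^ p ^ i with hw
    have hw1 : w ≠ 1 := by
      intro h
      have h4 := orderOf_dvd_of_pow_eq_one h
      rw [hj] at h4
      have h5 := Nat.pow_dvd_pow_iff_le_right hp.out.one_lt |>.1 h4
      omega
    have hwp : w ^ p = 1 := by
      rw [hw, ← pow_mul, ← pow_succ, ← hj]
      exact pow_orderOf_eq_one z
    have hψw : ψ w = 1 := by
      rw [hw, map_pow, hz, one_pow]
    have key : ∀ s : ZMod (p ^ a), p • s = 0 → ∃ s' : ℕ, s' < p ∧ s.val = p ^ (a - 1) * s' := by
      intro s hs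
      have h4 : ((p * s.val : ℕ) : ZMod (p ^ a)) = 0 := by
        push_cast
        rw [ZMod.natCast_zmod_val]
        rw [nsmul_eq_mul] at hs
        exact hs
      rw [ZMod.natCast_eq_zero_iff] at h4
      have h5 : p ^ a = p * p ^ (a - 1) := by
        rw [← pow_succ']
        congr 1
        omega
      have h4' : p * p ^ (a - 1) ∣ p * s.val := by
        rw [← h5]
        exact h4
      have h6 := Nat.dvd_of_mul_dvd_mul_left hp.out.pos h4'
      obtain ⟨s', hs'⟩ := h6
      refine ⟨s', ?_, hs'⟩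
      have h7 : s.val < p ^ a := ZMod.val_lt s
      have h8 : p ^ (a - 1) * s' < p ^ (a - 1) * p := by
        rw [← hs', mul_comm, ← h5]
        exact h7
      exact Nat.lt_of_mul_lt_mul_left h8
    have hwe : p • (Multiplicative.toAdd w) = (0 : ZMod (p ^ a) × ZMod (p ^ a)) :=
      congrArg Multiplicative.toAdd hwp
    obtain ⟨s', hs'p, hs'⟩ := key (Multiplicative.toAdd w).1 (by simpa using congrArg Prod.fst hwe)
    obtain ⟨t', ht'p, ht'⟩ := key (Multiplicative.toAdd w).2 (by simpa using congrArg Prod.snd hwe)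
    have hψ : ψ w = g 0 ^ (Multiplicative.toAdd w).1.val * g 1 ^ (Multiplicative.toAdd w).2.val := rfl
    rw [hs', ht', pow_mul, pow_mul, pow_right_comm (g 0), pow_right_comm (g 1), ← mul_pow] at hψ
    rw [hψw] at hψ
    have hy := h3 _ hψ.symm
    rw [← hker, MonoidHom.mem_ker] at hy
    have hy' : (s' : ZMod p) • b 0 + (t' : ZMod p) • b 1 = 0 := by
      have h8 := congrArg Multiplicative.toAdd hy
      rw [map_mul, map_pow, map_pow] at h8
      rw [Nat.cast_smul_eq_nsmul, Nat.cast_smul_eq_nsmul]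
      exact h8
    have h9 := (LinearIndependent.pair_iff.1 (by
      have e : b = ![b 0, b 1] := by
        ext i
        fin_cases i <;> rfl
      rw [e] at hb
      exact hb)) _ _ hy'
    have hs0 : s' = 0 := by
      have := (ZMod.natCast_eq_zero_iff s' p).1 h9.1
      exact Nat.eq_zero_of_dvd_of_lt this hs'p
    have ht0 : t' = 0 := by
      have := (ZMod.natCast_eq_zero_iff t' p).1 h9.2
      exact Nat.eq_zero_of_dvd_of_lt this ht'p
    apply hw1
    apply Multiplicative.toAdd.injective
    refine Prod.ext ?_ ?_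
    · apply ZMod.val_injective
      rw [hs', hs0, mul_zero]
      exact ZMod.val_zero.symm
    · apply ZMod.val_injective
      rw [ht', ht0, mul_zero]
      exact ZMod.val_zero.symm
  exact ⟨(MulEquiv.ofBijective ψ ⟨hinj, hsurj⟩).symm⟩

end Pure

section Binomial

/-- The binomial argument. -/
theorem binomial_aux {V : Type*} [AddCommGroup V] {p : ℕ} (hp : p.Prime) (hp5 : 5 ≤ p)
    (N : AddMonoid.End V) (hN : (N + 1) ^ p = 1) (h2 : ∀ v, ∃ w, N (N v) = p • w) (v : V) :
    ∃ w, p • N v = (p * p) • w := by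
  classical
  let W : AddSubgroup V := (nsmulAddMonoidHom (p * p)).range
  have hW : ∀ y, y ∈ W ↔ ∃ w, y = (p * p) • w := by
    intro y
    constructor
    · rintro ⟨w, rfl⟩
      exact ⟨w, rfl⟩
    · rintro ⟨w, rfl⟩
      exact ⟨w, rfl⟩
  have hpow2 : ∀ (k : ℕ) (u : V), ∃ w, (N ^ (k + 2)) u = p • w := by
    intro k u
    obtain ⟨w₀, hw₀⟩ := h2 u
    refine ⟨(N ^ k) w₀, ?_⟩
    have e : (N ^ (k + 2)) u = (N ^ k) (N (N u)) := by
      rw [pow_succ, pow_succ]
      rfl
    rw [e, hw₀, map_nsmul]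
  have hpow4 : ∀ (k : ℕ) (u : V), ∃ w, (N ^ (k + 4)) u = (p * p) • w := by
    intro k u
    obtain ⟨w₀, hw₀⟩ := h2 u
    obtain ⟨w₁, hw₁⟩ := h2 w₀
    refine ⟨(N ^ k) w₁, ?_⟩
    have e : (N ^ (k + 4)) u = (N ^ k) (N (N (N (N u)))) := by
      rw [pow_succ, pow_succ, pow_succ, pow_succ]
      rfl
    rw [e, hw₀, map_nsmul, map_nsmul, hw₁, map_nsmul, map_nsmul, mul_nsmul]
  have hexp : ∀ u : V, u = ∑ m ∈ Finset.range (p + 1), (p.choose m) • (N ^ m) u := by
    intro u
    have e := (Commute.one_right N).add_pow p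
    rw [hN] at e
    have e2 := congrArg (fun f : AddMonoid.End V => f u) e
    simp only [one_pow, mul_one] at e2
    have e3 : (∑ m ∈ Finset.range (p + 1), N ^ m * ((p.choose m : ℕ) : AddMonoid.End V)) u =
        ∑ m ∈ Finset.range (p + 1), (p.choose m) • (N ^ m) u := by
      have esum : ∀ (s : Finset ℕ) (f : ℕ → AddMonoid.End V), (∑ m ∈ s, f m) u = ∑ m ∈ s, f m u := by
        intro s f
        induction s using Finset.induction_on with
        | empty => rfl
        | insert a s ha ih =>
          rw [Finset.sum_insert ha, Finset.sum_insert ha, ← ih]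
          rfl
      rw [esum]
      refine Finset.sum_congr rfl fun m _ => ?_
      show (N ^ m) (((p.choose m : ℕ) : AddMonoid.End V) u) = _
      rw [AddMonoid.End.natCast_apply, map_nsmul]
    rw [e3] at e2
    exact e2
  have hterm : ∀ m ∈ Finset.range (p - 1), (p.choose (m + 2)) • (N ^ (m + 2)) v ∈ W := by
    intro m hm
    have hm' : m + 2 ≤ p := by
      have := Finset.mem_range.1 hm
      omega
    rcases Nat.lt_or_ge (m + 2) p with hlt | hge
    · obtain ⟨c, hc⟩ := hp.dvd_choose_self (by omega) hlt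
      obtain ⟨w, hw⟩ := hpow2 m v
      rw [hW]
      refine ⟨c • w, ?_⟩
      rw [hc, hw, ← mul_nsmul, ← mul_nsmul]
      congr 1
      ring
    · have hmp : m + 2 = p := by omega
      obtain ⟨k, hk⟩ : ∃ k, m + 2 = k + 4 := ⟨m + 2 - 4, by omega⟩
      obtain ⟨w, hw⟩ := hpow4 k v
      rw [hk, hw]
      have e : p.choose (k + 4) = 1 := by
        rw [← hk, hmp, Nat.choose_self]
      rw [e, one_nsmul, hW]
      exact ⟨w, rfl⟩
  have hsum := hexp v
  have hp1 : p + 1 = (p - 1) + 1 + 1 := by
    have := hp.two_le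
    omega
  rw [hp1, Finset.sum_range_succ', Finset.sum_range_succ'] at hsum
  simp only [Nat.choose_zero_right, one_nsmul, pow_zero, Nat.choose_one_right, pow_one, zero_add] at hsum
  have hS : ∑ m ∈ Finset.range (p - 1), (p.choose (m + 1 + 1)) • (N ^ (m + 1 + 1)) v ∈ W :=
    AddSubgroup.sum_mem W hterm
  obtain ⟨w, hw⟩ := (hW _).1 hS
  refine ⟨-w, ?_⟩
  have e1 : (1 : AddMonoid.End V) v = v := rfl
  rw [e1, hw] at hsum
  have e2 : (p * p) • w + p • N v = 0 := by
    have h3 : (p * p) • w + p • N v + v = 0 + v := by rw [zero_add]; exact hsum.symm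
    exact add_right_cancel h3
  rw [smul_neg]
  exact eq_neg_of_add_eq_zero_right e2

variable {X : Type u} [CommGroup X] [Finite X] {p : ℕ} [hp : Fact p.Prime]

/-- The multiplicative form. -/
theorem mem_frattini_of_binomial (hX : IsPGroup p X) (hp5 : 5 ≤ p) {α : MulAut X} (hα : α ^ p = 1)
    (h2 : ∀ x : X, (x⁻¹ * α x)⁻¹ * α (x⁻¹ * α x) ∈ frattini X)
    (hΩ : ∀ x : X, x ^ p = 1 → x ∈ frattini X) (x : X) : x⁻¹ * α x ∈ frattini X := by
  classical
  let a : AddMonoid.End (Additive X) := MonoidHom.toAdditive α.toMonoidHom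
  have ha : ∀ y : X, a (Additive.ofMul y) = Additive.ofMul (α y) := fun _ => rfl
  have hpow : ∀ (k : ℕ) (y : X), (a ^ k) (Additive.ofMul y) = Additive.ofMul ((α ^ k) y) := by
    intro k y
    induction k generalizing y with
    | zero => rfl
    | succ k ih =>
      rw [pow_succ, pow_succ]
      show (a ^ k) (a (Additive.ofMul y)) = _
      rw [ha, ih]
      rfl
  have hap : a ^ p = 1 := by
    ext v
    have h3 := hpow p (Additive.toMul v)
    rw [hα] at h3
    exact h3
  let N : AddMonoid.End (Additive X) := a - 1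
  have hN : (N + 1) ^ p = 1 := by
    have : N + 1 = a := sub_add_cancel a 1
    rw [this, hap]
  have hNv : ∀ y : X, N (Additive.ofMul y) = Additive.ofMul (y⁻¹ * α y) := by
    intro y
    show a (Additive.ofMul y) - Additive.ofMul y = _
    rw [ha, ← ofMul_div, div_eq_mul_inv, mul_comm]
  have hmem : ∀ y ∈ frattini X, ∃ w : X, y = w ^ p := by
    intro y hy
    rw [frattini_eq_range_pow hX] at hy
    obtain ⟨w, rfl⟩ := hy
    exact ⟨w, rfl⟩
  have h2' : ∀ v, ∃ w, N (N v) = p • w := by
    intro v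
    obtain ⟨w, hw⟩ := hmem _ (h2 (Additive.toMul v))
    refine ⟨Additive.ofMul w, ?_⟩
    have e : v = Additive.ofMul (Additive.toMul v) := rfl
    rw [e, hNv, hNv, hw]
    rfl
  obtain ⟨w, hw⟩ := binomial_aux hp.out hp5 N hN h2' (Additive.ofMul x)
  rw [hNv] at hw
  have h3 : (x⁻¹ * α x) ^ p = ((Additive.toMul w) ^ p) ^ p := by
    rw [← pow_mul]
    exact congrArg Additive.toMul hw
  have h4 : ((x⁻¹ * α x) * ((Additive.toMul w) ^ p)⁻¹) ^ p = 1 := by
    rw [mul_pow, inv_pow, h3, mul_inv_cancel]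
  have h5 := hΩ _ h4
  have h6 : (Additive.toMul w) ^ p ∈ frattini X := Cfsg.Agent.Lib.PGroup.FrattiniBasis.pow_mem_frattini hX _
  have e : x⁻¹ * α x = ((x⁻¹ * α x) * ((Additive.toMul w) ^ p)⁻¹) * (Additive.toMul w) ^ p := by
    group
  rw [e]
  exact mul_mem h5 h6

end Binomial

section Fusion

open Cfsg Cfsg.FusionSystem Cfsg.Agent.Lib.Fusion.Basic Cfsg.Agent.Lib.Fusion.Chain
  Cfsg.Agent.Lib.Fusion.EssentialSmall

/-- `(α - 1)² = 0` on the Frattini quotient for a `p`-element `α`, in rank at most two. -/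
theorem sq_mem_frattini {X : Type u} [Group X] [Finite X] {p : ℕ} [hp : Fact p.Prime] (hX : IsPGroup p X)
    (hΦ : (frattini X).index ≤ p ^ 2) {α : MulAut X} {k : ℕ} (hα : α ^ p ^ k = 1) (x : X) :
    (x⁻¹ * α x)⁻¹ * α (x⁻¹ * α x) ∈ frattini X := by
  classical
  obtain ⟨V, _, _, π, hπ, hker⟩ := FrattiniBasis.exists_vector_space hX
  haveI : Finite V := FrattiniBasis.finite_of_surj hπ
  haveI : Module.Finite (ZMod p) V := Module.Finite.of_finite
  have hVle : Module.finrank (ZMod p) V ≤ 2 := by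
    have h1 : (frattini X).index = Nat.card V := by
      rw [← hker, Subgroup.index_ker, MonoidHom.range_eq_top.2 hπ]
      exact (Subgroup.card_top).trans (Nat.card_congr Multiplicative.toAdd)
    have h2 : Nat.card V = p ^ Module.finrank (ZMod p) V := by
      rw [Module.natCard_eq_pow_finrank (K := ZMod p), Nat.card_zmod]
    rw [h1, h2] at hΦ
    exact (Nat.pow_le_pow_iff_right hp.out.one_lt).1 hΦ
  let L := Resist.GL.frattGL (p := p) π hπ hker α
  have hL : ∀ h : X, L (Multiplicative.toAdd (π h)) = Multiplicative.toAdd (π (α h)) :=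
    fun h => Resist.GL.frattGL_apply (p := p) π hπ hker α h
  have hLp : L ^ p ^ k = 1 := by
    show (Resist.GL.frattGL (p := p) π hπ hker α) ^ p ^ k = 1
    rw [← map_pow, hα, map_one]
  rw [← hker, MonoidHom.mem_ker]
  apply Multiplicative.toAdd.injective
  by_cases hv : ∀ v : V, v = 0
  · exact hv _
  push Not at hv
  obtain ⟨v, hv⟩ := hv
  obtain ⟨u, hu, hLu⟩ := Resist.GL.exists_fixed L hLp v hv
  obtain ⟨d, hd⟩ := Resist.GL.exists_add_smul hVle L hLp hu hLu (Multiplicative.toAdd (π x))
  have hy : Multiplicative.toAdd (π (x⁻¹ * α x)) = d • u := by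
    rw [map_mul, map_inv, toAdd_mul, toAdd_inv, ← hL, hd]
    abel
  have hy2 : Multiplicative.toAdd (π (α (x⁻¹ * α x))) = d • u := by
    rw [← hL, hy, map_smul, hLu]
  rw [map_mul, map_inv, toAdd_mul, toAdd_inv, hy, hy2]
  simp

variable {Ω : Type*} [Group Ω] {S : Subgroup Ω} [Finite S] {p : ℕ} [hp : Fact p.Prime]
  {F : FusionSystem S} {H : Subgroup Ω}

/-- An element of `Aut_F(H)`, `H` essential, stabilizing a chain from the Frattini subgroup to the top is
inner. -/
theorem mem_inn_of_stab (hS : IsPGroup p S) (hE : F.IsEssential p H)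
    {D : ℕ → Subgroup H} {m : ℕ} (h0 : D 0 = frattini H) (hm : D m = ⊤)
    (hinv : ∀ i ≤ m, ∀ α ∈ F.autGroup H, ∀ x ∈ D i, α x ∈ D i)
    {u : MulAut H} (hu : u ∈ F.autGroup H) (hst : ∀ i < m, ∀ x ∈ D (i + 1), x⁻¹ * u x ∈ D i) :
    u ∈ Inn H := by
  classical
  have hHS : H ≤ S := hE.1.1
  haveI hfH : Finite H := finite_of_le hHS
  have hHp : IsPGroup p H := isPGroup_of_le hS hHS
  haveI hfM : Finite (MulAut H) :=
    Finite.of_injective (fun α : MulAut H => (α : H → H)) DFunLike.coe_injective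
  let C := chainStab (F.autGroup H) D m hinv
  have hCn : C.Normal := chainStab_normal _ D m hinv
  have hCp : IsPGroup p C := by
    refine Cfsg.Agent.Lib.Coprime.Stability.isPGroup_of_forall_coprime hp.out _ ?_
    intro γ hγ hc
    apply Subtype.ext
    have hc' : (orderOf (γ : MulAut H)).Coprime p := by rwa [Subgroup.orderOf_coe]
    exact eq_one_of_stab_frattini_chain hHp h0 hm (fun i hi x hx => hinv i hi _ γ.2 x hx) hγ hc'
  have hmem : (⟨u, hu⟩ : F.autGroup H) ∈ C := hst
  exact Cfsg.Agent.Lib.Fusion.Resist.Local.mem_inn_of_normal_of_essential hE hCn hCp hmem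

/-- No invariant subgroup of index `p` above the Frattini subgroup, in rank at most two. -/
theorem false_of_invariant_max (hS : IsPGroup p S) (hE : F.IsEssential p H) {M : Subgroup H}
    (hinv : ∀ α : MulAut H, ∀ x ∈ M, α x ∈ M) (hΦM : frattini H ≤ M) (hM : M.index = p)
    (hΦ : (frattini H).index ≤ p ^ 2) : False := by
  let D : ℕ → Subgroup H := fun i => match i with
    | 0 => frattini H
    | 1 => M
    | _ => ⊤
  refine false_of_chain (D := D) (m := 2) hS hE rfl rfl ?_ ?_
  · intro i hi α _ x hx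
    match i, hi, hx with
    | 0, _, hx => exact (Cfsg.Agent.Lib.PGroup.ActionFrattini.char_mem (frattini H) α).2 hx
    | 1, _, hx => exact hinv α x hx
    | 2, _, _ => trivial
  · intro i hi
    match i, hi with
    | 0, _ =>
      show ((frattini H).subgroupOf M).index ≤ p
      have h1 : (frattini H).relIndex M * M.index = (frattini H).index := Subgroup.relIndex_mul_index hΦM
      rw [hM] at h1
      have h2 : (frattini H).relIndex M * p ≤ p * p := by
        rw [h1, ← pow_two]
        exact hΦ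
      exact Nat.le_of_mul_le_mul_right h2 hp.out.pos
    | 1, _ =>
      show M.relIndex ⊤ ≤ p
      rw [Subgroup.relIndex_top_right, hM]

/-- **S5187**, core. -/
theorem abelian_essential (hS : IsPGroup p S) (hE : F.IsEssential p H) (hab : IsMulCommutative H)
    (hrk : (frattini H).index ≤ p ^ 2) :
    (Cfsg.IsElementaryAbelian p H ∧ Nat.card H = p ^ 2) ∨
      (p ≤ 3 ∧ ∃ k : ℕ, Nonempty (↥H ≃* Multiplicative (ZMod (p ^ k) × ZMod (p ^ k)))) := by
  classical
  have hHS : H ≤ S := hE.1.1
  haveI hfH : Finite H := finite_of_le hHS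
  have hHp : IsPGroup p H := isPGroup_of_le hS hHS
  obtain ⟨u, hu, ⟨k, hk⟩, hn⟩ := exists_pElt_not_inn hE
  have hu1 : u ≠ 1 := fun h => hn (h ▸ one_mem _)
  haveI hnt : Nontrivial H := by
    by_contra hcon
    rw [not_nontrivial_iff_subsingleton] at hcon
    apply hu1
    ext x
    exact congrArg _ (Subsingleton.elim _ _)
  letI iC : CommGroup H := { (inferInstance : Group H) with mul_comm := hab.is_comm.comm }
  rcases dichotomy hHp hrk with ⟨M, h1, h2, h3⟩ | ⟨a, ha, h1, h2, h3⟩
  · exact (false_of_invariant_max hS hE h1 h2 h3 hrk).elim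
  · obtain ⟨e⟩ := iso_of_data hHp ha h1 h2 h3
    by_cases ha1 : a = 1
    · subst ha1
      left
      refine ⟨⟨hab, fun x hx => ?_⟩, ?_⟩
      · have h4 := h1 ⟨x, hx⟩
        rw [pow_one] at h4
        exact congrArg (fun t : H => (t : Ω)) h4
      · rw [Nat.card_congr e.toEquiv, Nat.card_congr Multiplicative.toAdd, Nat.card_prod, Nat.card_zmod]
        ring
    · by_cases hp3 : p ≤ 3
      · exact Or.inr ⟨hp3, a, ⟨e⟩⟩
      · exfalso
        have hp5 : 5 ≤ p := by
          by_contra h5
          have h4 : p = 4 := by omega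
          rw [h4] at hp
          exact absurd hp.out (by norm_num)
        have hdvd : orderOf u ∣ p ^ k := orderOf_dvd_of_pow_eq_one hk
        obtain ⟨l, -, hl⟩ := (Nat.dvd_prime_pow hp.out).1 hdvd
        have hl0 : l ≠ 0 := by
          rintro rfl
          rw [pow_zero] at hl
          exact hu1 (orderOf_eq_one_iff.1 hl)
        obtain ⟨j, rfl⟩ : ∃ j, l = j + 1 := ⟨l - 1, by omega⟩
        have hαmem : u ^ p ^ j ∈ F.autGroup H := Subgroup.pow_mem _ hu _
        have hαp : (u ^ p ^ j) ^ p = 1 := by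
          rw [← pow_mul, ← pow_succ, ← hl]
          exact pow_orderOf_eq_one u
        have hαne : u ^ p ^ j ≠ 1 := by
          intro h
          have h4 := orderOf_dvd_of_pow_eq_one h
          rw [hl] at h4
          have h5 := (Nat.pow_dvd_pow_iff_le_right hp.out.one_lt).1 h4
          omega
        have hΩ : ∀ x : H, x ^ p = 1 → x ∈ frattini H := by
          intro x hx
          apply h3
          obtain ⟨b, hb⟩ : ∃ b, a - 1 = b + 1 := ⟨a - 2, by omega⟩
          rw [hb, pow_succ', pow_mul, hx, one_pow]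
        have hst := mem_frattini_of_binomial hHp hp5 hαp
          (fun x => sq_mem_frattini hHp hrk (k := 1) (by rw [pow_one]; exact hαp) x) hΩ
        let D : ℕ → Subgroup H := fun i => match i with
          | 0 => frattini H
          | _ => ⊤
        have hinn := mem_inn_of_stab (D := D) (m := 1) hS hE rfl rfl (by
            intro i hi α _ x hx
            match i, hi, hx with
            | 0, _, hx => exact (Cfsg.Agent.Lib.PGroup.ActionFrattini.char_mem (frattini H) α).2 hx
            | 1, _, _ => trivial) hαmem (by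
            intro i hi x _
            match i, hi with
            | 0, _ => exact hst x)
        exact hαne (eq_one_of_mem_inn hab hinn)

end Fusion

end Cfsg.Agent.Lib.Fusion.AbelianEssential
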