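/-
Normal subgroups of saturated fusion systems through essential subgroups.
-/
import Mathlib
import Cfsg.Prelude.Def_FusionSystem
import Cfsg.Agent.Lib.Fusion.Basic
import Cfsg.Agent.Lib.Fusion.Saturated
import Cfsg.Agent.Lib.Fusion.Alperin
import Cfsg.Agent.Lib.Fusion.Essential
import Cfsg.Agent.Lib.Fusion.Joins
import Cfsg.Agent.Lib.Fusion.LocalSystems

set_option autoImplicit false

namespace Cfsg.Agent.Lib.Fusion.NormalEssential

open Cfsg Cfsg.FusionSystem Cfsg.Agent.Lib.Fusion.Basic Cfsg.Agent.Lib.Fusion.Alperin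
  Cfsg.Agent.Lib.Fusion.Essential

variable {Ω : Type*} [Group Ω] {S : Subgroup Ω}

/-- A fusion system transported along an equality of the underlying subgroups. -/
theorem exists_cast {T S : Subgroup Ω} (h : T = S) (E : FusionSystem T) :
    ∃ E' : FusionSystem S, ∀ P, E'.Hom P = E.Hom P := by
  subst h
  exact ⟨E, fun _ => rfl⟩

/-- A normal subgroup of the system is contained in every essential subgroup. -/
theorem le_of_isNormal_of_essential [Finite S] {p : ℕ} [Fact p.Prime] (hS : IsPGroup p S) {F : FusionSystem S}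
    (hF : F.IsSaturated p) {Q P : Subgroup Ω} (hQ : F.IsNormal Q) (hP : F.IsEssential p P) : Q ≤ P := by
  classical
  by_contra hcon
  have hPS : P ≤ S := hP.1.1
  have hlt : P < P ⊔ Q := by
    refine lt_of_le_of_ne le_sup_left fun h => hcon ?_
    rw [h]
    exact le_sup_right
  have hQa : F.IsFullyAutomized p P := (Saturated.fullyNormalized_props hS hF hP.2.1).2
  haveI := inn_subgroupOf_normal P (F.autGroup P)
  haveI : Finite (F.autGroup P) := Saturated.finite_autGroup hPS
  obtain ⟨T₀, hT₀⟩ := hQa.2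
  apply image_ne_top_of_essential hS hPS T₀ hT₀ hP
  rw [eq_top_iff]
  intro x _
  obtain ⟨α, rfl⟩ := outMap_surjective (F := F) (Q := P) x
  refine ⟨α, ?_, rfl⟩
  obtain ⟨ψ, hψ, hag, -⟩ := hQ.2 P (P.subtype.comp (α : MulAut P).toMonoidHom)
    (autGroup_mem_hom hPS α.2)
  exact Subgroup.subset_closure ⟨P ⊔ Q, hlt, ψ, hψ, hag⟩

/-- Invariance of a normal subgroup `Q ≤ P` under `Aut_F(P)`. -/
theorem map_eq_of_isNormal {F : FusionSystem S} {Q P : Subgroup Ω} (hQ : F.IsNormal Q) (hQP : Q ≤ P)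
    (hPS : P ≤ S) {α : MulAut P} (hα : α ∈ F.autGroup P) :
    (Q.subgroupOf P).map α.toMonoidHom = Q.subgroupOf P := by
  obtain ⟨ψ, hψ, hag, hmap⟩ := hQ.2 P (P.subtype.comp α.toMonoidHom) (autGroup_mem_hom hPS hα)
  ext y
  constructor
  · rintro ⟨x, hx, rfl⟩
    have h1 : Subgroup.inclusion le_sup_left x ∈ Q.subgroupOf (P ⊔ Q) := hx
    have h2 : ψ (Subgroup.inclusion le_sup_left x) ∈ (Q.subgroupOf (P ⊔ Q)).map ψ := ⟨_, h1, rfl⟩
    rw [hmap, hag] at h2
    exact h2
  · intro hy
    have h1 : (y : Ω) ∈ (Q.subgroupOf (P ⊔ Q)).map ψ := by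
      rw [hmap]
      exact hy
    obtain ⟨z, hz, hzy⟩ := h1
    have hzQ : (z : Ω) ∈ Q := hz
    refine ⟨⟨z, hQP hzQ⟩, hz, ?_⟩
    have h2 := hag ⟨z, hQP hzQ⟩
    have h3 : Subgroup.inclusion le_sup_left (⟨z, hQP hzQ⟩ : P) = z := Subtype.ext rfl
    rw [h3, hzy] at h2
    exact Subtype.ext h2.symm

/-- Characterisation of normal subgroups through `S` and the essential subgroups. -/
theorem isNormal_iff_essential [Finite S] {p : ℕ} [Fact p.Prime] (hS : IsPGroup p S) {F : FusionSystem S}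
    (hF : F.IsSaturated p) {Q : Subgroup Ω} :
    F.IsNormal Q ↔ ∀ P : Subgroup Ω, (P = S ∨ F.IsEssential p P) →
      (Q ≤ P ∧ ∀ α ∈ F.autGroup P, (Q.subgroupOf P).map α.toMonoidHom = Q.subgroupOf P) := by
  classical
  constructor
  · intro hQ P hP
    have hPS : P ≤ S := by
      rcases hP with rfl | hP
      · exact le_rfl
      · exact hP.1.1
    have hQP : Q ≤ P := by
      rcases hP with rfl | hP
      · exact hQ.1
      · exact le_of_isNormal_of_essential hS hF hQ hP
    exact ⟨hQP, fun α hα => map_eq_of_isNormal hQ hQP hPS hα⟩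
  · intro h
    have hQS : Q ≤ S := (h S (Or.inl rfl)).1
    -- `Q` is normal in `S`
    have hSN : normalizerIn S Q = S := by
      refine le_antisymm inf_le_left (le_inf le_rfl ?_)
      intro g hg
      have hgN : g ∈ Subgroup.normalizer (S : Set Ω) := Subgroup.le_normalizer hg
      have hαA : normConj g hgN ∈ F.autGroup S :=
        autInducedBy_le_autGroup le_rfl (normConj_mem_autInducedBy hg hgN)
      have hinv := (h S (Or.inl rfl)).2 _ hαA
      refine Subgroup.mem_normalizer_iff.2 fun y => ⟨fun hy => ?_, fun hy => ?_⟩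
      · have h1 : normConj g hgN ⟨y, hQS hy⟩ ∈ Q.subgroupOf S := by
          rw [← hinv]
          exact ⟨⟨y, hQS hy⟩, hy, rfl⟩
        exact h1
      · have hyS : y ∈ S := by
          have h1 : g * y * g⁻¹ ∈ S := hQS hy
          have h2 : y = g⁻¹ * (g * y * g⁻¹) * g := by group
          rw [h2]
          exact S.mul_mem (S.mul_mem (S.inv_mem hg) h1) hg
        have h1 : (⟨g * y * g⁻¹, hQS hy⟩ : S) ∈ Q.subgroupOf S := hy
        rw [← hinv] at h1
        obtain ⟨x, hx, hxy⟩ := h1
        have h2 : g * (x : Ω) * g⁻¹ = g * y * g⁻¹ := congrArg Subtype.val hxy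
        have h3 : (x : Ω) = y := mul_left_cancel (mul_right_cancel h2)
        rw [← h3]
        exact hx
    obtain ⟨E, hE⟩ := exists_cast hSN (LocalSystems.normalizerSystem F Q hQS)
    have hle : F ≤ E := by
      refine le_of_essential hS hF ?_
      intro P hP α hα
      have hPS : P ≤ S := by
        rcases hP with rfl | hP
        · exact le_rfl
        · exact hP.1.1
      obtain ⟨hQP, hinv⟩ := h P hP
      apply mem_autGroup_of_mem
      rw [hE]
      have hφ := autGroup_mem_hom hPS hα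
      refine ⟨hφ, hPS.trans hSN.ge, fun x => hSN.ge (map_mem_S hφ x), ?_⟩
      have e : P = P ⊔ Q := (sup_eq_left.2 hQP).symm
      obtain ⟨ψ, hψ, hag⟩ := Joins.exists_hom_of_eq F e _ hφ
      refine ⟨ψ, hψ, fun x => hag x x.2 _, ?_⟩
      ext y
      constructor
      · rintro ⟨z, hz, rfl⟩
        have hzQ : (z : Ω) ∈ Q := hz
        have h1 : ψ z = ((α ⟨z, hQP hzQ⟩ : P) : Ω) := hag z (hQP hzQ) z.2
        rw [h1]
        have h2 : α ⟨z, hQP hzQ⟩ ∈ Q.subgroupOf P := by
          rw [← hinv α hα]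
          exact ⟨⟨z, hQP hzQ⟩, hz, rfl⟩
        exact h2
      · intro hy
        have h1 : (⟨y, hQP hy⟩ : P) ∈ Q.subgroupOf P := hy
        rw [← hinv α hα] at h1
        obtain ⟨x, hx, hxy⟩ := h1
        refine ⟨⟨x, le_sup_left (a := P) x.2⟩, hx, ?_⟩
        have h2 := hag x x.2 (le_sup_left (a := P) x.2)
        rw [h2]
        exact congrArg Subtype.val hxy
    refine ⟨hQS, fun P φ hφ => ?_⟩
    have h1 := hle P hφ
    rw [hE] at h1
    exact h1.2.2.2

end Cfsg.Agent.Lib.Fusion.NormalEssential
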