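/-
Consequences of essentiality used for subgroups with transvection actions: essential subgroups are
radical, and a conjugate of `Aut_S(P)` "opposite" to `Aut_S(P)` meets nothing in a common `p`-subgroup.
Alperin's fusion theorem as an induction principle with essential subgroups only, and for classes of
subgroups.
-/
import Mathlib
import Cfsg.Prelude.Def_FusionSystem
import Cfsg.Agent.Lib.Fusion.Basic
import Cfsg.Agent.Lib.Fusion.Saturated
import Cfsg.Agent.Lib.Fusion.Saturated2
import Cfsg.Agent.Lib.Fusion.Alperin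
import Cfsg.Agent.Lib.Fusion.AlperinInduct
import Cfsg.Agent.Lib.Fusion.Essential
import Cfsg.Agent.Lib.Fusion.NormalEssential
import Cfsg.Agent.Lib.Basic.StrongP
import Cfsg.Agent.Lib.Basic.PCore

set_option autoImplicit false

namespace Cfsg.Agent.Lib.Fusion.EssentialPair

open Cfsg Cfsg.FusionSystem Cfsg.Agent.Lib.Fusion.Basic Cfsg.Agent.Lib.Fusion.Saturated
  Cfsg.Agent.Lib.Fusion.Saturated2 Cfsg.Agent.Lib.Fusion.Alperin Cfsg.Agent.Lib.Fusion.Essential
  Cfsg.Agent.Lib.Basic

variable {Ω : Type*} [Group Ω] {S : Subgroup Ω} [Finite S] {p : ℕ} [hp : Fact p.Prime]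
  {F : FusionSystem S} {P : Subgroup Ω}

/-- Essential subgroups are radical. -/
theorem isRadical_of_essential (hS : IsPGroup p S) (hP : F.IsEssential p P) : F.IsRadical p P := by
  classical
  obtain ⟨hC, hFN, hN, M, hM⟩ := hP
  have hPS : P ≤ S := hC.1
  haveI := hN
  haveI : Finite (F.autGroup P) := finite_autGroup hPS
  refine ⟨hPS, le_antisymm ?_ ?_⟩
  · -- the image of `O_p` in `Out` is trivial
    let π := outMap F P
    have hπ : Function.Surjective π := outMap_surjective
    have hcoreN : ((pCore p (F.autGroup P)).map π).Normal :=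
      Subgroup.Normal.map (PCore.pCore_normal p _) π hπ
    have hcorep : IsPGroup p ((pCore p (F.autGroup P)).map π) :=
      (PCore.pCore_isPGroup p).map π
    have hbot : (pCore p (F.autGroup P)).map π = ⊥ := by
      by_contra hne
      obtain ⟨P₀, hP₀M, -, hP₀N⟩ := StrongP.exists_sylow hM
      have hle : (pCore p (F.autGroup P)).map π ≤ (P₀ : Subgroup _) :=
        hcorep.le_sylow_of_normal P₀
      have hnorm := hP₀N _ hle hne
      apply StrongP.ne_top hM
      rw [eq_top_iff, ← Subgroup.normalizer_eq_top_iff.2 hcoreN]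
      exact hnorm
    rintro _ ⟨α, hα, rfl⟩
    have h1 : π α = 1 := by
      have : π α ∈ (pCore p (F.autGroup P)).map π := ⟨α, hα, rfl⟩
      rw [hbot] at this
      exact this
    exact outMap_eq_one_iff.1 h1
  · intro β hβ
    have hβA : β ∈ F.autGroup P := inn_le_autGroup hPS hβ
    refine ⟨⟨β, hβA⟩, ?_, rfl⟩
    refine PCore.le_pCore (N := (Inn P).subgroupOf (F.autGroup P)) hN ?_ ?_
    · have h2 : IsPGroup p (autInducedBy S P) := isPGroup_autInducedBy hS P
      intro x
      obtain ⟨n, hn⟩ := h2 ⟨(x : F.autGroup P).1, inn_le_autInducedBy hPS x.2⟩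
      refine ⟨n, Subtype.ext (Subtype.ext ?_)⟩
      simpa using congrArg Subtype.val hn
    · exact hβ

/-- An opposite conjugate of `Aut_S(P)`. -/
theorem exists_pair (hS : IsPGroup p S) (hF : F.IsSaturated p) (hP : F.IsEssential p P) :
    ∃ α ∈ F.autGroup P, ∀ u ∈ autInducedBy S P, ∀ v ∈ autInducedBy S P, u ∉ Inn P → v ∉ Inn P →
      ¬ IsPGroup p (Subgroup.closure ({u, α * v * α⁻¹} : Set (MulAut P))) := by
  classical
  have hPS : P ≤ S := hP.1.1
  have hQa : F.IsFullyAutomized p P := (fullyNormalized_props hS hF hP.2.1).2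
  obtain ⟨-, -, hN, M, hM⟩ := hP
  haveI := hN
  haveI : Finite (F.autGroup P) := finite_autGroup hPS
  obtain ⟨T₀, hT₀⟩ := hQa.2
  let π := outMap F P
  have hπ : Function.Surjective π := outMap_surjective
  let T' : Sylow p (F.autGroup P ⧸ (Inn P).subgroupOf (F.autGroup P)) := T₀.mapSurjective hπ
  obtain ⟨P₀, hP₀M, -, -⟩ := StrongP.exists_sylow hM
  obtain ⟨w, hw⟩ := MulAction.exists_smul_eq (F.autGroup P ⧸ (Inn P).subgroupOf (F.autGroup P)) P₀ T'
  have hMne := StrongP.ne_top hM
  obtain ⟨a, ha⟩ : ∃ a, a ∉ M := by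
    by_contra hcon
    push Not at hcon
    exact hMne (eq_top_iff.2 fun x _ => hcon x)
  obtain ⟨α, hα⟩ := hπ (w * a * w⁻¹)
  refine ⟨α.1, α.2, fun u hu v hv hui hvi hL => ?_⟩
  have huA : u ∈ F.autGroup P := autInducedBy_le_autGroup hPS hu
  have hvA : v ∈ F.autGroup P := autInducedBy_le_autGroup hPS hv
  let u' : F.autGroup P := ⟨u, huA⟩
  let v' : F.autGroup P := ⟨v, hvA⟩
  -- the `p`-subgroup of `Aut_F(P)`
  let L' : Subgroup (F.autGroup P) := Subgroup.closure {u', α * v' * α⁻¹}
  have hLmap : L'.map (F.autGroup P).subtype =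
      Subgroup.closure ({u, α.1 * v * α.1⁻¹} : Set (MulAut P)) := by
    rw [MonoidHom.map_closure, Set.image_pair]
    rfl
  have hL' : IsPGroup p L' := by
    have h1 : IsPGroup p (L'.map (F.autGroup P).subtype) := by
      rw [hLmap]
      exact hL
    intro x
    obtain ⟨n, hn⟩ := h1 ⟨(x : F.autGroup P).1, ⟨x, x.2, rfl⟩⟩
    refine ⟨n, Subtype.ext (Subtype.ext ?_)⟩
    simpa using congrArg Subtype.val hn
  let R : Subgroup (F.autGroup P ⧸ (Inn P).subgroupOf (F.autGroup P)) :=
    (L'.map π).map (MulAut.conj w⁻¹).toMonoidHom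
  have hRp : IsPGroup p R := (hL'.map π).map _
  have hT'mem : ∀ t ∈ autInducedBy S P, ∀ ht : t ∈ F.autGroup P,
      w⁻¹ * π ⟨t, ht⟩ * w ∈ (P₀ : Subgroup _) := by
    intro t ht htA
    rw [← StrongP.mem_smul_sylow, hw]
    show π ⟨t, htA⟩ ∈ ((T₀.mapSurjective hπ : Sylow p _) : Subgroup _)
    rw [Sylow.coe_mapSurjective]
    refine ⟨⟨t, htA⟩, ?_, rfl⟩
    rw [hT₀]
    exact ht
  have hne1 : ∀ t : F.autGroup P, t.1 ∉ Inn P → w⁻¹ * π t * w ≠ 1 := by
    intro t ht h1
    apply ht
    apply outMap_eq_one_iff.1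
    have : π t = w * (w⁻¹ * π t * w) * w⁻¹ := by group
    rw [this, h1]
    simp
  have hxR : w⁻¹ * π u' * w ∈ R := by
    refine ⟨π u', ⟨u', Subgroup.subset_closure (by simp), rfl⟩, ?_⟩
    simp [MulAut.conj_apply]
  have hyR : a * (w⁻¹ * π v' * w) * a⁻¹ ∈ R := by
    refine ⟨π (α * v' * α⁻¹), ⟨α * v' * α⁻¹, Subgroup.subset_closure (by simp), rfl⟩, ?_⟩
    have e : π (α * v' * α⁻¹) = w * a * w⁻¹ * π v' * (w * a * w⁻¹)⁻¹ := by
      rw [map_mul π, map_mul π, map_inv π, hα]
    show (MulAut.conj w⁻¹) (π (α * v' * α⁻¹)) = _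
    rw [e, MulAut.conj_apply]
    group
  have hxM : w⁻¹ * π u' * w ∈ M := hP₀M (hT'mem u hu huA)
  have hyP₀ : w⁻¹ * π v' * w ∈ (P₀ : Subgroup _) := hT'mem v hv hvA
  have hRM : R ≤ M := by
    apply StrongP.le_of_inf_ne_bot hM hRp
    intro hbot
    have : w⁻¹ * π u' * w ∈ R ⊓ M := ⟨hxR, hxM⟩
    rw [hbot, Subgroup.mem_bot] at this
    exact hne1 u' hui this
  have hyp : IsPGroup p (Subgroup.zpowers (w⁻¹ * π v' * w)) :=
    P₀.isPGroup'.to_le (Subgroup.zpowers_le.2 hyP₀)
  exact ha (StrongP.mem_of_conj_mem hM (hP₀M hyP₀) (hne1 v' hvi) hyp (hRM hyR))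

/-- **Alperin's fusion theorem** as an induction principle, with essential subgroups only. -/
theorem alperin_induction_essential (hS : IsPGroup p S) (hF : F.IsSaturated p)
    (Pi : ∀ P : Subgroup Ω, (P →* Ω) → Prop)
    (hres : ∀ {P R : Subgroup Ω} {φ : P →* Ω}, φ ∈ F.Hom P → Pi P φ → ∀ h : R ≤ P,
      Pi R (φ.comp (Subgroup.inclusion h)))
    (hcomp : ∀ {P Q : Subgroup Ω} {φ : P →* Ω} {ψ : Q →* Ω}, φ ∈ F.Hom P → ψ ∈ F.Hom Q →
      Pi P φ → Pi Q ψ → ∀ h : (∀ x, φ x ∈ Q), Pi P (ψ.comp (φ.codRestrict Q h)))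
    (hinv : ∀ {P Q : Subgroup Ω} {φ : P →* Ω} {ψ : Q →* Ω}, φ ∈ F.Hom P → ψ ∈ F.Hom Q →
      φ.range = Q → (∀ (x : P) (h : φ x ∈ Q), ψ ⟨φ x, h⟩ = x) → Pi P φ → Pi Q ψ)
    (hbase : ∀ {P : Subgroup Ω} {φ : P →* Ω}, (P = S ∨ F.IsEssential p P) →
      φ ∈ F.Hom P → φ.range = P → Pi P φ) :
    ∀ {P : Subgroup Ω} {φ : P →* Ω}, φ ∈ F.Hom P → Pi P φ := by
  classical
  suffices H : ∀ (k : ℕ) (P : Subgroup Ω) (φ : P →* Ω), Nat.card S < Nat.card P + k →
      φ ∈ F.Hom P → Pi P φ by
    intro P φ hφ
    exact H (Nat.card S + 1) P φ (by omega) hφ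
  intro k
  induction k with
  | zero =>
    intro P φ hc hφ
    have := card_le_S (source_le hφ)
    omega
  | succ k ih =>
    intro P φ hc hφ
    refine Cfsg.Agent.Lib.Fusion.AlperinInduct.alperin_induction hS hF
      (fun P φ => Nat.card S < Nat.card P + (k + 1) → Pi P φ) ?_ ?_ ?_ ?_ hφ hc
    · intro P R φ hφ hPi h hcR
      have hPS := source_le hφ
      have h1 : Nat.card R ≤ Nat.card P := by
        haveI : Finite P := finite_of_le hPS
        exact Subgroup.card_le_of_le h
      exact hres hφ (hPi (by omega)) h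
    · intro P Q φ ψ hφ hψ h1 h2 h hcP
      have hcard : Nat.card P ≤ Nat.card Q := by
        haveI : Finite Q := finite_of_le (source_le hψ)
        exact Nat.card_le_card_of_injective (φ.codRestrict Q h) (by
          intro a b hab
          exact F.injective_of_mem hφ (congrArg Subtype.val hab))
      exact hcomp hφ hψ (h1 hcP) (h2 (by omega)) h
    · intro P Q φ ψ hφ hψ hr hag h1 hcQ
      have hcard : Nat.card P = Nat.card Q := card_eq_of_range hφ hr
      exact hinv hφ hψ hr hag (h1 (by omega))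
    · intro P φ hbs hφ hr hcP
      have hPS : P ≤ S := source_le hφ
      by_cases hPe : P = S ∨ F.IsEssential p P
      · exact hbase hPe hφ hr
      rcases hbs with rfl | ⟨hFN, -, -⟩
      · exact absurd (Or.inl rfl) hPe
      push Not at hPe
      have hlt : P < S := lt_of_le_of_ne hPS hPe.1
      haveI : Finite P := finite_of_le hPS
      have hext : extendingAuts F P = F.autGroup P :=
        ((extendingAuts_dichotomy hS hF hlt hFN).resolve_right (fun h => hPe.2 h.1)).2
      have hv : ∀ x : P, φ x ∈ P := fun x => hr.le ⟨x, rfl⟩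
      let α : MulAut P := autOfHom φ (F.injective_of_mem hφ) hv
      have hα : α ∈ F.autGroup P := autOfHom_mem hφ hv
      rw [← hext] at hα
      have hkey : ∀ β ∈ extendingAuts F P, Pi P (P.subtype.comp β.toMonoidHom) := by
        intro β hβ
        induction hβ using Subgroup.closure_induction with
        | mem β hβ =>
          obtain ⟨Q, hPQ, ψ, hψ, hag⟩ := hβ
          have hcard : Nat.card P < Nat.card Q :=
            Cfsg.Agent.Lib.Fusion.AlperinInduct.card_lt_of_lt (source_le hψ) hPQ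
          have h1 := hres hψ (ih Q ψ (by omega) hψ) hPQ.le
          have e : ψ.comp (Subgroup.inclusion hPQ.le) = P.subtype.comp β.toMonoidHom := by
            ext x
            exact hag x
          rwa [e] at h1
        | one =>
          have hNlt := Cfsg.Agent.Lib.Fusion.AlperinInduct.lt_normalizerIn hS hlt
          have hNS : normalizerIn S P ≤ S := inf_le_left
          have hcard : Nat.card P < Nat.card (normalizerIn S P) :=
            Cfsg.Agent.Lib.Fusion.AlperinInduct.card_lt_of_lt hNS hNlt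
          have hsub := subtype_mem (F := F) hNS
          have h1 := hres hsub (ih _ _ (by omega) hsub) hNlt.le
          have e : (normalizerIn S P).subtype.comp (Subgroup.inclusion hNlt.le) =
              P.subtype.comp (1 : MulAut P).toMonoidHom := by
            ext x
            rfl
          rwa [e] at h1
        | mul β γ hβ hγ h1 h2 =>
          have hβA := extendingAuts_le_autGroup F P hβ
          have hγA := extendingAuts_le_autGroup F P hγ
          have h3 := hcomp (autGroup_mem_hom hPS hγA) (autGroup_mem_hom hPS hβA) h2 h1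
            (fun x => (γ x).2)
          have e : (P.subtype.comp β.toMonoidHom).comp
              ((P.subtype.comp γ.toMonoidHom).codRestrict P (fun x => (γ x).2)) =
              P.subtype.comp (β * γ).toMonoidHom := by
            ext x
            rfl
          rwa [e] at h3
        | inv β hβ h1 =>
          have hβA := extendingAuts_le_autGroup F P hβ
          have hβiA : β⁻¹ ∈ F.autGroup P := (F.autGroup P).inv_mem hβA
          refine hinv (autGroup_mem_hom hPS hβA) (autGroup_mem_hom hPS hβiA) ?_ ?_ h1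
          · ext y
            constructor
            · rintro ⟨x, rfl⟩
              exact (β x).2
            · intro hy
              refine ⟨β⁻¹ ⟨y, hy⟩, ?_⟩
              show ((β (β⁻¹ ⟨y, hy⟩) : P) : Ω) = y
              rw [MulAut.apply_inv_self]
          · intro x h
            show ((β⁻¹ ⟨((β x : P) : Ω), h⟩ : P) : Ω) = x
            have e : (⟨((β x : P) : Ω), h⟩ : P) = β x := rfl
            rw [e, MulAut.inv_apply_self]
      have h2 := hkey α hα
      have e : P.subtype.comp α.toMonoidHom = φ := by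
        ext x
        rfl
      rwa [e] at h2

end Cfsg.Agent.Lib.Fusion.EssentialPair
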