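/-
Pairs of transvections with distinct centres on an elementary abelian group: either they generate a
`p`-group, or (for `p` odd) the group they generate contains an element inverting the first centre and
commuting with the first transvection.
-/
import Mathlib
import Cfsg.Prelude.Def_FusionSystem
import Cfsg.Agent.Lib.Fusion.Chain
import Cfsg.Agent.Lib.Coprime.Stability

set_option autoImplicit false

namespace Cfsg.Agent.Lib.Fusion.Transvection

variable {V : Type*} [Group V] {p : ℕ} [hp : Fact p.Prime]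

/-- In a group of exponent `p`, a nontrivial element of `⟨z⟩` generates `⟨z⟩`. -/
theorem exists_pow_eq_of_mem_zpowers {z u y : V} (hz : z ^ p = 1) (hu : u ∈ Subgroup.zpowers z)
    (hu1 : u ≠ 1) (hy : y ∈ Subgroup.zpowers z) : ∃ k : ℕ, u ^ k = y := by
  have hzfin : IsOfFinOrder z := isOfFinOrder_iff_pow_eq_one.2 ⟨p, hp.out.pos, hz⟩
  have hzo : orderOf z = p := by
    refine orderOf_eq_prime hz ?_
    rintro rfl
    apply hu1
    simpa using hu
  haveI : Finite (Subgroup.zpowers z) := hzfin.finite_zpowers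
  have hle : Subgroup.zpowers u ≤ Subgroup.zpowers z := by
    rw [Subgroup.zpowers_le]
    exact hu
  have huo : orderOf u = p := by
    obtain ⟨n, rfl⟩ := hu
    refine orderOf_eq_prime ?_ hu1
    rw [← zpow_natCast, ← zpow_mul, mul_comm, zpow_mul, zpow_natCast, hz, one_zpow]
  have heq : Subgroup.zpowers u = Subgroup.zpowers z := by
    refine Subgroup.eq_of_le_of_card_ge hle ?_
    rw [Nat.card_zpowers, Nat.card_zpowers, huo, hzo]
  rw [← heq] at hy
  have hufin : IsOfFinOrder u := isOfFinOrder_iff_pow_eq_one.2 ⟨p, hp.out.pos, by rw [← huo]; exact pow_orderOf_eq_one u⟩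
  have hmem : y ∈ Submonoid.powers u := hufin.mem_powers_iff_mem_zpowers.2 hy
  obtain ⟨k, hk⟩ := (Submonoid.mem_powers_iff _ _).1 hmem
  exact ⟨k, hk⟩

/-- A family of automorphisms stabilizing a chain generates a `p`-group. -/
theorem isPGroup_closure_of_stab_chain [Finite V] (hV : IsPGroup p V) {X : Set (MulAut V)}
    {D : ℕ → Subgroup V} {m : ℕ} (h0 : D 0 = ⊥) (hm : D m = ⊤) (hmono : ∀ i, D i ≤ D (i + 1))
    (hX : ∀ β ∈ X, ∀ i < m, ∀ x ∈ D (i + 1), x⁻¹ * β x ∈ D i) :
    IsPGroup p (Subgroup.closure X) := by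
  classical
  have hstab : ∀ β ∈ Subgroup.closure X, ∀ i < m, ∀ x ∈ D (i + 1), x⁻¹ * β x ∈ D i := by
    have hmul : ∀ β γ : MulAut V, (∀ i < m, ∀ x ∈ D (i + 1), x⁻¹ * β x ∈ D i) →
        (∀ i < m, ∀ x ∈ D (i + 1), x⁻¹ * γ x ∈ D i) →
        ∀ i < m, ∀ x ∈ D (i + 1), x⁻¹ * (β * γ) x ∈ D i := by
      intro β γ hβ hγ i hi x hx
      have h1 := hγ i hi x hx
      have h2 : γ x ∈ D (i + 1) := by
        have e : γ x = x * (x⁻¹ * γ x) := by group
        rw [e]
        exact (D (i + 1)).mul_mem hx (hmono i h1)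
      have h3 := hβ i hi _ h2
      have e : x⁻¹ * (β * γ) x = (x⁻¹ * γ x) * ((γ x)⁻¹ * β (γ x)) := by
        show x⁻¹ * β (γ x) = _
        group
      rw [e]
      exact (D i).mul_mem h1 h3
    have hone : ∀ i < m, ∀ x ∈ D (i + 1), x⁻¹ * (1 : MulAut V) x ∈ D i := by
      intro i _ x _
      simp [(D i).one_mem]
    have hpow : ∀ β : MulAut V, (∀ i < m, ∀ x ∈ D (i + 1), x⁻¹ * β x ∈ D i) →
        ∀ k : ℕ, ∀ i < m, ∀ x ∈ D (i + 1), x⁻¹ * (β ^ k) x ∈ D i := by
      intro β hβ k
      induction k with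
      | zero => simpa using hone
      | succ k ih =>
        rw [pow_succ]
        exact hmul _ _ ih hβ
    intro β hβ
    induction hβ using Subgroup.closure_induction with
    | mem β hβ => exact hX β hβ
    | one => exact hone
    | mul β γ _ _ h1 h2 => exact hmul β γ h1 h2
    | inv β _ h1 =>
      have : Finite (MulAut V) := MulEquiv.finite_left
      have hfin : IsOfFinOrder β := isOfFinOrder_of_finite β
      have e : β⁻¹ = β ^ (orderOf β - 1) := by
        have h1 : β ^ (orderOf β - 1) * β = 1 := by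
          rw [← pow_succ, Nat.sub_add_cancel hfin.orderOf_pos, pow_orderOf_eq_one]
        exact (eq_inv_of_mul_eq_one_left h1).symm
      rw [e]
      exact hpow β h1 _
  refine Cfsg.Agent.Lib.Coprime.Stability.isPGroup_of_forall_coprime hp.out _ ?_
  intro γ hγ hc
  exact Cfsg.Agent.Lib.Fusion.Chain.eq_one_of_stab_chain hV h0 hm (hstab γ hγ) hc

/-- The chain `1 ≤ A ≤ A ⊔ B ≤ V`. -/
def chainD (A B : Subgroup V) : ℕ → Subgroup V
  | 0 => ⊥
  | 1 => A
  | 2 => A ⊔ B
  | _ => ⊤

section Comm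

variable (hV : ∀ a b : V, a * b = b * a)

include hV

/-- Two automorphisms which stabilize the chain `⟨z₁⟩ ≤ ⟨z₁, z₂⟩ ≤ V`, generate a `p`-group. -/
theorem isPGroup_closure_pair [Finite V] (hVp : IsPGroup p V) {z₁ z₂ : V} {t₁ t₂ : MulAut V}
    (h11 : t₁ z₁ = z₁) (h12 : t₁ z₂ = z₂) (h1 : ∀ x, x⁻¹ * t₁ x ∈ Subgroup.zpowers z₂)
    (h21 : t₂ z₁ = z₁) (h2 : ∀ x, x⁻¹ * t₂ x ∈ Subgroup.zpowers z₁) :
    IsPGroup p (Subgroup.closure ({t₁, t₂} : Set (MulAut V))) := by
  have hfix1 : ∀ x ∈ Subgroup.zpowers z₁, t₁ x = x := by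
    rintro x ⟨n, rfl⟩
    simp [map_zpow, h11]
  have hfix1' : ∀ x ∈ Subgroup.zpowers z₂, t₁ x = x := by
    rintro x ⟨n, rfl⟩
    simp [map_zpow, h12]
  have hfix2 : ∀ x ∈ Subgroup.zpowers z₁, t₂ x = x := by
    rintro x ⟨n, rfl⟩
    simp [map_zpow, h21]
  have hfixW : ∀ x ∈ Subgroup.zpowers z₁ ⊔ Subgroup.zpowers z₂, t₁ x = x := by
    intro x hx
    have hle : Subgroup.zpowers z₁ ⊔ Subgroup.zpowers z₂ ≤
        (t₁.toMonoidHom).eqLocus (MonoidHom.id V) :=
      sup_le (Subgroup.zpowers_le.2 h11) (Subgroup.zpowers_le.2 h12)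
    exact hle hx
  refine isPGroup_closure_of_stab_chain hVp
    (D := chainD (Subgroup.zpowers z₁) (Subgroup.zpowers z₂)) (m := 3) rfl rfl ?_ ?_
  · intro i
    match i with
    | 0 => exact bot_le
    | 1 => exact le_sup_left
    | 2 => exact le_top
    | (n + 3) => exact le_top
  · rintro β hβ i hi x hx
    have hi' : i = 0 ∨ i = 1 ∨ i = 2 := by omega
    rcases hβ with rfl | hβ
    · rcases hi' with rfl | rfl | rfl
      · have : β x = x := hfix1 x hx
        rw [this, inv_mul_cancel]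
        exact Subgroup.one_mem _
      · have : β x = x := hfixW x hx
        rw [this, inv_mul_cancel]
        exact Subgroup.one_mem _
      · exact (le_sup_right : Subgroup.zpowers z₂ ≤ Subgroup.zpowers z₁ ⊔ Subgroup.zpowers z₂) (h1 x)
    · rw [Set.mem_singleton_iff] at hβ
      subst hβ
      rcases hi' with rfl | rfl | rfl
      · have : β x = x := hfix2 x hx
        rw [this, inv_mul_cancel]
        exact Subgroup.one_mem _
      · exact h2 x
      · exact (le_sup_left : Subgroup.zpowers z₁ ≤ Subgroup.zpowers z₁ ⊔ Subgroup.zpowers z₂) (h2 x)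

/-- **The torus element.** For two transvections `t`, `t'` with centres `z`, `z'` such that `t` moves
`z'` and `t'` moves `z`, the group generated by `t`, `t'` contains an element which inverts `z` and commutes
with `t`: the element `-1` of the copy of `SL₂(p)` which they generate. -/
theorem exists_torus {z z' : V} {t t' : MulAut V} (hz : z ^ p = 1) (hz' : z' ^ p = 1)
    (htz : t z = z) (ht'z' : t' z' = z')
    (ht : ∀ a, a⁻¹ * t a ∈ Subgroup.zpowers z) (ht' : ∀ a, a⁻¹ * t' a ∈ Subgroup.zpowers z')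
    (hu : z'⁻¹ * t z' ≠ 1) (hv : z⁻¹ * t' z ≠ 1) :
    ∃ δ ∈ Subgroup.closure ({t, t'} : Set (MulAut V)), δ z = z⁻¹ ∧ ∀ a, δ (t a) = t (δ a) := by
  classical
  set u := z'⁻¹ * t z' with hu_def
  set v := z⁻¹ * t' z with hv_def
  have hfix : ∀ a ∈ Subgroup.zpowers z, t a = a := by
    rintro a ⟨n, rfl⟩
    simp [map_zpow, htz]
  have hfix' : ∀ a ∈ Subgroup.zpowers z', t' a = a := by
    rintro a ⟨n, rfl⟩
    simp [map_zpow, ht'z']
  have huz : u ∈ Subgroup.zpowers z := ht z'
  have hvz : v ∈ Subgroup.zpowers z' := ht' z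
  have htu : t z' = z' * u := by rw [hu_def]; group
  have htv : t' z = z * v := by rw [hv_def]; group
  obtain ⟨a, ha⟩ := exists_pow_eq_of_mem_zpowers hz huz hu (Subgroup.mem_zpowers z)
  obtain ⟨b, hb⟩ := exists_pow_eq_of_mem_zpowers hz' hvz hv
    (Subgroup.inv_mem _ (Subgroup.mem_zpowers z'))
  -- the powers
  have hta_z' : (t ^ a) z' = z' * z := by
    rw [Cfsg.Agent.Lib.Fusion.Chain.pow_apply_eq_mul_pow t htu (hfix u huz) a, ha]
  have hta_z : (t ^ a) z = z := by
    have : ∀ k : ℕ, (t ^ k) z = z := by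
      intro k
      induction k with
      | zero => simp
      | succ k ih => rw [pow_succ]; show (t ^ k) (t z) = z; rw [htz, ih]
    exact this a
  have ht'b_z : (t' ^ b) z = z * z'⁻¹ := by
    rw [Cfsg.Agent.Lib.Fusion.Chain.pow_apply_eq_mul_pow t' htv (hfix' v hvz) b, hb]
  have ht'b_z' : (t' ^ b) z' = z' := by
    have : ∀ k : ℕ, (t' ^ k) z' = z' := by
      intro k
      induction k with
      | zero => simp
      | succ k ih => rw [pow_succ]; show (t' ^ k) (t' z') = z'; rw [ht'z', ih]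
    exact this b
  let w : MulAut V := t ^ a * t' ^ b * t ^ a
  have hwz : w z = z'⁻¹ := by
    show (t ^ a) ((t' ^ b) ((t ^ a) z)) = z'⁻¹
    rw [hta_z, ht'b_z, map_mul, map_inv, hta_z, hta_z']
    rw [hV z' z, mul_inv_rev, hV z'⁻¹ z⁻¹]
    group
  have hwz' : w z' = z := by
    show (t ^ a) ((t' ^ b) ((t ^ a) z')) = z
    rw [hta_z', map_mul, ht'b_z', ht'b_z, hV z (z'⁻¹)]
    rw [← mul_assoc, mul_inv_cancel, one_mul, hta_z]
  let δ : MulAut V := w * w
  have hδz : δ z = z⁻¹ := by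
    show w (w z) = z⁻¹
    rw [hwz, map_inv, hwz']
  have hδz' : δ z' = z'⁻¹ := by
    show w (w z') = z'⁻¹
    rw [hwz', hwz]
  have hδfix : ∀ c, t c = c → t' c = c → δ c = c := by
    intro c h1 h2
    have h3 : ∀ k : ℕ, (t ^ k) c = c := by
      intro k
      induction k with
      | zero => simp
      | succ k ih => rw [pow_succ]; show (t ^ k) (t c) = c; rw [h1, ih]
    have h4 : ∀ k : ℕ, (t' ^ k) c = c := by
      intro k
      induction k with
      | zero => simp
      | succ k ih => rw [pow_succ]; show (t' ^ k) (t' c) = c; rw [h2, ih]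
    have hw : w c = c := by
      show (t ^ a) ((t' ^ b) ((t ^ a) c)) = c
      rw [h3, h4, h3]
    show w (w c) = c
    rw [hw, hw]
  have hδmem : δ ∈ Subgroup.closure ({t, t'} : Set (MulAut V)) := by
    have h1 : t ∈ Subgroup.closure ({t, t'} : Set (MulAut V)) :=
      Subgroup.subset_closure (by simp)
    have h2 : t' ∈ Subgroup.closure ({t, t'} : Set (MulAut V)) :=
      Subgroup.subset_closure (by simp)
    have h3 : w ∈ Subgroup.closure ({t, t'} : Set (MulAut V)) :=
      Subgroup.mul_mem _ (Subgroup.mul_mem _ (Subgroup.pow_mem _ h1 a) (Subgroup.pow_mem _ h2 b))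
        (Subgroup.pow_mem _ h1 a)
    exact Subgroup.mul_mem _ h3 h3
  have hδinv : ∀ y ∈ Subgroup.zpowers z, δ y = y⁻¹ := by
    rintro y ⟨n, rfl⟩
    show δ (z ^ n) = (z ^ n)⁻¹
    rw [map_zpow, hδz, inv_zpow]
  -- the decomposition
  have hdec : ∀ x : V, ∃ (r s : ℕ) (c : V), x = z ^ r * z' ^ s * c ∧ t c = c ∧ t' c = c := by
    intro x
    obtain ⟨s, hs⟩ := exists_pow_eq_of_mem_zpowers hz huz hu (ht x)
    obtain ⟨r, hr⟩ := exists_pow_eq_of_mem_zpowers hz' hvz hv (ht' x)
    refine ⟨r, s, (z ^ r * z' ^ s)⁻¹ * x, by group, ?_, ?_⟩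
    · have h1 : t x = x * u ^ s := by rw [hs]; group
      have h2 : t (z' ^ s) = z' ^ s * u ^ s := by
        rw [map_pow, htu]
        have hcomm : Commute z' u := hV z' u
        exact hcomm.mul_pow s
      rw [map_mul, map_inv, map_mul, h1, h2, map_pow, htz]
      have e : z ^ r * (z' ^ s * u ^ s) = u ^ s * (z ^ r * z' ^ s) := by
        rw [← mul_assoc, hV (z ^ r * z' ^ s) (u ^ s)]
      rw [e, hV x (u ^ s)]
      group
    · have h1 : t' x = x * v ^ r := by rw [hr]; group
      have h2 : t' (z ^ r) = z ^ r * v ^ r := by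
        rw [map_pow, htv]
        have hcomm : Commute z v := hV z v
        exact hcomm.mul_pow r
      rw [map_mul, map_inv, map_mul, h1, h2, map_pow, ht'z']
      have e : z ^ r * v ^ r * z' ^ s = z ^ r * z' ^ s * v ^ r := by
        rw [mul_assoc, hV (v ^ r), ← mul_assoc]
      rw [e, hV (z ^ r * z' ^ s) (v ^ r), hV x (v ^ r)]
      group
  refine ⟨δ, hδmem, hδz, fun x => ?_⟩
  obtain ⟨r, s, c, rfl, h1, h2⟩ := hdec x
  have hδc := hδfix c h1 h2
  have e1 : δ (t z') = t (δ z') := by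
    have h3 : δ (t z') = z'⁻¹ * u⁻¹ := by rw [htu, map_mul, hδz', hδinv u huz]
    have h4 : t (δ z') = z'⁻¹ * u⁻¹ := by rw [hδz', map_inv, htu, mul_inv_rev, hV]
    rw [h3, h4]
  have e2 : δ (t z) = t (δ z) := by
    rw [htz, hδz, map_inv, htz]
  simp only [map_mul, map_pow, e1, e2, h1, hδc]

end Comm

end Cfsg.Agent.Lib.Fusion.Transvection
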