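/-
Finite `p`-groups with an abelian maximal subgroup `A`, and the essential subgroups of saturated fusion
systems on them other than `A` (after Craven, Oliver and Semeraro).
-/
import Mathlib
import Cfsg.Agent.Lib.Fusion.EssentialPair
import Cfsg.Agent.Lib.Fusion.EssentialGen
import Cfsg.Agent.Lib.Fusion.Chain
import Cfsg.Agent.Lib.Fusion.Transvection

set_option autoImplicit false
set_option linter.style.haveILetI false

namespace Cfsg.Agent.Lib.Fusion.AbelianMax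

open Cfsg Cfsg.FusionSystem Cfsg.Agent.Lib.Fusion.Basic Cfsg.Agent.Lib.Fusion.Saturated
  Cfsg.Agent.Lib.Fusion.Saturated2 Cfsg.Agent.Lib.Fusion.Essential
  Cfsg.Agent.Lib.Fusion.EssentialPair

variable {Ω : Type*} [Group Ω] {S A P : Subgroup Ω} {p : ℕ}

/-- The centre of `S`, as a subgroup of the ambient group. -/
abbrev cen (S : Subgroup Ω) : Subgroup Ω := S ⊓ Subgroup.centralizer (S : Set Ω)

/-- The second centre of `S`, as a subgroup of the ambient group. -/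
abbrev cen2 (S : Subgroup Ω) : Subgroup Ω := (Subgroup.upperCentralSeries ↥S 2).map S.subtype

theorem mem_cen {y : Ω} : y ∈ cen S ↔ y ∈ S ∧ ∀ s ∈ S, s * y = y * s := by
  constructor
  · rintro ⟨h1, h2⟩
    exact ⟨h1, fun s hs => Subgroup.mem_centralizer_iff.1 h2 s hs⟩
  · rintro ⟨h1, h2⟩
    exact ⟨h1, Subgroup.mem_centralizer_iff.2 h2⟩

theorem mem_cen2 {y : Ω} : y ∈ cen2 S ↔ y ∈ S ∧ ∀ s ∈ S, y * s * y⁻¹ * s⁻¹ ∈ cen S := by
  have hc : ∀ u : S, u ∈ Subgroup.upperCentralSeries ↥S 1 ↔ (u : Ω) ∈ cen S := by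
    intro u
    rw [Subgroup.upperCentralSeries_one, Subgroup.mem_center_iff, mem_cen]
    constructor
    · intro h
      exact ⟨u.2, fun s hs => congrArg Subtype.val (h ⟨s, hs⟩)⟩
    · rintro ⟨-, h⟩ g
      exact Subtype.ext (h g g.2)
  constructor
  · rintro ⟨u, hu, rfl⟩
    refine ⟨u.2, fun s hs => ?_⟩
    have h1 := Subgroup.mem_upperCentralSeries_succ_iff.1 hu ⟨s, hs⟩
    exact (hc _).1 h1
  · rintro ⟨h1, h2⟩
    refine ⟨⟨y, h1⟩, ?_, rfl⟩
    refine Subgroup.mem_upperCentralSeries_succ_iff.2 fun g => (hc _).2 ?_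
    exact h2 g g.2

/-- `A` is an abelian subgroup of index `p` of the `p`-group `S`. -/
structure Data (S A : Subgroup Ω) (p : ℕ) : Prop where
  hS : IsPGroup p S
  le : A ≤ S
  comm : ∀ a ∈ A, ∀ b ∈ A, a * b = b * a
  index : (A.subgroupOf S).index = p

section Group

variable [Finite S] [hp : Fact p.Prime]

theorem Data.normal (D : Data S A p) : (A.subgroupOf S).Normal := by
  apply Subgroup.normal_of_index_eq_minFac_card
  obtain ⟨n, hn⟩ := (IsPGroup.iff_card.1 D.hS)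
  have hn0 : n ≠ 0 := by
    rintro rfl
    have h1 : (A.subgroupOf S).index ∣ Nat.card S := Subgroup.index_dvd_card _
    rw [hn, pow_zero, D.index] at h1
    exact hp.out.one_lt.ne' (Nat.dvd_one.1 h1)
  rw [hn, Nat.Prime.pow_minFac hp.out hn0, D.index]

theorem Data.conj_mem (D : Data S A p) {s a : Ω} (hs : s ∈ S) (ha : a ∈ A) : s * a * s⁻¹ ∈ A := by
  have := D.normal
  have h1 := this.conj_mem ⟨a, D.le ha⟩ ha ⟨s, hs⟩
  exact h1

theorem Data.card_quot (D : Data S A p) : Nat.card (S ⧸ A.subgroupOf S) = p := D.index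

theorem Data.exists_decomp (D : Data S A p) {x s : Ω} (hx : x ∈ S) (hxA : x ∉ A) (hs : s ∈ S) :
    ∃ a ∈ A, ∃ k : ℕ, s = a * x ^ k := by
  classical
  have := D.normal
  have hne : (QuotientGroup.mk ⟨x, hx⟩ : S ⧸ A.subgroupOf S) ≠ 1 := by
    intro h
    exact hxA ((QuotientGroup.eq_one_iff (⟨x, hx⟩ : S)).1 h)
  have h1 : (QuotientGroup.mk ⟨s, hs⟩ : S ⧸ A.subgroupOf S) ∈
      Subgroup.zpowers (QuotientGroup.mk ⟨x, hx⟩ : S ⧸ A.subgroupOf S) :=
    mem_zpowers_of_prime_card D.card_quot hne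
  haveI : Finite (S ⧸ A.subgroupOf S) := inferInstance
  rw [← mem_powers_iff_mem_zpowers] at h1
  obtain ⟨k, hk⟩ := h1
  refine ⟨s * (x ^ k)⁻¹, ?_, k, by group⟩
  have h2 : ((⟨s, hs⟩ * (⟨x, hx⟩ ^ k)⁻¹ : S)) ∈ A.subgroupOf S := by
    rw [← QuotientGroup.eq_one_iff]
    rw [QuotientGroup.mk_mul, QuotientGroup.mk_inv, QuotientGroup.mk_pow]
    rw [← hk]
    simp
  exact h2

theorem Data.comm_mem (D : Data S A p) {s t : Ω} (hs : s ∈ S) (ht : t ∈ S) :
    s * t * s⁻¹ * t⁻¹ ∈ A := by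
  classical
  have := D.normal
  haveI : IsCyclic (S ⧸ A.subgroupOf S) := isCyclic_of_prime_card D.card_quot
  have h2 : ((⟨s, hs⟩ * ⟨t, ht⟩ * (⟨s, hs⟩ : S)⁻¹ * (⟨t, ht⟩ : S)⁻¹ : S)) ∈ A.subgroupOf S := by
    rw [← QuotientGroup.eq_one_iff]
    rw [QuotientGroup.mk_mul, QuotientGroup.mk_mul, QuotientGroup.mk_mul, QuotientGroup.mk_inv,
      QuotientGroup.mk_inv]
    obtain ⟨g, hg⟩ := IsCyclic.exists_generator (α := S ⧸ A.subgroupOf S)
    obtain ⟨m, hm⟩ := hg (QuotientGroup.mk ⟨s, hs⟩)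
    obtain ⟨n, hn⟩ := hg (QuotientGroup.mk ⟨t, ht⟩)
    simp only at hm hn
    rw [← hm, ← hn]
    have : Commute (g ^ m) (g ^ n) := (Commute.refl g).zpow_zpow m n
    rw [this.eq]
    group
  exact h2

theorem Data.central_of_comm (D : Data S A p) {a x : Ω} (ha : a ∈ A) (hx : x ∈ S) (hxA : x ∉ A)
    (hc : x * a = a * x) : a ∈ cen S := by
  refine mem_cen.2 ⟨D.le ha, fun s hs => ?_⟩
  obtain ⟨b, hb, k, rfl⟩ := D.exists_decomp hx hxA hs
  have h1 : Commute x a := hc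
  have h2 : Commute (x ^ k) a := h1.pow_left k
  rw [mul_assoc, h2.eq, ← mul_assoc, D.comm b hb a ha, mul_assoc]

theorem Data.isMulCommutative_of (D : Data S A p) {y : Ω} (hy : y ∈ S) (hyA : y ∉ A)
    (h : ∀ a ∈ A, y * a = a * y) : IsMulCommutative ↥S := by
  refine ⟨⟨fun s t => Subtype.ext ?_⟩⟩
  obtain ⟨a, ha, k, e1⟩ := D.exists_decomp hy hyA s.2
  obtain ⟨b, hb, l, e2⟩ := D.exists_decomp hy hyA t.2
  show (s : Ω) * t = t * s
  rw [e1, e2]
  have h1 : ∀ c ∈ A, ∀ m : ℕ, Commute (y ^ m) c := fun c hc m => (show Commute y c from h c hc).pow_left m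
  have h3 : Commute (a * y ^ k) (b * y ^ l) := by
    apply Commute.mul_left
    · exact Commute.mul_right (D.comm a ha b hb) (h1 a ha l).symm
    · exact Commute.mul_right (h1 b hb k) ((Commute.refl y).pow_pow k l)
  exact h3

theorem Data.cen_le (D : Data S A p) (hna : ¬ IsMulCommutative ↥S) : cen S ≤ A := by
  intro y hy
  by_contra hyA
  exact hna (D.isMulCommutative_of (mem_cen.1 hy).1 hyA fun a ha => ((mem_cen.1 hy).2 a (D.le ha)).symm)

/-- Elements of `P` in terms of `P ∩ A` and an element of `P` outside `A`. -/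
theorem Data.decomp_P (D : Data S A p) (hPS : P ≤ S) {x s : Ω} (hx : x ∈ P) (hxA : x ∉ A) (hs : s ∈ P) :
    ∃ b ∈ P, b ∈ A ∧ ∃ k : ℕ, s = b * x ^ k := by
  obtain ⟨a, ha, k, rfl⟩ := D.exists_decomp (hPS hx) hxA (hPS hs)
  refine ⟨a, ?_, ha, k, rfl⟩
  have : a = a * x ^ k * (x ^ k)⁻¹ := by group
  rw [this]
  exact P.mul_mem hs (P.inv_mem (P.pow_mem hx k))

theorem Data.index_subgroupOf (D : Data S A p) (hPS : P ≤ S) {x : Ω} (hx : x ∈ P) (hxA : x ∉ A) :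
    (A.subgroupOf P).index = p := by
  have := D.normal
  have h1 := Subgroup.relIndex_sup_right (P.subgroupOf S) (A.subgroupOf S)
  have h2 : P.subgroupOf S ⊔ A.subgroupOf S = ⊤ := by
    rw [sup_comm, eq_top_iff]
    rintro ⟨s, hs⟩ -
    obtain ⟨a, ha, k, e⟩ := D.exists_decomp (hPS hx) hxA hs
    have e' : (⟨s, hs⟩ : S) = ⟨a, D.le ha⟩ * ⟨x ^ k, S.pow_mem (hPS hx) k⟩ := Subtype.ext e
    rw [e']
    exact Subgroup.mul_mem_sup ha (P.pow_mem hx k)
  rw [h2, Subgroup.relIndex_top_right, D.index, Subgroup.relIndex_subgroupOf hPS] at h1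
  exact h1.symm

/-- The map `a ↦ [a, x]` is a homomorphism on `A`, as `A` is abelian and normal. -/
theorem Data.kappa_mem (D : Data S A p) (hPS : P ≤ S) {x a : Ω} (hx : x ∈ P) (ha : a ∈ A)
    (haN : a ∈ Subgroup.normalizer (P : Set Ω)) :
    a * x * a⁻¹ * x⁻¹ ∈ P ∧ a * x * a⁻¹ * x⁻¹ ∈ A := by
  refine ⟨P.mul_mem ((Subgroup.mem_normalizer_iff.1 haN x).1 hx) (P.inv_mem hx), ?_⟩
  exact D.comm_mem (D.le ha) (hPS hx)

/-- The homomorphism `a ↦ [a, x]` from `N_A(P)` to `P`. -/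
def Data.kappa (D : Data S A p) (hPS : P ≤ S) {x : Ω} (hx : x ∈ P) :
    ↥(A ⊓ Subgroup.normalizer (P : Set Ω)) →* ↥P :=
  MonoidHom.mk' (fun a => ⟨a * x * (a : Ω)⁻¹ * x⁻¹, (D.kappa_mem hPS hx a.2.1 a.2.2).1⟩) (by
    intro a b
    apply Subtype.ext
    have h1 := D.comm_mem (D.le a.2.1) (hPS hx)
    have h2 := D.comm_mem (D.le b.2.1) (hPS hx)
    have hc := D.comm _ h1 _ h2
    have hc2 := D.comm _ a.2.1 _ h2
    show ((a * b : ↥(A ⊓ Subgroup.normalizer (P : Set Ω))) : Ω) * x *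
        ((a * b : ↥(A ⊓ Subgroup.normalizer (P : Set Ω))) : Ω)⁻¹ * x⁻¹ =
      ((a : Ω) * x * (a : Ω)⁻¹ * x⁻¹) * ((b : Ω) * x * (b : Ω)⁻¹ * x⁻¹)
    rw [hc]
    have e : ((a * b : ↥(A ⊓ Subgroup.normalizer (P : Set Ω))) : Ω) * x *
        ((a * b : ↥(A ⊓ Subgroup.normalizer (P : Set Ω))) : Ω)⁻¹ * x⁻¹ =
        (a : Ω) * ((b : Ω) * x * (b : Ω)⁻¹ * x⁻¹) * (x * (a : Ω)⁻¹ * x⁻¹) := by
      simp only [Subgroup.coe_mul]
      group
    rw [e, hc2]
    group)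

@[simp] theorem Data.kappa_apply (D : Data S A p) (hPS : P ≤ S) {x : Ω} (hx : x ∈ P)
    (a : ↥(A ⊓ Subgroup.normalizer (P : Set Ω))) :
    ((D.kappa hPS hx a : P) : Ω) = a * x * (a : Ω)⁻¹ * x⁻¹ := rfl

/-- `g(s) = s⁻¹ s^a` lies in a normal subgroup of `P` containing `[a, x]`. -/
theorem Data.stab_kappa (D : Data S A p) (hPS : P ≤ S) {x a : Ω} (hx : x ∈ P) (hxA : x ∉ A)
    (ha : a ∈ A) (haN : a ∈ Subgroup.normalizer (P : Set Ω)) {W : Subgroup P} [hW : W.Normal]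
    (hκ : (⟨a * x * a⁻¹ * x⁻¹, (D.kappa_mem hPS hx ha haN).1⟩ : P) ∈ W) (s : P) :
    s⁻¹ * normConj a haN s ∈ W := by
  have hgmul : ∀ s₁ s₂ : P, s₁⁻¹ * normConj a haN s₁ ∈ W → s₂⁻¹ * normConj a haN s₂ ∈ W →
      (s₁ * s₂)⁻¹ * normConj a haN (s₁ * s₂) ∈ W := by
    intro s₁ s₂ h1 h2
    have e : (s₁ * s₂)⁻¹ * normConj a haN (s₁ * s₂) =
        (s₂⁻¹ * (s₁⁻¹ * normConj a haN s₁) * s₂⁻¹⁻¹) * (s₂⁻¹ * normConj a haN s₂) := by
      rw [map_mul]
      group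
    rw [e]
    exact W.mul_mem (hW.conj_mem _ h1 _) h2
  let xp : P := ⟨x, hx⟩
  have hgx : xp⁻¹ * normConj a haN xp ∈ W := by
    have h1 := hW.conj_mem _ hκ xp⁻¹
    have e : xp⁻¹ * normConj a haN xp =
        xp⁻¹ * (⟨a * x * a⁻¹ * x⁻¹, (D.kappa_mem hPS hx ha haN).1⟩ : P) * xp⁻¹⁻¹ := by
      apply Subtype.ext
      simp only [Subgroup.coe_mul, Subgroup.coe_inv, normConj_apply, xp]
      group
    rw [e]
    exact h1
  have hpow : ∀ k : ℕ, (xp ^ k)⁻¹ * normConj a haN (xp ^ k) ∈ W := by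
    intro k
    induction k with
    | zero => simp [W.one_mem]
    | succ k ih =>
      rw [pow_succ]
      exact hgmul _ _ ih hgx
  obtain ⟨b, hbP, hbA, k, e⟩ := D.decomp_P hPS hx hxA s.2
  have e' : s = ⟨b, hbP⟩ * xp ^ k := Subtype.ext e
  rw [e']
  refine hgmul _ _ ?_ (hpow k)
  have : normConj a haN ⟨b, hbP⟩ = ⟨b, hbP⟩ := by
    apply Subtype.ext
    show a * b * a⁻¹ = b
    rw [D.comm a ha b hbA]
    group
  rw [this]
  simp [W.one_mem]

end Group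

section Fusion

variable [Finite S] [hp : Fact p.Prime] {F : FusionSystem S}

/-- The chain `1 ≤ W ≤ V`. -/
def chain2 {V : Type*} [Group V] (W : Subgroup V) : ℕ → Subgroup V
  | 0 => ⊥
  | 1 => W
  | _ => ⊤

/-- The pair argument: elements `a₁`, `a₂` of `N_A(P) \ P` with `[a₁, x] ∈ α(A ∩ P)` and
`[a₂, x] ∈ α⁻¹(A ∩ P)` for `α` opposite are impossible. -/
theorem Data.pair_contra (D : Data S A p) (hPS : P ≤ S) (hC : centralizerIn S P ≤ P)
    {x : Ω} (hx : x ∈ P) (hxA : x ∉ A) {α : MulAut P}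
    (hα : ∀ u ∈ autInducedBy S P, ∀ v ∈ autInducedBy S P, u ∉ Inn P → v ∉ Inn P →
      ¬ IsPGroup p (Subgroup.closure ({u, α * v * α⁻¹} : Set (MulAut P))))
    {a₁ a₂ : Ω} (ha₁ : a₁ ∈ A) (hN₁ : a₁ ∈ Subgroup.normalizer (P : Set Ω)) (hP₁ : a₁ ∉ P)
    (ha₂ : a₂ ∈ A) (hN₂ : a₂ ∈ Subgroup.normalizer (P : Set Ω)) (hP₂ : a₂ ∉ P)
    (h₁ : ((α⁻¹ ⟨a₁ * x * a₁⁻¹ * x⁻¹, (D.kappa_mem hPS hx ha₁ hN₁).1⟩ : P) : Ω) ∈ A)
    (h₂ : ((α ⟨a₂ * x * a₂⁻¹ * x⁻¹, (D.kappa_mem hPS hx ha₂ hN₂).1⟩ : P) : Ω) ∈ A) : False := by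
  classical
  haveI : Finite P := finite_of_le hPS
  have hPp : IsPGroup p P := isPGroup_of_le D.hS hPS
  -- normality
  haveI hB : (A.subgroupOf P).Normal := ⟨fun n hn g => D.conj_mem (hPS g.2) hn⟩
  let W : Subgroup P := A.subgroupOf P ⊓ (A.subgroupOf P).comap (α⁻¹ : MulAut P).toMonoidHom
  let W₂ : Subgroup P := A.subgroupOf P ⊓ (A.subgroupOf P).comap (α : MulAut P).toMonoidHom
  haveI hWn : W.Normal := by
    haveI : ((A.subgroupOf P).comap (α⁻¹ : MulAut P).toMonoidHom).Normal := hB.comap _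
    exact Subgroup.normal_inf_normal _ _
  haveI hW₂n : W₂.Normal := by
    haveI : ((A.subgroupOf P).comap (α : MulAut P).toMonoidHom).Normal := hB.comap _
    exact Subgroup.normal_inf_normal _ _
  have hWmem : ∀ y : P, y ∈ W ↔ (y : Ω) ∈ A ∧ ((α⁻¹ y : P) : Ω) ∈ A := fun y => Iff.rfl
  have hW₂mem : ∀ y : P, y ∈ W₂ ↔ (y : Ω) ∈ A ∧ ((α y : P) : Ω) ∈ A := fun y => Iff.rfl
  have hκ₁ := (D.kappa_mem hPS hx ha₁ hN₁).2
  have hκ₂ := (D.kappa_mem hPS hx ha₂ hN₂).2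
  let t₁ : MulAut P := normConj a₁ hN₁
  let t₂' : MulAut P := normConj a₂ hN₂
  have hs₁ : ∀ s : P, s⁻¹ * t₁ s ∈ W := fun s =>
    D.stab_kappa hPS hx hxA ha₁ hN₁ ((hWmem _).2 ⟨hκ₁, h₁⟩) s
  have hs₂ : ∀ s : P, s⁻¹ * t₂' s ∈ W₂ := fun s =>
    D.stab_kappa hPS hx hxA ha₂ hN₂ ((hW₂mem _).2 ⟨hκ₂, h₂⟩) s
  have hfix₁ : ∀ y ∈ W, t₁ y = y := by
    intro y hy
    apply Subtype.ext
    show a₁ * y * a₁⁻¹ = y
    rw [D.comm a₁ ha₁ y hy.1]
    group
  have hfix₂ : ∀ y ∈ W₂, t₂' y = y := by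
    intro y hy
    apply Subtype.ext
    show a₂ * y * a₂⁻¹ = y
    rw [D.comm a₂ ha₂ y hy.1]
    group
  have hs₂' : ∀ s : P, s⁻¹ * (α * t₂' * α⁻¹) s ∈ W := by
    intro s
    have h1 := hs₂ (α⁻¹ s)
    have e : s⁻¹ * (α * t₂' * α⁻¹) s = α ((α⁻¹ s)⁻¹ * t₂' (α⁻¹ s)) := by
      rw [map_mul, map_inv, MulAut.apply_inv_self]
      rfl
    rw [e, hWmem]
    refine ⟨h1.2, ?_⟩
    rw [MulAut.inv_apply_self]
    exact h1.1
  have hfix₂' : ∀ y ∈ W, (α * t₂' * α⁻¹) y = y := by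
    intro y hy
    have h1 : α⁻¹ y ∈ W₂ := by
      rw [hW₂mem]
      refine ⟨hy.2, ?_⟩
      rw [MulAut.apply_inv_self]
      exact hy.1
    show α (t₂' (α⁻¹ y)) = y
    rw [hfix₂ _ h1, MulAut.apply_inv_self]
  have hpg : IsPGroup p (Subgroup.closure ({t₁, α * t₂' * α⁻¹} : Set (MulAut P))) := by
    refine Cfsg.Agent.Lib.Fusion.Transvection.isPGroup_closure_of_stab_chain hPp
      (D := chain2 W) (m := 2) rfl rfl ?_ ?_
    · intro i
      match i with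
      | 0 => exact bot_le
      | 1 => exact le_top
      | (n + 2) => exact le_top
    · rintro β hβ i hi y hy
      have hi' : i = 0 ∨ i = 1 := by omega
      rcases hi' with rfl | rfl
      · have hyW : y ∈ W := hy
        have : β y = y := by
          rcases hβ with rfl | hβ
          · exact hfix₁ y hyW
          · rw [Set.mem_singleton_iff] at hβ
            rw [hβ]
            exact hfix₂' y hyW
        rw [this, inv_mul_cancel]
        exact Subgroup.one_mem _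
      · show y⁻¹ * β y ∈ W
        rcases hβ with rfl | hβ
        · exact hs₁ y
        · rw [Set.mem_singleton_iff] at hβ
          rw [hβ]
          exact hs₂' y
  have hS₁ := D.le ha₁
  have hS₂ := D.le ha₂
  exact hα t₁ (normConj_mem_autInducedBy hS₁ hN₁) t₂' (normConj_mem_autInducedBy hS₂ hN₂)
    (normConj_not_mem_inn hPS hC hS₁ hN₁ hP₁) (normConj_not_mem_inn hPS hC hS₂ hN₂ hP₂) hpg

/-- An element of `N_A(P) \ P`. -/
theorem Data.exists_normalizing (D : Data S A p) (hF : F.IsSaturated p) (hE : F.IsEssential p P)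
    {x : Ω} (hx : x ∈ P) (hxA : x ∉ A) :
    ∃ a₀ ∈ A, a₀ ∈ Subgroup.normalizer (P : Set Ω) ∧ a₀ ∉ P := by
  have hPS : P ≤ S := hE.1.1
  have hPne : P ≠ S := Cfsg.Agent.Lib.Fusion.EssentialGen.essential_ne D.hS hF hE
  obtain ⟨g, hg, hgP⟩ := SetLike.exists_of_lt
    (Cfsg.Agent.Lib.Fusion.AlperinInduct.lt_normalizerIn D.hS (lt_of_le_of_ne hPS hPne))
  obtain ⟨a₀, ha₀, k, e₀⟩ := D.exists_decomp (hPS hx) hxA hg.1
  have hxN : x ∈ Subgroup.normalizer (P : Set Ω) := Subgroup.le_normalizer hx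
  refine ⟨a₀, ha₀, ?_, ?_⟩
  · have : a₀ = g * (x ^ k)⁻¹ := by rw [e₀]; group
    rw [this]
    exact Subgroup.mul_mem _ hg.2 (Subgroup.inv_mem _ (Subgroup.pow_mem _ hxN k))
  · intro h
    apply hgP
    rw [e₀]
    exact P.mul_mem h (P.pow_mem hx k)

/-- **`P ∩ A` has index `p` in `N_A(P)`.** -/
theorem Data.index_L (D : Data S A p) (hF : F.IsSaturated p) (hE : F.IsEssential p P)
    {x : Ω} (hx : x ∈ P) (hxA : x ∉ A) :
    (P.subgroupOf (A ⊓ Subgroup.normalizer (P : Set Ω))).index = p := by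
  classical
  have hPS : P ≤ S := hE.1.1
  have hC : centralizerIn S P ≤ P := hE.1.2 P (Basic.IsConj.refl hPS)
  haveI : Finite P := finite_of_le hPS
  obtain ⟨α, hαA, hα⟩ := exists_pair D.hS hF hE
  haveI hB : (A.subgroupOf P).Normal := ⟨fun n hn g => D.conj_mem (hPS g.2) hn⟩
  have hBi : (A.subgroupOf P).index = p := D.index_subgroupOf hPS hx hxA
  let N : Subgroup Ω := A ⊓ Subgroup.normalizer (P : Set Ω)
  let f : ↥N →* ↥P := D.kappa hPS hx
  let L : Subgroup ↥N := P.subgroupOf N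
  -- index of the preimage
  have hK : ∀ β : MulAut P, ¬ (L.index ∣ p) → ∃ a : ↥N, (a : Ω) ∉ P ∧
      ((β (f a) : P) : Ω) ∈ A := by
    intro β hnd
    let H : Subgroup P := (A.subgroupOf P).comap β.toMonoidHom
    haveI hHn : H.Normal := hB.comap _
    have hHi : H.index = p := by
      rw [Subgroup.index_comap_of_surjective _ (MulEquiv.surjective β), hBi]
    let K : Subgroup ↥N := H.comap f
    have hKd : K.index ∣ p := by
      rw [Subgroup.index_comap, ← hHi]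
      exact Subgroup.relIndex_dvd_index_of_normal _ _
    have hLK : L ≤ K := by
      intro a ha
      have h1 : ((a : Ω)) ∈ P := ha
      show ((β (f a) : P) : Ω) ∈ A
      have e : f a = (⟨a, h1⟩ : P) * ⟨x, hx⟩ * (⟨a, h1⟩ : P)⁻¹ * (⟨x, hx⟩ : P)⁻¹ := Subtype.ext rfl
      rw [e, map_mul, map_mul, map_mul, map_inv, map_inv]
      exact D.comm_mem (hPS (β _).2) (hPS (β _).2)
    have hne : K ≠ L := by
      intro h
      rw [h] at hKd
      exact hnd hKd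
    obtain ⟨a, haK, haL⟩ := SetLike.exists_of_lt (lt_of_le_of_ne hLK hne.symm)
    exact ⟨a, haL, haK⟩
  have hdvd : L.index ∣ p := by
    by_contra hnd
    obtain ⟨a₁, h11, h12⟩ := hK α⁻¹ hnd
    obtain ⟨a₂, h21, h22⟩ := hK α hnd
    exact D.pair_contra hPS hC hx hxA hα a₁.2.1 a₁.2.2 h11 a₂.2.1 a₂.2.2 h21 h12 h22
  -- `L` is proper
  obtain ⟨a₀, ha₀, ha₀N, ha₀P⟩ := D.exists_normalizing hF hE hx hxA
  have hLne : L.index ≠ 1 := by
    intro h
    rw [Subgroup.index_eq_one] at h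
    have : (⟨a₀, ha₀, ha₀N⟩ : ↥N) ∈ L := by rw [h]; trivial
    exact ha₀P this
  rcases (Nat.dvd_prime hp.out).1 hdvd with h | h
  · exact absurd h hLne
  · exact h

/-- **`P` has index `p` in its normalizer.** -/
theorem Data.index_normalizer (D : Data S A p) (hF : F.IsSaturated p) (hE : F.IsEssential p P)
    {x : Ω} (hx : x ∈ P) (hxA : x ∉ A) :
    (P.subgroupOf (S ⊓ Subgroup.normalizer (P : Set Ω))).index = p := by
  classical
  have hPS : P ≤ S := hE.1.1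
  have hLp := D.index_L hF hE hx hxA
  let N : Subgroup Ω := A ⊓ Subgroup.normalizer (P : Set Ω)
  have hxN : x ∈ Subgroup.normalizer (P : Set Ω) := Subgroup.le_normalizer hx
  -- comparison
  let R : Subgroup Ω := S ⊓ Subgroup.normalizer (P : Set Ω)
  have hNR : N ≤ R := fun a ha => ⟨D.le ha.1, ha.2⟩
  have hPR : P ≤ R := fun a ha => ⟨hPS ha, Subgroup.le_normalizer ha⟩
  haveI hKn : (P.subgroupOf R).Normal := ⟨fun n hn g => by
    have h1 := (Subgroup.mem_normalizer_iff.1 g.2.2 n).1 hn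
    exact h1⟩
  have h1 := Subgroup.relIndex_sup_right (N.subgroupOf R) (P.subgroupOf R)
  have h2 : N.subgroupOf R ⊔ P.subgroupOf R = ⊤ := by
    rw [eq_top_iff]
    rintro ⟨s, hs⟩ -
    obtain ⟨a, ha, k, e⟩ := D.exists_decomp (hPS hx) hxA hs.1
    have haN : a ∈ Subgroup.normalizer (P : Set Ω) := by
      have : a = s * (x ^ k)⁻¹ := by rw [e]; group
      rw [this]
      exact Subgroup.mul_mem _ hs.2 (Subgroup.inv_mem _ (Subgroup.pow_mem _ hxN k))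
    have e' : (⟨s, hs⟩ : R) = ⟨a, hNR ⟨ha, haN⟩⟩ * ⟨x ^ k, hPR (P.pow_mem hx k)⟩ := Subtype.ext e
    rw [e']
    exact Subgroup.mul_mem_sup (show _ ∈ N from ⟨ha, haN⟩) (P.pow_mem hx k)
  rw [h2, Subgroup.relIndex_top_right, Subgroup.relIndex_subgroupOf hNR] at h1
  rw [h1]
  exact hLp

/-- The centre of `S` lies in a centric subgroup. -/
theorem cen_le_of_centric (hC : F.IsCentric P) : cen S ≤ P := by
  have hPS := hC.1
  refine le_trans ?_ (hC.2 P (Basic.IsConj.refl hPS))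
  intro y hy
  refine ⟨(mem_cen.1 hy).1, Subgroup.mem_centralizer_iff.2 fun s hs => (mem_cen.1 hy).2 s (hPS hs)⟩

/-- In the nonabelian case, the centre of `P` is the centre of `S`. -/
theorem Data.center_P_le (D : Data S A p) (hPS : P ≤ S) {x : Ω} (hx : x ∈ P) (hxA : x ∉ A)
    (hnab : ¬ ∀ s ∈ P, ∀ t ∈ P, s * t = t * s) {y : Ω} (hy : y ∈ P) (hc : ∀ s ∈ P, s * y = y * s) :
    y ∈ cen S := by
  by_cases hyA : y ∈ A
  · exact D.central_of_comm hyA (hPS hx) hxA (hc x hx)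
  · exfalso
    apply hnab
    intro s hs t ht
    obtain ⟨a, haP, ha, k, rfl⟩ := D.decomp_P hPS hy hyA hs
    obtain ⟨b, hbP, hb, l, rfl⟩ := D.decomp_P hPS hy hyA ht
    have h1 : ∀ c ∈ P, ∀ m : ℕ, Commute (y ^ m) c :=
      fun c hc' m => (show Commute c y from hc c hc').symm.pow_left m
    have h3 : Commute (a * y ^ k) (b * y ^ l) := by
      apply Commute.mul_left
      · exact Commute.mul_right (D.comm a ha b hb) (h1 a haP l).symm
      · exact Commute.mul_right (h1 b hbP k) ((Commute.refl y).pow_pow k l)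
    exact h3

/-- Some automorphism moves `P ∩ A`. -/
theorem Data.exists_move (D : Data S A p) (hF : F.IsSaturated p) (hE : F.IsEssential p P)
    {x : Ω} (hx : x ∈ P) (hxA : x ∉ A) :
    ∃ α ∈ F.autGroup P, ∃ y : P, (y : Ω) ∈ A ∧ ((α y : P) : Ω) ∉ A := by
  by_contra hcon
  push Not at hcon
  have hPS : P ≤ S := hE.1.1
  obtain ⟨a₀, ha₀, ha₀N, ha₀P⟩ := D.exists_normalizing hF hE hx hxA
  apply ha₀P
  refine Cfsg.Agent.Lib.Fusion.Chain.mem_of_stab_chain D.hS hE.1 (isRadical_of_essential D.hS hE)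
    (E := chain2 (P ⊓ A)) (m := 2) rfl le_top ?_ (D.le ha₀) ha₀N ?_
  · intro i hi α hα y hy
    have hi' : i = 0 ∨ i = 1 ∨ i = 2 := by omega
    rcases hi' with rfl | rfl | rfl
    · have h1 : y = 1 := Subtype.ext hy
      rw [h1, map_one]
      exact Subgroup.one_mem _
    · exact ⟨(α y).2, hcon α hα y hy.2⟩
    · trivial
  · intro i hi y hyP hy
    have hi' : i = 0 ∨ i = 1 := by omega
    rcases hi' with rfl | rfl
    · have h1 : y ∈ A := hy.2
      have e : y⁻¹ * (a₀ * y * a₀⁻¹) = 1 := by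
        rw [D.comm a₀ ha₀ y h1]
        group
      rw [e]
      exact Subgroup.one_mem _
    · refine ⟨P.mul_mem (P.inv_mem hyP) ((Subgroup.mem_normalizer_iff.1 ha₀N y).1 hyP), ?_⟩
      have e : y⁻¹ * (a₀ * y * a₀⁻¹) = (y⁻¹ * a₀ * y⁻¹⁻¹) * a₀⁻¹ := by group
      rw [e]
      exact A.mul_mem (D.conj_mem (S.inv_mem (hPS hyP)) ha₀) (A.inv_mem ha₀)

/-- In the nonabelian case, commutators of `P` are central in `S`. -/
theorem Data.comm_le_cen (D : Data S A p) (hF : F.IsSaturated p) (hE : F.IsEssential p P)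
    {x : Ω} (hx : x ∈ P) (hxA : x ∉ A) (hnab : ¬ ∀ s ∈ P, ∀ t ∈ P, s * t = t * s)
    {s t : Ω} (hs : s ∈ P) (ht : t ∈ P) : s * t * s⁻¹ * t⁻¹ ∈ cen S := by
  have hPS : P ≤ S := hE.1.1
  obtain ⟨α, -, y, hyA, hαy⟩ := D.exists_move hF hE hx hxA
  have hcA : s * t * s⁻¹ * t⁻¹ ∈ A := D.comm_mem (hPS hs) (hPS ht)
  have hcP : s * t * s⁻¹ * t⁻¹ ∈ P := P.mul_mem (P.mul_mem (P.mul_mem hs ht) (P.inv_mem hs)) (P.inv_mem ht)
  refine D.center_P_le hPS hx hxA hnab hcP fun u hu => ?_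
  -- `u` as a product
  have hwP : ((α y : P) : Ω) ∈ P := (α y).2
  obtain ⟨b, hbP, hb, k, rfl⟩ := D.decomp_P hPS hwP hαy hu
  have h1 : Commute b (s * t * s⁻¹ * t⁻¹) := D.comm b hb _ hcA
  -- `w = α y` commutes with the commutator
  have h2 : Commute ((α y : P) : Ω) (s * t * s⁻¹ * t⁻¹) := by
    let s' : P := α⁻¹ ⟨s, hs⟩
    let t' : P := α⁻¹ ⟨t, ht⟩
    have hc' : ((s' * t' * s'⁻¹ * t'⁻¹ : P) : Ω) ∈ A :=
      D.comm_mem (hPS s'.2) (hPS t'.2)
    have e : s * t * s⁻¹ * t⁻¹ = ((α (s' * t' * s'⁻¹ * t'⁻¹) : P) : Ω) := by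
      simp only [map_mul, map_inv, s', t', MulAut.apply_inv_self]
      rfl
    rw [e]
    have h3 : y * (s' * t' * s'⁻¹ * t'⁻¹) = (s' * t' * s'⁻¹ * t'⁻¹) * y :=
      Subtype.ext (D.comm _ hyA _ hc')
    have h4 : ∀ u : P, y * u = u * y → α y * α u = α u * α y :=
      fun u hu => by rw [← map_mul, ← map_mul, hu]
    exact congrArg Subtype.val (h4 _ h3)
  exact Commute.mul_left h1 (h2.pow_left k)

/-- The powers of an element modulo the centre. -/
theorem comm_pow_of_cen {y w c : Ω} (hwS : w ∈ S) (hc : c ∈ cen S)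
    (e : y * w * y⁻¹ * w⁻¹ = c) (k : ℕ) : y * w ^ k * y⁻¹ * (w ^ k)⁻¹ = c ^ k := by
  have h1 : y * w * y⁻¹ = c * w := by
    rw [← e]
    group
  have h2 : Commute c w := ((mem_cen.1 hc).2 w hwS).symm
  have h3 : y * w ^ k * y⁻¹ = (y * w * y⁻¹) ^ k := by
    rw [conj_pow]
  rw [h3, h1, h2.mul_pow]
  group

/-- Membership in the second centre for elements of `A`. -/
theorem Data.mem_cen2_of (D : Data S A p) {x b : Ω} (hx : x ∈ S) (hxA : x ∉ A) (hb : b ∈ A)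
    (hc : b * x * b⁻¹ * x⁻¹ ∈ cen S) : b ∈ cen2 S := by
  refine mem_cen2.2 ⟨D.le hb, fun s hs => ?_⟩
  obtain ⟨a, ha, k, rfl⟩ := D.exists_decomp hx hxA hs
  have h1 := comm_pow_of_cen hx hc rfl k
  have e : b * (a * x ^ k) * b⁻¹ * (a * x ^ k)⁻¹ = a * (b * x ^ k * b⁻¹ * (x ^ k)⁻¹) * a⁻¹ := by
    have h2 : b * a = a * b := D.comm b hb a ha
    calc b * (a * x ^ k) * b⁻¹ * (a * x ^ k)⁻¹ = (b * a) * x ^ k * b⁻¹ * (x ^ k)⁻¹ * a⁻¹ := by group
      _ = a * (b * x ^ k * b⁻¹ * (x ^ k)⁻¹) * a⁻¹ := by rw [h2]; group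
  rw [e, h1]
  have h3 : (b * x * b⁻¹ * x⁻¹) ^ k ∈ cen S := (cen S).pow_mem hc k
  have h4 := (mem_cen.1 h3).2 a (D.le ha)
  rw [h4, mul_assoc, mul_inv_cancel, mul_one]
  exact h3

/-- The case of abelian `P`. -/
theorem Data.eq_of_abelian (D : Data S A p) (hC : F.IsCentric P) {x : Ω} (hx : x ∈ P) (hxA : x ∉ A)
    (hab : ∀ s ∈ P, ∀ t ∈ P, s * t = t * s) : P = cen S ⊔ Subgroup.zpowers x := by
  have hPS : P ≤ S := hC.1
  apply le_antisymm
  · intro s hs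
    obtain ⟨b, hbP, hb, k, rfl⟩ := D.decomp_P hPS hx hxA hs
    have hbZ : b ∈ cen S := D.central_of_comm hb (hPS hx) hxA (hab x hx b hbP)
    exact Subgroup.mul_mem _ (Subgroup.mem_sup_left hbZ)
      (Subgroup.mem_sup_right (Subgroup.npow_mem_zpowers x k))
  · exact sup_le (cen_le_of_centric hC) (Subgroup.zpowers_le.2 hx)

/-- The case of nonabelian `P`: `P ∩ A` lies in the second centre. -/
theorem Data.le_cen2 (D : Data S A p) (hF : F.IsSaturated p) (hE : F.IsEssential p P)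
    {x : Ω} (hx : x ∈ P) (hxA : x ∉ A) (hnab : ¬ ∀ s ∈ P, ∀ t ∈ P, s * t = t * s)
    {b : Ω} (hbP : b ∈ P) (hb : b ∈ A) : b ∈ cen2 S :=
  D.mem_cen2_of (hE.1.1 hx) hxA hb (D.comm_le_cen hF hE hx hxA hnab hbP hx)

/-- The case of nonabelian `P`: commutators of `N_A(P) \ P` with `x` are not central. -/
theorem Data.kappa_not_mem (D : Data S A p) (hF : F.IsSaturated p) (hE : F.IsEssential p P)
    {x : Ω} (hx : x ∈ P) (hxA : x ∉ A) (hnab : ¬ ∀ s ∈ P, ∀ t ∈ P, s * t = t * s)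
    {a : Ω} (ha : a ∈ A) (haN : a ∈ Subgroup.normalizer (P : Set Ω)) (haP : a ∉ P) :
    a * x * a⁻¹ * x⁻¹ ∉ cen S := by
  intro hκ
  have hPS : P ≤ S := hE.1.1
  have hZP : cen S ≤ P := cen_le_of_centric hE.1
  haveI hZn : ((cen S).subgroupOf P).Normal := ⟨fun n hn g => by
    have h1 : (n : Ω) ∈ cen S := hn
    show (g : Ω) * n * (g : Ω)⁻¹ ∈ cen S
    rw [(mem_cen.1 h1).2 g (hPS g.2)]
    simpa using h1⟩
  apply haP
  refine Cfsg.Agent.Lib.Fusion.Chain.mem_of_stab_chain D.hS hE.1 (isRadical_of_essential D.hS hE)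
    (E := chain2 (cen S)) (m := 2) rfl le_top ?_ (D.le ha) haN ?_
  · intro i hi α hα y hy
    have hi' : i = 0 ∨ i = 1 ∨ i = 2 := by omega
    rcases hi' with rfl | rfl | rfl
    · have h1 : y = 1 := Subtype.ext hy
      rw [h1, map_one]
      exact Subgroup.one_mem _
    · have hy' : (y : Ω) ∈ cen S := hy
      refine D.center_P_le hPS hx hxA hnab (α y).2 fun s hs => ?_
      obtain ⟨u, hu⟩ := α.surjective ⟨s, hs⟩
      have h1 : u * y = y * u := Subtype.ext ((mem_cen.1 hy').2 u (hPS u.2))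
      have h2 : α u * α y = α y * α u := by rw [← map_mul, ← map_mul, h1]
      rw [hu] at h2
      exact congrArg Subtype.val h2
    · trivial
  · intro i hi y hyP hy
    have hi' : i = 0 ∨ i = 1 := by omega
    rcases hi' with rfl | rfl
    · have h1 : y ∈ cen S := hy
      have e : y⁻¹ * (a * y * a⁻¹) = 1 := by
        rw [(mem_cen.1 h1).2 a (D.le ha)]
        group
      rw [e]
      exact Subgroup.one_mem _
    · have h1 := D.stab_kappa hPS hx hxA ha haN (W := (cen S).subgroupOf P) hκ ⟨y, hyP⟩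
      exact h1

/-- If the commutator of `a ∈ A` with `x` is not central, the second centre lies in `A`. -/
theorem Data.cen2_le (D : Data S A p) {a x : Ω} (ha : a ∈ A) (hx : x ∈ S)
    (hκ : a * x * a⁻¹ * x⁻¹ ∉ cen S) : cen2 S ≤ A := by
  intro w hw
  by_contra hwA
  apply hκ
  obtain ⟨hwS, hw2⟩ := mem_cen2.1 hw
  obtain ⟨a', ha', k, e⟩ := D.exists_decomp hwS hwA hx
  have hc : a * w * a⁻¹ * w⁻¹ ∈ cen S := by
    have h1 := (cen S).inv_mem (hw2 a (D.le ha))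
    have e1 : (w * a * w⁻¹ * a⁻¹)⁻¹ = a * w * a⁻¹ * w⁻¹ := by group
    rwa [e1] at h1
  have h2 := comm_pow_of_cen hwS hc rfl k
  have e2 : a * x * a⁻¹ * x⁻¹ = a' * (a * w ^ k * a⁻¹ * (w ^ k)⁻¹) * a'⁻¹ := by
    have h3 : a * a' = a' * a := D.comm a ha a' ha'
    rw [e]
    calc a * (a' * w ^ k) * a⁻¹ * (a' * w ^ k)⁻¹ = (a * a') * w ^ k * a⁻¹ * (w ^ k)⁻¹ * a'⁻¹ := by group
      _ = a' * (a * w ^ k * a⁻¹ * (w ^ k)⁻¹) * a'⁻¹ := by rw [h3]; group
  rw [e2, h2]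
  have h3 : (a * w * a⁻¹ * w⁻¹) ^ k ∈ cen S := (cen S).pow_mem hc k
  have h4 := (mem_cen.1 h3).2 a' (D.le ha')
  rw [h4, mul_assoc, mul_inv_cancel, mul_one]
  exact h3

/-- A general form of the decomposition. -/
theorem exists_decomp_of_index {G : Type*} [Group G] [Finite G] {H : Subgroup G} [H.Normal]
    (hi : H.index = p) {y : G} (hy : y ∉ H) (s : G) : ∃ a ∈ H, ∃ k : ℕ, s = a * y ^ k := by
  have hne : (QuotientGroup.mk y : G ⧸ H) ≠ 1 := by
    intro h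
    exact hy ((QuotientGroup.eq_one_iff y).1 h)
  have h1 : (QuotientGroup.mk s : G ⧸ H) ∈ Subgroup.zpowers (QuotientGroup.mk y : G ⧸ H) :=
    mem_zpowers_of_prime_card (show Nat.card (G ⧸ H) = p from hi) hne
  rw [← mem_powers_iff_mem_zpowers] at h1
  obtain ⟨k, hk⟩ := h1
  refine ⟨s * (y ^ k)⁻¹, ?_, k, by group⟩
  rw [← QuotientGroup.eq_one_iff, QuotientGroup.mk_mul, QuotientGroup.mk_inv, QuotientGroup.mk_pow]
  rw [← hk]
  simp

/-- The case of nonabelian `P`. -/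
theorem Data.eq_of_nonabelian (D : Data S A p) (hF : F.IsSaturated p) (hE : F.IsEssential p P)
    {x : Ω} (hx : x ∈ P) (hxA : x ∉ A) (hnab : ¬ ∀ s ∈ P, ∀ t ∈ P, s * t = t * s) :
    cen2 S ≤ A ∧ P = cen2 S ⊔ Subgroup.zpowers x ∧ cen2 S = P ⊓ A := by
  have hPS : P ≤ S := hE.1.1
  have hZP : cen S ≤ P := cen_le_of_centric hE.1
  obtain ⟨a₀, ha₀, ha₀N, ha₀P⟩ := D.exists_normalizing hF hE hx hxA
  have hκ₀ := D.kappa_not_mem hF hE hx hxA hnab ha₀ ha₀N ha₀P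
  have hZ2A : cen2 S ≤ A := D.cen2_le ha₀ (hPS hx) hκ₀
  have hBZ2 : P ⊓ A ≤ cen2 S := fun b hb => D.le_cen2 hF hE hx hxA hnab hb.1 hb.2
  -- the second centre normalizes `P`
  have hZ2N : cen2 S ≤ Subgroup.normalizer (P : Set Ω) := by
    have key : ∀ y ∈ cen2 S, ∀ h ∈ P, y * h * y⁻¹ ∈ P := by
      intro y hy h hh
      have h1 := hZP ((mem_cen2.1 hy).2 h (hPS hh))
      have e : y * h * y⁻¹ = (y * h * y⁻¹ * h⁻¹) * h := by group
      rw [e]
      exact P.mul_mem h1 hh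
    intro y hy
    refine Subgroup.mem_normalizer_iff.2 fun h => ⟨key y hy h, fun hh => ?_⟩
    have h1 := key y⁻¹ ((cen2 S).inv_mem hy) _ hh
    have e : y⁻¹ * (y * h * y⁻¹) * y⁻¹⁻¹ = h := by group
    rwa [e] at h1
  have hZ2P : cen2 S ≤ P := by
    intro y hy
    by_contra hyP
    let N : Subgroup Ω := A ⊓ Subgroup.normalizer (P : Set Ω)
    haveI : Finite N := finite_of_le (inf_le_left.trans D.le)
    haveI hLn : (P.subgroupOf N).Normal := ⟨fun n hn g => by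
      have h1 := (Subgroup.mem_normalizer_iff.1 g.2.2 n).1 hn
      exact h1⟩
    have hLi := D.index_L hF hE hx hxA
    let yN : N := ⟨y, hZ2A hy, hZ2N hy⟩
    obtain ⟨b, hb, k, e⟩ := exists_decomp_of_index hLi (y := yN) hyP ⟨a₀, ha₀, ha₀N⟩
    have e' : a₀ = b * y ^ k := congrArg Subtype.val e
    have hbB : (b : Ω) ∈ P ⊓ A := ⟨hb, b.2.1⟩
    have ha₀2 : a₀ ∈ cen2 S := by
      rw [e']
      exact (cen2 S).mul_mem (hBZ2 hbB) ((cen2 S).pow_mem hy k)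
    exact hκ₀ ((mem_cen2.1 ha₀2).2 x (hPS hx))
  refine ⟨hZ2A, le_antisymm ?_ (sup_le hZ2P (Subgroup.zpowers_le.2 hx)), le_antisymm (le_inf hZ2P hZ2A) hBZ2⟩
  intro s hs
  obtain ⟨b, hbP, hb, k, rfl⟩ := D.decomp_P hPS hx hxA hs
  exact Subgroup.mul_mem _ (Subgroup.mem_sup_left (hBZ2 ⟨hbP, hb⟩))
    (Subgroup.mem_sup_right (Subgroup.npow_mem_zpowers x k))

/-- An essential subgroup other than `A` is not contained in `A`. -/
theorem Data.exists_x (D : Data S A p) (hC : F.IsCentric P) (hPA : P ≠ A) : ∃ x ∈ P, x ∉ A := by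
  by_contra hcon
  push Not at hcon
  apply hPA
  refine le_antisymm hcon fun a ha => hC.2 P (Basic.IsConj.refl hC.1) ?_
  refine ⟨D.le ha, Subgroup.mem_centralizer_iff.2 fun y hy => ?_⟩
  exact D.comm y (hcon y hy) a ha

end Fusion


end Cfsg.Agent.Lib.Fusion.AbelianMax
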