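/-
The endomorphism `a ↦ [a, x]` of an abelian subgroup of index `p`.
-/
import Mathlib
import Cfsg.Agent.Lib.Fusion.AbelianMax

set_option autoImplicit false
set_option linter.style.haveILetI false

namespace Cfsg.Agent.Lib.Fusion.AbelianMax

open scoped commutatorElement

variable {Ω : Type*} [Group Ω] {S A : Subgroup Ω} {p : ℕ}

/-- The derived subgroup of `S` as a subgroup of the ambient group. -/
abbrev der (S : Subgroup Ω) : Subgroup Ω := (commutator ↥S).map S.subtype

/-- A bound for the comap. -/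
theorem card_comap_le {G H : Type*} [Group G] [Group H] [Finite G] [Finite H] (g : G →* H)
    (K : Subgroup H) : Nat.card (K.comap g) ≤ Nat.card g.ker * Nat.card K := by
  classical
  let g₁ : ↥(K.comap g) →* ↥K := g.subgroupComap K
  have h1 := Subgroup.card_mul_index g₁.ker
  rw [Subgroup.index_ker] at h1
  rw [← h1]
  refine Nat.mul_le_mul ?_ ?_
  · refine Nat.card_le_card_of_injective (fun y : g₁.ker => (⟨((y : ↥(K.comap g)) : G), ?_⟩ : g.ker)) ?_
    · have h2 : g₁ (y : ↥(K.comap g)) = 1 := y.2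
      exact congrArg Subtype.val h2
    · intro a b hab
      apply Subtype.ext
      apply Subtype.ext
      exact congrArg (fun z : g.ker => (z : G)) hab
  · exact Subgroup.card_le_card_group _

/-- The kernels of the iterates of an endomorphism. -/
theorem card_ker_iterate_le {G : Type*} [Group G] [Finite G] (f : G →* G) {c : ℕ}
    (hc : Nat.card f.ker ≤ c) (k : ℕ) :
    ∃ g : G →* G, (∀ y, g y = f^[k] y) ∧ Nat.card g.ker ≤ c ^ k := by
  induction k with
  | zero =>
    refine ⟨MonoidHom.id G, fun _ => rfl, ?_⟩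
    have : (MonoidHom.id G).ker = ⊥ := MonoidHom.ker_id
    rw [this, Subgroup.card_bot]
    simp
  | succ k ih =>
    obtain ⟨g, hg, hgc⟩ := ih
    refine ⟨f.comp g, fun y => ?_, ?_⟩
    · rw [Function.iterate_succ_apply', MonoidHom.comp_apply, hg]
    · have e : (f.comp g).ker = f.ker.comap g := rfl
      rw [e]
      calc Nat.card (f.ker.comap g) ≤ Nat.card g.ker * Nat.card f.ker := card_comap_le g _
        _ ≤ c ^ k * c := Nat.mul_le_mul hgc hc
        _ = c ^ (k + 1) := (pow_succ c k).symm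

variable [Finite S] [hp : Fact p.Prime]

theorem finite_of_le_S {K : Subgroup Ω} (h : K ≤ S) : Finite K := Finite.of_injective (Subgroup.inclusion h) (Subgroup.inclusion_injective h)

/-- The endomorphism `a ↦ [a, x]` of `A`. -/
def Data.psi (D : Data S A p) {x : Ω} (hx : x ∈ S) : ↥A →* ↥A :=
  MonoidHom.mk' (fun a => ⟨a * x * (a : Ω)⁻¹ * x⁻¹, D.comm_mem (D.le a.2) hx⟩) (by
    intro a b
    apply Subtype.ext
    have h1 := D.comm_mem (D.le a.2) hx
    have h2 := D.comm_mem (D.le b.2) hx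
    have hc := D.comm _ h1 _ h2
    have hc2 := D.comm _ a.2 _ h2
    show ((a * b : ↥A) : Ω) * x * ((a * b : ↥A) : Ω)⁻¹ * x⁻¹ =
      ((a : Ω) * x * (a : Ω)⁻¹ * x⁻¹) * ((b : Ω) * x * (b : Ω)⁻¹ * x⁻¹)
    rw [hc]
    have e : ((a * b : ↥A) : Ω) * x * ((a * b : ↥A) : Ω)⁻¹ * x⁻¹ =
        (a : Ω) * ((b : Ω) * x * (b : Ω)⁻¹ * x⁻¹) * (x * (a : Ω)⁻¹ * x⁻¹) := by
      simp only [Subgroup.coe_mul]
      group
    rw [e, hc2]
    group)

@[simp] theorem Data.psi_apply (D : Data S A p) {x : Ω} (hx : x ∈ S) (a : ↥A) :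
    ((D.psi hx a : A) : Ω) = a * x * (a : Ω)⁻¹ * x⁻¹ := rfl

theorem Data.psi_eq_one_iff (D : Data S A p) {x : Ω} (hx : x ∈ S) (hxA : x ∉ A) (a : ↥A) :
    D.psi hx a = 1 ↔ (a : Ω) ∈ cen S := by
  constructor
  · intro h
    have h1 : (a : Ω) * x * (a : Ω)⁻¹ * x⁻¹ = 1 := congrArg Subtype.val h
    refine D.central_of_comm a.2 hx hxA ?_
    have h2 : (a : Ω) * x = x * a := by
      have h3 : (a : Ω) * x * (a : Ω)⁻¹ = x := by
        rw [mul_inv_eq_one] at h1
        exact h1
      rw [mul_inv_eq_iff_eq_mul] at h3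
      exact h3
    exact h2.symm
  · intro h
    apply Subtype.ext
    show (a : Ω) * x * (a : Ω)⁻¹ * x⁻¹ = 1
    rw [← (mem_cen.1 h).2 x hx]
    group

theorem Data.der_le (D : Data S A p) : der S ≤ A := by
  have h1 : commutator ↥S ≤ A.subgroupOf S := by
    rw [commutator_def, Subgroup.commutator_le]
    intro s _ t _
    exact D.comm_mem s.2 t.2
  rintro _ ⟨y, hy, rfl⟩
  exact h1 hy

/-- The image of `ψ` is the derived subgroup. -/
theorem Data.mem_der_iff (D : Data S A p) {x : Ω} (hx : x ∈ S) (hxA : x ∉ A) (a : ↥A) :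
    (a : Ω) ∈ der S ↔ a ∈ (D.psi hx).range := by
  classical
  constructor
  · -- the range is normal in `S`, with abelian quotient
    let T : Subgroup Ω := (D.psi hx).range.map A.subtype
    have hTA : T ≤ A := by
      rintro _ ⟨y, -, rfl⟩
      exact y.2
    have hconjx : ∀ k : ℕ, ∀ b : ↥A, x ^ k * ((D.psi hx b : A) : Ω) * (x ^ k)⁻¹ ∈ T := by
      intro k
      induction k with
      | zero =>
        intro b
        exact ⟨D.psi hx b, ⟨b, rfl⟩, by simp⟩
      | succ k ih =>
        intro b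
        let b' : ↥A := ⟨x * b * x⁻¹, D.conj_mem hx b.2⟩
        have h1 := ih b'
        have e : x ^ (k + 1) * ((D.psi hx b : A) : Ω) * (x ^ (k + 1))⁻¹ =
            x ^ k * ((D.psi hx b' : A) : Ω) * (x ^ k)⁻¹ := by
          simp only [Data.psi_apply, b', pow_succ]
          group
        rw [e]
        exact h1
    haveI hTn : (T.subgroupOf S).Normal := by
      refine ⟨fun n hn g => ?_⟩
      obtain ⟨y, ⟨b, rfl⟩, hy⟩ := hn
      obtain ⟨c, hc, k, e⟩ := D.exists_decomp hx hxA g.2
      show (g : Ω) * n * (g : Ω)⁻¹ ∈ T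
      have hy' : (n : Ω) = ((D.psi hx b : A) : Ω) := hy.symm
      rw [e, hy']
      have h1 := hconjx k b
      have h2 : Commute c (x ^ k * ((D.psi hx b : A) : Ω) * (x ^ k)⁻¹) := D.comm c hc _ (hTA h1)
      have e2 : c * x ^ k * (((D.psi hx) b : A) : Ω) * (c * x ^ k)⁻¹ =
          c * (x ^ k * ((D.psi hx b : A) : Ω) * (x ^ k)⁻¹) * c⁻¹ := by group
      show c * x ^ k * (((D.psi hx) b : A) : Ω) * (c * x ^ k)⁻¹ ∈ T
      rw [e2, h2.eq, mul_assoc, mul_inv_cancel, mul_one]
      exact h1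
    have hcomm : commutator ↥S ≤ T.subgroupOf S := by
      rw [commutator_def, Subgroup.commutator_le]
      intro s _ t _
      let q : ↥S →* ↥S ⧸ T.subgroupOf S := QuotientGroup.mk' _
      have hq : ∀ u v : ↥S, q u * q v = q v * q u → ⁅u, v⁆ ∈ T.subgroupOf S := by
        intro u v huv
        rw [← QuotientGroup.eq_one_iff]
        show q ⁅u, v⁆ = 1
        rw [map_commutatorElement, commutatorElement_eq_one_iff_mul_comm]
        exact huv
      apply hq
      let xs : ↥S := ⟨x, hx⟩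
      have hax : ∀ c : ↥A, Commute (q ⟨c, D.le c.2⟩) (q xs) := by
        intro c
        have h1 : ⁅(⟨c, D.le c.2⟩ : ↥S), xs⁆ ∈ T.subgroupOf S := by
          show (c : Ω) * x * (c : Ω)⁻¹ * x⁻¹ ∈ T
          exact ⟨D.psi hx c, ⟨c, rfl⟩, rfl⟩
        rw [← QuotientGroup.eq_one_iff] at h1
        have h2 : q ⁅(⟨c, D.le c.2⟩ : ↥S), xs⁆ = 1 := h1
        rw [map_commutatorElement, commutatorElement_eq_one_iff_mul_comm] at h2
        exact h2
      have hab : ∀ c d : ↥A, Commute (q ⟨c, D.le c.2⟩) (q ⟨d, D.le d.2⟩) := by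
        intro c d
        show q _ * q _ = q _ * q _
        rw [← map_mul, ← map_mul]
        congr 1
        exact Subtype.ext (D.comm c c.2 d d.2)
      obtain ⟨c, hc, k, e1⟩ := D.exists_decomp hx hxA s.2
      obtain ⟨d, hd, l, e2⟩ := D.exists_decomp hx hxA t.2
      have es : s = ⟨c, D.le hc⟩ * xs ^ k := Subtype.ext e1
      have et : t = ⟨d, D.le hd⟩ * xs ^ l := Subtype.ext e2
      rw [es, et, map_mul, map_mul, map_pow, map_pow]
      have h3 : Commute (q ⟨c, D.le hc⟩ * q xs ^ k) (q ⟨d, D.le hd⟩ * q xs ^ l) := by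
        apply Commute.mul_left
        · exact Commute.mul_right (hab ⟨c, hc⟩ ⟨d, hd⟩) ((hax ⟨c, hc⟩).pow_right l)
        · exact Commute.mul_right ((hax ⟨d, hd⟩).symm.pow_left k) ((Commute.refl _).pow_pow k l)
      exact h3
    intro ha
    obtain ⟨y, hy, hya⟩ := ha
    obtain ⟨w, ⟨b, rfl⟩, hw⟩ := hcomm hy
    refine ⟨b, Subtype.ext ?_⟩
    exact hw.trans hya
  · rintro ⟨b, rfl⟩
    refine ⟨⁅(⟨b, D.le b.2⟩ : ↥S), (⟨x, hx⟩ : ↥S)⁆, ?_, rfl⟩
    rw [commutator_def]
    exact Subgroup.commutator_mem_commutator (Subgroup.mem_top _) (Subgroup.mem_top _)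

/-- The order of `Z ∩ S'`. -/
theorem Data.card_inf (D : Data S A p) {x : Ω} (hx : x ∈ S) (hxA : x ∉ A) (hZ2 : cen2 S ≤ A)
    (hi : ((cen S).subgroupOf (cen2 S)).index = p) : Nat.card ↥(cen S ⊓ der S) = p := by
  classical
  have hv : ∀ y : ↥(cen2 S), ((D.psi hx).comp (Subgroup.inclusion hZ2) y : ↥A).1 ∈ cen S ⊓ der S := by
    intro y
    refine ⟨(mem_cen2.1 y.2).2 x hx, (D.mem_der_iff hx hxA _).2 ⟨_, rfl⟩⟩
  let f : ↥(cen2 S) →* ↥(cen S ⊓ der S) := MonoidHom.mk'
    (fun y => ⟨_, hv y⟩) (by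
      intro a b
      apply Subtype.ext
      show ((D.psi hx (Subgroup.inclusion hZ2 (a * b)) : A) : Ω) = _
      rw [map_mul, map_mul]
      rfl)
  have hsurj : f.range = ⊤ := by
    rw [MonoidHom.range_eq_top]
    rintro ⟨c, hc1, hc2⟩
    obtain ⟨a, ha⟩ := (D.mem_der_iff hx hxA ⟨c, D.der_le hc2⟩).1 hc2
    have hac : ((D.psi hx a : A) : Ω) = c := congrArg Subtype.val ha
    have ha2 : (a : Ω) ∈ cen2 S := by
      refine D.mem_cen2_of hx hxA a.2 ?_
      have : (a : Ω) * x * (a : Ω)⁻¹ * x⁻¹ = c := hac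
      rw [this]
      exact hc1
    refine ⟨⟨a, ha2⟩, Subtype.ext ?_⟩
    exact hac
  have hker : f.ker = (cen S).subgroupOf (cen2 S) := by
    ext y
    rw [MonoidHom.mem_ker, Subgroup.mem_subgroupOf]
    constructor
    · intro h
      have h' : ((f y : ↥(cen S ⊓ der S)) : Ω) = 1 := by rw [h]; rfl
      have h1 : D.psi hx (Subgroup.inclusion hZ2 y) = 1 := Subtype.ext h'
      exact (D.psi_eq_one_iff hx hxA _).1 h1
    · intro h
      have h1 := (D.psi_eq_one_iff hx hxA (Subgroup.inclusion hZ2 y)).2 h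
      have h' : ((f y : ↥(cen S ⊓ der S)) : Ω) = 1 := congrArg (fun z : ↥A => (z : Ω)) h1
      exact Subtype.ext h'
  have h2 := Subgroup.index_ker f
  rw [hker, hi, hsurj, Subgroup.card_top] at h2
  exact h2.symm

/-- The index of `Z S'` in `A`. -/
theorem Data.index_sup (D : Data S A p) (hna : ¬ IsMulCommutative ↥S) {x : Ω} (hx : x ∈ S)
    (hxA : x ∉ A) : ((cen S ⊔ der S).subgroupOf A).index = Nat.card ↥(cen S ⊓ der S) := by
  classical
  have hZA := D.cen_le hna
  have hdA := D.der_le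
  haveI : Finite A := finite_of_le_S D.le
  let Z' : Subgroup ↥A := (cen S).subgroupOf A
  let T' : Subgroup ↥A := (der S).subgroupOf A
  haveI hZn : Z'.Normal := ⟨fun n hn g => by
    show (g : Ω) * n * (g : Ω)⁻¹ ∈ cen S
    rw [D.comm g g.2 n n.2, mul_assoc, mul_inv_cancel, mul_one]
    exact hn⟩
  have hker : (D.psi hx).ker = Z' := by
    ext a
    rw [MonoidHom.mem_ker]
    exact D.psi_eq_one_iff hx hxA a
  have hrange : (D.psi hx).range = T' := by
    ext a
    exact (D.mem_der_iff hx hxA a).symm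
  have h1 : Z'.index = Nat.card T' := by
    rw [← hker, Subgroup.index_ker, hrange]
  have hsup : (cen S ⊔ der S).subgroupOf A = T' ⊔ Z' := by
    rw [sup_comm]
    exact Subgroup.subgroupOf_sup hdA hZA
  have h2 := Subgroup.relIndex_sup_right T' Z'
  have h3 := Subgroup.relIndex_mul_index (le_sup_right : Z' ≤ T' ⊔ Z')
  rw [h2, h1] at h3
  have h4 : Z'.relIndex T' * Nat.card ↥(Z'.subgroupOf T') = Nat.card T' :=
    Subgroup.index_mul_card _
  have h5 : Nat.card ↥(Z'.subgroupOf T') = Nat.card ↥(cen S ⊓ der S) := by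
    refine Nat.card_congr (Equiv.ofBijective
      (fun y => (⟨((y : T') : ↥A), (show (((y : T') : ↥A) : Ω) ∈ cen S from y.2),
        (show (((y : T') : ↥A) : Ω) ∈ der S from (y : T').2)⟩ : ↥(cen S ⊓ der S))) ⟨?_, ?_⟩)
    · intro a b hab
      apply Subtype.ext
      apply Subtype.ext
      apply Subtype.ext
      exact congrArg (fun z : ↥(cen S ⊓ der S) => (z : Ω)) hab
    · rintro ⟨c, hc1, hc2⟩
      exact ⟨⟨⟨⟨c, hdA hc2⟩, hc2⟩, hc1⟩, rfl⟩
  have h6 : 0 < Nat.card T' := Nat.card_pos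
  have h7 : Z'.relIndex T' ≠ 0 := by
    intro h
    rw [h, zero_mul] at h4
    omega
  rw [hsup, ← h5]
  apply Nat.eq_of_mul_eq_mul_left (Nat.pos_of_ne_zero h7)
  rw [h3, h4]

/-- `S / Z(S)` has maximal class. -/
theorem Data.not_lcs_le (D : Data S A p) (hna : ¬ IsMulCommutative ↥S) {x : Ω} (hx : x ∈ S)
    (hxA : x ∉ A) (hZ0 : Nat.card ↥(cen S ⊓ der S) = p) (m : ℕ)
    (hm : ((cen S).subgroupOf S).index = p ^ m) (h3 : 3 ≤ m) :
    ¬ Subgroup.lowerCentralSeries S (m - 2) ≤ cen S := by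
  classical
  intro hle
  have hZA := D.cen_le hna
  haveI : Finite A := finite_of_le_S D.le
  let ψ := D.psi hx
  -- the lower central series
  have hlcs : ∀ k : ℕ, ∀ a : ↥A, ((ψ^[k + 1] a : A) : Ω) ∈ Subgroup.lowerCentralSeries S (k + 1) := by
    intro k
    induction k with
    | zero =>
      intro a
      rw [Function.iterate_one, Subgroup.lowerCentralSeries_succ, Subgroup.lowerCentralSeries_zero]
      exact Subgroup.commutator_mem_commutator (D.le a.2) hx
    | succ k ih =>
      intro a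
      rw [Function.iterate_succ_apply', Subgroup.lowerCentralSeries_succ]
      exact Subgroup.commutator_mem_commutator (ih a) hx
  obtain ⟨k, rfl⟩ : ∃ k, m = k + 3 := ⟨m - 3, by omega⟩
  have hk : k + 3 - 2 = k + 1 := by omega
  rw [hk] at hle
  -- the restriction of `ψ` to its range
  let G := ψ.range
  let f : G →* G := (ψ.comp G.subtype).codRestrict G (fun y => ⟨y, rfl⟩)
  have hfval : ∀ (j : ℕ) (y : G), ((f^[j] y : G) : ↥A) = ψ^[j] (y : ↥A) := by
    intro j
    induction j with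
    | zero => intro y; rfl
    | succ j ih =>
      intro y
      rw [Function.iterate_succ_apply', Function.iterate_succ_apply', ← ih]
      rfl
  have hkerf : Nat.card f.ker ≤ p := by
    rw [← hZ0]
    haveI : Finite ↥(cen S ⊓ der S) := finite_of_le_S (inf_le_left.trans inf_le_left)
    refine Nat.card_le_card_of_injective (fun y : f.ker => (⟨(((y : G) : ↥A) : Ω), ?_, ?_⟩ :
      ↥(cen S ⊓ der S))) ?_
    · have h1 : f (y : G) = 1 := y.2
      have h2 : ψ ((y : G) : ↥A) = 1 := congrArg Subtype.val h1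
      exact (D.psi_eq_one_iff hx hxA _).1 h2
    · exact (D.mem_der_iff hx hxA _).2 (y : G).2
    · intro a b hab
      apply Subtype.ext
      apply Subtype.ext
      apply Subtype.ext
      exact congrArg (fun z : ↥(cen S ⊓ der S) => (z : Ω)) hab
  obtain ⟨g, hg, hgc⟩ := card_ker_iterate_le f hkerf (k + 1)
  have hgtop : g.ker = ⊤ := by
    rw [eq_top_iff]
    rintro ⟨y, a, rfl⟩ -
    rw [MonoidHom.mem_ker, hg]
    apply Subtype.ext
    rw [hfval]
    show ψ^[k + 1] (ψ a) = 1
    rw [← Function.iterate_succ_apply, Function.iterate_succ_apply']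
    have h1 := hle (hlcs k a)
    exact (D.psi_eq_one_iff hx hxA _).2 h1
  rw [hgtop, Subgroup.card_top] at hgc
  -- orders
  have hker : ψ.ker = (cen S).subgroupOf A := by
    ext a
    rw [MonoidHom.mem_ker]
    exact D.psi_eq_one_iff hx hxA a
  have hGcard : Nat.card G = ((cen S).subgroupOf A).index := by
    rw [← hker, Subgroup.index_ker]
  have hidx : ((cen S).subgroupOf A).index * p = p ^ (k + 3) := by
    rw [← hm, ← D.index]
    have := Subgroup.relIndex_mul_relIndex (cen S) A S hZA D.le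
    simpa [Subgroup.relIndex] using this
  rw [← hGcard] at hidx
  have hp1 := hp.out.one_lt
  have h5 : Nat.card G = p ^ (k + 2) := by
    have : p ^ (k + 3) = p ^ (k + 2) * p := pow_succ p (k + 2)
    rw [this] at hidx
    exact Nat.eq_of_mul_eq_mul_right hp.out.pos hidx
  rw [h5] at hgc
  have := Nat.pow_le_pow_iff_right hp1 |>.1 hgc
  omega

section Fusion

variable {P : Subgroup Ω} {F : Cfsg.FusionSystem S}

/-- The second centre and the essential subgroups. -/
theorem Data.cen2_normalizer (hZP : cen S ≤ P) : cen2 S ≤ Subgroup.normalizer (P : Set Ω) ∨ ¬ P ≤ S := by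
  by_cases hPS : P ≤ S
  · left
    have key : ∀ y ∈ cen2 S, ∀ h ∈ P, y * h * y⁻¹ ∈ P := by
      intro y hy h hh
      have h1 := hZP ((mem_cen2.1 hy).2 h (hPS hh))
      have e : y * h * y⁻¹ = (y * h * y⁻¹ * h⁻¹) * h := by group
      rw [e]
      exact P.mul_mem h1 hh
    intro y hy
    refine Subgroup.mem_normalizer_iff.2 fun h => ⟨key y hy h, fun hh => ?_⟩
    have h1 := key y⁻¹ ((cen2 S).inv_mem hy) _ hh
    have e : y⁻¹ * (y * h * y⁻¹) * y⁻¹⁻¹ = h := by group
    rwa [e] at h1
  · exact Or.inr hPS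

/-- **The structure of `S` when there is an essential subgroup other than `A`.** -/
theorem Data.cen2_structure (D : Data S A p) (huniq : ∀ B : Subgroup Ω, B ≤ S → IsMulCommutative ↥B →
      (B.subgroupOf S).index = p → B = A) (hF : F.IsSaturated p) (hE : F.IsEssential p P) (hPA : P ≠ A) :
    cen2 S ≤ A ∧ ((cen S).subgroupOf (cen2 S)).index = p := by
  classical
  have hPS : P ≤ S := hE.1.1
  have hZP : cen S ≤ P := cen_le_of_centric hE.1
  obtain ⟨x, hx, hxA⟩ := D.exists_x hE.1 hPA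
  have hxS := hPS hx
  by_cases hab : ∀ s ∈ P, ∀ t ∈ P, s * t = t * s
  · -- abelian `P`
    have hBZ : ∀ b ∈ P, b ∈ A → b ∈ cen S := fun b hb hbA =>
      D.central_of_comm hbA hxS hxA (hab x hx b hb)
    have hZ2A : cen2 S ≤ A := by
      by_contra hnot
      have hall : ∀ a ∈ A, a * x * a⁻¹ * x⁻¹ ∈ cen S := by
        intro a ha
        by_contra hκ
        exact hnot (D.cen2_le ha hxS hκ)
      have hnormA : ∀ a ∈ A, ∀ y ∈ P, a * y * a⁻¹ ∈ P := by
        intro a ha y hy
        obtain ⟨b, hbP, hb, k, rfl⟩ := D.decomp_P hPS hx hxA hy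
        have h1 : a * x * a⁻¹ ∈ P := by
          have e : a * x * a⁻¹ = (a * x * a⁻¹ * x⁻¹) * x := by group
          rw [e]
          exact P.mul_mem (hZP (hall a ha)) hx
        have e : a * (b * x ^ k) * a⁻¹ = b * (a * x * a⁻¹) ^ k := by
          rw [conj_pow]
          calc a * (b * x ^ k) * a⁻¹ = (a * b) * x ^ k * a⁻¹ := by group
            _ = b * (a * x ^ k * a⁻¹) := by rw [D.comm a ha b hb]; group
        rw [e]
        exact P.mul_mem hbP (P.pow_mem h1 k)
      have hN : S ⊓ Subgroup.normalizer (P : Set Ω) = S := by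
        refine inf_eq_left.2 fun s hs => ?_
        obtain ⟨a, ha, k, rfl⟩ := D.exists_decomp hxS hxA hs
        refine Subgroup.mul_mem _ ?_ (Subgroup.pow_mem _ (Subgroup.le_normalizer hx) k)
        refine Subgroup.mem_normalizer_iff.2 fun h => ⟨hnormA a ha h, fun hh => ?_⟩
        have h1 := hnormA a⁻¹ (A.inv_mem ha) _ hh
        have e : a⁻¹ * (a * h * a⁻¹) * a⁻¹⁻¹ = h := by group
        rwa [e] at h1
      have hi := D.index_normalizer hF hE hx hxA
      rw [hN] at hi
      apply hPA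
      refine huniq P hPS ⟨⟨fun u v => Subtype.ext (hab u u.2 v v.2)⟩⟩ hi
    refine ⟨hZ2A, ?_⟩
    have hi := D.index_L hF hE hx hxA
    have hNe : A ⊓ Subgroup.normalizer (P : Set Ω) = cen2 S := by
      apply le_antisymm
      · rintro a ⟨ha, haN⟩
        refine D.mem_cen2_of hxS hxA ha (hBZ _ ?_ ?_)
        · exact (D.kappa_mem hPS hx ha haN).1
        · exact (D.kappa_mem hPS hx ha haN).2
      · refine le_inf hZ2A ?_
        rcases Data.cen2_normalizer (S := S) hZP with h | h
        · exact h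
        · exact absurd hPS h
    rw [hNe] at hi
    rw [← hi]
    congr 1
    ext y
    rw [Subgroup.mem_subgroupOf, Subgroup.mem_subgroupOf]
    exact ⟨fun h => hZP h, fun h => hBZ _ h (hZ2A y.2)⟩
  · -- nonabelian `P`
    obtain ⟨hZ2A, -, hB⟩ := D.eq_of_nonabelian hF hE hx hxA hab
    refine ⟨hZ2A, ?_⟩
    obtain ⟨α, hαA, y₀, hy₀A, hαy₀⟩ := D.exists_move hF hE hx hxA
    haveI : Finite P := finite_of_le_S hPS
    haveI hBn : (A.subgroupOf P).Normal := ⟨fun n hn g => D.conj_mem (hPS g.2) hn⟩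
    let H : Subgroup P := (A.subgroupOf P).comap α.toMonoidHom
    haveI hHn : H.Normal := hBn.comap _
    have hHi : H.index = p := by
      rw [Subgroup.index_comap_of_surjective _ (MulEquiv.surjective α)]
      exact D.index_subgroupOf hPS hx hxA
    have hd : H.relIndex (A.subgroupOf P) ∣ p := by
      rw [← hHi]
      exact Subgroup.relIndex_dvd_index_of_normal _ _
    have hne1 : H.relIndex (A.subgroupOf P) ≠ 1 := by
      intro h1
      rw [Subgroup.relIndex_eq_one] at h1
      exact hαy₀ (h1 (show y₀ ∈ A.subgroupOf P from hy₀A))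
    have hrel : H.relIndex (A.subgroupOf P) = p := by
      rcases (Nat.dvd_prime hp.out).1 hd with h | h
      · exact absurd h hne1
      · exact h
    have hmap := Subgroup.relIndex_map_map_of_injective H (A.subgroupOf P) P.subtype_injective
    rw [hrel] at hmap
    have hBe : (A.subgroupOf P).map P.subtype = cen2 S := by
      rw [hB, Subgroup.subgroupOf_map_subtype, inf_comm]
    rw [hBe] at hmap
    rw [← hmap]
    show _ = ((H.map P.subtype).subgroupOf (cen2 S)).index
    congr 1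
    ext y
    rw [Subgroup.mem_subgroupOf, Subgroup.mem_subgroupOf]
    have hyB : (y : Ω) ∈ P ⊓ A := hB ▸ y.2
    let yP : P := ⟨y, hyB.1⟩
    have hcentral : ∀ u : P, (u : Ω) ∈ cen S → ∀ β : MulAut P, ((β u : P) : Ω) ∈ cen S := by
      intro u hu β
      refine D.center_P_le hPS hx hxA hab (β u).2 fun s hs => ?_
      obtain ⟨v, hv⟩ := β.surjective ⟨s, hs⟩
      have h1 : v * u = u * v := Subtype.ext ((mem_cen.1 hu).2 v (hPS v.2))
      have h2 : β v * β u = β u * β v := by rw [← map_mul, ← map_mul, h1]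
      rw [hv] at h2
      exact congrArg Subtype.val h2
    constructor
    · intro hy
      refine ⟨yP, ?_, rfl⟩
      exact (D.cen_le (fun h => hab (fun s hs t ht => congrArg Subtype.val
        (h.is_comm.comm (⟨s, hPS hs⟩ : S) ⟨t, hPS ht⟩)))) (hcentral yP hy α)
    · rintro ⟨u, hu, hue⟩
      have huy : u = yP := Subtype.ext hue
      subst huy
      have hαu : ((α yP : P) : Ω) ∈ A := hu
      have hc : ((α yP : P) : Ω) ∈ cen S := by
        refine D.center_P_le hPS hx hxA hab (α yP).2 fun s hs => ?_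
        have hwP : ((α y₀ : P) : Ω) ∈ P := (α y₀).2
        obtain ⟨b, hbP, hb, k, rfl⟩ := D.decomp_P hPS hwP hαy₀ hs
        have h1 : Commute b ((α yP : P) : Ω) := D.comm b hb _ hαu
        have h3 : y₀ * yP = yP * y₀ := Subtype.ext (D.comm _ hy₀A _ hyB.2)
        have h4 : α y₀ * α yP = α yP * α y₀ := by rw [← map_mul, ← map_mul, h3]
        have h2 : Commute ((α y₀ : P) : Ω) ((α yP : P) : Ω) := congrArg Subtype.val h4
        exact Commute.mul_left h1 (h2.pow_left k)
      have h5 := hcentral (α yP) hc α⁻¹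
      rw [MulAut.inv_apply_self] at h5
      exact h5

end Fusion

end Cfsg.Agent.Lib.Fusion.AbelianMax
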