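/-
The hyperfocal subgroup of a factor system.
-/
import Mathlib
import Cfsg.Prelude.Def_FusionComponents
import Cfsg.Agent.Lib.Fusion.Basic
import Cfsg.Agent.Lib.Fusion.Saturated
import Cfsg.Agent.Lib.Fusion.Hyperfocal
import Cfsg.Agent.Lib.Fusion.FactorMorphism

set_option autoImplicit false

namespace Cfsg.Agent.Lib.Fusion.FactorHyperfocal

open Cfsg Cfsg.FusionSystem Cfsg.Agent.Lib.Fusion.Basic Cfsg.Agent.Lib.Fusion.Saturated
open Cfsg.Agent.Lib.Fusion.Factor Cfsg.Agent.Lib.Fusion.FactorMorphism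
open Cfsg.Agent.Lib.Fusion.Hyperfocal

/-- A power of a finite-order element which has order prime to `p` and is congruent to `1` modulo a
given `n` prime to `p`. -/
theorem exists_pow_coprime {A : Type*} [Group A] {p : ℕ} (hp : p.Prime) (a : A) (ha : 0 < orderOf a)
    {n : ℕ} (hn : n.Coprime p) : ∃ u : ℕ, u ≡ 1 [MOD n] ∧ (orderOf (a ^ u)).Coprime p := by
  obtain ⟨m, b, hb, hfac⟩ := Nat.exists_eq_pow_mul_and_not_dvd ha.ne' p hp.ne_one
  have hcop : n.Coprime (p ^ m) := hn.pow_right m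
  let u : ℕ := Nat.chineseRemainder hcop 1 0
  have hu : u ≡ 1 [MOD n] ∧ u ≡ 0 [MOD p ^ m] := (Nat.chineseRemainder hcop 1 0).2
  obtain ⟨t, ht⟩ := (Nat.modEq_zero_iff_dvd).1 hu.2
  refine ⟨u, hu.1, ?_⟩
  have hd : orderOf (a ^ u) ∣ b := by
    apply orderOf_dvd_of_pow_eq_one
    have e : (a ^ u) ^ b = (a ^ orderOf a) ^ t := by
      rw [← pow_mul, ← pow_mul, ht, hfac]
      congr 1
      ring
    rw [e, pow_orderOf_eq_one, one_pow]
  have hbc : b.Coprime p := ((Nat.Prime.coprime_iff_not_dvd hp).2 hb).symm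
  exact Nat.Coprime.coprime_dvd_left hd hbc

variable {Ω : Type*} [Group Ω] {S : Subgroup Ω} {F : FusionSystem S}
variable {Ω' : Type*} [Group Ω'] {S' : Subgroup Ω'}
variable [Finite S] {p : ℕ} [hp : Fact p.Prime]

/-- `θ(hyp(F)) ≤ hyp(E)`. -/
theorem map_hyperfocal_le (hS : IsPGroup p S) (hF : F.IsSaturated p) {T : Subgroup Ω}
    (hT : F.StronglyClosed T) {θ : S →* Ω'} {E : FusionSystem S'} (hE : F.IsFactorSystem T θ E) :
    ((F.hyperfocalSubgroup p).subgroupOf S).map θ ≤ E.hyperfocalSubgroup p := by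
  have hmor := isMorphism_of_isFactorSystem hS hF hT hE
  have hle : F.hyperfocalSubgroup p ≤ (((E.hyperfocalSubgroup p).comap θ).map S.subtype) := by
    refine hyperfocal_le fun P hP α hα x => ?_
    have hxS : ∀ y : P, (y : Ω) ∈ S := fun y => hP y.2
    haveI : Finite P := finite_of_le hP
    have hm := autGroup_mem_hom hP α.2
    obtain ⟨φ', hφ', hP2, hv, hmem, he⟩ := hmor.2 P _ hm
    -- the induced automorphism
    let P' := imageAlong θ P
    have hgsurj : ∀ y : P', ∃ z : P, θ ⟨z, hP z.2⟩ = y := by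
      rintro ⟨_, ⟨s, hs, rfl⟩⟩
      exact ⟨⟨s, hs⟩, rfl⟩
    have he' : ∀ z : P, φ' ⟨θ ⟨z, hP z.2⟩, hmem z⟩ = θ ⟨((α : MulAut P) z : P), hP ((α : MulAut P) z).2⟩ := he
    have hr : φ'.range = P' := by
      have hfinP' : Finite P' := by
        have : Function.Surjective (fun z : P => (⟨θ ⟨z, hP z.2⟩, hmem z⟩ : P')) := by
          intro y
          obtain ⟨z, hz⟩ := hgsurj y
          exact ⟨z, Subtype.ext hz⟩
        exact Finite.of_surjective _ this
      have hvP : ∀ y : P', φ' y ∈ P' := by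
        intro y
        obtain ⟨z, hz⟩ := hgsurj y
        have : y = ⟨θ ⟨z, hP z.2⟩, hmem z⟩ := Subtype.ext hz.symm
        rw [this, he']
        exact hmem _
      exact range_eq_of_card hφ' hvP le_rfl
    have hinj := E.injective_of_mem hφ'
    let a : MulAut P' := isoOfRange hinj hr
    have hag : ∀ y : P', ((a y : P') : Ω') = φ' y := fun _ => rfl
    have haA : a ∈ E.autGroup P' := by
      apply mem_autGroup_of_mem
      have e : P'.subtype.comp a.toMonoidHom = φ' := by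
        ext y
        exact hag y
      rw [e]
      exact hφ'
    have hpow : ∀ (k : ℕ) (z : P), ((a ^ k) ⟨θ ⟨z, hP z.2⟩, hmem z⟩ : P') =
        ⟨θ ⟨(((α : MulAut P) ^ k) z : P), hP (((α : MulAut P) ^ k) z).2⟩, hmem (((α : MulAut P) ^ k) z)⟩ := by
      intro k
      induction k with
      | zero => intro z; rfl
      | succ k ih =>
        intro z
        rw [pow_succ', pow_succ', MulAut.mul_apply, MulAut.mul_apply, ih]
        apply Subtype.ext
        show φ' _ = _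
        rw [he']
    have hord : (orderOf (⟨a, haA⟩ : E.autGroup P')).Coprime p := by
      have hα' : (orderOf (α : MulAut P)).Coprime p := by rwa [Subgroup.orderOf_coe]
      have hd : orderOf a ∣ orderOf (α : MulAut P) := by
        apply orderOf_dvd_of_pow_eq_one
        ext y
        obtain ⟨z, hz⟩ := hgsurj y
        have hy : y = ⟨θ ⟨z, hP z.2⟩, hmem z⟩ := Subtype.ext hz.symm
        rw [hy, hpow, pow_orderOf_eq_one]
        rfl
      rw [Subgroup.orderOf_mk]
      exact Nat.Coprime.coprime_dvd_left hd hα'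
    have hP' : P' ≤ S' := by
      rw [← hE.2.2.1]
      rintro _ ⟨s, -, rfl⟩
      exact ⟨s, rfl⟩
    have h1 := mem_hyperfocal_of_coprime (F := E) (p := p) hP' hord ⟨θ ⟨x, hP x.2⟩, hmem x⟩
    have hw : (x : Ω)⁻¹ * ((α : MulAut P) x : P) ∈ S := S.mul_mem (S.inv_mem (hP x.2)) (hP ((α : MulAut P) x).2)
    refine ⟨⟨(x : Ω)⁻¹ * ((α : MulAut P) x : P), hw⟩, ?_, rfl⟩
    have e : θ ⟨(x : Ω)⁻¹ * ((α : MulAut P) x : P), hw⟩ =
        (θ ⟨x, hP x.2⟩)⁻¹ * φ' ⟨θ ⟨x, hP x.2⟩, hmem x⟩ := by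
      rw [he', ← map_inv, ← map_mul]
      rfl
    show θ ⟨(x : Ω)⁻¹ * ((α : MulAut P) x : P), hw⟩ ∈ E.hyperfocalSubgroup p
    rw [e]
    exact h1
  rintro _ ⟨z, hz, rfl⟩
  obtain ⟨s, hs, hse⟩ := hle hz
  have : s = z := Subtype.ext hse
  rw [← this]
  exact hs

/-- `hyp(E) ≤ θ(hyp(F))`. -/
theorem hyperfocal_le_map {T : Subgroup Ω} (hT : F.StronglyClosed T) {θ : S →* Ω'} {E : FusionSystem S'}
    (hE : F.IsFactorSystem T θ E) :
    E.hyperfocalSubgroup p ≤ ((F.hyperfocalSubgroup p).subgroupOf S).map θ := by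
  obtain ⟨hTS, hker, hrange, hiff⟩ := hE
  refine hyperfocal_le fun P' hP' b hb y => ?_
  have hm := autGroup_mem_hom hP' b.2
  obtain ⟨-, φ, hφ, hp', hv, hmem, he⟩ := (hiff _ _).1 hm
  have hRS : preimageAlong θ P' ≤ S := preimage_le θ P'
  haveI : Finite (preimageAlong θ P') := finite_of_le hRS
  have hvR : ∀ x : (preimageAlong θ P'), φ x ∈ (preimageAlong θ P') := by
    intro x
    refine mem_preimage.2 ⟨hv x, ?_⟩
    rw [← he x]
    exact ((b : MulAut P') _).2
  have hr : φ.range = (preimageAlong θ P') := range_eq_of_card hφ hvR le_rfl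
  let a : MulAut (preimageAlong θ P') := isoOfRange (F.injective_of_mem hφ) hr
  have hag : ∀ x : (preimageAlong θ P'), ((a x : (preimageAlong θ P')) : Ω) = φ x := fun _ => rfl
  have haA : a ∈ F.autGroup (preimageAlong θ P') := by
    apply mem_autGroup_of_mem
    have e : (preimageAlong θ P').subtype.comp a.toMonoidHom = φ := by
      ext x
      exact hag x
    rw [e]
    exact hφ
  haveI : Finite (MulAut (preimageAlong θ P')) := Finite.of_injective (fun α : MulAut (preimageAlong θ P') => (α : (preimageAlong θ P') → (preimageAlong θ P')))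
    (fun a b h => MulEquiv.ext (congrFun h))
  haveI : Finite (F.autGroup (preimageAlong θ P')) := inferInstance
  have hb' : (orderOf (b : MulAut P')).Coprime p := by rwa [Subgroup.orderOf_coe]
  obtain ⟨u, hu, hc⟩ := exists_pow_coprime hp.out (⟨a, haA⟩ : F.autGroup (preimageAlong θ P')) (orderOf_pos _) hb'
  -- action of powers
  have hpow : ∀ (k : ℕ) (x : (preimageAlong θ P')), ((b : MulAut P') ^ k) ⟨θ ⟨x, hRS x.2⟩, hmem x⟩ =
      ⟨θ ⟨((a ^ k) x : (preimageAlong θ P')), hRS ((a ^ k) x).2⟩, hmem ((a ^ k) x)⟩ := by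
    intro k
    induction k with
    | zero => intro x; rfl
    | succ k ih =>
      intro x
      rw [pow_succ', pow_succ', MulAut.mul_apply, MulAut.mul_apply, ih]
      exact Subtype.ext (he ((a ^ k) x))
  have hbu : (b : MulAut P') ^ u = (b : MulAut P') := by
    have := (pow_eq_pow_iff_modEq (x := (b : MulAut P'))).2 hu
    simpa using this
  obtain ⟨s, hs⟩ : (y : Ω') ∈ θ.range := hrange ▸ hP' y.2
  have hsR : (s : Ω) ∈ (preimageAlong θ P') := mem_preimage.2 ⟨s.2, by simp [hs]⟩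
  have h1 := mem_hyperfocal_of_coprime (F := F) (p := p) hRS hc ⟨s, hsR⟩
  refine ⟨⟨_, S.mul_mem (S.inv_mem (hRS hsR)) (hRS ((a ^ u) ⟨s, hsR⟩).2)⟩, ?_, ?_⟩
  · exact h1
  · have h2 := hpow u ⟨s, hsR⟩
    rw [hbu] at h2
    have e3 : (⟨θ ⟨(s : Ω), hRS hsR⟩, hmem ⟨s, hsR⟩⟩ : P') = y := Subtype.ext hs
    rw [e3] at h2
    have h3 : (((b : MulAut P') y : P') : Ω') = θ ⟨((a ^ u) ⟨s, hsR⟩ : (preimageAlong θ P')), hRS ((a ^ u) ⟨s, hsR⟩).2⟩ :=
      congrArg Subtype.val h2
    have e : (⟨(s : Ω)⁻¹ * ((a ^ u) ⟨s, hsR⟩ : (preimageAlong θ P')), S.mul_mem (S.inv_mem (hRS hsR)) (hRS ((a ^ u) ⟨s, hsR⟩).2)⟩ : S) =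
        s⁻¹ * ⟨((a ^ u) ⟨s, hsR⟩ : (preimageAlong θ P')), hRS ((a ^ u) ⟨s, hsR⟩).2⟩ := rfl
    rw [show θ _ = θ (s⁻¹ * ⟨((a ^ u) ⟨s, hsR⟩ : (preimageAlong θ P')), hRS ((a ^ u) ⟨s, hsR⟩).2⟩) from congrArg θ e,
      map_mul, map_inv, hs, h3]

/-- **The hyperfocal subgroup of a factor system** (`S5256`). -/
theorem hyperfocal_factor (hS : IsPGroup p S) (hF : F.IsSaturated p) {T : Subgroup Ω}
    (hT : F.StronglyClosed T) {θ : S →* Ω'} {E : FusionSystem S'} (hE : F.IsFactorSystem T θ E) :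
    E.hyperfocalSubgroup p = ((F.hyperfocalSubgroup p).subgroupOf S).map θ :=
  le_antisymm (hyperfocal_le_map hT hE) (map_hyperfocal_le hS hF hT hE)

end Cfsg.Agent.Lib.Fusion.FactorHyperfocal
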