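/-
Systems of maps lifting to `P ⊔ Q` with a condition on the action on `Q`; the action of a normal subsystem on a
normal subgroup.
-/
import Mathlib
import Cfsg.Prelude.Def_FusionComponents
import Cfsg.Agent.Lib.Fusion.Basic
import Cfsg.Agent.Lib.Fusion.Saturated
import Cfsg.Agent.Lib.Fusion.Saturated2
import Cfsg.Agent.Lib.Fusion.Alperin
import Cfsg.Agent.Lib.Fusion.Joins
import Cfsg.Agent.Lib.Fusion.NormalCR
import Cfsg.Agent.Lib.Fusion.LocalSystems
import Cfsg.Agent.Lib.Fusion.PPrime2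
import Cfsg.Agent.Lib.Fusion.FactorHyperfocal
import Cfsg.Agent.Lib.Fusion.StrongInvariance
import Cfsg.Agent.Lib.Basic.PCore
import Cfsg.Agent.Lib.Components.IsolatedMin

set_option autoImplicit false
set_option linter.style.haveILetI false

namespace Cfsg.Agent.Lib.Fusion.LiftSys

open Cfsg Cfsg.FusionSystem Cfsg.Agent.Lib.Fusion.Basic Cfsg.Agent.Lib.Fusion.Saturated
open Cfsg.Agent.Lib.Fusion.Saturated2 (autOfHom autOfHom_mem)
open Cfsg.Agent.Lib.Fusion.LocalSystems (map_mem_sup_of_ext)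
open Cfsg.Agent.Lib.Fusion.Joins (exists_hom_of_eq)

variable {Ω : Type*} [Group Ω] {S T : Subgroup Ω}

/-! ### Group lemmas -/

section Group

variable {G : Type*} [Group G] {p : ℕ} [Fact p.Prime]

/-- A finite group is generated by a Sylow subgroup and its elements of order prime to `p`. -/
theorem eq_top_of_sylow_pprime [Finite G] (R : Sylow p G) (A : Subgroup G) (hR : (R : Subgroup G) ≤ A)
    (h : ∀ g : G, Nat.Coprime (orderOf g) p → g ∈ A) : A = ⊤ := by
  have h1 := Cfsg.Agent.Lib.Components.IsolatedMin.pResidual_sup_sylow R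
  refine top_le_iff.1 (h1 ▸ sup_le hR ((Subgroup.closure_le _).2 h))

/-- A `p`-group has no nontrivial elements killed by an integer prime to `p`. -/
theorem eq_one_of_pow_coprime {H : Type*} [Group H] (hH : IsPGroup p H) {x : H} {n : ℕ} (hn : Nat.Coprime n p)
    (hx : x ^ n = 1) : x = 1 := by
  obtain ⟨k, hk⟩ := hH x
  have h1 : orderOf x ∣ n := orderOf_dvd_of_pow_eq_one hx
  have h2 : orderOf x ∣ p ^ k := orderOf_dvd_of_pow_eq_one hk
  have h3 : Nat.Coprime n (p ^ k) := hn.pow_right k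
  have h4 : orderOf x = 1 := Nat.eq_one_of_dvd_coprimes h3 h1 h2
  exact orderOf_eq_one_iff.1 h4

/-- Coprime stability, in the form used here. -/
theorem stable_coprime [Finite G] (hG : IsPGroup p G) (a : MulAut G) {n : ℕ} (hn : a ^ n = 1)
    (hco : Nat.Coprime n p) (K K₁ : Subgroup G) [K.Normal] (hK : ∀ g ∈ K, a g ∈ K)
    (h1 : ∀ g, g⁻¹ * a g ∈ K₁) (h2 : ∀ g ∈ K₁, g⁻¹ * a g ∈ K) (g : G) : g⁻¹ * a g ∈ K := by
  have hle : K ≤ K.comap a.toMonoidHom := hK
  let b : G ⧸ K →* G ⧸ K := QuotientGroup.map K K a.toMonoidHom hle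
  have hb : ∀ x : G, b (x : G ⧸ K) = ((a x : G) : G ⧸ K) := fun x => rfl
  let f : G ⧸ K := ((g⁻¹ * a g : G) : G ⧸ K)
  have hf : b f = f := by
    show b ((g⁻¹ * a g : G) : G ⧸ K) = _
    rw [hb]
    apply QuotientGroup.eq.2
    have := K.inv_mem (h2 _ (h1 g))
    simpa [mul_assoc] using this
  have hfe : b (g : G ⧸ K) = (g : G ⧸ K) * f := by
    rw [hb]
    show _ = ((g * (g⁻¹ * a g) : G) : G ⧸ K)
    simp
  have hpow : ∀ k : ℕ, (((a ^ k) g : G) : G ⧸ K) = (g : G ⧸ K) * f ^ k := by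
    intro k
    induction k with
    | zero => simp
    | succ k ih =>
      rw [pow_succ', MulAut.mul_apply, ← hb, ih, map_mul, map_pow, hf, hfe, pow_succ', mul_assoc]
  have h3 := hpow n
  rw [hn] at h3
  have h4 : f ^ n = 1 := by
    have : (g : G ⧸ K) * f ^ n = (g : G ⧸ K) * 1 := by
      rw [← h3, mul_one]
      rfl
    exact mul_left_cancel this
  have h5 : f = 1 := eq_one_of_pow_coprime (hG.to_quotient K) hco h4
  exact (QuotientGroup.eq_one_iff _).1 h5

end Group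

/-! ### The system of maps lifting with a given action on `Q` -/

section LiftSystem

variable {F : FusionSystem S} {E : FusionSystem T}

/-- The maps of `E` with an extension to `P ⊔ Q` in `F` acting on `Q` by `q ↦ q b`, `b ∈ B`. -/
def liftHom (E : FusionSystem T) (F : FusionSystem S) (Q B P : Subgroup Ω) : Set (P →* Ω) :=
  {φ | φ ∈ E.Hom P ∧ ∃ ψ ∈ F.Hom (P ⊔ Q), (∀ x : P, ψ (Subgroup.inclusion le_sup_left x) = φ x) ∧
    ∀ q : Q, (q : Ω)⁻¹ * ψ (Subgroup.inclusion le_sup_right q) ∈ B}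

theorem le_S_of_subsystem (hEF : E.IsSubsystemOf F) : T ≤ S :=
  (F.le_of_mem (hEF T (subtype_mem le_rfl))).1

/-- `E ∩ (lifts)` is a fusion system over `T`. -/
def liftSys [Finite S] (E : FusionSystem T) (F : FusionSystem S) (hEF : E.IsSubsystemOf F) (Q B : Subgroup Ω)
    (hQS : Q ≤ S) (hBQ : B ≤ Q) (hc : ∀ t ∈ T, ∀ q ∈ Q, q⁻¹ * (t * q * t⁻¹) ∈ B) : FusionSystem T where
  Hom P := liftHom E F Q B P
  le_of_mem := fun h => E.le_of_mem h.1
  injective_of_mem := fun h => E.injective_of_mem h.1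
  conj_mem := by
    intro P g hP hg
    have hTS := le_S_of_subsystem hEF
    refine ⟨E.conj_mem hP hg, conjHom (P ⊔ Q) g, F.conj_mem (sup_le (hP.trans hTS) hQS) (hTS hg), fun x => rfl,
      fun q => hc g hg q q.2⟩
  comp_mem := by
    rintro P R φ ρ ⟨hφ, ψ₁, hψ₁, hψ₁a, hψ₁b⟩ ⟨hρ, ψ₂, hψ₂, hψ₂a, hψ₂b⟩ h
    have hψ₁Q : ∀ q : Q, ψ₁ (Subgroup.inclusion le_sup_right q) ∈ Q := by
      intro q
      have h1 := hBQ (hψ₁b q)
      have h2 := Q.mul_mem q.2 h1
      simpa using h2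
    have hrange : ∀ x : ↥(P ⊔ Q), ψ₁ x ∈ R ⊔ Q := by
      refine map_mem_sup_of_ext ψ₁ (fun y => ?_) (fun y => ?_)
      · rw [hψ₁a]
        exact (le_sup_left : R ≤ R ⊔ Q) (h y)
      · exact (le_sup_right : Q ≤ R ⊔ Q) (hψ₁Q y)
    refine ⟨E.comp_mem hφ hρ h, ψ₂.comp (ψ₁.codRestrict (R ⊔ Q) hrange), F.comp_mem hψ₁ hψ₂ hrange,
      fun x => ?_, fun q => ?_⟩
    · have e : ψ₁.codRestrict (R ⊔ Q) hrange (Subgroup.inclusion le_sup_left x) =
          Subgroup.inclusion le_sup_left (φ.codRestrict R h x) := Subtype.ext (hψ₁a x)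
      simp only [MonoidHom.comp_apply]
      rw [e, hψ₂a]
    · have e : ψ₁.codRestrict (R ⊔ Q) hrange (Subgroup.inclusion le_sup_right q) =
          Subgroup.inclusion le_sup_right (⟨_, hψ₁Q q⟩ : Q) := Subtype.ext rfl
      simp only [MonoidHom.comp_apply]
      rw [e]
      have h1 := B.mul_mem (hψ₁b q) (hψ₂b ⟨_, hψ₁Q q⟩)
      simpa [mul_assoc] using h1
  inv_mem := by
    rintro P φ ⟨hφ, ψ, hψ, hψa, hψb⟩
    obtain ⟨χ, hχ, hχa⟩ := E.inv_mem hφ
    obtain ⟨ψ', hψ', hψ'a⟩ := F.inv_mem hψ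
    have hψQ : ∀ q : Q, ψ (Subgroup.inclusion le_sup_right q) ∈ Q := by
      intro q
      have h1 := hBQ (hψb q)
      have h2 := Q.mul_mem q.2 h1
      simpa using h2
    haveI hfinQ : Finite Q := finite_of_le hQS
    -- `ψ` maps `Q` onto `Q`
    let r : Q → Q := fun q => ⟨_, hψQ q⟩
    have hrinj : Function.Injective r := by
      intro a b hab
      have h1 : ψ (Subgroup.inclusion le_sup_right a) = ψ (Subgroup.inclusion le_sup_right b) :=
        congrArg Subtype.val hab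
      exact Subgroup.inclusion_injective _ (F.injective_of_mem hψ h1)
    have hrsurj : Function.Surjective r := Finite.surjective_of_injective hrinj
    have hle1 : φ.range ≤ ψ.range := by
      rintro _ ⟨x, rfl⟩
      exact ⟨Subgroup.inclusion le_sup_left x, hψa x⟩
    have hle2 : Q ≤ ψ.range := by
      intro q hq
      obtain ⟨w, hw⟩ := hrsurj ⟨q, hq⟩
      exact ⟨Subgroup.inclusion le_sup_right w, congrArg Subtype.val hw⟩
    have hle3 : φ.range ⊔ Q ≤ ψ.range := sup_le hle1 hle2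
    have hval : ∀ x : P, χ ⟨φ x, ⟨x, rfl⟩⟩ = x := hχa
    refine ⟨χ, ⟨hχ, ψ'.comp (Subgroup.inclusion hle3), res_mem hψ' hle3, fun y => ?_, fun q => ?_⟩, hχa⟩
    · obtain ⟨_, x, rfl⟩ := y
      have e : Subgroup.inclusion hle3 (Subgroup.inclusion le_sup_left ⟨φ x, ⟨x, rfl⟩⟩) =
          (⟨ψ (Subgroup.inclusion le_sup_left x), ⟨_, rfl⟩⟩ : ψ.range) := Subtype.ext (hψa x).symm
      simp only [MonoidHom.comp_apply]
      rw [e, hψ'a, hval]
      rfl
    · obtain ⟨w, hw⟩ := hrsurj q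
      have hwq : ψ (Subgroup.inclusion le_sup_right w) = q := congrArg Subtype.val hw
      have e : Subgroup.inclusion hle3 (Subgroup.inclusion le_sup_right q) =
          (⟨ψ (Subgroup.inclusion le_sup_right w), ⟨_, rfl⟩⟩ : ψ.range) := Subtype.ext hwq.symm
      simp only [MonoidHom.comp_apply]
      rw [e, hψ'a]
      have h1 := B.inv_mem (hψb w)
      rw [hwq] at h1
      simpa using h1

theorem mem_liftSys [Finite S] {hEF : E.IsSubsystemOf F} {Q B : Subgroup Ω} {hQS : Q ≤ S} {hBQ : B ≤ Q}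
    {hc : ∀ t ∈ T, ∀ q ∈ Q, q⁻¹ * (t * q * t⁻¹) ∈ B} {P : Subgroup Ω} {φ : P →* Ω} :
    φ ∈ (liftSys E F hEF Q B hQS hBQ hc).Hom P ↔ φ ∈ liftHom E F Q B P := Iff.rfl

end LiftSystem

end Cfsg.Agent.Lib.Fusion.LiftSys
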