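/-
A normal subsystem acting on a normal subgroup: every map of `E ⊴ F` over `T` lifts to `P ⊔ Q`, for `Q ⊴ F`, acting
trivially on `Q / (Q ∩ T)`.
-/
import Mathlib
import Cfsg.Agent.Lib.Fusion.LiftSys

set_option autoImplicit false
set_option linter.style.haveILetI false

namespace Cfsg.Agent.Lib.Fusion.NormalPair

open Cfsg Cfsg.FusionSystem Cfsg.Agent.Lib.Fusion.Basic Cfsg.Agent.Lib.Fusion.Saturated
open Cfsg.Agent.Lib.Fusion.Saturated2 (autOfHom autOfHom_mem)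
open Cfsg.Agent.Lib.Fusion.LocalSystems (map_mem_sup_of_ext range_ext_eq)
open Cfsg.Agent.Lib.Fusion.Joins (exists_hom_of_eq)
open Cfsg.Agent.Lib.Fusion.LiftSys
open Cfsg.Agent.Lib.Fusion.StrongInvariance (StrongClause strong_of_invariant)
open Cfsg.Agent.Lib.Fusion.NormalCR

variable {Ω : Type*} [Group Ω] {S T : Subgroup Ω} {F : FusionSystem S} {E : FusionSystem T}

/-- Restriction of an automorphism to a stable subgroup. -/
noncomputable def resAut {N Q : Subgroup Ω} [Finite Q] (a : MulAut N) (hQ : Q ≤ N)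
    (h : ∀ x : N, (x : Ω) ∈ Q → ((a x : N) : Ω) ∈ Q) : MulAut Q :=
  MulEquiv.ofBijective
    (((N.subtype.comp a.toMonoidHom).comp (Subgroup.inclusion hQ)).codRestrict Q
      (fun x => h (Subgroup.inclusion hQ x) x.2))
    (Finite.injective_iff_bijective.1 (by
      intro x y hxy
      have h1 : ((a (Subgroup.inclusion hQ x) : N) : Ω) = (a (Subgroup.inclusion hQ y) : N) :=
        congrArg (fun z : Q => (z : Ω)) hxy
      exact Subgroup.inclusion_injective hQ (a.injective (Subtype.ext h1))))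

@[simp] theorem resAut_coe {N Q : Subgroup Ω} [Finite Q] (a : MulAut N) (hQ : Q ≤ N)
    (h : ∀ x : N, (x : Ω) ∈ Q → ((a x : N) : Ω) ∈ Q) (x : Q) :
    ((resAut a hQ h x : Q) : Ω) = (a (Subgroup.inclusion hQ x) : N) := rfl

theorem resAut_pow {N Q : Subgroup Ω} [Finite Q] (a : MulAut N) (hQ : Q ≤ N)
    (h : ∀ x : N, (x : Ω) ∈ Q → ((a x : N) : Ω) ∈ Q) (k : ℕ) (x : Q) :
    (((resAut a hQ h ^ k) x : Q) : Ω) = ((a ^ k) (Subgroup.inclusion hQ x) : N) := by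
  induction k with
  | zero => rfl
  | succ k ih =>
    rw [pow_succ', pow_succ', MulAut.mul_apply, MulAut.mul_apply, resAut_coe]
    congr 2
    exact Subtype.ext ih

/-- Values in a strongly closed subgroup. -/
theorem stronglyClosed_apply (hT : F.StronglyClosed T) {A : Subgroup Ω} {φ : A →* Ω} (hφ : φ ∈ F.Hom A) (x : A)
    (hx : (x : Ω) ∈ T) : φ x ∈ T := by
  have hle : A ⊓ T ≤ A := inf_le_left
  exact hT.2 (A ⊓ T) inf_le_right _ (res_mem hφ hle) ⟨x, x.2, hx⟩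

section Invariant

variable [Finite S]

theorem finite_T (hE : E.IsInvariantIn F) : Finite T := finite_of_le hE.2.1.1

theorem strongClause (hE : E.IsInvariantIn F) : StrongClause E F := by
  haveI := finite_T hE
  exact strong_of_invariant hE.2.2.1 hE.2.2.2

/-- Transport of `Aut_E(P)` along maps of `F`. -/
theorem congr_mem_autGroup (hE : E.IsInvariantIn F) {P P₁ : Subgroup Ω} (hPT : P ≤ T) {χ : P →* Ω}
    (hχ : χ ∈ F.Hom P) (e : P ≃* P₁) (he : ∀ x : P, ((e x : P₁) : Ω) = χ x) {α : MulAut P}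
    (hα : α ∈ E.autGroup P) : MulAut.congr e α ∈ E.autGroup P₁ := by
  obtain ⟨χ', hχ', hχ'e⟩ := strongClause hE P P le_rfl hPT (P.subtype.comp α.toMonoidHom)
    (autGroup_mem_hom hPT hα) (fun x => (α x).2) χ hχ
  have hset : (P.subgroupOf P).map χ = P₁ := by
    ext y
    constructor
    · rintro ⟨x, -, rfl⟩
      rw [← he]
      exact (e x).2
    · intro hy
      refine ⟨e.symm ⟨y, hy⟩, by simp, ?_⟩
      rw [← he]
      simp
  obtain ⟨χ'', hχ'', hχ''e⟩ := exists_hom_of_eq E hset χ' hχ'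
  refine mem_autGroup_of_mem (mem_of_eq_res hχ'' le_rfl (fun y => ?_))
  obtain ⟨x, rfl⟩ := e.surjective y
  have hxQ : χ x ∈ P₁ := by
    rw [← he]
    exact (e x).2
  have hx : χ (Subgroup.inclusion (le_refl P) x) ∈ (P.subgroupOf P).map χ :=
    ⟨Subgroup.inclusion le_rfl x, by simp, rfl⟩
  have h1 := hχ'e x hx
  have h2 := hχ''e _ hx hxQ
  have h3 : Subgroup.inclusion (le_refl P₁) (e x) = ⟨χ x, hxQ⟩ := Subtype.ext (he x)
  show ((MulAut.congr e α) (e x) : Ω) = χ'' (Subgroup.inclusion le_rfl (e x))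
  rw [h3]
  refine Eq.trans ?_ (h2.trans h1).symm
  have e1 : (MulAut.congr e α) (e x) = e (α x) := by simp [MulAut.congr_apply]
  rw [e1, he]
  rfl

theorem mul_conj_mem_autGroup (hE : E.IsInvariantIn F) {g α : MulAut T} (hg : g ∈ F.autGroup T)
    (hα : α ∈ E.autGroup T) : g * α * g⁻¹ ∈ E.autGroup T := by
  have h1 := congr_mem_autGroup hE le_rfl (autGroup_mem_hom hE.2.1.1 hg) g (fun _ => rfl) hα
  have e : MulAut.congr g α = g * α * g⁻¹ := by
    ext x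
    simp [MulAut.congr_apply]
  rwa [e] at h1

end Invariant

section Main

variable [Finite S] {p : ℕ} [hp : Fact p.Prime] {Q : Subgroup Ω}

theorem autGroup_le_of_subsystem (hEF : E.IsSubsystemOf F) (P : Subgroup Ω) : E.autGroup P ≤ F.autGroup P :=
  Subgroup.closure_mono fun _ hα => hEF P hα

theorem isFullyNormalized_top [Finite T] (E : FusionSystem T) : E.IsFullyNormalized T := by
  refine ⟨le_rfl, ?_⟩
  rintro Q' hQ'
  have h1 : Q' ≤ T := Basic.IsConj.le_right hQ'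
  have h2 := Basic.IsConj.card_eq hQ'
  have h3 : Q' = T := Subgroup.eq_of_le_of_card_ge h1 (le_of_eq h2)
  rw [h3]

/-- A fully automized subgroup: it suffices to consider elements of order prime to `p`. -/
theorem autGroup_le_of_pprime [Finite T] {D E : FusionSystem T} {X : Subgroup Ω} (hXa : E.IsFullyAutomized p X)
    (h : ∀ α ∈ E.autGroup X, Nat.Coprime (orderOf α) p → α ∈ D.autGroup X) : E.autGroup X ≤ D.autGroup X := by
  obtain ⟨hXT, R, hR⟩ := hXa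
  haveI : Finite (E.autGroup X) := finite_autGroup hXT
  have htop := eq_top_of_sylow_pprime R ((D.autGroup X).subgroupOf (E.autGroup X)) (by
    rw [hR]
    intro a ha
    rw [Subgroup.mem_subgroupOf] at ha ⊢
    exact autInducedBy_le_autGroup hXT ha) (fun g hg => by
    rw [Subgroup.mem_subgroupOf]
    exact h g g.2 (by rwa [Subgroup.orderOf_coe]))
  intro α hα
  have h1 : (⟨α, hα⟩ : E.autGroup X) ∈ (D.autGroup X).subgroupOf (E.autGroup X) := by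
    rw [htop]
    trivial
  exact Subgroup.mem_subgroupOf.1 h1

/-- The elements of `Aut_E(T)` induced by elements of `Q` are inner. -/
theorem exists_inner_of_mem_autGroup (hS : IsPGroup p S) (hE : E.IsNormalIn F p) (hQ : F.IsNormal Q)
    {δ : MulAut T} (hδ : δ ∈ E.autGroup T) {y : Ω} (hy : y ∈ Q) (hδy : ∀ t : T, ((δ t : T) : Ω) = y * t * y⁻¹) :
    ∃ t₀ ∈ T, ∀ t : T, ((δ t : T) : Ω) = t₀ * t * t₀⁻¹ := by
  classical
  obtain ⟨⟨hEs, hFs, hinv⟩, -⟩ := hE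
  have hTS : T ≤ S := hinv.2.1.1
  haveI : Finite T := finite_of_le hTS
  have hTp : IsPGroup p T := isPGroup_of_le hS hTS
  obtain ⟨-, R, hR⟩ := (fullyNormalized_props hTp hEs (isFullyNormalized_top E)).2
  let A := E.autGroup T
  haveI hfinA : Finite A := finite_autGroup le_rfl
  let K : Subgroup A := (autInducedBy Q T).subgroupOf A
  have hKle : autInducedBy Q T ≤ autInducedBy S T := by
    intro β hβ
    obtain ⟨g, hg, h⟩ := mem_autInducedBy_iff.1 hβ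
    exact mem_autInducedBy_iff.2 ⟨g, hQ.1 hg, h⟩
  have hKp : IsPGroup p K :=
    ((isPGroup_autInducedBy hS T).to_le hKle).comap_of_injective A.subtype A.subtype_injective
  have hKn : K.Normal := by
    refine ⟨fun β hβ α => ?_⟩
    obtain ⟨b, hb, hbb⟩ := mem_autInducedBy_iff.1 (Subgroup.mem_subgroupOf.1 hβ)
    have hαhom : T.subtype.comp (α : MulAut T).toMonoidHom ∈ F.Hom T :=
      autGroup_mem_hom hTS (autGroup_le_of_subsystem hinv.1 T α.2)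
    obtain ⟨ψ, hψ, hag, himg⟩ := hQ.2 T _ hαhom
    rw [Subgroup.mem_subgroupOf]
    refine mem_autInducedBy_iff.2 ⟨ψ (Subgroup.inclusion le_sup_right ⟨b, hb⟩), ?_, fun y => ?_⟩
    · exact himg.le ⟨_, hb, rfl⟩
    · obtain ⟨x, rfl⟩ := (α : MulAut T).surjective y
      have h1 : (((α * β * α⁻¹ : A) : MulAut T) ((α : MulAut T) x) : T) =
          (α : MulAut T) ((β : MulAut T) x) := by
        show (α : MulAut T) ((β : MulAut T) ((α : MulAut T)⁻¹ ((α : MulAut T) x))) = _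
        simp
      rw [h1]
      have h2 : ∀ z : T, (((α : MulAut T) z : T) : Ω) = ψ (Subgroup.inclusion le_sup_left z) :=
        fun z => (hag z).symm
      rw [h2, h2]
      have h3 : Subgroup.inclusion (le_sup_left : T ≤ T ⊔ Q) ((β : MulAut T) x) =
          Subgroup.inclusion (le_sup_right : Q ≤ T ⊔ Q) ⟨b, hb⟩ *
            Subgroup.inclusion le_sup_left x *
            (Subgroup.inclusion (le_sup_right : Q ≤ T ⊔ Q) ⟨b, hb⟩)⁻¹ :=
        Subtype.ext (hbb x)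
      rw [h3, map_mul, map_mul, map_inv]
  have hKR : K ≤ R := hKp.le_sylow_of_normal R
  have h1 : (⟨δ, hδ⟩ : A) ∈ K := by
    rw [Subgroup.mem_subgroupOf]
    exact mem_autInducedBy_iff.2 ⟨y, hy, hδy⟩
  have h2 := hKR h1
  rw [hR, Subgroup.mem_subgroupOf] at h2
  exact mem_autInducedBy_iff.1 h2

/-- A lift to `T ⊔ Q` of an element of `Aut_E(T)` acts on `Q` modulo `Q ∩ T C_S(T)` trivially. -/
theorem mem_hat_of_stab (hS : IsPGroup p S) (hE : E.IsNormalIn F p) (hQ : F.IsNormal Q)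
    (a : MulAut ↥(T ⊔ Q)) {α : MulAut T} (hα : α ∈ E.autGroup T)
    (hαa : ∀ x : T, ((a (Subgroup.inclusion le_sup_left x) : ↥(T ⊔ Q)) : Ω) = α x)
    (hQa : ∀ x : ↥(T ⊔ Q), (x : Ω) ∈ Q → ((a x : ↥(T ⊔ Q)) : Ω) ∈ Q) {q : Ω} (hq : q ∈ Q) :
    q⁻¹ * ((a ⟨q, le_sup_right (a := T) hq⟩ : ↥(T ⊔ Q)) : Ω) ∈ T ⊔ centralizerIn S T := by
  have hinv := hE.1.2.2
  have hTS : T ≤ S := hinv.2.1.1
  have hTsc := hinv.2.1
  have hqS : q ∈ S := hQ.1 hq
  have hqN : q ∈ Subgroup.normalizer (T : Set Ω) := StronglyClosed.le_normalizer hTsc hqS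
  let c : MulAut T := normConj q hqN
  have hc : c ∈ F.autGroup T := autInducedBy_le_autGroup hTS (normConj_mem_autInducedBy hqS hqN)
  have hcinv : ∀ z : T, ((c⁻¹ z : T) : Ω) = q⁻¹ * z * q := by
    intro z
    obtain ⟨w, rfl⟩ := c.surjective z
    have e : c⁻¹ (c w) = w := by simp
    rw [e]
    show (w : Ω) = q⁻¹ * (q * w * q⁻¹) * q
    group
  set q' : ↥(T ⊔ Q) := ⟨q, le_sup_right (a := T) hq⟩ with hq'
  let y : Ω := q⁻¹ * ((a q' : ↥(T ⊔ Q)) : Ω)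
  have hyQ : y ∈ Q := Q.mul_mem (Q.inv_mem hq) (hQa q' hq)
  -- `δ = c⁻¹ α c α⁻¹`
  have h1 : c⁻¹ * α * c⁻¹⁻¹ ∈ E.autGroup T := mul_conj_mem_autGroup hinv ((F.autGroup T).inv_mem hc) hα
  let δ : MulAut T := (c⁻¹ * α * c⁻¹⁻¹) * α⁻¹
  have hδ : δ ∈ E.autGroup T := (E.autGroup T).mul_mem h1 ((E.autGroup T).inv_mem hα)
  have hδy : ∀ t : T, ((δ t : T) : Ω) = y * t * y⁻¹ := by
    intro t
    obtain ⟨t₁, rfl⟩ := α.surjective t
    have e1 : δ (α t₁) = c⁻¹ (α (c t₁)) := by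
      show c⁻¹ (α (c⁻¹⁻¹ (α⁻¹ (α t₁)))) = _
      simp
    rw [e1, hcinv]
    have e2 : ((α (c t₁) : T) : Ω) = ((a q' : ↥(T ⊔ Q)) : Ω) * (α t₁ : T) * ((a q' : ↥(T ⊔ Q)) : Ω)⁻¹ := by
      rw [← hαa, ← hαa]
      have e3 : Subgroup.inclusion le_sup_left (c t₁) = q' * Subgroup.inclusion le_sup_left t₁ * q'⁻¹ :=
        Subtype.ext rfl
      rw [e3, map_mul, map_mul, map_inv]
      rfl
    rw [e2]
    show _ = (q⁻¹ * _) * _ * (q⁻¹ * _)⁻¹
    group
  obtain ⟨t₀, ht₀, ht⟩ := exists_inner_of_mem_autGroup hS hE hQ hδ hyQ hδy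
  have hcent : t₀⁻¹ * y ∈ centralizerIn S T := by
    refine ⟨S.mul_mem (S.inv_mem (hTS ht₀)) (hQ.1 hyQ), ?_⟩
    show t₀⁻¹ * y ∈ Subgroup.centralizer (T : Set Ω)
    rw [Subgroup.mem_centralizer_iff]
    intro x hx
    have h2 := (hδy ⟨x, hx⟩).symm.trans (ht ⟨x, hx⟩)
    simp only at h2
    calc x * (t₀⁻¹ * y) = t₀⁻¹ * (t₀ * x * t₀⁻¹) * y := by group
      _ = t₀⁻¹ * (y * x * y⁻¹) * y := by rw [h2]
      _ = t₀⁻¹ * y * x := by group
  have e : y = t₀ * (t₀⁻¹ * y) := by group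
  show y ∈ _
  rw [e]
  exact Subgroup.mul_mem _ (le_sup_left (a := T) ht₀) (le_sup_right (a := T) hcent)

/-- Elements of the hat `T C_S(T)` under a good lift move by elements of `T`. -/
theorem sub_mem_of_good {β : MulAut ↥(T ⊔ centralizerIn S T)} {α : MulAut T}
    (hβ1 : ∀ x : T, ((β (Subgroup.inclusion le_sup_left x) : ↥(T ⊔ centralizerIn S T)) : Ω) = (α x : T))
    (hβ2 : ∀ c : ↥(T ⊔ centralizerIn S T), (c : Ω) ∈ centralizerIn S T →
      (c : Ω)⁻¹ * ((β c : ↥(T ⊔ centralizerIn S T)) : Ω) ∈ T ⊓ Subgroup.centralizer (T : Set Ω))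
    (y : ↥(T ⊔ centralizerIn S T)) : (y : Ω)⁻¹ * ((β y : ↥(T ⊔ centralizerIn S T)) : Ω) ∈ T := by
  have hle : T ≤ Subgroup.normalizer ((centralizerIn S T : Subgroup Ω) : Set Ω) := by
    intro t ht
    rw [Subgroup.mem_normalizer_iff]
    intro c
    have key : ∀ {d : Ω}, d ∈ Subgroup.centralizer (T : Set Ω) → t * d * t⁻¹ = d := by
      intro d hd
      have := (Subgroup.mem_centralizer_iff.1 hd) t ht
      rw [this]
      simp
    constructor
    · intro hc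
      rw [key hc.2]
      exact hc
    · intro hc
      have h1 : t⁻¹ * (t * c * t⁻¹) = (t * c * t⁻¹) * t⁻¹ :=
        (Subgroup.mem_centralizer_iff.1 hc.2) t⁻¹ (T.inv_mem ht)
      have h2 : c = t * c * t⁻¹ := by
        have h3 : t⁻¹ * (t * c * t⁻¹) * t = t * c * t⁻¹ := by
          rw [h1]
          group
        rw [← h3]
        group
      rw [h2]
      exact hc
  obtain ⟨t, ht, c, hc, he⟩ := Cfsg.Agent.Lib.Fusion.GroupSylow.exists_mul_of_mem_sup hle y.2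
  have hcm : (⟨c, le_sup_right (a := T) hc⟩ : ↥(T ⊔ centralizerIn S T)) = ⟨c, le_sup_right (a := T) hc⟩ := rfl
  have e1 : y = Subgroup.inclusion le_sup_left (⟨t, ht⟩ : T) * ⟨c, le_sup_right (a := T) hc⟩ := Subtype.ext he
  have h1 := hβ2 ⟨c, le_sup_right (a := T) hc⟩ hc
  have hcT : ∀ z ∈ T, c⁻¹ * z * c = z := by
    intro z hz
    have := (Subgroup.mem_centralizer_iff.1 hc.2) z hz
    calc c⁻¹ * z * c = c⁻¹ * (z * c) := by group
      _ = c⁻¹ * (c * z) := by rw [this]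
      _ = z := by group
  rw [e1, map_mul]
  simp only [Subgroup.coe_mul, Subgroup.coe_inclusion]
  rw [hβ1]
  simp only [mul_inv_rev]
  set f : Ω := c⁻¹ * ((β ⟨c, le_sup_right (a := T) hc⟩ : ↥(T ⊔ centralizerIn S T)) : Ω) with hf
  have e2 : ((β ⟨c, le_sup_right (a := T) hc⟩ : ↥(T ⊔ centralizerIn S T)) : Ω) = c * f := by
    rw [hf]
    group
  rw [e2]
  have hmem : t⁻¹ * ((α ⟨t, ht⟩ : T) : Ω) ∈ T := T.mul_mem (T.inv_mem ht) (α ⟨t, ht⟩).2
  have e3 : c⁻¹ * t⁻¹ * (((α ⟨t, ht⟩ : T) : Ω) * (c * f)) = (c⁻¹ * (t⁻¹ * ((α ⟨t, ht⟩ : T) : Ω)) * c) * f := by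
    group
  show (c⁻¹ * t⁻¹) * (((α ⟨t, ht⟩ : T) : Ω) * (c * f)) ∈ T
  rw [e3, hcT _ hmem]
  exact T.mul_mem hmem h1.1

/-- **Elements of order prime to `p` of `Aut_E(T)`** lift to `T ⊔ Q` acting trivially on `Q / (Q ∩ T)`. -/
theorem pprime_lift (hS : IsPGroup p S) (hE : E.IsNormalIn F p) (hQ : F.IsNormal Q) {α : MulAut T}
    (hα : α ∈ E.autGroup T) (hco : Nat.Coprime (orderOf α) p) :
    T.subtype.comp α.toMonoidHom ∈ liftHom E F Q (Q ⊓ T) T := by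
  classical
  have hinv := hE.1.2.2
  have hTS : T ≤ S := hinv.2.1.1
  have hTsc := hinv.2.1
  have hQsc := IsNormal.stronglyClosed hQ
  haveI hfinT : Finite T := finite_of_le hTS
  obtain ⟨β, hβ, hβ1, hβ2⟩ := hE.2 α hα
  have hβ3 := sub_mem_of_good hβ1 hβ2
  have hHS : T ⊔ centralizerIn S T ≤ S := sup_le hTS inf_le_left
  set Q₂ : Subgroup Ω := Q ⊓ (T ⊔ centralizerIn S T) with hQ₂
  have hN₂H : T ⊔ Q₂ ≤ T ⊔ centralizerIn S T := sup_le le_sup_left inf_le_right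
  have hψ₀ := res_mem (autGroup_mem_hom hHS hβ) hN₂H
  obtain ⟨ψ₁, hψ₁, hψ₁a, hψ₁Q⟩ := hQ.2 (T ⊔ Q₂) _ hψ₀
  have hsup : (T ⊔ Q₂) ⊔ Q = T ⊔ Q :=
    le_antisymm (sup_le (sup_le le_sup_left (inf_le_left.trans le_sup_right)) le_sup_right)
      (sup_le (le_sup_left.trans le_sup_left) le_sup_right)
  obtain ⟨ψ, hψ, hψe⟩ := exists_hom_of_eq F hsup ψ₁ hψ₁
  have hTN : T ≤ T ⊔ Q := le_sup_left
  have hQN : Q ≤ T ⊔ Q := le_sup_right
  -- values of `ψ`
  have hψN₂ : ∀ x : Ω, ∀ hx : x ∈ T ⊔ Q₂, ∀ hx' : x ∈ T ⊔ Q, ψ ⟨x, hx'⟩ = (β ⟨x, hN₂H hx⟩ : ↥(T ⊔ centralizerIn S T)) := by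
    intro x hx hx'
    have h1 := hψe x (le_sup_left (a := T ⊔ Q₂) hx) hx'
    rw [h1]
    exact hψ₁a ⟨x, hx⟩
  have hψQ : ∀ x : Ω, ∀ hx : x ∈ Q, ∀ hx' : x ∈ T ⊔ Q, ψ ⟨x, hx'⟩ ∈ Q := by
    intro x hx hx'
    rw [hψe x (le_sup_right (a := T ⊔ Q₂) hx) hx']
    exact hψ₁Q.le ⟨_, hx, rfl⟩
  have hψT : ∀ x : T, ψ (Subgroup.inclusion hTN x) = α x := by
    intro x
    have h1 := hψN₂ x (le_sup_left (a := T) x.2) (hTN x.2)
    rw [← hβ1]
    exact h1
  have hv : ∀ x, ψ x ∈ T ⊔ Q := by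
    intro x
    refine map_mem_sup_of_ext ψ (fun y => ?_) (fun y => ?_) x
    · rw [hψT]
      exact hTN (α y).2
    · exact hQN (hψQ y y.2 _)
  haveI hfinN : Finite ↥(T ⊔ Q) := finite_of_le (sup_le hTS hQ.1)
  let a : MulAut ↥(T ⊔ Q) := autOfHom ψ (F.injective_of_mem hψ) hv
  have ha : a ∈ F.autGroup (T ⊔ Q) := autOfHom_mem hψ hv
  have hav : ∀ x : ↥(T ⊔ Q), ((a x : ↥(T ⊔ Q)) : Ω) = ψ x := fun _ => rfl
  -- powers
  have hpT : ∀ (k : ℕ) (x : T), (((a ^ k) (Subgroup.inclusion hTN x) : ↥(T ⊔ Q)) : Ω) = ((α ^ k) x : T) := by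
    intro k
    induction k with
    | zero => intro x; rfl
    | succ k ih =>
      intro x
      rw [pow_succ', pow_succ', MulAut.mul_apply, MulAut.mul_apply, hav]
      have e : (a ^ k) (Subgroup.inclusion hTN x) = Subgroup.inclusion hTN ((α ^ k) x) := Subtype.ext (ih x)
      rw [e, hψT]
  have hpQ : ∀ (k : ℕ) (x : ↥(T ⊔ Q)), (x : Ω) ∈ Q → (((a ^ k) x : ↥(T ⊔ Q)) : Ω) ∈ Q := by
    intro k
    induction k with
    | zero => intro x hx; exact hx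
    | succ k ih =>
      intro x hx
      rw [pow_succ', MulAut.mul_apply, hav]
      exact hψQ _ (ih x hx) _
  -- stability on `Q₂`
  have hpQ₂ : ∀ (k : ℕ) (x : ↥(T ⊔ Q)), (x : Ω) ∈ Q₂ →
      (x : Ω)⁻¹ * ((a ^ k) x : ↥(T ⊔ Q)) ∈ Q ⊓ T := by
    intro k
    induction k with
    | zero => intro x hx; simp
    | succ k ih =>
      intro x hx
      have h1 := ih x hx
      set w : Ω := (((a ^ k) x : ↥(T ⊔ Q)) : Ω) with hw
      have hwe : w = (x : Ω) * ((x : Ω)⁻¹ * w) := by group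
      have hwQ₂ : w ∈ Q₂ := by
        rw [hwe]
        exact Q₂.mul_mem hx ⟨h1.1, le_sup_left (a := T) h1.2⟩
      have hwN : w ∈ T ⊔ Q₂ := le_sup_right (a := T) hwQ₂
      rw [pow_succ', MulAut.mul_apply, hav]
      have e1 : ψ ((a ^ k) x) = (β ⟨w, hN₂H hwN⟩ : ↥(T ⊔ centralizerIn S T)) := hψN₂ w hwN _
      rw [e1]
      have h2 := hβ3 ⟨w, hN₂H hwN⟩
      have h3 : ((β ⟨w, hN₂H hwN⟩ : ↥(T ⊔ centralizerIn S T)) : Ω) ∈ Q := by
        have := hψQ w hwQ₂.1 (hQN hwQ₂.1)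
        rw [hψN₂ w hwN] at this
        exact this
      have e2 : (x : Ω)⁻¹ * ((β ⟨w, hN₂H hwN⟩ : ↥(T ⊔ centralizerIn S T)) : Ω) =
          ((x : Ω)⁻¹ * w) * (w⁻¹ * ((β ⟨w, hN₂H hwN⟩ : ↥(T ⊔ centralizerIn S T)) : Ω)) := by group
      rw [e2]
      refine (Q ⊓ T).mul_mem h1 ⟨Q.mul_mem (Q.inv_mem hwQ₂.1) h3, h2⟩
  -- the part prime to `p`
  obtain ⟨u, hu, hucop⟩ := Cfsg.Agent.Lib.Fusion.FactorHyperfocal.exists_pow_coprime hp.out a (orderOf_pos a) hco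
  have hαu : α ^ u = α := by
    have := (pow_eq_pow_iff_modEq (x := α) (n := u) (m := 1)).2 hu
    rwa [pow_one] at this
  set a' : MulAut ↥(T ⊔ Q) := a ^ u with ha'
  have ha'F : a' ∈ F.autGroup (T ⊔ Q) := Subgroup.pow_mem _ ha u
  have ha'T : ∀ x : T, ((a' (Subgroup.inclusion le_sup_left x) : ↥(T ⊔ Q)) : Ω) = α x := by
    intro x
    have h1 := hpT u x
    rw [hαu] at h1
    exact h1
  have ha'Q : ∀ x : ↥(T ⊔ Q), (x : Ω) ∈ Q → ((a' x : ↥(T ⊔ Q)) : Ω) ∈ Q := hpQ u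
  have hQG : IsPGroup p Q := isPGroup_of_le hS hQ.1
  haveI hfinQ : Finite Q := finite_of_le hQ.1
  let b : MulAut Q := resAut a' hQN ha'Q
  have hb : b ^ orderOf a' = 1 := by
    ext x
    have h1 := resAut_pow a' hQN ha'Q (orderOf a') x
    rw [pow_orderOf_eq_one] at h1
    exact h1
  let K : Subgroup Q := (Q ⊓ T).subgroupOf Q
  let K₁ : Subgroup Q := Q₂.subgroupOf Q
  haveI hK : K.Normal := by
    refine ⟨fun n hn g => ?_⟩
    have hn' : ((n : Q) : Ω) ∈ Q ⊓ T := Subgroup.mem_subgroupOf.1 hn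
    refine Subgroup.mem_subgroupOf.2 ?_
    refine ⟨(g * n * g⁻¹).2, ?_⟩
    exact StronglyClosed.conj_mem hTsc (hQ.1 g.2) hn'.2
  have hbK : ∀ g ∈ K, b g ∈ K := by
    intro g hg
    have hg' : ((g : Q) : Ω) ∈ Q ⊓ T := Subgroup.mem_subgroupOf.1 hg
    refine Subgroup.mem_subgroupOf.2 ⟨(b g).2, ?_⟩
    exact stronglyClosed_apply hTsc (autGroup_mem_hom (sup_le hTS hQ.1) ha'F) (Subgroup.inclusion hQN g) hg'.2
  have hstable : ∀ g : Q, g⁻¹ * b g ∈ K := by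
    refine stable_coprime hQG b hb hucop K K₁ hbK (fun g => ?_) (fun g hg => ?_)
    · refine Subgroup.mem_subgroupOf.2 ⟨(g⁻¹ * b g).2, ?_⟩
      exact mem_hat_of_stab hS hE hQ a' hα ha'T ha'Q g.2
    · have hg' : ((g : Q) : Ω) ∈ Q₂ := Subgroup.mem_subgroupOf.1 hg
      exact Subgroup.mem_subgroupOf.2 (hpQ₂ u (Subgroup.inclusion hQN g) hg')
  refine ⟨autGroup_mem_hom le_rfl hα, (T ⊔ Q).subtype.comp a'.toMonoidHom,
    autGroup_mem_hom (sup_le hTS hQ.1) ha'F, fun x => ha'T x, fun q => ?_⟩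
  exact Subgroup.mem_subgroupOf.1 (hstable q)

/-- **Elements of `p`-power order of `Aut_E(R)`** lift to `R ⊔ Q` acting trivially on `Q / (Q ∩ T)`. -/
theorem pelement_lift (hE : E.IsWeaklyNormalIn F p) (hQ : F.IsNormal Q) {R : Subgroup Ω} (hRT : R ≤ T)
    {γ : MulAut R} (hγ : γ ∈ E.autGroup R) (hk : ∃ k : ℕ, orderOf γ = p ^ k) :
    R.subtype.comp γ.toMonoidHom ∈ liftHom E F Q (Q ⊓ T) R := by
  classical
  obtain ⟨hEs, hFs, hinv⟩ := hE
  have hTS : T ≤ S := hinv.2.1.1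
  have hTsc := hinv.2.1
  haveI hfinT : Finite T := finite_of_le hTS
  obtain ⟨ψ, hψ, x, hx, hψγ⟩ := Cfsg.Agent.Lib.Fusion.PPrime.exists_map_conj_p_element hEs hRT hγ hk
  have hψF := hinv.1 R hψ
  obtain ⟨ψh, hψh, hag, himg⟩ := hQ.2 R ψ hψF
  have hr := range_ext_eq hag himg
  set R₁ : Subgroup Ω := ψ.range with hR₁
  obtain ⟨χh, hχh, hχr, hχa, hχb⟩ := exists_inv hψh hr
  have hR₁S : R₁ ≤ S := range_le hψF
  have hsS : R₁ ⊔ Q ≤ S := sup_le hR₁S hQ.1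
  have hxS : x ∈ S := hTS hx
  have hc : conjHom (R₁ ⊔ Q) x ∈ F.Hom (R₁ ⊔ Q) := F.conj_mem hsS hxS
  have hQsc := IsNormal.stronglyClosed hQ
  have hcv : ∀ y : ↥(R₁ ⊔ Q), conjHom (R₁ ⊔ Q) x y ∈ R₁ ⊔ Q := by
    refine map_mem_sup_of_ext _ (fun y => ?_) (fun y => ?_)
    · obtain ⟨_, a, rfl⟩ := y
      refine le_sup_left (a := R₁) ?_
      show x * ψ a * x⁻¹ ∈ R₁
      rw [← hψγ]
      exact ⟨_, rfl⟩
    · exact le_sup_right (a := R₁) (StronglyClosed.conj_mem hQsc hxS y.2)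
  have hψv : ∀ y : ↥(R ⊔ Q), ψh y ∈ R₁ ⊔ Q := fun y => by
    rw [← hr]
    exact ⟨y, rfl⟩
  have hcomp1 : (conjHom (R₁ ⊔ Q) x).comp (ψh.codRestrict _ hψv) ∈ F.Hom (R ⊔ Q) := F.comp_mem hψh hc hψv
  have hv2 : ∀ y : ↥(R ⊔ Q), ((conjHom (R₁ ⊔ Q) x).comp (ψh.codRestrict _ hψv)) y ∈ R₁ ⊔ Q := fun y => hcv _
  have hcomp2 := F.comp_mem hcomp1 hχh hv2
  refine ⟨autGroup_mem_hom hRT hγ, _, hcomp2, fun r => ?_, fun q => ?_⟩
  · -- on `R`
    have e1 : ((conjHom (R₁ ⊔ Q) x).comp (ψh.codRestrict _ hψv)) (Subgroup.inclusion le_sup_left r) =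
        ψh (Subgroup.inclusion le_sup_left (γ r)) := by
      show x * ψh (Subgroup.inclusion le_sup_left r) * x⁻¹ = _
      rw [hag, hag, hψγ]
    have e2 : (⟨((conjHom (R₁ ⊔ Q) x).comp (ψh.codRestrict _ hψv)) (Subgroup.inclusion le_sup_left r), hv2 _⟩ :
        ↥(R₁ ⊔ Q)) = ⟨ψh (Subgroup.inclusion le_sup_left (γ r)), hψv _⟩ := Subtype.ext e1
    show χh ⟨_, hv2 _⟩ = _
    rw [e2, hχa]
    rfl
  · -- on `Q`
    have hq1 : ψh (Subgroup.inclusion le_sup_right q) ∈ Q := himg.le ⟨_, q.2, rfl⟩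
    set q₁ : Ω := ψh (Subgroup.inclusion le_sup_right q) with hq₁
    set f : Ω := q₁⁻¹ * (x * q₁ * x⁻¹) with hf
    have hfQ : f ∈ Q := Q.mul_mem (Q.inv_mem hq1) (StronglyClosed.conj_mem hQsc hxS hq1)
    have hfT : f ∈ T := by
      have h1 : q₁⁻¹ * x * q₁ ∈ T := by
        have := StronglyClosed.conj_mem hTsc (S.inv_mem (hQ.1 hq1)) hx
        simpa using this
      have e : f = (q₁⁻¹ * x * q₁) * x⁻¹ := by
        rw [hf]
        group
      rw [e]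
      exact T.mul_mem h1 (T.inv_mem hx)
    have hq1m : q₁ ∈ R₁ ⊔ Q := le_sup_right (a := R₁) hq1
    have hfm : f ∈ R₁ ⊔ Q := le_sup_right (a := R₁) hfQ
    have e1 : (⟨((conjHom (R₁ ⊔ Q) x).comp (ψh.codRestrict _ hψv)) (Subgroup.inclusion le_sup_right q), hv2 _⟩ :
        ↥(R₁ ⊔ Q)) = (⟨ψh (Subgroup.inclusion le_sup_right q), hψv _⟩ : ↥(R₁ ⊔ Q)) * ⟨f, hfm⟩ := by
      apply Subtype.ext
      show x * q₁ * x⁻¹ = q₁ * f
      rw [hf]
      group
    show (q : Ω)⁻¹ * χh ⟨_, hv2 _⟩ ∈ Q ⊓ T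
    rw [e1, map_mul, hχa]
    obtain ⟨q₂, hq₂, hq₂e⟩ := himg.ge hfQ
    have e2 : (⟨f, hfm⟩ : ↥(R₁ ⊔ Q)) = ⟨ψh q₂, hψv q₂⟩ := Subtype.ext hq₂e.symm
    have hχf : χh ⟨f, hfm⟩ = q₂ := by
      rw [e2, hχa]
    have hχfT : χh ⟨f, hfm⟩ ∈ T := stronglyClosed_apply hTsc hχh _ hfT
    rw [hχf] at hχfT ⊢
    simp only [Subgroup.coe_inclusion, inv_mul_cancel_left]
    exact ⟨hq₂, hχfT⟩

/-- **The lifting theorem**: every map of `E ⊴ F` lifts to `P ⊔ Q`, for `Q ⊴ F`, acting trivially on `Q / (Q ∩ T)`. -/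
theorem exists_lift (hS : IsPGroup p S) (hE : E.IsNormalIn F p) (hQ : F.IsNormal Q) {P : Subgroup Ω} {φ : P →* Ω}
    (hφ : φ ∈ E.Hom P) : φ ∈ liftHom E F Q (Q ⊓ T) P := by
  have hinv := hE.1.2.2
  have hEs := hE.1.1
  have hTS : T ≤ S := hinv.2.1.1
  have hTsc := hinv.2.1
  have hQsc := IsNormal.stronglyClosed hQ
  haveI hfinT : Finite T := finite_of_le hTS
  have hTp : IsPGroup p T := isPGroup_of_le hS hTS
  have hc : ∀ t ∈ T, ∀ q ∈ Q, q⁻¹ * (t * q * t⁻¹) ∈ Q ⊓ T := by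
    intro t ht q hq
    refine ⟨Q.mul_mem (Q.inv_mem hq) (StronglyClosed.conj_mem hQsc (hTS ht) hq), ?_⟩
    have h1 : q⁻¹ * t * q ∈ T := by
      have := StronglyClosed.conj_mem hTsc (S.inv_mem (hQ.1 hq)) ht
      simpa using this
    have e : q⁻¹ * (t * q * t⁻¹) = (q⁻¹ * t * q) * t⁻¹ := by group
    rw [e]
    exact T.mul_mem h1 (T.inv_mem ht)
  let D := liftSys E F hinv.1 Q (Q ⊓ T) hQ.1 inf_le_left hc
  have hle : E ≤ D := by
    refine Cfsg.Agent.Lib.Fusion.PPrime.le_of_centric hTp hEs (fun R hR => ?_) ?_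
    · refine Cfsg.Agent.Lib.Fusion.PPrime.KK_le_iff.2 (fun γ hγ hk => ?_)
      exact mem_autGroup_of_mem (pelement_lift hE.1 hQ hR.1 hγ hk)
    · refine autGroup_le_of_pprime (fullyNormalized_props hTp hEs (isFullyNormalized_top E)).2 (fun α hα hco => ?_)
      exact mem_autGroup_of_mem (pprime_lift hS hE hQ hα hco)
  exact hle P hφ

/-- `Q ∩ T` is normal in `E`. -/
theorem isNormal_inf (hS : IsPGroup p S) (hE : E.IsNormalIn F p) (hQ : F.IsNormal Q) : E.IsNormal (Q ⊓ T) := by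
  have hinv := hE.1.2.2
  have hEs := hE.1.1
  have hTS : T ≤ S := hinv.2.1.1
  have hTsc := hinv.2.1
  have hQsc := IsNormal.stronglyClosed hQ
  haveI hfinT : Finite T := finite_of_le hTS
  have hTp : IsPGroup p T := isPGroup_of_le hS hTS
  have hsc : E.StronglyClosed (Q ⊓ T) := by
    refine ⟨inf_le_right, fun R hR φ hφ x => ?_⟩
    exact ⟨hQsc.2 R (hR.trans inf_le_left) φ (hinv.1 R hφ) x, map_mem_S hφ x⟩
  refine NormalCR.isNormal_of_stronglyClosed_of_le hTp hEs hsc (fun R hC hRad => ?_)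
  have hRT := hC.1
  refine NormalCR.le_of_normalizer_inf_le hTp hRT hsc.1 (NormalCR.StronglyClosed.le_normalizer hsc) ?_
  intro a haQ haN
  let A := E.autGroup R
  haveI hfinA : Finite A := finite_autGroup hRT
  let K : Subgroup A := (autInducedBy (Q ⊓ T) R).subgroupOf A
  have hKle : autInducedBy (Q ⊓ T) R ≤ autInducedBy T R := by
    intro β hβ
    obtain ⟨g, hg, h⟩ := mem_autInducedBy_iff.1 hβ
    exact mem_autInducedBy_iff.2 ⟨g, hg.2, h⟩
  have hKp : IsPGroup p K :=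
    ((isPGroup_autInducedBy hTp R).to_le hKle).comap_of_injective A.subtype A.subtype_injective
  have hKn : K.Normal := by
    refine ⟨fun β hβ α => ?_⟩
    obtain ⟨b, hb, hbb⟩ := mem_autInducedBy_iff.1 (Subgroup.mem_subgroupOf.1 hβ)
    have hαhom : R.subtype.comp (α : MulAut R).toMonoidHom ∈ F.Hom R := hinv.1 R (autGroup_mem_hom hRT α.2)
    obtain ⟨ψ, hψ, hag, himg⟩ := hQ.2 R _ hαhom
    rw [Subgroup.mem_subgroupOf]
    refine mem_autInducedBy_iff.2 ⟨ψ (Subgroup.inclusion le_sup_right ⟨b, hb.1⟩), ?_, fun y => ?_⟩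
    · exact ⟨himg.le ⟨_, hb.1, rfl⟩, stronglyClosed_apply hTsc hψ _ hb.2⟩
    · obtain ⟨x, rfl⟩ := (α : MulAut R).surjective y
      have h1 : (((α * β * α⁻¹ : A) : MulAut R) ((α : MulAut R) x) : R) =
          (α : MulAut R) ((β : MulAut R) x) := by
        show (α : MulAut R) ((β : MulAut R) ((α : MulAut R)⁻¹ ((α : MulAut R) x))) = _
        simp
      rw [h1]
      have h2 : ∀ z : R, (((α : MulAut R) z : R) : Ω) = ψ (Subgroup.inclusion le_sup_left z) :=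
        fun z => (hag z).symm
      rw [h2, h2]
      have h3 : Subgroup.inclusion (le_sup_left : R ≤ R ⊔ Q) ((β : MulAut R) x) =
          Subgroup.inclusion (le_sup_right : Q ≤ R ⊔ Q) ⟨b, hb.1⟩ *
            Subgroup.inclusion le_sup_left x *
            (Subgroup.inclusion (le_sup_right : Q ≤ R ⊔ Q) ⟨b, hb.1⟩)⁻¹ :=
        Subtype.ext (hbb x)
      rw [h3, map_mul, map_mul, map_inv]
  have hKcore : K ≤ pCore p A := Cfsg.Agent.Lib.Basic.PCore.le_pCore hKn hKp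
  have hmem : normConj a haN ∈ autInducedBy (Q ⊓ T) R := normConj_mem_autInducedBy haQ haN
  have hmemA : normConj a haN ∈ A := autInducedBy_le_autGroup hRT (hKle hmem)
  exact NormalCR.mem_of_conj_mem_pCore hC hRad haQ.2 (α := ⟨_, hmemA⟩)
    (hKcore (Subgroup.mem_subgroupOf.2 hmem)) (fun x => rfl)

end Main

end Cfsg.Agent.Lib.Fusion.NormalPair
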