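/-
Good lifts: `β ∈ Aut_F(P C_S(P))` extending `α ∈ Aut(P)` with `[β, C_S(P)] ≤ Z(P)`.
-/
import Mathlib
import Cfsg.Agent.Lib.Fusion.LiftSys
import Cfsg.Agent.Lib.Fusion.NormalPair
import Cfsg.Agent.Lib.Fusion.KNormalizer
import Cfsg.Agent.Lib.Fusion.ModelF

set_option autoImplicit false
set_option linter.style.haveILetI false

namespace Cfsg.Agent.Lib.Fusion.GoodLift

open Cfsg Cfsg.FusionSystem Cfsg.Agent.Lib.Fusion.Basic Cfsg.Agent.Lib.Fusion.Saturated
open Cfsg.Agent.Lib.Fusion.Saturated2 (autOfHom autOfHom_mem)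
open Cfsg.Agent.Lib.Fusion.LocalSystems (map_mem_sup_of_ext range_ext_eq centralizerSystem)
open Cfsg.Agent.Lib.Fusion.Joins (exists_hom_of_eq)
open Cfsg.Agent.Lib.Fusion.LiftSys
open Cfsg.Agent.Lib.Fusion.NormalPair
open Cfsg.Agent.Lib.Fusion.NormalCR

variable {Ω : Type*} [Group Ω] {S T : Subgroup Ω} {F : FusionSystem S} {E : FusionSystem T}

/-- `P C_S(P)`. -/
abbrev hat (S P : Subgroup Ω) : Subgroup Ω := P ⊔ centralizerIn S P

/-- `Z(P)`. -/
abbrev Zc (P : Subgroup Ω) : Subgroup Ω := P ⊓ Subgroup.centralizer (P : Set Ω)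

theorem hat_le {P : Subgroup Ω} (hP : P ≤ S) : hat S P ≤ S := sup_le hP inf_le_left

theorem le_hat (P : Subgroup Ω) : P ≤ hat S P := le_sup_left

theorem cen_le_hat (P : Subgroup Ω) : centralizerIn S P ≤ hat S P := le_sup_right

theorem zc_le_cen {P : Subgroup Ω} (hP : P ≤ S) : Zc P ≤ centralizerIn S P := fun _ hz => ⟨hP hz.1, hz.2⟩

theorem comm_of_mem_cen {P : Subgroup Ω} {c x : Ω} (hc : c ∈ Subgroup.centralizer (P : Set Ω)) (hx : x ∈ P) :
    x * c = c * x := Subgroup.mem_centralizer_iff.1 hc x hx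

theorem Zc.left {P : Subgroup Ω} {z : Ω} (hz : z ∈ Zc P) : z ∈ P := (Subgroup.mem_inf.1 hz).1

theorem Zc.right {P : Subgroup Ω} {z : Ω} (hz : z ∈ Zc P) : z ∈ Subgroup.centralizer (P : Set Ω) :=
  (Subgroup.mem_inf.1 hz).2

theorem Zc.comm {P : Subgroup Ω} {z x : Ω} (hz : z ∈ Zc P) (hx : x ∈ P) : z * x = x * z :=
  (comm_of_mem_cen (Zc.right hz) hx).symm

/-- An automorphism of `P` preserves `Z(P)`. -/
theorem map_zc {P : Subgroup Ω} (α : MulAut P) {z : P} (hz : (z : Ω) ∈ Zc P) : ((α z : P) : Ω) ∈ Zc P := by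
  refine Subgroup.mem_inf.2 ⟨(α z).2, Subgroup.mem_centralizer_iff.2 ?_⟩
  intro x hx
  obtain ⟨y, hy⟩ := α.surjective ⟨x, hx⟩
  have h1 : (y : Ω) * z = z * y := comm_of_mem_cen (Zc.right hz) y.2
  have h2 : y * z = z * y := Subtype.ext h1
  have h3 : α y * α z = α z * α y := by rw [← map_mul, ← map_mul, h2]
  rw [hy] at h3
  exact congrArg (fun t : P => (t : Ω)) h3

/-- Good lifts. -/
structure IsGood (F : FusionSystem S) (P : Subgroup Ω) (β : MulAut ↥(hat S P)) (α : MulAut P) : Prop where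
  mem : β ∈ F.autGroup (hat S P)
  res : ∀ x : P, ((β (Subgroup.inclusion (le_hat P) x) : ↥(hat S P)) : Ω) = α x
  cen : ∀ c : ↥(hat S P), (c : Ω) ∈ centralizerIn S P → (c : Ω)⁻¹ * ((β c : ↥(hat S P)) : Ω) ∈ Zc P

section Algebra

variable {P : Subgroup Ω}

theorem isGood_one : IsGood F P 1 1 :=
  ⟨Subgroup.one_mem _, fun _ => rfl, fun c _ => by simp⟩

/-- For an extension of `g`, the inverse extends `g⁻¹`. -/
theorem inv_res {b : MulAut ↥(hat S P)} {g : MulAut P}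
    (h : ∀ x : P, ((b (Subgroup.inclusion (le_hat P) x) : ↥(hat S P)) : Ω) = g x) (x : P) :
    ((b⁻¹ (Subgroup.inclusion (le_hat P) x) : ↥(hat S P)) : Ω) = (g⁻¹ x : P) := by
  obtain ⟨y, rfl⟩ := g.surjective x
  have e : Subgroup.inclusion (le_hat P) (g y) = b (Subgroup.inclusion (le_hat P) y) := Subtype.ext (h y).symm
  rw [e]
  simp

/-- An extension of an automorphism of `P` preserves `C_S(P)`, as does its inverse. -/
theorem inv_cen (hP : P ≤ S) {b : MulAut ↥(hat S P)} {g : MulAut P}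
    (h : ∀ x : P, ((b (Subgroup.inclusion (le_hat P) x) : ↥(hat S P)) : Ω) = g x) (c : ↥(hat S P))
    (hc : (c : Ω) ∈ centralizerIn S P) : ((b⁻¹ c : ↥(hat S P)) : Ω) ∈ centralizerIn S P := by
  refine ⟨hat_le hP (b⁻¹ c).2, Subgroup.mem_centralizer_iff.2 ?_⟩
  intro x hx
  have h1 : b (Subgroup.inclusion (le_hat P) ⟨x, hx⟩ * b⁻¹ c) = b (b⁻¹ c * Subgroup.inclusion (le_hat P) ⟨x, hx⟩) := by
    rw [map_mul, map_mul]
    simp only [MulAut.apply_inv_self]
    apply Subtype.ext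
    simp only [Subgroup.coe_mul]
    rw [h]
    exact comm_of_mem_cen hc.2 (g ⟨x, hx⟩).2
  exact congrArg (fun t : ↥(hat S P) => (t : Ω)) (b.injective h1)

theorem cen_apply_mem (hP : P ≤ S) {β : MulAut ↥(hat S P)} {α : MulAut P} (hβ : IsGood F P β α) (c : ↥(hat S P))
    (hc : (c : Ω) ∈ centralizerIn S P) : ((β c : ↥(hat S P)) : Ω) ∈ centralizerIn S P := by
  have h1 := (centralizerIn S P).mul_mem hc (zc_le_cen hP (hβ.cen c hc))
  simpa using h1

/-- The "cocycle" of a good lift on a product. -/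
theorem IsGood.apply_eq {β : MulAut ↥(hat S P)} {α : MulAut P} (hβ : IsGood F P β α) (c : ↥(hat S P))
    (hc : (c : Ω) ∈ centralizerIn S P) :
    β c = c * Subgroup.inclusion (le_hat P) ⟨(c : Ω)⁻¹ * ((β c : ↥(hat S P)) : Ω), Zc.left (hβ.cen c hc)⟩ := by
  apply Subtype.ext
  show _ = (c : Ω) * ((c : Ω)⁻¹ * ((β c : ↥(hat S P)) : Ω))
  group

theorem IsGood.mul {β₁ β₂ : MulAut ↥(hat S P)} {α₁ α₂ : MulAut P} (h₁ : IsGood F P β₁ α₁)
    (h₂ : IsGood F P β₂ α₂) : IsGood F P (β₁ * β₂) (α₁ * α₂) := by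
  refine ⟨Subgroup.mul_mem _ h₁.mem h₂.mem, fun x => ?_, fun c hc => ?_⟩
  · rw [MulAut.mul_apply]
    have e : β₂ (Subgroup.inclusion (le_hat P) x) = Subgroup.inclusion (le_hat P) (α₂ x) := Subtype.ext (h₂.res x)
    rw [e, h₁.res]
    rfl
  · rw [MulAut.mul_apply]
    have hz := h₂.cen c hc
    rw [h₂.apply_eq c hc, map_mul]
    have h1 := h₁.cen c hc
    have h2 := map_zc α₁ (z := ⟨_, Zc.left hz⟩) hz
    have e2 : ((β₁ c * β₁ (Subgroup.inclusion (le_hat P) ⟨_, Zc.left hz⟩) : ↥(hat S P)) : Ω) =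
        ((β₁ c : ↥(hat S P)) : Ω) * ((α₁ ⟨_, Zc.left hz⟩ : P) : Ω) := by
      rw [Subgroup.coe_mul, h₁.res]
    rw [e2, ← mul_assoc]
    exact (Zc P).mul_mem h1 h2

theorem IsGood.inv (hP : P ≤ S) {β : MulAut ↥(hat S P)} {α : MulAut P} (h : IsGood F P β α) :
    IsGood F P β⁻¹ α⁻¹ := by
  refine ⟨Subgroup.inv_mem _ h.mem, inv_res h.res, fun c hc => ?_⟩
  have hu := inv_cen hP h.res c hc
  have h1 := h.cen _ hu
  have h2 := (Zc P).inv_mem h1
  simpa using h2

theorem IsGood.conj (hP : P ≤ S) {β b : MulAut ↥(hat S P)} {α g : MulAut P} (h : IsGood F P β α)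
    (hb : b ∈ F.autGroup (hat S P)) (hbg : ∀ x : P, ((b (Subgroup.inclusion (le_hat P) x) : ↥(hat S P)) : Ω) = g x) :
    IsGood F P (b * β * b⁻¹) (g * α * g⁻¹) := by
  refine ⟨Subgroup.mul_mem _ (Subgroup.mul_mem _ hb h.mem) (Subgroup.inv_mem _ hb), fun x => ?_, fun c hc => ?_⟩
  · rw [MulAut.mul_apply, MulAut.mul_apply]
    have e1 : b⁻¹ (Subgroup.inclusion (le_hat P) x) = Subgroup.inclusion (le_hat P) (g⁻¹ x) :=
      Subtype.ext (inv_res hbg x)
    rw [e1]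
    have e2 : β (Subgroup.inclusion (le_hat P) (g⁻¹ x)) = Subgroup.inclusion (le_hat P) (α (g⁻¹ x)) :=
      Subtype.ext (h.res _)
    rw [e2, hbg]
    rfl
  · have hu := inv_cen hP hbg c hc
    have hz := h.cen _ hu
    rw [MulAut.mul_apply, MulAut.mul_apply, h.apply_eq _ hu, map_mul]
    simp only [MulAut.apply_inv_self]
    have e2 : ((c * b (Subgroup.inclusion (le_hat P) ⟨_, Zc.left hz⟩) : ↥(hat S P)) : Ω) =
        (c : Ω) * ((g ⟨_, Zc.left hz⟩ : P) : Ω) := by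
      rw [Subgroup.coe_mul, hbg]
    rw [e2, inv_mul_cancel_left]
    exact map_zc g (z := ⟨_, Zc.left hz⟩) hz

theorem IsGood.pow {β : MulAut ↥(hat S P)} {α : MulAut P} (h : IsGood F P β α) (k : ℕ) :
    IsGood F P (β ^ k) (α ^ k) := by
  induction k with
  | zero => exact isGood_one
  | succ k ih =>
    rw [pow_succ, pow_succ]
    exact ih.mul h

/-- The subgroup of automorphisms of `P` with good lifts. -/
def goodGroup (F : FusionSystem S) (P : Subgroup Ω) (hP : P ≤ S) : Subgroup (MulAut P) where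
  carrier := {α | ∃ β, IsGood F P β α}
  mul_mem' := by
    rintro _ _ ⟨β₁, h₁⟩ ⟨β₂, h₂⟩
    exact ⟨_, h₁.mul h₂⟩
  one_mem' := ⟨1, isGood_one⟩
  inv_mem' := by
    rintro _ ⟨β, h⟩
    exact ⟨_, h.inv hP⟩

end Algebra

section Extension

variable [Finite S] {p : ℕ} [hp : Fact p.Prime] {P : Subgroup Ω}

theorem finite_hat (hP : P ≤ S) : Finite ↥(hat S P) := finite_of_le (hat_le hP)

/-- A map on `hat S P` sending `P` to `P₁` sends `C_S(P)` to `C_S(P₁)`. -/
theorem map_cen_mem {P₁ : Subgroup Ω} {f : ↥(hat S P) →* Ω} (hf : f ∈ F.Hom (hat S P))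
    (hr : ∀ y ∈ P₁, ∃ x : P, f (Subgroup.inclusion (le_hat P) x) = y) (c : ↥(hat S P))
    (hc : (c : Ω) ∈ centralizerIn S P) : f c ∈ centralizerIn S P₁ := by
  refine ⟨map_mem_S hf c, Subgroup.mem_centralizer_iff.2 ?_⟩
  intro y hy
  obtain ⟨x, rfl⟩ := hr y hy
  rw [← map_mul, ← map_mul]
  congr 1
  exact Subtype.ext (comm_of_mem_cen hc.2 x.2)

/-- For `P` fully normalized, an element of `Aut_F(P)` extends to `hat S P`. -/
theorem exists_ext (hS : IsPGroup p S) (hF : F.IsSaturated p) (hFN : F.IsFullyNormalized P) {g : MulAut P}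
    (hg : g ∈ F.autGroup P) :
    ∃ b ∈ F.autGroup (hat S P), ∀ x : P, ((b (Subgroup.inclusion (le_hat P) x) : ↥(hat S P)) : Ω) = g x := by
  have hPS := hFN.1
  have hr := fullyNormalized_receptive hS hF hFN
  have hgm := autGroup_mem_hom hPS hg
  have hgr : (P.subtype.comp g.toMonoidHom).range = P := by
    ext y
    constructor
    · rintro ⟨z, rfl⟩
      exact (g z).2
    · intro hy
      exact ⟨g⁻¹ ⟨y, hy⟩, by simp⟩
  obtain ⟨g₀, hg₀, hg₀a⟩ := hr.2 P _ hgm hgr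
  have hext : hat S P ≤ extender S P (P.subtype.comp g.toMonoidHom) :=
    sup_centralizerIn_le_extender hPS (map_mem_S hgm)
  have hf := res_mem hg₀ hext
  have hfP : ∀ x : P, (g₀.comp (Subgroup.inclusion hext)) (Subgroup.inclusion (le_hat P) x) = g x :=
    fun x => hg₀a x x.2 (hext (le_hat P x.2))
  have hv : ∀ x, (g₀.comp (Subgroup.inclusion hext)) x ∈ hat S P := by
    intro x
    refine map_mem_sup_of_ext _ (fun y => ?_) (fun y => ?_) x
    · rw [hfP]
      exact le_hat P (g y).2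
    · refine cen_le_hat P (map_cen_mem (P₁ := P) hf (fun y hy => ?_) _ y.2)
      obtain ⟨x, hx⟩ := g.surjective ⟨y, hy⟩
      exact ⟨x, by rw [hfP, hx]⟩
  haveI := finite_hat (S := S) hPS
  exact ⟨autOfHom _ (F.injective_of_mem hf) hv, autOfHom_mem hf hv, hfP⟩

/-- A subgroup of `T` fully normalized in `F` is fully normalized in an invariant `E`. -/
theorem isFullyNormalized_sub (hS : IsPGroup p S) (hF : F.IsSaturated p) (hE : E.IsInvariantIn F) (hPT : P ≤ T)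
    (hFN : F.IsFullyNormalized P) : E.IsFullyNormalized P := by
  refine ⟨hPT, fun P' hP' => ?_⟩
  have hTsc := hE.2.1
  have hTS : T ≤ S := hTsc.1
  obtain ⟨φ, hφ, hr⟩ := hP'
  have hconj : F.IsConj P' P := Basic.IsConj.symm ⟨φ, hE.1 P hφ, hr⟩
  obtain ⟨θ, hθ, hθv, -⟩ := exists_map_to_fullyNormalized hS hF hFN hconj
  haveI : Finite T := finite_of_le hTS
  haveI : Finite (normalizerIn T P) := finite_of_le (normalizerIn_le (S := T))
  have hmem : ∀ x : normalizerIn T P', (x : Ω) ∈ normalizerIn S P' := fun x => ⟨hTS x.2.1, x.2.2⟩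
  have hval : ∀ x : normalizerIn T P', θ ⟨x, hmem x⟩ ∈ normalizerIn T P := by
    intro x
    refine ⟨stronglyClosed_apply hTsc hθ _ x.2.1, (hθv _).2⟩
  refine Nat.card_le_card_of_injective (fun x : normalizerIn T P' => (⟨_, hval x⟩ : normalizerIn T P)) ?_
  intro x y hxy
  have h1 : θ ⟨x, hmem x⟩ = θ ⟨y, hmem y⟩ := congrArg (fun t : normalizerIn T P => (t : Ω)) hxy
  have h2 := F.injective_of_mem hθ h1
  exact Subtype.ext (congrArg (fun t : normalizerIn S P' => (t : Ω)) h2)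

omit [Finite S] hp in
/-- An element of `N_S(P)` normalizes `C_S(P)`. -/
theorem conj_mem_cen {t c : Ω} (htS : t ∈ S) (htP : t ∈ Subgroup.normalizer (P : Set Ω)) (hc : c ∈ centralizerIn S P) :
    t * c * t⁻¹ ∈ centralizerIn S P := by
  refine ⟨S.mul_mem (S.mul_mem htS hc.1) (S.inv_mem htS), Subgroup.mem_centralizer_iff.2 ?_⟩
  intro x hx
  have hx' : t⁻¹ * x * t ∈ P := by
    have := (Subgroup.mem_normalizer_iff.1 (Subgroup.inv_mem _ htP) x).1 hx
    simpa using this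
  have h1 := comm_of_mem_cen hc.2 hx'
  calc x * (t * c * t⁻¹) = t * ((t⁻¹ * x * t) * c) * t⁻¹ := by group
    _ = t * (c * (t⁻¹ * x * t)) * t⁻¹ := by rw [h1]
    _ = t * c * t⁻¹ * x := by group

/-- Conjugation by `t ∈ N_T(P)` is a good lift, if `C_T(P) ≤ P`. -/
theorem isGood_conj (hE : E.IsInvariantIn F) (hPT : P ≤ T) (hC : centralizerIn T P ≤ P) {t : Ω} (ht : t ∈ T)
    {α : MulAut P} (hα : ∀ x : P, ((α x : P) : Ω) = t * x * t⁻¹) :
    ∃ β, IsGood F P β α := by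
  have hTsc := hE.2.1
  have hTS : T ≤ S := hTsc.1
  have hPS : P ≤ S := hPT.trans hTS
  have htS : t ∈ S := hTS ht
  have htP : t ∈ Subgroup.normalizer (P : Set Ω) := mem_normalizer_of_aut hα
  have htC : t ∈ Subgroup.normalizer ((centralizerIn S P : Subgroup Ω) : Set Ω) := by
    rw [Subgroup.mem_normalizer_iff]
    intro c
    constructor
    · intro hc
      exact conj_mem_cen htS htP hc
    · intro hc
      have := conj_mem_cen (S.inv_mem htS) (Subgroup.inv_mem _ htP) hc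
      simpa [mul_assoc] using this
  have hN : t ∈ Subgroup.normalizer ((hat S P : Subgroup Ω) : Set Ω) :=
    Cfsg.Agent.Lib.Fusion.KNormalizer.mem_normalizer_sup htP htC
  refine ⟨normConj t hN, autInducedBy_le_autGroup (hat_le hPS) (normConj_mem_autInducedBy htS hN), fun x => ?_,
    fun c hc => ?_⟩
  · rw [hα]
    rfl
  · show (c : Ω)⁻¹ * (t * c * t⁻¹) ∈ Zc P
    have h1 : (c : Ω)⁻¹ * (t * c * t⁻¹) ∈ centralizerIn T P := by
      refine ⟨?_, ?_⟩
      · have h2 : (c : Ω)⁻¹ * t * c ∈ T := by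
          have := StronglyClosed.conj_mem hTsc (S.inv_mem hc.1) ht
          simpa using this
        have e : (c : Ω)⁻¹ * (t * c * t⁻¹) = ((c : Ω)⁻¹ * t * c) * t⁻¹ := by group
        rw [e]
        exact T.mul_mem h2 (T.inv_mem ht)
      · refine Subgroup.mul_mem _ (Subgroup.inv_mem _ hc.2) ?_
        exact ((Subgroup.mem_normalizer_iff.1 htC _).1 hc).2
    exact Subgroup.mem_inf.2 ⟨hC h1, h1.2⟩

/-- **Good lifts of `p`-elements**. -/
theorem isGood_of_pelement (hS : IsPGroup p S) (hF : F.IsSaturated p) (hE : E.IsWeaklyNormalIn F p)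
    (hFN : F.IsFullyNormalized P) (hPT : P ≤ T) (hC : centralizerIn T P ≤ P) {γ : MulAut P} (hγ : γ ∈ E.autGroup P)
    (hk : ∃ k : ℕ, orderOf γ = p ^ k) : ∃ β, IsGood F P β γ := by
  classical
  obtain ⟨hEs, -, hinv⟩ := hE
  have hTS : T ≤ S := hinv.2.1.1
  have hPS : P ≤ S := hFN.1
  haveI : Finite T := finite_of_le hTS
  have hTp : IsPGroup p T := isPGroup_of_le hS hTS
  have hEFN := isFullyNormalized_sub hS hF hinv hPT hFN
  obtain ⟨-, R, hR⟩ := (fullyNormalized_props hTp hEs hEFN).2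
  haveI : Finite (E.autGroup P) := finite_autGroup hPT
  obtain ⟨k, hk⟩ := hk
  let a : E.autGroup P := ⟨γ, hγ⟩
  have hao : orderOf a = p ^ k := by
    rw [← Subgroup.orderOf_coe, ← hk]
  have hzp : IsPGroup p (Subgroup.zpowers a) := by
    rw [IsPGroup.iff_card, Nat.card_zpowers, hao]
    exact ⟨k, rfl⟩
  obtain ⟨R', hR'⟩ := hzp.exists_le_sylow
  obtain ⟨g, hg⟩ := MulAction.exists_smul_eq (E.autGroup P) R' R
  have hgR : g * a * g⁻¹ ∈ (R : Subgroup (E.autGroup P)) := by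
    rw [← hg, Sylow.coe_subgroup_smul]
    exact ⟨a, hR' (Subgroup.mem_zpowers a), rfl⟩
  rw [hR, Subgroup.mem_subgroupOf] at hgR
  obtain ⟨t, ht, htv⟩ := mem_autInducedBy_iff.1 hgR
  obtain ⟨β₀, hβ₀⟩ := isGood_conj hinv hPT hC ht htv
  have hgF : ((g⁻¹ : E.autGroup P) : MulAut P) ∈ F.autGroup P := autGroup_le_of_subsystem hinv.1 P (g⁻¹).2
  obtain ⟨b, hb, hbg⟩ := exists_ext hS hF hFN hgF
  have h1 := hβ₀.conj hPS hb hbg
  have e : (((g⁻¹ : E.autGroup P) : MulAut P)) * ((g * a * g⁻¹ : E.autGroup P) : MulAut P) *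
      ((g⁻¹ : E.autGroup P) : MulAut P)⁻¹ = γ := by
    have : (g⁻¹ * (g * a * g⁻¹) * (g⁻¹)⁻¹ : E.autGroup P) = a := by group
    have h2 := congrArg (fun z : E.autGroup P => (z : MulAut P)) this
    simpa using h2
  rw [e] at h1
  exact ⟨_, h1⟩

end Extension

end Cfsg.Agent.Lib.Fusion.GoodLift
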