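/-
Good lifts, part 2: the uniqueness statement (maps fixing `P` pointwise and moving `y` by `w ∈ Z(P)` force `w` to be fixed by
`α`, if `α` has a good lift), and good lifts of elements of order prime to `p`.
-/
import Mathlib
import Cfsg.Agent.Lib.Fusion.GoodLift1

set_option autoImplicit false
set_option linter.style.haveILetI false

namespace Cfsg.Agent.Lib.Fusion.GoodLift

open Cfsg Cfsg.FusionSystem Cfsg.Agent.Lib.Fusion.Basic Cfsg.Agent.Lib.Fusion.Saturated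
open Cfsg.Agent.Lib.Fusion.Saturated2 (autOfHom autOfHom_mem)
open Cfsg.Agent.Lib.Fusion.LocalSystems (map_mem_sup_of_ext range_ext_eq centralizerSystem)
open Cfsg.Agent.Lib.Fusion.Joins (exists_hom_of_eq)
open Cfsg.Agent.Lib.Fusion.LiftSys
open Cfsg.Agent.Lib.Fusion.NormalPair
open Cfsg.Agent.Lib.Fusion.NormalCR

variable {Ω : Type*} [Group Ω] {S T : Subgroup Ω} {F : FusionSystem S} {E : FusionSystem T}

section CL

variable [Finite S] {p : ℕ} [hp : Fact p.Prime] {P : Subgroup Ω}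

/-- **The key uniqueness lemma at fully centralized `P`**. -/
theorem cl_fn (hS : IsPGroup p S) (hF : F.IsSaturated p) (hFC : F.IsFullyCentralized P) {β : MulAut ↥(hat S P)}
    {α : MulAut P} (hβ : IsGood F P β α) {y : Ω} (hy : y ∈ centralizerIn S P)
    {k : ↥(P ⊔ Subgroup.zpowers y) →* Ω} (hk : k ∈ F.Hom (P ⊔ Subgroup.zpowers y))
    (hkP : ∀ x : P, k (Subgroup.inclusion le_sup_left x) = x) {w : Ω} (hw : w ∈ Zc P)
    (hky : k ⟨y, le_sup_right (a := P) (Subgroup.mem_zpowers y)⟩ = y * w) : ((α ⟨w, Zc.left hw⟩ : P) : Ω) = w := by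
  classical
  have hPS : P ≤ S := hFC.1
  have hD := Cfsg.Agent.Lib.Fusion.KNormalizer.isSaturated_centralizerSystem hS hF hFC
    (Cfsg.Agent.Lib.Fusion.LocalSystems.centralizerSystem_isCentralizerSystem F P hPS)
  have hUS : centralizerIn S P ≤ S := inf_le_left
  haveI hfinU : Finite (centralizerIn S P) := finite_of_le hUS
  have hUp : IsPGroup p (centralizerIn S P) := isPGroup_of_le hS hUS
  have hZU : Zc P ≤ centralizerIn S P := zc_le_cen hPS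
  have hyzp : Subgroup.zpowers y ≤ centralizerIn S P := (Subgroup.zpowers_le).2 hy
  have hWU : Zc P ⊔ Subgroup.zpowers y ≤ centralizerIn S P := sup_le hZU hyzp
  have hWR : Zc P ⊔ Subgroup.zpowers y ≤ P ⊔ Subgroup.zpowers y := sup_le_sup_right inf_le_left _
  have hWP : (Zc P ⊔ Subgroup.zpowers y) ⊔ P ≤ P ⊔ Subgroup.zpowers y := sup_le hWR le_sup_left
  haveI hfinW : Finite ↥(Zc P ⊔ Subgroup.zpowers y) := finite_of_le (hWU.trans hUS)
  have hkW := res_mem hk hWR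
  set kW : ↥(Zc P ⊔ Subgroup.zpowers y) →* Ω := k.comp (Subgroup.inclusion hWR) with hkWd
  have hwW : w ∈ Zc P ⊔ Subgroup.zpowers y := le_sup_left (a := Zc P) hw
  have hyW : y ∈ Zc P ⊔ Subgroup.zpowers y := le_sup_right (a := Zc P) (Subgroup.mem_zpowers y)
  have hkZ : ∀ z : ↥(Zc P ⊔ Subgroup.zpowers y), (z : Ω) ∈ Zc P → kW z = z := by
    intro z hz
    exact hkP ⟨z, Zc.left hz⟩
  have hkyW : kW ⟨y, hyW⟩ = y * w := hky
  have hkWv : ∀ x, kW x ∈ Zc P ⊔ Subgroup.zpowers y := by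
    intro x
    refine map_mem_sup_of_ext kW (fun z => ?_) (fun z => ?_) x
    · have := hkZ (Subgroup.inclusion le_sup_left z) z.2
      rw [this]
      exact le_sup_left (a := Zc P) z.2
    · obtain ⟨z, n, hn⟩ := z
      have e : Subgroup.inclusion (le_sup_right : Subgroup.zpowers y ≤ Zc P ⊔ Subgroup.zpowers y) ⟨z, n, hn⟩ =
          (⟨y, hyW⟩ : ↥(Zc P ⊔ Subgroup.zpowers y)) ^ n := by
        apply Subtype.ext
        simpa using hn.symm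
      rw [e, map_zpow, hkyW]
      exact Subgroup.zpow_mem _ (Subgroup.mul_mem _ hyW hwW) n
  let a : MulAut ↥(Zc P ⊔ Subgroup.zpowers y) := autOfHom kW (F.injective_of_mem hkW) hkWv
  have hav : ∀ x, ((a x : ↥(Zc P ⊔ Subgroup.zpowers y)) : Ω) = kW x := fun _ => rfl
  -- `a` moves elements by `Z(P)`
  have hcomm : ∀ {z u : Ω}, z ∈ Zc P → u ∈ centralizerIn S P → z * u = u * z := fun hz hu =>
    (comm_of_mem_cen hu.2 (Zc.left hz))
  have hmove : ∀ v : ↥(Zc P ⊔ Subgroup.zpowers y), (v : Ω)⁻¹ * (a v : ↥(Zc P ⊔ Subgroup.zpowers y)) ∈ Zc P := by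
    let X : Subgroup ↥(Zc P ⊔ Subgroup.zpowers y) :=
      { carrier := {v | (v : Ω)⁻¹ * (a v : ↥(Zc P ⊔ Subgroup.zpowers y)) ∈ Zc P}
        mul_mem' := by
          intro u v hu hv
          simp only [Set.mem_ofPred_eq, map_mul, Subgroup.coe_mul] at hu hv ⊢
          have e : ((u : Ω) * v)⁻¹ * (((a u : ↥(Zc P ⊔ Subgroup.zpowers y)) : Ω) * ((a v : ↥(Zc P ⊔ Subgroup.zpowers y)) : Ω)) =
              (v : Ω)⁻¹ * ((u : Ω)⁻¹ * ((a u : ↥(Zc P ⊔ Subgroup.zpowers y)) : Ω)) * v *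
                ((v : Ω)⁻¹ * ((a v : ↥(Zc P ⊔ Subgroup.zpowers y)) : Ω)) := by group
          rw [e]
          have h1 := hcomm hu (hWU v.2)
          have e2 : (v : Ω)⁻¹ * ((u : Ω)⁻¹ * ((a u : ↥(Zc P ⊔ Subgroup.zpowers y)) : Ω)) * v =
              (u : Ω)⁻¹ * ((a u : ↥(Zc P ⊔ Subgroup.zpowers y)) : Ω) := by
            rw [mul_assoc, h1]
            group
          rw [e2]
          exact Subgroup.mul_mem _ hu hv
        one_mem' := by simp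
        inv_mem' := by
          intro v hv
          simp only [Set.mem_ofPred_eq, map_inv, Subgroup.coe_inv, inv_inv] at hv ⊢
          have h1 := hcomm hv (hWU v.2)
          have e : (v : Ω) * ((a v : ↥(Zc P ⊔ Subgroup.zpowers y)) : Ω)⁻¹ =
              ((v : Ω)⁻¹ * ((a v : ↥(Zc P ⊔ Subgroup.zpowers y)) : Ω))⁻¹ := by
            have e3 : ((v : Ω)⁻¹ * ((a v : ↥(Zc P ⊔ Subgroup.zpowers y)) : Ω))⁻¹ * (v : Ω)⁻¹ =
                (v : Ω)⁻¹ * ((v : Ω)⁻¹ * ((a v : ↥(Zc P ⊔ Subgroup.zpowers y)) : Ω))⁻¹ := by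
              have h2 := hcomm ((Zc P).inv_mem hv) ((centralizerIn S P).inv_mem (hWU v.2))
              exact h2
            have e4 : (v : Ω) * ((a v : ↥(Zc P ⊔ Subgroup.zpowers y)) : Ω)⁻¹ =
                (v : Ω) * (((v : Ω)⁻¹ * ((a v : ↥(Zc P ⊔ Subgroup.zpowers y)) : Ω))⁻¹ * (v : Ω)⁻¹) := by
              group
            rw [e4, e3]
            group
          rw [e]
          exact Subgroup.inv_mem _ hv }
    have hXZ : Zc P ≤ X.map (Zc P ⊔ Subgroup.zpowers y).subtype := by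
      intro z hz
      refine ⟨⟨z, le_sup_left (a := Zc P) hz⟩, ?_, rfl⟩
      show (z : Ω)⁻¹ * kW ⟨z, _⟩ ∈ Zc P
      rw [hkZ ⟨z, _⟩ hz]
      simp
    have hXy : Subgroup.zpowers y ≤ X.map (Zc P ⊔ Subgroup.zpowers y).subtype := by
      rw [Subgroup.zpowers_le]
      refine ⟨⟨y, hyW⟩, ?_, rfl⟩
      show y⁻¹ * kW ⟨y, hyW⟩ ∈ Zc P
      rw [hkyW]
      simpa using hw
    intro v
    obtain ⟨v', hv', he⟩ := (sup_le hXZ hXy) v.2
    have : v' = v := Subtype.ext he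
    rw [← this]
    exact hv'
  -- `a` has `p`-power order
  have haZ : ∀ z : ↥(Zc P ⊔ Subgroup.zpowers y), (z : Ω) ∈ Zc P → a z = z := fun z hz => Subtype.ext (hkZ z hz)
  have hpow : ∀ (n : ℕ) (v : ↥(Zc P ⊔ Subgroup.zpowers y)),
      (((a ^ n) v : ↥(Zc P ⊔ Subgroup.zpowers y)) : Ω) = v * ((v : Ω)⁻¹ * (a v : ↥(Zc P ⊔ Subgroup.zpowers y))) ^ n := by
    intro n v
    set f : Ω := (v : Ω)⁻¹ * (a v : ↥(Zc P ⊔ Subgroup.zpowers y)) with hf
    have hfZ : f ∈ Zc P := hmove v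
    induction n with
    | zero => simp
    | succ n ih =>
      have e1 : (a ^ n) v = v * (⟨f, le_sup_left (a := Zc P) hfZ⟩ : ↥(Zc P ⊔ Subgroup.zpowers y)) ^ n := by
        apply Subtype.ext
        rw [ih]
        simp
      rw [pow_succ', MulAut.mul_apply, e1, map_mul, map_pow, haZ ⟨f, le_sup_left (a := Zc P) hfZ⟩ hfZ]
      simp only [Subgroup.coe_mul, Subgroup.coe_pow]
      rw [pow_succ', ← mul_assoc, ← mul_assoc]
      congr 2
      group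
  haveI hfinZ : Finite (Zc P) := finite_of_le (hZU.trans hUS)
  obtain ⟨e, he⟩ := IsPGroup.iff_card.1 (isPGroup_of_le hS (hZU.trans hUS))
  have ha1 : a ^ p ^ e = 1 := by
    ext v
    rw [hpow]
    have hf := hmove v
    have h1 : ((⟨_, hf⟩ : Zc P) ^ p ^ e) = 1 := by
      rw [← he]
      exact pow_card_eq_one'
    have h2 := congrArg (fun z : Zc P => (z : Ω)) h1
    simp only [Subgroup.coe_pow, Subgroup.coe_one] at h2
    rw [h2, mul_one]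
    rfl
  have hord : ∃ j : ℕ, orderOf a = p ^ j := by
    obtain ⟨j, -, hj⟩ := (Nat.dvd_prime_pow hp.out).1 (orderOf_dvd_of_pow_eq_one ha1)
    exact ⟨j, hj⟩
  -- apply saturation of the centralizer system
  have haD : a ∈ (centralizerSystem F P hPS).autGroup (Zc P ⊔ Subgroup.zpowers y) := by
    apply mem_autGroup_of_mem
    have e : (Zc P ⊔ Subgroup.zpowers y).subtype.comp a.toMonoidHom = kW := by
      ext x
      rfl
    rw [e]
    refine ⟨hkW, hWU, fun x => hWU (hkWv x), k.comp (Subgroup.inclusion hWP), res_mem hk hWP, fun x => rfl, fun x => ?_⟩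
    exact hkP x
  obtain ⟨ψ, hψ, s, hs, hψa⟩ := Cfsg.Agent.Lib.Fusion.PPrime.exists_map_conj_p_element hD hWU haD hord
  obtain ⟨hψF, -, hψv, ψ', -, hψ'a, hψ'P⟩ := hψ
  have hψZ : ∀ z : ↥(Zc P ⊔ Subgroup.zpowers y), (z : Ω) ∈ Zc P → ψ z = z := by
    intro z hz
    have h1 := hψ'a z
    have h2 := hψ'P ⟨z, Zc.left hz⟩
    have e : Subgroup.inclusion (le_sup_left : Zc P ⊔ Subgroup.zpowers y ≤ (Zc P ⊔ Subgroup.zpowers y) ⊔ P) z =
        Subgroup.inclusion le_sup_right (⟨z, Zc.left hz⟩ : P) := Subtype.ext rfl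
    rw [← h1, e, h2]
  set y' : Ω := ψ ⟨y, hyW⟩ with hy'
  have hy'U : y' ∈ centralizerIn S P := hψv _
  have hstar : s * y' * s⁻¹ = y' * w := by
    have h1 := hψa ⟨y, hyW⟩
    have e : a ⟨y, hyW⟩ = ⟨y, hyW⟩ * ⟨w, hwW⟩ := Subtype.ext hkyW
    rw [e, map_mul, hψZ ⟨w, hwW⟩ hw] at h1
    exact h1.symm
  -- apply `β`
  have hsH : s ∈ hat S P := cen_le_hat P hs
  have hy'H : y' ∈ hat S P := cen_le_hat P hy'U
  have hwH : w ∈ hat S P := le_hat P (Zc.left hw)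
  have hf₁ := hβ.cen ⟨s, hsH⟩ hs
  have hf₂ := hβ.cen ⟨y', hy'H⟩ hy'U
  set f₁ : Ω := s⁻¹ * ((β ⟨s, hsH⟩ : ↥(hat S P)) : Ω) with hf₁d
  set f₂ : Ω := y'⁻¹ * ((β ⟨y', hy'H⟩ : ↥(hat S P)) : Ω) with hf₂d
  have e₁ : ((β ⟨s, hsH⟩ : ↥(hat S P)) : Ω) = s * f₁ := by rw [hf₁d]; group
  have e₂ : ((β ⟨y', hy'H⟩ : ↥(hat S P)) : Ω) = y' * f₂ := by rw [hf₂d]; group
  have eq1 : (⟨s, hsH⟩ : ↥(hat S P)) * ⟨y', hy'H⟩ * ⟨s, hsH⟩⁻¹ = ⟨y', hy'H⟩ * Subgroup.inclusion (le_hat P) ⟨w, Zc.left hw⟩ :=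
    Subtype.ext hstar
  have eq2 := congrArg (fun t : ↥(hat S P) => ((β t : ↥(hat S P)) : Ω)) eq1
  simp only [map_mul, map_inv, Subgroup.coe_mul, Subgroup.coe_inv] at eq2
  rw [hβ.res, e₁, e₂] at eq2
  -- commutation
  have h1 : f₁ * y' = y' * f₁ := hcomm hf₁ hy'U
  have h2 : f₁ * f₂ = f₂ * f₁ := hcomm hf₁ (hZU hf₂)
  have h3 : f₂ * s = s * f₂ := hcomm hf₂ hs
  have h4 : f₂ * w = w * f₂ := hcomm hf₂ (hZU hw)
  have h5 : s * f₁ * (y' * f₂) * (s * f₁)⁻¹ = s * y' * s⁻¹ * f₂ := by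
    have e : s * f₁ * (y' * f₂) * (s * f₁)⁻¹ = s * (f₁ * y') * f₂ * f₁⁻¹ * s⁻¹ := by group
    rw [e, h1]
    have e' : s * (y' * f₁) * f₂ * f₁⁻¹ * s⁻¹ = s * y' * (f₁ * f₂) * f₁⁻¹ * s⁻¹ := by group
    rw [e', h2]
    have e'' : s * y' * (f₂ * f₁) * f₁⁻¹ * s⁻¹ = s * y' * (f₂ * s⁻¹) := by group
    rw [e'']
    have h6 : f₂ * s⁻¹ = s⁻¹ * f₂ := hcomm hf₂ ((centralizerIn S P).inv_mem hs)
    rw [h6]
    group
  rw [h5, hstar] at eq2
  have h7 : y' * w * f₂ = y' * f₂ * ((α ⟨w, Zc.left hw⟩ : P) : Ω) := eq2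
  have h8 : w * f₂ = f₂ * ((α ⟨w, Zc.left hw⟩ : P) : Ω) := by
    have : y' * (w * f₂) = y' * (f₂ * ((α ⟨w, Zc.left hw⟩ : P) : Ω)) := by
      calc y' * (w * f₂) = y' * w * f₂ := (mul_assoc _ _ _).symm
        _ = y' * f₂ * ((α ⟨w, Zc.left hw⟩ : P) : Ω) := h7
        _ = _ := mul_assoc _ _ _
    exact mul_left_cancel this
  rw [← h4] at h8
  exact (mul_left_cancel h8).symm

end CL

section Data

/-- The automorphisms with good lifts of order prime to `p`. -/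
def IsP (E : FusionSystem T) (p : ℕ) (P : Subgroup Ω) (α : MulAut P) : Prop :=
  ((E.IsCentric P ∧ α ∈ Cfsg.Agent.Lib.Fusion.PPrime.KK E p P) ∨ (P = T ∧ α ∈ E.autGroup P)) ∧
    Nat.Coprime (orderOf α) p

theorem IsP.le {p : ℕ} {P : Subgroup Ω} {α : MulAut P} (h : IsP E p P α) : P ≤ T := by
  rcases h.1 with h1 | h1
  · exact h1.1.1
  · exact h1.1.le

/-- The data used to transport to a fully normalized subgroup. -/
structure Data (F : FusionSystem S) (p : ℕ) (P : Subgroup Ω) (α : MulAut P) (P₁ : Subgroup Ω) (χ : ↥(hat S P) →* Ω)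
    (α₁ : MulAut P₁) (β₁ : MulAut ↥(hat S P₁)) (m : ℕ) : Prop where
  fn : F.IsFullyNormalized P₁
  hom : χ ∈ F.Hom (hat S P)
  val : ∀ x : P, χ (Subgroup.inclusion (le_hat P) x) ∈ P₁
  surj : ∀ y ∈ P₁, ∃ x : P, χ (Subgroup.inclusion (le_hat P) x) = y
  conj : ∀ x : P, ((α₁ ⟨_, val x⟩ : P₁) : Ω) = χ (Subgroup.inclusion (le_hat P) (α x))
  good : IsGood F P₁ β₁ α₁
  pow : β₁ ^ m = 1
  co : m.Coprime p

variable [Finite S] {p : ℕ} [hp : Fact p.Prime] {P : Subgroup Ω}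

/-- `C_T(P₁) ≤ P₁` for an `F`-conjugate `P₁` of an `E`-centric `P`. -/
theorem centric_transport (hE : E.IsInvariantIn F) (hc : E.IsCentric P) {P₁ : Subgroup Ω} {χ₀ : P →* Ω}
    (hχ₀ : χ₀ ∈ F.Hom P) (hr : χ₀.range = P₁) : centralizerIn T P₁ ≤ P₁ := by
  obtain ⟨a, -, φ₀, hφ₀, hag⟩ := hE.2.2.2 P hc.1 χ₀ hχ₀
  have hC₀ := hc.2 φ₀.range ⟨φ₀, hφ₀, rfl⟩
  intro c hcc
  have hv : ∀ x : P, φ₀ x ∈ T := map_mem_S hφ₀
  let c' : T := a⁻¹ ⟨c, hcc.1⟩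
  have hc'a : a c' = ⟨c, hcc.1⟩ := by simp [c']
  have hc' : (c' : Ω) ∈ centralizerIn T φ₀.range := by
    refine ⟨c'.2, Subgroup.mem_centralizer_iff.2 ?_⟩
    rintro _ ⟨x, rfl⟩
    have h1 : χ₀ x ∈ P₁ := hr ▸ (⟨x, rfl⟩ : χ₀ x ∈ χ₀.range)
    have h2 := comm_of_mem_cen hcc.2 h1
    rw [hag x (hv x)] at h2
    have h3 : a (⟨φ₀ x, hv x⟩ * c') = a (c' * ⟨φ₀ x, hv x⟩) := by
      rw [map_mul, map_mul, hc'a]
      exact Subtype.ext h2
    exact congrArg (fun t : T => (t : Ω)) (a.injective h3)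
  obtain ⟨x, hx⟩ := hC₀ hc'
  rw [← hr]
  refine ⟨x, ?_⟩
  rw [hag x (hv x)]
  have e : (⟨φ₀ x, hv x⟩ : T) = c' := Subtype.ext hx
  rw [e, hc'a]

/-- Existence of the data. -/
theorem exists_data (hS : IsPGroup p S) (hF : F.IsSaturated p) (hE : E.IsNormalIn F p) {α : MulAut P}
    (hα : IsP E p P α) : ∃ P₁ χ α₁ β₁ m, Data F p P α P₁ χ α₁ β₁ m := by
  classical
  have hinv := hE.1.2.2
  have hTsc := hinv.2.1
  have hTS : T ≤ S := hTsc.1
  have hPT : P ≤ T := hα.le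
  have hPS : P ≤ S := hPT.trans hTS
  obtain ⟨P₁, ⟨χ₀, hχ₀, hr⟩, hFN⟩ := exists_fullyNormalized (F := F) hPS
  have hrec := fullyNormalized_receptive hS hF hFN
  obtain ⟨χ₁, hχ₁, hχ₁a⟩ := hrec.2 P χ₀ hχ₀ hr
  have hext : hat S P ≤ extender S P χ₀ := sup_centralizerIn_le_extender hPS (map_mem_S hχ₀)
  have hχ := res_mem hχ₁ hext
  have hχP : ∀ x : P, (χ₁.comp (Subgroup.inclusion hext)) (Subgroup.inclusion (le_hat P) x) = χ₀ x :=
    fun x => hχ₁a x x.2 (hext (le_hat P x.2))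
  let e : P ≃* P₁ := isoOfRange (F.injective_of_mem hχ₀) hr
  have he : ∀ x : P, ((e x : P₁) : Ω) = χ₀ x := fun _ => rfl
  have hP₁S : P₁ ≤ S := hFN.1
  have hP₁T : P₁ ≤ T := by
    rw [← hr]
    rintro _ ⟨x, rfl⟩
    exact hTsc.2 P hPT χ₀ hχ₀ x
  have hord : orderOf (MulAut.congr e α) = orderOf α :=
    orderOf_injective (MulAut.congr e).toMonoidHom (MulEquiv.injective _) α
  -- good lift of the transported automorphism
  have hgood : MulAut.congr e α ∈ goodGroup F P₁ hP₁S := by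
    rcases hα.1 with ⟨hc, hK⟩ | ⟨hPe, hαE⟩
    · have hC := centric_transport hinv hc hχ₀ hr
      have hle : Cfsg.Agent.Lib.Fusion.PPrime.KK E p P ≤
          (goodGroup F P₁ hP₁S).comap (MulAut.congr e).toMonoidHom := by
        refine Cfsg.Agent.Lib.Fusion.PPrime.KK_le_iff.2 (fun γ hγ hk => ?_)
        refine isGood_of_pelement hS hF hE.1 hFN hP₁T hC (congr_mem_autGroup hinv hPT hχ₀ e he hγ) ?_
        obtain ⟨k, hk⟩ := hk
        exact ⟨k, by rw [← hk]; exact orderOf_injective (MulAut.congr e).toMonoidHom (MulEquiv.injective _) γ⟩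
      exact hle hK
    · subst hPe
      have hαE' := congr_mem_autGroup hinv le_rfl hχ₀ e he hαE
      have hP₁e : P₁ = P := by
        haveI : Finite P := finite_of_le hPS
        have := range_eq_of_card hχ₀ (fun x => hP₁T (by rw [← hr]; exact ⟨x, rfl⟩)) le_rfl
        rw [← hr, this]
      subst hP₁e
      obtain ⟨β, hβ, h1, h2⟩ := hE.2 _ hαE'
      exact ⟨β, hβ, h1, h2⟩
  obtain ⟨β, hβ⟩ := hgood
  have hco₁ : Nat.Coprime (orderOf (MulAut.congr e α)) p := by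
    rw [hord]
    exact hα.2
  haveI : Finite (MulAut ↥(hat S P₁)) := finite_mulAut (hat_le hP₁S)
  obtain ⟨u, hu, hucop⟩ := Cfsg.Agent.Lib.Fusion.FactorHyperfocal.exists_pow_coprime hp.out β (orderOf_pos β) hco₁
  have hαu : (MulAut.congr e α) ^ u = MulAut.congr e α := by
    have := (pow_eq_pow_iff_modEq (x := MulAut.congr e α) (n := u) (m := 1)).2 hu
    rwa [pow_one] at this
  have hβ' := hβ.pow u
  rw [hαu] at hβ'
  refine ⟨P₁, χ₁.comp (Subgroup.inclusion hext), MulAut.congr e α, β ^ u, orderOf (β ^ u), hFN, hχ, fun x => ?_,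
    fun y hy => ?_, fun x => ?_, hβ', pow_orderOf_eq_one _, hucop⟩
  · rw [hχP, ← hr]
    exact ⟨x, rfl⟩
  · rw [← hr] at hy
    obtain ⟨x, rfl⟩ := hy
    exact ⟨x, hχP x⟩
  · have e1 : (⟨(χ₁.comp (Subgroup.inclusion hext)) (Subgroup.inclusion (le_hat P) x), by
        rw [hχP, ← hr]; exact ⟨x, rfl⟩⟩ : P₁) = e x := Subtype.ext (hχP x)
    rw [e1, hχP]
    have e2 : (MulAut.congr e α) (e x) = e (α x) := by simp [MulAut.congr_apply]
    rw [e2]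
    rfl

variable {P₁ : Subgroup Ω} {χ : ↥(hat S P) →* Ω} {α : MulAut P} {α₁ : MulAut P₁} {β₁ : MulAut ↥(hat S P₁)} {m : ℕ}

theorem Data.inj (d : Data F p P α P₁ χ α₁ β₁ m) : Function.Injective χ := F.injective_of_mem d.hom

theorem Data.mem_zc (d : Data F p P α P₁ χ α₁ β₁ m) {z : P} (hz : (z : Ω) ∈ Zc P) :
    χ (Subgroup.inclusion (le_hat P) z) ∈ Zc P₁ := by
  refine Subgroup.mem_inf.2 ⟨d.val z, Subgroup.mem_centralizer_iff.2 ?_⟩
  intro y hy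
  obtain ⟨x, rfl⟩ := d.surj y hy
  have e : Subgroup.inclusion (le_hat (S := S) P) x * Subgroup.inclusion (le_hat (S := S) P) z =
      Subgroup.inclusion (le_hat (S := S) P) z * Subgroup.inclusion (le_hat (S := S) P) x :=
    Subtype.ext (comm_of_mem_cen (Zc.right hz) x.2)
  rw [← χ.map_mul, ← χ.map_mul, e]

theorem Data.exists_zc (d : Data F p P α P₁ χ α₁ β₁ m) {z : Ω} (hz : z ∈ Zc P₁) :
    ∃ z₀ : P, (z₀ : Ω) ∈ Zc P ∧ χ (Subgroup.inclusion (le_hat P) z₀) = z := by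
  obtain ⟨x, rfl⟩ := d.surj z (Zc.left hz)
  refine ⟨x, Subgroup.mem_inf.2 ⟨x.2, Subgroup.mem_centralizer_iff.2 ?_⟩, rfl⟩
  intro u hu
  have h1 := comm_of_mem_cen (Zc.right hz) (d.val ⟨u, hu⟩)
  have h3 : χ (Subgroup.inclusion (le_hat P) ⟨u, hu⟩ * Subgroup.inclusion (le_hat P) x) =
      χ (Subgroup.inclusion (le_hat P) x * Subgroup.inclusion (le_hat P) ⟨u, hu⟩) := by
    rw [map_mul, map_mul]
    exact h1
  have h2 := d.inj h3
  exact congrArg (fun t : ↥(hat S P) => (t : Ω)) h2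

theorem Data.cen_mem (d : Data F p P α P₁ χ α₁ β₁ m) (c : ↥(hat S P)) (hc : (c : Ω) ∈ centralizerIn S P) :
    χ c ∈ centralizerIn S P₁ :=
  map_cen_mem d.hom d.surj c hc

theorem Data.val_hat (d : Data F p P α P₁ χ α₁ β₁ m) (u : ↥(hat S P)) : χ u ∈ hat S P₁ := by
  refine map_mem_sup_of_ext χ (fun y => le_hat P₁ (d.val y)) (fun y => cen_le_hat P₁ (d.cen_mem _ y.2)) u

/-- **Transport**: a good lift of `α` of order prime to `p` on `hat S P` itself. -/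
theorem Data.exists_lift (d : Data F p P α P₁ χ α₁ β₁ m) : ∃ ρ : MulAut ↥(hat S P), IsGood F P ρ α ∧ ρ ^ m = 1 := by
  classical
  have hP₁S : P₁ ≤ S := d.fn.1
  have hPS : P ≤ S := fun x hx => source_le d.hom (le_hat P hx)
  let χ₁ : ↥(hat S P) →* ↥(hat S P₁) := χ.codRestrict _ d.val_hat
  have hχ₁ : ∀ u, ((χ₁ u : ↥(hat S P₁)) : Ω) = χ u := fun _ => rfl
  let f : ↥(hat S P) →* Ω := ((hat S P₁).subtype.comp β₁.toMonoidHom).comp χ₁
  have hf : f ∈ F.Hom (hat S P) := F.comp_mem d.hom (autGroup_mem_hom (hat_le hP₁S) d.good.mem) d.val_hat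
  have hfv : ∀ u, f u = ((β₁ (χ₁ u) : ↥(hat S P₁)) : Ω) := fun _ => rfl
  have hfP : ∀ x : P, f (Subgroup.inclusion (le_hat P) x) = χ (Subgroup.inclusion (le_hat P) (α x)) := by
    intro x
    rw [hfv]
    have e : χ₁ (Subgroup.inclusion (le_hat P) x) = Subgroup.inclusion (le_hat P₁) ⟨_, d.val x⟩ := Subtype.ext rfl
    rw [e, d.good.res, d.conj]
  have hfC : ∀ (c : ↥(hat S P)) (hc : (c : Ω) ∈ centralizerIn S P), ∃ z₀ : P, (z₀ : Ω) ∈ Zc P ∧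
      f c = χ (c * Subgroup.inclusion (le_hat P) z₀) := by
    intro c hc
    have h1 := d.good.cen (χ₁ c) (d.cen_mem c hc)
    obtain ⟨z₀, hz₀, hz₀e⟩ := d.exists_zc h1
    refine ⟨z₀, hz₀, ?_⟩
    rw [map_mul, hz₀e, hfv]
    show _ = χ c * ((χ c)⁻¹ * ((β₁ (χ₁ c) : ↥(hat S P₁)) : Ω))
    group
  have hfr : ∀ u, f u ∈ χ.range := by
    intro u
    refine map_mem_sup_of_ext f (fun y => ?_) (fun y => ?_) u
    · rw [hfP]
      exact ⟨_, rfl⟩
    · obtain ⟨z₀, -, h⟩ := hfC (Subgroup.inclusion (cen_le_hat P) y) y.2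
      have e : f (Subgroup.inclusion le_sup_right y) = f (Subgroup.inclusion (cen_le_hat P) y) := rfl
      rw [e, h]
      exact ⟨_, rfl⟩
  obtain ⟨ι, hι, hιr, hι1, hι2⟩ := exists_inv d.hom (rfl : χ.range = χ.range)
  have hρ₀ : ι.comp (f.codRestrict χ.range hfr) ∈ F.Hom (hat S P) := F.comp_mem hf hι hfr
  set ρ₀ : ↥(hat S P) →* Ω := ι.comp (f.codRestrict χ.range hfr) with hρ₀d
  have hv : ∀ u, ρ₀ u ∈ hat S P := fun u => hιr.le ⟨_, rfl⟩
  haveI := finite_hat (S := S) hPS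
  let ρ : MulAut ↥(hat S P) := autOfHom ρ₀ (F.injective_of_mem hρ₀) hv
  have hform : ∀ u, χ (ρ u) = f u := fun u => hι2 ⟨f u, hfr u⟩ (hv u)
  have hpow : ∀ (k : ℕ) (u : ↥(hat S P)), χ ((ρ ^ k) u) = (((β₁ ^ k) (χ₁ u) : ↥(hat S P₁)) : Ω) := by
    intro k
    induction k with
    | zero => intro u; rfl
    | succ k ih =>
      intro u
      rw [pow_succ', MulAut.mul_apply, hform, hfv, pow_succ', MulAut.mul_apply]
      congr 2
      exact Subtype.ext (ih u)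
  refine ⟨ρ, ⟨autOfHom_mem hρ₀ hv, fun x => ?_, fun c hc => ?_⟩, ?_⟩
  · have h1 := (hform (Subgroup.inclusion (le_hat P) x)).trans (hfP x)
    exact congrArg (fun t : ↥(hat S P) => (t : Ω)) (d.inj h1)
  · obtain ⟨z₀, hz₀, h⟩ := hfC c hc
    have h1 := d.inj ((hform c).trans h)
    rw [h1]
    simpa using hz₀
  · ext u
    apply congrArg (fun t : ↥(hat S P) => (t : Ω))
    apply d.inj
    rw [hpow, d.pow]
    rfl

/-- **The uniqueness lemma for general `P`**. -/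
theorem Data.cl (hS : IsPGroup p S) (hF : F.IsSaturated p) (d : Data F p P α P₁ χ α₁ β₁ m) {y : Ω}
    (hy : y ∈ centralizerIn S P) {k : ↥(P ⊔ Subgroup.zpowers y) →* Ω} (hk : k ∈ F.Hom (P ⊔ Subgroup.zpowers y))
    (hkP : ∀ x : P, k (Subgroup.inclusion le_sup_left x) = x) {w : Ω} (hw : w ∈ Zc P)
    (hky : k ⟨y, le_sup_right (a := P) (Subgroup.mem_zpowers y)⟩ = y * w) : ((α ⟨w, Zc.left hw⟩ : P) : Ω) = w := by
  classical
  have hRH : P ⊔ Subgroup.zpowers y ≤ hat S P :=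
    sup_le (le_hat P) ((Subgroup.zpowers_le).2 (cen_le_hat P hy))
  have hχR := res_mem d.hom hRH
  set χR : ↥(P ⊔ Subgroup.zpowers y) →* Ω := χ.comp (Subgroup.inclusion hRH) with hχRd
  have hyH : y ∈ hat S P := cen_le_hat P hy
  have hyR : y ∈ P ⊔ Subgroup.zpowers y := le_sup_right (a := P) (Subgroup.mem_zpowers y)
  set y₁ : Ω := χ ⟨y, hyH⟩ with hy₁
  have hy₁C : y₁ ∈ centralizerIn S P₁ := d.cen_mem ⟨y, hyH⟩ hy
  have hy₁R : y₁ ∈ P₁ ⊔ Subgroup.zpowers y₁ := le_sup_right (a := P₁) (Subgroup.mem_zpowers y₁)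
  have hPR : ∀ x : P, χR (Subgroup.inclusion le_sup_left x) = χ (Subgroup.inclusion (le_hat P) x) := fun _ => rfl
  have hyχ : χR ⟨y, hyR⟩ = y₁ := rfl
  have hzp : ∀ (z : Subgroup.zpowers y), χR (Subgroup.inclusion le_sup_right z) ∈ Subgroup.zpowers y₁ := by
    rintro ⟨z, n, hn⟩
    have e : Subgroup.inclusion (le_sup_right : Subgroup.zpowers y ≤ P ⊔ Subgroup.zpowers y) ⟨z, n, hn⟩ =
        (⟨y, hyR⟩ : ↥(P ⊔ Subgroup.zpowers y)) ^ n := by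
      apply Subtype.ext
      simpa using hn.symm
    rw [e, map_zpow, hyχ]
    exact Subgroup.zpow_mem_zpowers _ n
  have hr : χR.range = P₁ ⊔ Subgroup.zpowers y₁ := by
    apply le_antisymm
    · rintro _ ⟨x, rfl⟩
      refine map_mem_sup_of_ext χR (fun z => le_sup_left (a := P₁) (d.val z))
        (fun z => le_sup_right (a := P₁) (hzp z)) x
    · refine sup_le ?_ ?_
      · intro z hz
        obtain ⟨x, hx⟩ := d.surj z hz
        exact ⟨Subgroup.inclusion le_sup_left x, hx⟩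
      · rw [Subgroup.zpowers_le]
        exact ⟨⟨y, hyR⟩, rfl⟩
  obtain ⟨ι, hι, hιr, hι1, hι2⟩ := exists_inv hχR hr
  have hιv : ∀ z, ι z ∈ P ⊔ Subgroup.zpowers y := fun z => hιr.le ⟨z, rfl⟩
  -- values of `k`
  have hwP : w ∈ P := Zc.left hw
  have hwR : w ∈ P ⊔ Subgroup.zpowers y := le_sup_left (a := P) hwP
  have hky' : k ⟨y, hyR⟩ = y * w := hky
  have hkv : ∀ u, k u ∈ P ⊔ Subgroup.zpowers y := by
    intro u
    refine map_mem_sup_of_ext k (fun z => ?_) (fun z => ?_) u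
    · rw [hkP]
      exact le_sup_left (a := P) z.2
    · obtain ⟨z, n, hn⟩ := z
      have e : Subgroup.inclusion (le_sup_right : Subgroup.zpowers y ≤ P ⊔ Subgroup.zpowers y) ⟨z, n, hn⟩ =
          (⟨y, hyR⟩ : ↥(P ⊔ Subgroup.zpowers y)) ^ n := by
        apply Subtype.ext
        simpa using hn.symm
      rw [e, map_zpow, hky']
      exact Subgroup.zpow_mem _ (Subgroup.mul_mem _ hyR hwR) n
  have h1 : k.comp (ι.codRestrict _ hιv) ∈ F.Hom (P₁ ⊔ Subgroup.zpowers y₁) := F.comp_mem hι hk hιv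
  have h2 := F.comp_mem h1 hχR (fun z => hkv _)
  set k₁ : ↥(P₁ ⊔ Subgroup.zpowers y₁) →* Ω := χR.comp ((k.comp (ι.codRestrict _ hιv)).codRestrict _ (fun z => hkv _)) with hk₁
  have hval : ∀ (u : ↥(P ⊔ Subgroup.zpowers y)) (hu : χR u ∈ P₁ ⊔ Subgroup.zpowers y₁), k₁ ⟨χR u, hu⟩ = χR ⟨k u, hkv u⟩ := by
    intro u hu
    have e1 : ι.codRestrict _ hιv ⟨χR u, hu⟩ = u := Subtype.ext (hι1 u hu)
    have e2 : (k.comp (ι.codRestrict _ hιv)).codRestrict _ (fun z => hkv _) ⟨χR u, hu⟩ = ⟨k u, hkv u⟩ := by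
      apply Subtype.ext
      show k (ι.codRestrict _ hιv ⟨χR u, hu⟩) = k u
      rw [e1]
    rw [hk₁]
    show χR ((k.comp (ι.codRestrict _ hιv)).codRestrict _ (fun z => hkv _) ⟨χR u, hu⟩) = _
    rw [e2]
  have hw₁ : χ (Subgroup.inclusion (le_hat P) ⟨w, hwP⟩) ∈ Zc P₁ := d.mem_zc (z := ⟨w, hwP⟩) hw
  have hk₁P : ∀ x : P₁, k₁ (Subgroup.inclusion le_sup_left x) = x := by
    intro x
    obtain ⟨x₀, hx₀⟩ := d.surj x x.2
    have hu : χR (Subgroup.inclusion le_sup_left x₀) ∈ P₁ ⊔ Subgroup.zpowers y₁ := by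
      rw [hPR, hx₀]
      exact le_sup_left (a := P₁) x.2
    have e : Subgroup.inclusion (le_sup_left : P₁ ≤ P₁ ⊔ Subgroup.zpowers y₁) x = ⟨χR (Subgroup.inclusion le_sup_left x₀), hu⟩ :=
      Subtype.ext (hx₀.symm)
    rw [e, hval]
    have e2 : (⟨k (Subgroup.inclusion le_sup_left x₀), hkv _⟩ : ↥(P ⊔ Subgroup.zpowers y)) = Subgroup.inclusion le_sup_left x₀ :=
      Subtype.ext (hkP x₀)
    rw [e2, hPR, hx₀]
  have hk₁y : k₁ ⟨y₁, hy₁R⟩ = y₁ * χ (Subgroup.inclusion (le_hat P) ⟨w, hwP⟩) := by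
    have h0 := hval ⟨y, hyR⟩ hy₁R
    refine Eq.trans h0 ?_
    have e2 : (⟨k ⟨y, hyR⟩, hkv _⟩ : ↥(P ⊔ Subgroup.zpowers y)) = ⟨y, hyR⟩ * Subgroup.inclusion le_sup_left ⟨w, hwP⟩ :=
      Subtype.ext hky'
    rw [e2, map_mul]
    rfl
  have hfc := (fullyNormalized_props hS hF d.fn).1
  have hfinal := cl_fn hS hF hfc d.good hy₁C h2 hk₁P hw₁ hk₁y
  have e3 : (⟨χ (Subgroup.inclusion (le_hat P) ⟨w, hwP⟩), Zc.left hw₁⟩ : P₁) = ⟨_, d.val ⟨w, hwP⟩⟩ := rfl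
  rw [e3, d.conj] at hfinal
  have h4 := d.inj hfinal
  exact congrArg (fun t : ↥(hat S P) => (t : Ω)) h4

/-- **The uniqueness lemma for two extensions of `α`**. -/
theorem Data.key (hS : IsPGroup p S) (hF : F.IsSaturated p) (d : Data F p P α P₁ χ α₁ β₁ m) {y : Ω}
    (hy : y ∈ centralizerIn S P) {ψ₁ ψ₂ : ↥(P ⊔ Subgroup.zpowers y) →* Ω} (h₁ : ψ₁ ∈ F.Hom (P ⊔ Subgroup.zpowers y))
    (h₂ : ψ₂ ∈ F.Hom (P ⊔ Subgroup.zpowers y)) (ha₁ : ∀ x : P, ψ₁ (Subgroup.inclusion le_sup_left x) = α x)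
    (ha₂ : ∀ x : P, ψ₂ (Subgroup.inclusion le_sup_left x) = α x) {z₁ z₂ : Ω} (hz₁ : z₁ ∈ Zc P) (hz₂ : z₂ ∈ Zc P)
    (hy₁ : ψ₁ ⟨y, le_sup_right (a := P) (Subgroup.mem_zpowers y)⟩ = y * z₁)
    (hy₂ : ψ₂ ⟨y, le_sup_right (a := P) (Subgroup.mem_zpowers y)⟩ = y * z₂) :
    ((α ⟨z₁⁻¹ * z₂, Zc.left ((Zc P).mul_mem ((Zc P).inv_mem hz₁) hz₂)⟩ : P) : Ω) = z₁⁻¹ * z₂ := by
  classical
  have hPS : P ≤ S := fun x hx => source_le d.hom (le_hat P hx)
  have hRS : P ⊔ Subgroup.zpowers y ≤ S := source_le h₁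
  haveI : Finite ↥(P ⊔ Subgroup.zpowers y) := finite_of_le hRS
  have hyR : y ∈ P ⊔ Subgroup.zpowers y := le_sup_right (a := P) (Subgroup.mem_zpowers y)
  have hvv : ∀ {ψ : ↥(P ⊔ Subgroup.zpowers y) →* Ω} {z : Ω}, z ∈ Zc P →
      (∀ x : P, ψ (Subgroup.inclusion le_sup_left x) = α x) → ψ ⟨y, hyR⟩ = y * z →
      ∀ u, ψ u ∈ P ⊔ Subgroup.zpowers y := by
    intro ψ z hz ha hyv u
    refine map_mem_sup_of_ext ψ (fun t => ?_) (fun t => ?_) u
    · rw [ha]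
      exact le_sup_left (a := P) (α t).2
    · obtain ⟨t, n, hn⟩ := t
      have e : Subgroup.inclusion (le_sup_right : Subgroup.zpowers y ≤ P ⊔ Subgroup.zpowers y) ⟨t, n, hn⟩ =
          (⟨y, hyR⟩ : ↥(P ⊔ Subgroup.zpowers y)) ^ n := by
        apply Subtype.ext
        simpa using hn.symm
      rw [e, map_zpow, hyv]
      exact Subgroup.zpow_mem _ (Subgroup.mul_mem _ hyR (le_sup_left (a := P) (Zc.left hz))) n
  have hv₁ := hvv hz₁ ha₁ hy₁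
  have hv₂ := hvv hz₂ ha₂ hy₂
  have hr₁ : ψ₁.range = P ⊔ Subgroup.zpowers y := range_eq_of_card h₁ hv₁ le_rfl
  obtain ⟨ι, hι, hιr, hι1, hι2⟩ := exists_inv h₁ hr₁
  have hk := F.comp_mem h₂ hι hv₂
  set k : ↥(P ⊔ Subgroup.zpowers y) →* Ω := ι.comp (ψ₂.codRestrict _ hv₂) with hkd
  have hkP : ∀ x : P, k (Subgroup.inclusion le_sup_left x) = x := by
    intro x
    have e : ψ₂.codRestrict _ hv₂ (Subgroup.inclusion le_sup_left x) =
        ⟨ψ₁ (Subgroup.inclusion le_sup_left x), hv₁ _⟩ := by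
      apply Subtype.ext
      show ψ₂ _ = ψ₁ _
      rw [ha₁, ha₂]
    show ι (ψ₂.codRestrict _ hv₂ (Subgroup.inclusion le_sup_left x)) = x
    rw [e, hι1]
    rfl
  have hzz : z₁⁻¹ * z₂ ∈ Zc P := (Zc P).mul_mem ((Zc P).inv_mem hz₁) hz₂
  set w₀ : P := α⁻¹ ⟨z₁⁻¹ * z₂, Zc.left hzz⟩ with hw₀
  have hw₀Z : (w₀ : Ω) ∈ Zc P := map_zc α⁻¹ (z := ⟨_, Zc.left hzz⟩) hzz
  have hαw : α w₀ = ⟨z₁⁻¹ * z₂, Zc.left hzz⟩ := by
    rw [hw₀]
    simp
  have hky : k ⟨y, hyR⟩ = y * w₀ := by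
    have e : ψ₂.codRestrict _ hv₂ ⟨y, hyR⟩ = ⟨ψ₁ (⟨y, hyR⟩ * Subgroup.inclusion le_sup_left w₀), hv₁ _⟩ := by
      apply Subtype.ext
      show ψ₂ ⟨y, hyR⟩ = ψ₁ (⟨y, hyR⟩ * Subgroup.inclusion le_sup_left w₀)
      rw [map_mul, ha₁, hαw, hy₁, hy₂]
      show y * z₂ = y * z₁ * (z₁⁻¹ * z₂)
      group
    show ι (ψ₂.codRestrict _ hv₂ ⟨y, hyR⟩) = _
    rw [e, hι1]
    rfl
  have hfin := d.cl hS hF hy hk hkP hw₀Z hky
  have e4 : (⟨(w₀ : Ω), Zc.left hw₀Z⟩ : P) = w₀ := rfl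
  rw [e4, hαw] at hfin
  -- `hfin : z₁⁻¹ z₂ = w₀`
  have e5 : (⟨z₁⁻¹ * z₂, Zc.left hzz⟩ : P) = w₀ := Subtype.ext hfin
  rw [e5, hαw]

end Data

section Fix

variable [Finite S] {p : ℕ} [hp : Fact p.Prime] {P : Subgroup Ω} {ρ : MulAut ↥(hat S P)} {α : MulAut P}

/-- A good lift of order prime to `p` fixes `c`, if `α` fixes `c⁻¹ ρ(c)`. -/
theorem IsGood.eq_of_fixed (hS : IsPGroup p S) (hPS : P ≤ S) (hρ : IsGood F P ρ α) {m : ℕ} (hm : ρ ^ m = 1)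
    (hco : m.Coprime p) (c : ↥(hat S P)) (hc : (c : Ω) ∈ centralizerIn S P)
    (hf : ((α ⟨(c : Ω)⁻¹ * (ρ c : ↥(hat S P)), Zc.left (hρ.cen c hc)⟩ : P) : Ω) = (c : Ω)⁻¹ * (ρ c : ↥(hat S P))) :
    ρ c = c := by
  have hfz := hρ.cen c hc
  set f : Ω := (c : Ω)⁻¹ * (ρ c : ↥(hat S P)) with hfd
  have hρf : ρ (Subgroup.inclusion (le_hat P) ⟨f, Zc.left hfz⟩) = Subgroup.inclusion (le_hat P) ⟨f, Zc.left hfz⟩ :=
    Subtype.ext ((hρ.res _).trans hf)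
  have hpow : ∀ k : ℕ, (ρ ^ k) c = c * (Subgroup.inclusion (le_hat P) ⟨f, Zc.left hfz⟩) ^ k := by
    intro k
    induction k with
    | zero => simp
    | succ k ih =>
      rw [pow_succ', MulAut.mul_apply, ih, map_mul, map_pow, hρf, pow_succ', hρ.apply_eq c hc]
      simp only [mul_assoc]
      rfl
  have h1 := hpow m
  rw [hm] at h1
  have h2 : (Subgroup.inclusion (le_hat (S := S) P) (⟨f, Zc.left hfz⟩ : P)) ^ m = 1 := by
    have : c * (Subgroup.inclusion (le_hat (S := S) P) (⟨f, Zc.left hfz⟩ : P)) ^ m = c * 1 := by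
      rw [← h1, mul_one]
      rfl
    exact mul_left_cancel this
  have hHp : IsPGroup p ↥(hat S P) := isPGroup_of_le hS (hat_le hPS)
  have h3 := eq_one_of_pow_coprime hHp hco h2
  have h4 : f = 1 := congrArg (fun t : ↥(hat S P) => (t : Ω)) h3
  apply Subtype.ext
  have h5 : (c : Ω)⁻¹ * (ρ c : ↥(hat S P)) = 1 := h4
  exact (inv_mul_eq_one.1 h5).symm

end Fix

end Cfsg.Agent.Lib.Fusion.GoodLift
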