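/-
Good lifts, part 3: the centralizer `CC` of a normal subsystem `E` in `S`.
-/
import Mathlib
import Cfsg.Agent.Lib.Fusion.GoodLift2

set_option autoImplicit false
set_option linter.style.haveILetI false

namespace Cfsg.Agent.Lib.Fusion.GoodLift

open Cfsg Cfsg.FusionSystem Cfsg.Agent.Lib.Fusion.Basic Cfsg.Agent.Lib.Fusion.Saturated
open Cfsg.Agent.Lib.Fusion.Saturated2 (autOfHom autOfHom_mem)
open Cfsg.Agent.Lib.Fusion.LocalSystems (map_mem_sup_of_ext range_ext_eq centralizerSystem)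
open Cfsg.Agent.Lib.Fusion.Joins (exists_hom_of_eq)
open Cfsg.Agent.Lib.Fusion.LiftSys
open Cfsg.Agent.Lib.Fusion.NormalPair
open Cfsg.Agent.Lib.Fusion.NormalCR
open Cfsg.Agent.Lib.Fusion.PPrime (KK KK_le_autGroup KK_le_iff mem_KK)

variable {Ω : Type*} [Group Ω] {S T : Subgroup Ω} {F : FusionSystem S} {E : FusionSystem T}

section Fix

theorem sup_zp_le {P : Subgroup Ω} {y : Ω} (hy : y ∈ centralizerIn S P) : P ⊔ Subgroup.zpowers y ≤ hat S P :=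
  sup_le (le_hat P) ((Subgroup.zpowers_le).2 (cen_le_hat P hy))

/-- The restriction of an automorphism of `hat S P`. -/
def resLift {P U : Subgroup Ω} (ρ : MulAut ↥(hat S P)) (hU : U ≤ hat S P) : U →* Ω :=
  (hat S P).subtype.comp (ρ.toMonoidHom.comp (Subgroup.inclusion hU))

theorem resLift_mem [Finite S] {P U : Subgroup Ω} {ρ : MulAut ↥(hat S P)} (hPS : P ≤ S) (hρ : ρ ∈ F.autGroup (hat S P))
    (hU : U ≤ hat S P) : resLift ρ hU ∈ F.Hom U :=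
  res_mem (autGroup_mem_hom (hat_le hPS) hρ) hU

/-- A map on `P ⊔ ⟨c⟩` extending `α` and fixing `c`. -/
def IsFixing (F : FusionSystem S) (P : Subgroup Ω) (α : MulAut P) (c : Ω) : Prop :=
  ∃ ψ ∈ F.Hom (P ⊔ Subgroup.zpowers c), (∀ x : P, ψ (Subgroup.inclusion le_sup_left x) = α x) ∧
    ψ ⟨c, le_sup_right (a := P) (Subgroup.mem_zpowers c)⟩ = c

/-- The properties of a canonical lift of `α`. -/
structure Lifted (F : FusionSystem S) (P : Subgroup Ω) (α : MulAut P) (ρ : MulAut ↥(hat S P)) : Prop where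
  good : IsGood F P ρ α
  fix : ∀ (c : Ω) (hc : c ∈ centralizerIn S P), ρ ⟨c, cen_le_hat P hc⟩ = ⟨c, cen_le_hat P hc⟩ ↔ IsFixing F P α c
  key : ∀ {y : Ω} (_ : y ∈ centralizerIn S P) {ψ₁ ψ₂ : ↥(P ⊔ Subgroup.zpowers y) →* Ω}
    (_ : ψ₁ ∈ F.Hom (P ⊔ Subgroup.zpowers y)) (_ : ψ₂ ∈ F.Hom (P ⊔ Subgroup.zpowers y))
    (_ : ∀ x : P, ψ₁ (Subgroup.inclusion le_sup_left x) = α x) (_ : ∀ x : P, ψ₂ (Subgroup.inclusion le_sup_left x) = α x)
    {z₁ z₂ : Ω} (hz₁ : z₁ ∈ Zc P) (hz₂ : z₂ ∈ Zc P)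
    (_ : ψ₁ ⟨y, le_sup_right (a := P) (Subgroup.mem_zpowers y)⟩ = y * z₁)
    (_ : ψ₂ ⟨y, le_sup_right (a := P) (Subgroup.mem_zpowers y)⟩ = y * z₂),
    ((α ⟨z₁⁻¹ * z₂, Zc.left ((Zc P).mul_mem ((Zc P).inv_mem hz₁) hz₂)⟩ : P) : Ω) = z₁⁻¹ * z₂
  of_fixed : ∀ (c : ↥(hat S P)) (hc : (c : Ω) ∈ centralizerIn S P),
    ((α ⟨(c : Ω)⁻¹ * (ρ c : ↥(hat S P)), Zc.left (good.cen c hc)⟩ : P) : Ω) = (c : Ω)⁻¹ * (ρ c : ↥(hat S P)) → ρ c = c

variable [Finite S] {p : ℕ} [hp : Fact p.Prime] {P : Subgroup Ω} {ρ : MulAut ↥(hat S P)} {α : MulAut P}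

theorem exists_lifted (hS : IsPGroup p S) (hF : F.IsSaturated p) (hE : E.IsNormalIn F p) (hα : IsP E p P α) :
    ∃ ρ, Lifted F P α ρ := by
  classical
  obtain ⟨P₁, χ, α₁, β₁, m, d⟩ := exists_data hS hF hE hα
  obtain ⟨ρ, hρ, hm⟩ := d.exists_lift
  have hPS : P ≤ S := hα.le.trans hE.1.2.2.2.1.1
  have hkey : ∀ {y : Ω} (_ : y ∈ centralizerIn S P) {ψ₁ ψ₂ : ↥(P ⊔ Subgroup.zpowers y) →* Ω}
    (_ : ψ₁ ∈ F.Hom (P ⊔ Subgroup.zpowers y)) (_ : ψ₂ ∈ F.Hom (P ⊔ Subgroup.zpowers y))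
    (_ : ∀ x : P, ψ₁ (Subgroup.inclusion le_sup_left x) = α x) (_ : ∀ x : P, ψ₂ (Subgroup.inclusion le_sup_left x) = α x)
    {z₁ z₂ : Ω} (hz₁ : z₁ ∈ Zc P) (hz₂ : z₂ ∈ Zc P)
    (_ : ψ₁ ⟨y, le_sup_right (a := P) (Subgroup.mem_zpowers y)⟩ = y * z₁)
    (_ : ψ₂ ⟨y, le_sup_right (a := P) (Subgroup.mem_zpowers y)⟩ = y * z₂),
    ((α ⟨z₁⁻¹ * z₂, Zc.left ((Zc P).mul_mem ((Zc P).inv_mem hz₁) hz₂)⟩ : P) : Ω) = z₁⁻¹ * z₂ :=
    fun hy _ _ h₁ h₂ ha₁ ha₂ _ _ hz₁ hz₂ hy₁ hy₂ => d.key hS hF hy h₁ h₂ ha₁ ha₂ hz₁ hz₂ hy₁ hy₂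
  have hoff : ∀ (c : ↥(hat S P)) (hc : (c : Ω) ∈ centralizerIn S P),
      ((α ⟨(c : Ω)⁻¹ * (ρ c : ↥(hat S P)), Zc.left (hρ.cen c hc)⟩ : P) : Ω) = (c : Ω)⁻¹ * (ρ c : ↥(hat S P)) → ρ c = c :=
    fun c hc h => hρ.eq_of_fixed hS hPS hm d.co c hc h
  refine ⟨ρ, hρ, fun c hc => ⟨fun h => ?_, ?_⟩, hkey, hoff⟩
  · refine ⟨resLift ρ (sup_zp_le hc), resLift_mem hPS hρ.mem _, fun x => hρ.res x, ?_⟩
    exact congrArg (fun t : ↥(hat S P) => (t : Ω)) h
  · rintro ⟨ψ, hψ, hψa, hψc⟩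
    refine hoff _ hc ?_
    have hfz := hρ.cen ⟨c, cen_le_hat P hc⟩ hc
    have h1 := hkey hc (resLift_mem hPS hρ.mem (sup_zp_le hc)) hψ (fun x => hρ.res x) hψa hfz ((Zc P).one_mem)
      (by show ((ρ ⟨c, cen_le_hat P hc⟩ : ↥(hat S P)) : Ω) = c * (c⁻¹ * ((ρ ⟨c, cen_le_hat P hc⟩ : ↥(hat S P)) : Ω)); group)
      (by rw [hψc, mul_one])
    have hzz := Zc.left hfz
    have e : (⟨((⟨c, cen_le_hat P hc⟩ : ↥(hat S P)) : Ω)⁻¹ * ((ρ ⟨c, cen_le_hat P hc⟩ : ↥(hat S P)) : Ω), hzz⟩ : P)⁻¹ =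
        ⟨(((⟨c, cen_le_hat P hc⟩ : ↥(hat S P)) : Ω)⁻¹ * ((ρ ⟨c, cen_le_hat P hc⟩ : ↥(hat S P)) : Ω))⁻¹ * 1, Zc.left
          ((Zc P).mul_mem ((Zc P).inv_mem hfz) ((Zc P).one_mem))⟩ := Subtype.ext (by simp)
    rw [← e, map_inv] at h1
    have h2 := congrArg (fun t : Ω => t⁻¹) h1
    simpa using h2

/-- If `θ` maps `P ⟨x⟩` to `P ⟨x'⟩`, fixing `P` and moving `x` to `x'`, then `ρ` fixes `x⁻¹ x'`. -/
theorem Lifted.fix_of_conj (hL : Lifted F P α ρ) (hPS : P ≤ S) {x x' : Ω} (hx : x ∈ centralizerIn S P)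
    (hx' : x' ∈ centralizerIn S P) {θ : ↥(P ⊔ Subgroup.zpowers x) →* Ω} (hθ : θ ∈ F.Hom (P ⊔ Subgroup.zpowers x))
    (hθP : ∀ a : P, θ (Subgroup.inclusion le_sup_left a) = a)
    (hθx : θ ⟨x, le_sup_right (a := P) (Subgroup.mem_zpowers x)⟩ = x') :
    ρ ⟨x⁻¹ * x', cen_le_hat P ((centralizerIn S P).mul_mem ((centralizerIn S P).inv_mem hx) hx')⟩ =
      ⟨x⁻¹ * x', cen_le_hat P ((centralizerIn S P).mul_mem ((centralizerIn S P).inv_mem hx) hx')⟩ := by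
  classical
  have hxU : x ∈ P ⊔ Subgroup.zpowers x := le_sup_right (a := P) (Subgroup.mem_zpowers x)
  have hxU' : x' ∈ P ⊔ Subgroup.zpowers x' := le_sup_right (a := P) (Subgroup.mem_zpowers x')
  have hr : θ.range = P ⊔ Subgroup.zpowers x' := by
    apply le_antisymm
    · rintro _ ⟨u, rfl⟩
      refine map_mem_sup_of_ext θ (fun z => ?_) (fun z => ?_) u
      · rw [hθP]
        exact le_sup_left (a := P) z.2
      · obtain ⟨z, n, hn⟩ := z
        have e : Subgroup.inclusion (le_sup_right : Subgroup.zpowers x ≤ P ⊔ Subgroup.zpowers x) ⟨z, n, hn⟩ =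
            (⟨x, hxU⟩ : ↥(P ⊔ Subgroup.zpowers x)) ^ n := by
          apply Subtype.ext
          simpa using hn.symm
        rw [e, map_zpow, hθx]
        exact Subgroup.zpow_mem _ hxU' n
    · refine sup_le (fun z hz => ⟨Subgroup.inclusion le_sup_left ⟨z, hz⟩, hθP ⟨z, hz⟩⟩) ?_
      rw [Subgroup.zpowers_le]
      exact ⟨⟨x, hxU⟩, hθx⟩
  obtain ⟨ι, hι, hιr, hι1, hι2⟩ := exists_inv hθ hr
  have hιv : ∀ z, ι z ∈ P ⊔ Subgroup.zpowers x := fun z => hιr.le ⟨z, rfl⟩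
  have hfxz := hL.good.cen ⟨x, cen_le_hat P hx⟩ hx
  have hfx'z := hL.good.cen ⟨x', cen_le_hat P hx'⟩ hx'
  set f : Ω := x⁻¹ * ((ρ ⟨x, cen_le_hat P hx⟩ : ↥(hat S P)) : Ω) with hf
  set f' : Ω := x'⁻¹ * ((ρ ⟨x', cen_le_hat P hx'⟩ : ↥(hat S P)) : Ω) with hf'
  have hρx : ((ρ ⟨x, cen_le_hat P hx⟩ : ↥(hat S P)) : Ω) = x * f := by rw [hf]; group
  have hρx' : ((ρ ⟨x', cen_le_hat P hx'⟩ : ↥(hat S P)) : Ω) = x' * f' := by rw [hf']; group
  -- `ρ` restricted to `P ⟨x⟩`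
  have hrr := resLift_mem (ρ := ρ) hPS hL.good.mem (sup_zp_le hx)
  have hrrv : ∀ u, resLift ρ (sup_zp_le hx) u ∈ P ⊔ Subgroup.zpowers x := by
    intro u
    refine map_mem_sup_of_ext _ (fun z => ?_) (fun z => ?_) u
    · have : resLift ρ (sup_zp_le hx) (Subgroup.inclusion le_sup_left z) = α z := hL.good.res z
      rw [this]
      exact le_sup_left (a := P) (α z).2
    · obtain ⟨z, n, hn⟩ := z
      have e : Subgroup.inclusion (le_sup_right : Subgroup.zpowers x ≤ P ⊔ Subgroup.zpowers x) ⟨z, n, hn⟩ =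
          (⟨x, hxU⟩ : ↥(P ⊔ Subgroup.zpowers x)) ^ n := by
        apply Subtype.ext
        simpa using hn.symm
      rw [e, map_zpow]
      have : resLift ρ (sup_zp_le hx) ⟨x, hxU⟩ = x * f := hρx
      rw [this]
      exact Subgroup.zpow_mem _ (Subgroup.mul_mem _ hxU (le_sup_left (a := P) (Zc.left hfxz))) n
  have hg := F.comp_mem hι hrr hιv
  set g : ↥(P ⊔ Subgroup.zpowers x') →* Ω := (resLift ρ (sup_zp_le hx)).comp (ι.codRestrict _ hιv) with hgd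
  have hgv : ∀ z, g z ∈ P ⊔ Subgroup.zpowers x := fun z => hrrv _
  have hψ₂ := F.comp_mem hg hθ hgv
  have hιP : ∀ a : P, ι.codRestrict _ hιv (Subgroup.inclusion le_sup_left a) = Subgroup.inclusion le_sup_left a := by
    intro a
    have h1 := hι1 (Subgroup.inclusion le_sup_left a) (by rw [hθP]; exact le_sup_left (a := P) a.2)
    apply Subtype.ext
    refine Eq.trans ?_ h1
    show ι _ = ι _
    congr 1
    exact Subtype.ext (hθP a).symm
  have hιx : ι.codRestrict _ hιv ⟨x', hxU'⟩ = ⟨x, hxU⟩ := by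
    have h1 := hι1 ⟨x, hxU⟩ (by rw [hθx]; exact hxU')
    apply Subtype.ext
    refine Eq.trans ?_ h1
    show ι _ = ι _
    congr 1
    exact Subtype.ext hθx.symm
  have hgP : ∀ a : P, g.codRestrict _ hgv (Subgroup.inclusion le_sup_left a) = Subgroup.inclusion le_sup_left (α a) := by
    intro a
    apply Subtype.ext
    show resLift ρ (sup_zp_le hx) (ι.codRestrict _ hιv (Subgroup.inclusion le_sup_left a)) = _
    rw [hιP]
    exact hL.good.res a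
  have hgx : g.codRestrict _ hgv ⟨x', hxU'⟩ = ⟨x, hxU⟩ * Subgroup.inclusion le_sup_left (⟨f, Zc.left hfxz⟩ : P) := by
    apply Subtype.ext
    show resLift ρ (sup_zp_le hx) (ι.codRestrict _ hιv ⟨x', hxU'⟩) = _
    rw [hιx]
    exact hρx
  have hkey := hL.key hx' (resLift_mem hPS hL.good.mem (sup_zp_le hx')) hψ₂ (fun a => hL.good.res a)
    (fun a => by
      show θ (g.codRestrict _ hgv (Subgroup.inclusion le_sup_left a)) = _
      rw [hgP, hθP]) hfx'z hfxz hρx'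
    (by
      show θ (g.codRestrict _ hgv ⟨x', hxU'⟩) = _
      rw [hgx, map_mul, hθx, hθP])
  -- the cocycle
  have hcc := (centralizerIn S P).mul_mem ((centralizerIn S P).inv_mem hx) hx'
  refine hL.of_fixed ⟨x⁻¹ * x', cen_le_hat P hcc⟩ hcc ?_
  have e0 : (⟨x⁻¹ * x', cen_le_hat P hcc⟩ : ↥(hat S P)) = (⟨x, cen_le_hat P hx⟩ : ↥(hat S P))⁻¹ * ⟨x', cen_le_hat P hx'⟩ :=
    Subtype.ext rfl
  have e1 : ((ρ ⟨x⁻¹ * x', cen_le_hat P hcc⟩ : ↥(hat S P)) : Ω) = (x * f)⁻¹ * (x' * f') := by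
    rw [e0, map_mul, map_inv]
    simp only [Subgroup.coe_mul, Subgroup.coe_inv]
    rw [hρx, hρx']
  have hfc : f * (x⁻¹ * x') = (x⁻¹ * x') * f := (comm_of_mem_cen hcc.2 (Zc.left hfxz))
  have e2 : (x⁻¹ * x')⁻¹ * ((ρ ⟨x⁻¹ * x', cen_le_hat P hcc⟩ : ↥(hat S P)) : Ω) = (f'⁻¹ * f)⁻¹ := by
    rw [e1]
    have e3 : (x * f)⁻¹ * (x' * f') = f⁻¹ * (x⁻¹ * x') * f' := by group
    rw [e3]
    have e4 : f⁻¹ * (x⁻¹ * x') = (x⁻¹ * x') * f⁻¹ := by
      have h5 := (Subgroup.mem_centralizer_iff.1 hcc.2) f⁻¹ ((Zc P).inv_mem hfxz).1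
      exact h5
    rw [e4]
    group
  have hzz : f'⁻¹ * f ∈ Zc P := (Zc P).mul_mem ((Zc P).inv_mem hfx'z) hfxz
  have e5 : (⟨((⟨x⁻¹ * x', cen_le_hat P hcc⟩ : ↥(hat S P)) : Ω)⁻¹ * ((ρ ⟨x⁻¹ * x', cen_le_hat P hcc⟩ : ↥(hat S P)) : Ω),
      Zc.left (hL.good.cen ⟨x⁻¹ * x', cen_le_hat P hcc⟩ hcc)⟩ : P) = (⟨f'⁻¹ * f, Zc.left hzz⟩ : P)⁻¹ := Subtype.ext e2
  rw [e5, map_inv, Subgroup.coe_inv, hkey]
  exact e2.symm

end Fix

section CC

variable [Finite S] {p : ℕ} [hp : Fact p.Prime] {P : Subgroup Ω}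

theorem cen_mono {P Q : Subgroup Ω} (h : P ≤ Q) : centralizerIn S Q ≤ centralizerIn S P :=
  inf_le_inf_left _ (Subgroup.centralizer_le h)

/-- **The centralizer of a normal subsystem** in `S`. -/
def CC (hS : IsPGroup p S) (hF : F.IsSaturated p) (hE : E.IsNormalIn F p) : Subgroup Ω where
  carrier := {c | c ∈ centralizerIn S T ∧ ∀ (P : Subgroup Ω) (α : MulAut P), IsP E p P α → IsFixing F P α c}
  mul_mem' := by
    rintro c d ⟨hc, hcf⟩ ⟨hd, hdf⟩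
    refine ⟨(centralizerIn S T).mul_mem hc hd, fun P α hα => ?_⟩
    obtain ⟨ρ, hL⟩ := exists_lifted hS hF hE hα
    have h1 := cen_mono hα.le hc
    have h2 := cen_mono hα.le hd
    have h3 := (centralizerIn S P).mul_mem h1 h2
    refine (hL.fix _ h3).1 ?_
    have h4 := (hL.fix _ h1).2 (hcf P α hα)
    have h5 := (hL.fix _ h2).2 (hdf P α hα)
    have e : (⟨c * d, cen_le_hat P h3⟩ : ↥(hat S P)) = ⟨c, cen_le_hat P h1⟩ * ⟨d, cen_le_hat P h2⟩ := Subtype.ext rfl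
    rw [e, map_mul, h4, h5]
  one_mem' := by
    refine ⟨(centralizerIn S T).one_mem, fun P α hα => ?_⟩
    obtain ⟨ρ, hL⟩ := exists_lifted hS hF hE hα
    refine (hL.fix 1 (centralizerIn S P).one_mem).1 ?_
    exact map_one ρ
  inv_mem' := by
    rintro c ⟨hc, hcf⟩
    refine ⟨(centralizerIn S T).inv_mem hc, fun P α hα => ?_⟩
    obtain ⟨ρ, hL⟩ := exists_lifted hS hF hE hα
    have h1 := cen_mono hα.le hc
    have h3 := (centralizerIn S P).inv_mem h1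
    refine (hL.fix _ h3).1 ?_
    have h4 := (hL.fix _ h1).2 (hcf P α hα)
    have e : (⟨c⁻¹, cen_le_hat P h3⟩ : ↥(hat S P)) = (⟨c, cen_le_hat P h1⟩ : ↥(hat S P))⁻¹ := Subtype.ext rfl
    rw [e, map_inv, h4]

variable (hS : IsPGroup p S) (hF : F.IsSaturated p) (hE : E.IsNormalIn F p)

theorem mem_CC {c : Ω} : c ∈ CC hS hF hE ↔ c ∈ centralizerIn S T ∧
    ∀ (P : Subgroup Ω) (α : MulAut P), IsP E p P α → IsFixing F P α c := Iff.rfl

theorem CC_le : CC hS hF hE ≤ centralizerIn S T := fun _ h => h.1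

theorem CC_le_S : CC hS hF hE ≤ S := (CC_le hS hF hE).trans inf_le_left

include hS hF hE in
/-- A map of `F` fixing `P`, if `c ∈ CC`. -/
theorem CC_comm {t q : Ω} (ht : t ∈ T) (hq : q ∈ CC hS hF hE) : t * q = q * t :=
  comm_of_mem_cen (CC_le hS hF hE hq).2 ht

/-- **Maximality**. -/
theorem le_CC {Y : Subgroup Ω} (hY : Y ≤ centralizerIn S T) (hEY : ∀ P : Subgroup Ω, E.Hom P ⊆ F.centralizerHom Y P) :
    Y ≤ CC hS hF hE := by
  intro y hy
  refine ⟨hY hy, fun P α hα => ?_⟩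
  have hαE : α ∈ E.autGroup P := by
    rcases hα.1 with h | h
    · exact KK_le_autGroup E p P h.2
    · exact h.2
  obtain ⟨-, -, -, ψ, hψ, hψa, hψb⟩ := hEY P (autGroup_mem_hom hα.le hαE)
  have hle : P ⊔ Subgroup.zpowers y ≤ P ⊔ Y := sup_le_sup_left ((Subgroup.zpowers_le).2 hy) _
  refine ⟨_, res_mem hψ hle, fun x => hψa x, hψb ⟨y, hy⟩⟩

/-- The system `E ∩ C_F(CC)`. -/
abbrev DD : FusionSystem T :=
  liftSys E F hE.1.2.2.1 (CC hS hF hE) ⊥ (CC_le_S hS hF hE) bot_le (fun t ht q hq => by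
    have h1 := CC_comm hS hF hE ht hq
    rw [h1]
    simp)

/-- `IsP`-automorphisms are in `DD`. -/
theorem mem_DD {α : MulAut P} (hα : IsP E p P α) : α ∈ (DD hS hF hE).autGroup P := by
  classical
  have hPT := hα.le
  have hTS : T ≤ S := hE.1.2.2.2.1.1
  have hPS : P ≤ S := hPT.trans hTS
  have hαE : α ∈ E.autGroup P := by
    rcases hα.1 with h | h
    · exact KK_le_autGroup E p P h.2
    · exact h.2
  obtain ⟨ρ, hL⟩ := exists_lifted hS hF hE hα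
  have hle : CC hS hF hE ≤ centralizerIn S P := (CC_le hS hF hE).trans (cen_mono hPT)
  have hU : P ⊔ CC hS hF hE ≤ hat S P := sup_le (le_hat P) (hle.trans (cen_le_hat P))
  apply mem_autGroup_of_mem
  refine ⟨autGroup_mem_hom hPT hαE, resLift ρ hU, resLift_mem hPS hL.good.mem hU, fun x => hL.good.res x, fun q => ?_⟩
  have h1 := (hL.fix q (hle q.2)).2 (q.2.2 P α hα)
  have h2 : resLift ρ hU (Subgroup.inclusion le_sup_right q) = q := congrArg (fun t : ↥(hat S P) => (t : Ω)) h1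
  rw [h2]
  simp

/-- Generation of a saturated system on centric fully automized subgroups. -/
theorem le_of_centric' {U : Subgroup Ω} [Finite U] {F' D : FusionSystem U} (hU : IsPGroup p U) (hF' : F'.IsSaturated p)
    (h1 : ∀ R : Subgroup Ω, F'.IsCentric R → F'.IsFullyAutomized p R → KK F' p R ≤ D.autGroup R)
    (h2 : F'.autGroup U ≤ D.autGroup U) : F' ≤ D := by
  have key : ∀ n : ℕ, ∀ R : Subgroup Ω, F'.IsCentric R → Nat.card U - Nat.card R = n →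
      ∀ θ : R →* Ω, θ ∈ F'.Hom R → θ ∈ D.Hom R := by
    intro n
    induction n using Nat.strong_induction_on with
    | _ n ih =>
      intro R hRc hn φ hφ
      obtain ⟨Q, hRQ, hQa, hQr⟩ := hF' R hRc.1
      have hQc := Cfsg.Agent.Lib.Fusion.Subsystem.isCentric_of_isConj hRc hRQ
      have hIH : ∀ R' : Subgroup Ω, F'.IsCentric R' → Nat.card R < Nat.card R' → ∀ θ : R' →* Ω,
          θ ∈ F'.Hom R' → θ ∈ D.Hom R' := by
        intro R' hR' hlt θ hθ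
        have hc : Nat.card R' ≤ Nat.card U := Subgroup.card_le_of_le hR'.1
        exact ih (Nat.card U - Nat.card R') (by omega) R' hR' rfl θ hθ
      refine Cfsg.Agent.Lib.Fusion.PPrime.hom_mem_of_larger_centric hU hQa hQr hRQ hRc hIH ?_ φ hφ
      by_cases hQS : Q = U
      · subst hQS
        exact h2
      refine Cfsg.Agent.Lib.Fusion.PPrime.autGroup_le_of_good hQa hQr (h1 Q hQc hQa) (fun θ hθ => hIH _ ?_ ?_ θ hθ)
      · exact Cfsg.Agent.Lib.Fusion.Centric.isCentric_of_le hQc (le_normalizerIn hQc.1) normalizerIn_le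
      · rw [Basic.IsConj.card_eq hRQ]
        have hlt := Cfsg.Agent.Lib.Fusion.Alperin.lt_normalizerIn hU hQc.1 hQS
        have hfin : Finite (normalizerIn U Q) := finite_of_le normalizerIn_le
        by_contra hcon
        exact hlt.ne (Subgroup.eq_of_le_of_card_ge hlt.le (not_lt.1 hcon))
  refine Cfsg.Agent.Lib.Fusion.Alperin.le_of_essential hU hF' ?_
  rintro P (rfl | he) α hα
  · exact h2 hα
  · exact mem_autGroup_of_mem (key _ P he.1 rfl _ (autGroup_mem_hom he.1.1 hα))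

/-- `KK(E, R)` lies in `DD`. -/
theorem KK_le_DD {R : Subgroup Ω} (hRc : E.IsCentric R) (hRa : E.IsFullyAutomized p R) :
    KK E p R ≤ (DD hS hF hE).autGroup R := by
  classical
  obtain ⟨hRT, A, hA⟩ := hRa
  have hTS : T ≤ S := hE.1.2.2.2.1.1
  haveI : Finite T := finite_of_le hTS
  haveI : Finite (E.autGroup R) := finite_autGroup hRT
  let K : Subgroup (E.autGroup R) := Subgroup.closure {α : E.autGroup R | ∃ k : ℕ, orderOf α = p ^ k}
  have hRK : (A : Subgroup (E.autGroup R)) ≤ K := by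
    intro x hx
    refine Subgroup.subset_closure ?_
    obtain ⟨k, hk⟩ := (IsPGroup.iff_orderOf.1 A.isPGroup') ⟨x, hx⟩
    exact ⟨k, by rw [← Subgroup.orderOf_mk x hx]; exact hk⟩
  let P' : Sylow p K := A.subtype hRK
  have htop := eq_top_of_sylow_pprime P'
    (((DD hS hF hE).autGroup R).comap ((E.autGroup R).subtype.comp K.subtype)) (by
      intro a ha
      have ha' : ((a : E.autGroup R)) ∈ (A : Subgroup (E.autGroup R)) := ha
      rw [hA, Subgroup.mem_subgroupOf] at ha'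
      exact autInducedBy_le_autGroup hRT ha') (fun g hg => by
        have hord : orderOf ((g : E.autGroup R) : MulAut R) = orderOf g := by
          rw [Subgroup.orderOf_coe, Subgroup.orderOf_coe]
        refine mem_DD hS hF hE (P := R) ⟨Or.inl ⟨hRc, ?_⟩, hord ▸ hg⟩
        exact ⟨_, g.2, rfl⟩)
  rintro _ ⟨k, hk, rfl⟩
  have h1 : (⟨k, hk⟩ : K) ∈ ((DD hS hF hE).autGroup R).comap ((E.autGroup R).subtype.comp K.subtype) := by
    rw [htop]
    trivial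
  exact h1

/-- `E ≤ E ∩ C_F(CC)`. -/
theorem E_le_DD : E ≤ DD hS hF hE := by
  classical
  have hEs := hE.1.1
  have hTS : T ≤ S := hE.1.2.2.2.1.1
  haveI : Finite T := finite_of_le hTS
  have hTp : IsPGroup p T := isPGroup_of_le hS hTS
  refine le_of_centric' hTp hEs (fun R hRc hRa => KK_le_DD hS hF hE hRc hRa) ?_
  have hfa := (fullyNormalized_props hTp hEs (isFullyNormalized_top E)).2
  refine autGroup_le_of_pprime hfa (fun α hα hco => ?_)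
  exact mem_DD hS hF hE (P := T) ⟨Or.inr ⟨rfl, hα⟩, hco⟩

/-- **`E` centralizes `CC`**. -/
theorem cen_CC (P : Subgroup Ω) : E.Hom P ⊆ F.centralizerHom (CC hS hF hE) P := by
  intro φ hφ
  have hTS : T ≤ S := hE.1.2.2.2.1.1
  obtain ⟨-, ψ, hψ, hψa, hψb⟩ := E_le_DD hS hF hE P hφ
  have hPT : P ≤ T := source_le hφ
  have hTC : T ≤ centralizerIn S (CC hS hF hE) := fun t ht =>
    ⟨hTS ht, Subgroup.mem_centralizer_iff.2 (fun q hq => (CC_comm hS hF hE ht hq).symm)⟩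
  refine ⟨hE.1.2.2.1 P hφ, hPT.trans hTC, fun x => hTC (map_mem_S hφ x), ψ, hψ, hψa, fun q => ?_⟩
  have h1 := hψb q
  have h2 : (q : Ω)⁻¹ * ψ (Subgroup.inclusion le_sup_right q) = 1 := h1
  exact (inv_mul_eq_one.1 h2).symm

/-- **The focal subgroup of the centralizer system lies in `CC`**. -/
theorem focal_le_CC {D : FusionSystem (centralizerIn S T)} (hD : F.IsCentralizerSystem T D) :
    D.focalSubgroup ≤ CC hS hF hE := by
  rw [FusionSystem.focalSubgroup, Subgroup.closure_le]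
  rintro _ ⟨Q, ψ, x, hψ, rfl⟩
  rw [hD Q] at hψ
  obtain ⟨hψF, hQC, hψv, ψ', hψ', hψ'a, hψ'T⟩ := hψ
  have hxc := hQC x.2
  have hx'c := hψv x
  refine ⟨(centralizerIn S T).mul_mem ((centralizerIn S T).inv_mem hxc) hx'c, fun P α hα => ?_⟩
  obtain ⟨ρ, hL⟩ := exists_lifted hS hF hE hα
  have hPT : P ≤ T := hα.le
  have hPS : P ≤ S := hPT.trans hE.1.2.2.2.1.1
  have hxP := cen_mono hPT hxc
  have hx'P := cen_mono hPT hx'c
  have hle : P ⊔ Subgroup.zpowers (x : Ω) ≤ Q ⊔ T :=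
    sup_le (hPT.trans le_sup_right) (((Subgroup.zpowers_le).2 x.2).trans le_sup_left)
  have h1 := hL.fix_of_conj hPS hxP hx'P (res_mem hψ' hle) (fun a => hψ'T ⟨a, hPT a.2⟩) (hψ'a x)
  exact (hL.fix _ ((centralizerIn S P).mul_mem ((centralizerIn S P).inv_mem hxP) hx'P)).1 h1

end CC


end Cfsg.Agent.Lib.Fusion.GoodLift
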