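/-
Good lifts, part 4: invariance of `CC`; `CC` is normal in `S`, and maps defined on `T ⊔ X`, `X ≤ CC`, preserve `CC`.
-/
import Mathlib
import Cfsg.Agent.Lib.Fusion.GoodLift3

set_option autoImplicit false
set_option linter.style.haveILetI false

namespace Cfsg.Agent.Lib.Fusion.GoodLift

open Cfsg Cfsg.FusionSystem Cfsg.Agent.Lib.Fusion.Basic Cfsg.Agent.Lib.Fusion.Saturated
open Cfsg.Agent.Lib.Fusion.Saturated2 (autOfHom autOfHom_mem)
open Cfsg.Agent.Lib.Fusion.LocalSystems (map_mem_sup_of_ext range_ext_eq centralizerSystem)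
open Cfsg.Agent.Lib.Fusion.Joins (exists_hom_of_eq)
open Cfsg.Agent.Lib.Fusion.LiftSys
open Cfsg.Agent.Lib.Fusion.NormalPair
open Cfsg.Agent.Lib.Fusion.NormalCR
open Cfsg.Agent.Lib.Fusion.PPrime (KK KK_le_autGroup KK_le_iff mem_KK)

variable {Ω : Type*} [Group Ω] {S T : Subgroup Ω} {F : FusionSystem S} {E : FusionSystem T}

section Transport

variable [Finite S] {p : ℕ} [hp : Fact p.Prime] {P P₁ : Subgroup Ω}

/-- Transport of `KK(E, P)` along a map of `F`. -/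
theorem KK_transport (hE : E.IsInvariantIn F) (hPT : P ≤ T) {χ : P →* Ω} (hχ : χ ∈ F.Hom P) (e : P ≃* P₁)
    (he : ∀ x : P, ((e x : P₁) : Ω) = χ x) {α : MulAut P} (hα : α ∈ KK E p P) : MulAut.congr e α ∈ KK E p P₁ := by
  have hle : KK E p P ≤ (KK E p P₁).comap (MulAut.congr e).toMonoidHom := by
    refine KK_le_iff.2 (fun γ hγ hk => ?_)
    refine mem_KK (congr_mem_autGroup hE hPT hχ e he hγ) ?_
    obtain ⟨k, hk⟩ := hk
    exact ⟨k, by rw [← hk]; exact orderOf_injective (MulAut.congr e).toMonoidHom (MulEquiv.injective _) γ⟩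
  exact hle hα

/-- Being `E`-centric is invariant under maps of `F`. -/
theorem isCentric_transport (hE : E.IsInvariantIn F) (hc : E.IsCentric P) {χ : P →* Ω} (hχ : χ ∈ F.Hom P)
    (hr : χ.range = P₁) : E.IsCentric P₁ := by
  have hTsc := hE.2.1
  have hPT : P ≤ T := hc.1
  have hP₁T : P₁ ≤ T := by
    rw [← hr]
    rintro _ ⟨x, rfl⟩
    exact hTsc.2 P hPT χ hχ x
  refine ⟨hP₁T, fun Q hQ => ?_⟩
  obtain ⟨φ, hφ, hφr⟩ := hQ
  have hχv : ∀ x, χ x ∈ P₁ := fun x => hr ▸ ⟨x, rfl⟩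
  have hcomp := F.comp_mem hχ (hE.1 P₁ hφ) hχv
  refine centric_transport hE hc hcomp ?_
  rw [← hφr]
  ext y
  constructor
  · rintro ⟨x, rfl⟩
    exact ⟨_, rfl⟩
  · rintro ⟨x, rfl⟩
    have hx : (x : Ω) ∈ χ.range := by rw [hr]; exact x.2
    obtain ⟨u, hu⟩ := hx
    refine ⟨u, ?_⟩
    show φ (χ.codRestrict P₁ hχv u) = _
    congr 1
    exact Subtype.ext hu

/-- Transport of `IsP` along a map of `F`. -/
theorem IsP.transport (hE : E.IsInvariantIn F) {α : MulAut P} (hα : IsP E p P α) {χ : P →* Ω} (hχ : χ ∈ F.Hom P)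
    (e : P ≃* P₁) (he : ∀ x : P, ((e x : P₁) : Ω) = χ x) : IsP E p P₁ (MulAut.congr e α) := by
  have hPT := hα.le
  have hord : orderOf (MulAut.congr e α) = orderOf α :=
    orderOf_injective (MulAut.congr e).toMonoidHom (MulEquiv.injective _) α
  have hTS : T ≤ S := hE.2.1.1
  refine ⟨?_, by rw [hord]; exact hα.2⟩
  have hr : χ.range = P₁ := by
    ext y
    constructor
    · rintro ⟨x, rfl⟩
      rw [← he]
      exact (e x).2
    · intro hy
      refine ⟨e.symm ⟨y, hy⟩, ?_⟩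
      rw [← he]
      simp
  rcases hα.1 with ⟨hc, hK⟩ | ⟨hPe, hαE⟩
  · exact Or.inl ⟨isCentric_transport hE hc hχ hr, KK_transport hE hPT hχ e he hK⟩
  · subst hPe
    refine Or.inr ⟨?_, congr_mem_autGroup hE le_rfl hχ e he hαE⟩
    haveI : Finite P := finite_of_le hTS
    have hP₁T : P₁ ≤ P := by
      rw [← hr]
      rintro _ ⟨x, rfl⟩
      exact hE.2.1.2 P le_rfl χ hχ x
    have : χ.range = P := range_eq_of_card hχ (fun x => hE.2.1.2 P le_rfl χ hχ x) le_rfl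
    rw [← hr, this]

/-- Transport of `IsFixing` along a map of `F`. -/
theorem IsFixing.transport {α : MulAut P} {c c₁ : Ω} (h : IsFixing F P α c) {ψ : ↥(P ⊔ Subgroup.zpowers c) →* Ω}
    (hψ : ψ ∈ F.Hom (P ⊔ Subgroup.zpowers c)) (e : P ≃* P₁)
    (he : ∀ x : P, ((e x : P₁) : Ω) = ψ (Subgroup.inclusion le_sup_left x))
    (hc : ψ ⟨c, le_sup_right (a := P) (Subgroup.mem_zpowers c)⟩ = c₁) : IsFixing F P₁ (MulAut.congr e α) c₁ := by
  classical
  obtain ⟨ω, hω, hωa, hωc⟩ := h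
  have hcU : c ∈ P ⊔ Subgroup.zpowers c := le_sup_right (a := P) (Subgroup.mem_zpowers c)
  have hcU₁ : c₁ ∈ P₁ ⊔ Subgroup.zpowers c₁ := le_sup_right (a := P₁) (Subgroup.mem_zpowers c₁)
  have hr : ψ.range = P₁ ⊔ Subgroup.zpowers c₁ := by
    apply le_antisymm
    · rintro _ ⟨u, rfl⟩
      refine map_mem_sup_of_ext ψ (fun z => ?_) (fun z => ?_) u
      · rw [← he]
        exact le_sup_left (a := P₁) (e z).2
      · obtain ⟨z, n, hn⟩ := z
        have e' : Subgroup.inclusion (le_sup_right : Subgroup.zpowers c ≤ P ⊔ Subgroup.zpowers c) ⟨z, n, hn⟩ =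
            (⟨c, hcU⟩ : ↥(P ⊔ Subgroup.zpowers c)) ^ n := by
          apply Subtype.ext
          simpa using hn.symm
        rw [e', map_zpow, hc]
        exact Subgroup.zpow_mem _ hcU₁ n
    · refine sup_le (fun z hz => ?_) ?_
      · refine ⟨Subgroup.inclusion le_sup_left (e.symm ⟨z, hz⟩), ?_⟩
        rw [← he]
        simp
      · rw [Subgroup.zpowers_le]
        exact ⟨⟨c, hcU⟩, hc⟩
  obtain ⟨ι, hι, hιr, hι1, hι2⟩ := exists_inv hψ hr
  have hιv : ∀ z, ι z ∈ P ⊔ Subgroup.zpowers c := fun z => hιr.le ⟨z, rfl⟩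
  have hωv : ∀ u, ω u ∈ P ⊔ Subgroup.zpowers c := by
    intro u
    refine map_mem_sup_of_ext ω (fun z => ?_) (fun z => ?_) u
    · rw [hωa]
      exact le_sup_left (a := P) (α z).2
    · obtain ⟨z, n, hn⟩ := z
      have e' : Subgroup.inclusion (le_sup_right : Subgroup.zpowers c ≤ P ⊔ Subgroup.zpowers c) ⟨z, n, hn⟩ =
          (⟨c, hcU⟩ : ↥(P ⊔ Subgroup.zpowers c)) ^ n := by
        apply Subtype.ext
        simpa using hn.symm
      rw [e', map_zpow, hωc]
      exact Subgroup.zpow_mem _ hcU n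
  have hg := F.comp_mem hι hω hιv
  set g : ↥(P₁ ⊔ Subgroup.zpowers c₁) →* Ω := ω.comp (ι.codRestrict _ hιv) with hgd
  have hgv : ∀ z, g z ∈ P ⊔ Subgroup.zpowers c := fun z => hωv _
  have hψ₂ := F.comp_mem hg hψ hgv
  have hιP : ∀ a : P₁, ι.codRestrict _ hιv (Subgroup.inclusion le_sup_left a) =
      Subgroup.inclusion le_sup_left (e.symm a) := by
    intro a
    have hm : ψ (Subgroup.inclusion le_sup_left (e.symm a)) ∈ P₁ ⊔ Subgroup.zpowers c₁ := by
      rw [← he]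
      exact le_sup_left (a := P₁) (e _).2
    have h1 := hι1 (Subgroup.inclusion le_sup_left (e.symm a)) hm
    apply Subtype.ext
    refine Eq.trans ?_ h1
    show ι _ = ι _
    congr 1
    apply Subtype.ext
    show (a : Ω) = ψ (Subgroup.inclusion le_sup_left (e.symm a))
    rw [← he]
    simp
  have hιx : ι.codRestrict _ hιv ⟨c₁, hcU₁⟩ = ⟨c, hcU⟩ := by
    have h1 := hι1 ⟨c, hcU⟩ (by rw [hc]; exact hcU₁)
    apply Subtype.ext
    refine Eq.trans ?_ h1
    show ι _ = ι _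
    congr 1
    exact Subtype.ext hc.symm
  refine ⟨_, hψ₂, fun x => ?_, ?_⟩
  · show ψ (g.codRestrict _ hgv (Subgroup.inclusion le_sup_left x)) = _
    have e1 : g.codRestrict _ hgv (Subgroup.inclusion le_sup_left x) =
        Subgroup.inclusion le_sup_left (α (e.symm x)) := by
      apply Subtype.ext
      show ω (ι.codRestrict _ hιv (Subgroup.inclusion le_sup_left x)) = _
      rw [hιP, hωa]
      rfl
    rw [e1, ← he]
    simp [MulAut.congr_apply]
  · show ψ (g.codRestrict _ hgv ⟨c₁, hcU₁⟩) = _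
    have e1 : g.codRestrict _ hgv ⟨c₁, hcU₁⟩ = ⟨c, hcU⟩ := by
      apply Subtype.ext
      show ω (ι.codRestrict _ hιv ⟨c₁, hcU₁⟩) = _
      rw [hιx, hωc]
    rw [e1, hc]

end Transport

section Inv

variable [Finite S] {p : ℕ} [hp : Fact p.Prime]
variable (hS : IsPGroup p S) (hF : F.IsSaturated p) (hE : E.IsNormalIn F p)

/-- **Invariance of `CC`**: maps of `F` defined on `T ⊔ X`, `X ≤ CC`, send `X` into `CC`. -/
theorem map_mem_CC {X : Subgroup Ω} (hX : X ≤ CC hS hF hE) {ψ : ↥(T ⊔ X) →* Ω} (hψ : ψ ∈ F.Hom (T ⊔ X)) (x : X) :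
    ψ (Subgroup.inclusion le_sup_right x) ∈ CC hS hF hE := by
  classical
  have hinv := hE.1.2.2
  have hTsc := hinv.2.1
  have hTS : T ≤ S := hTsc.1
  haveI : Finite T := finite_of_le hTS
  have hψT := res_mem hψ (le_sup_left : T ≤ T ⊔ X)
  have hψv : ∀ t : T, ψ (Subgroup.inclusion le_sup_left t) ∈ T := fun t => hTsc.2 T le_rfl _ hψT t
  have hinj := F.injective_of_mem hψ
  -- the automorphism of `T`
  have hβv : ∀ t : T, (ψ.comp (Subgroup.inclusion (le_sup_left : T ≤ T ⊔ X))) t ∈ T := hψv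
  let β : MulAut T := autOfHom _ (F.injective_of_mem hψT) hβv
  have hβa : ∀ t : T, ((β t : T) : Ω) = ψ (Subgroup.inclusion le_sup_left t) := fun _ => rfl
  have hβF : β ∈ F.autGroup T := autOfHom_mem hψT hβv
  have hβinvF : (β⁻¹ : MulAut T) ∈ F.autGroup T := Subgroup.inv_mem _ hβF
  have hxc := CC_le hS hF hE (hX x.2)
  set x' : Ω := ψ (Subgroup.inclusion le_sup_right x) with hx'
  have hxt : ∀ t : T, (t : Ω) * x = x * t := fun t => comm_of_mem_cen hxc.2 t.2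
  refine ⟨⟨map_mem_S hψ _, Subgroup.mem_centralizer_iff.2 (fun t ht => ?_)⟩, fun P α hα => ?_⟩
  · obtain ⟨t₀, ht₀⟩ := β.surjective ⟨t, ht⟩
    have ht₁ : ψ (Subgroup.inclusion le_sup_left t₀) = t := by
      rw [← hβa, ht₀]
    rw [← ht₁, hx', ← map_mul, ← map_mul]
    congr 1
    exact Subtype.ext (hxt t₀)
  -- transport `(P, α)` back by `β⁻¹`
  have hPT := hα.le
  have hPS : P ≤ S := hPT.trans hTS
  have hχ := res_mem (autGroup_mem_hom hTS hβinvF) hPT
  set χ : P →* Ω := (T.subtype.comp (β⁻¹ : MulAut T).toMonoidHom).comp (Subgroup.inclusion hPT) with hχd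
  let e₀ : P ≃* χ.range := isoOfRange (F.injective_of_mem hχ) rfl
  have he₀ : ∀ a : P, ((e₀ a : χ.range) : Ω) = χ a := fun _ => rfl
  have hα₀ : IsP E p χ.range (MulAut.congr e₀ α) := hα.transport hinv hχ e₀ he₀
  have hfix := (hX x.2).2 χ.range _ hα₀
  have hP₀T : χ.range ≤ T := by
    rintro _ ⟨a, rfl⟩
    exact ((β⁻¹ : MulAut T) (Subgroup.inclusion hPT a)).2
  have hle : χ.range ⊔ Subgroup.zpowers (x : Ω) ≤ T ⊔ X :=
    sup_le (hP₀T.trans le_sup_left) (((Subgroup.zpowers_le).2 x.2).trans le_sup_right)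
  have h1 := hfix.transport (res_mem hψ hle) e₀.symm (fun y => by
    obtain ⟨a, rfl⟩ := e₀.surjective y
    have e1 : (Subgroup.inclusion hle) (Subgroup.inclusion le_sup_left (e₀ a)) =
        Subgroup.inclusion le_sup_left (((β⁻¹ : MulAut T) (Subgroup.inclusion hPT a))) := Subtype.ext rfl
    show ((e₀.symm (e₀ a) : P) : Ω) = ψ ((Subgroup.inclusion hle) (Subgroup.inclusion le_sup_left (e₀ a)))
    rw [e1, ← hβa]
    simp) (c₁ := x') rfl
  have e2 : MulAut.congr e₀.symm (MulAut.congr e₀ α) = α := by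
    ext a
    simp [MulAut.congr_apply]
  rwa [e2] at h1

/-- `CC` is normal in `S`. -/
theorem conj_mem_CC {s x : Ω} (hs : s ∈ S) (hx : x ∈ CC hS hF hE) : s * x * s⁻¹ ∈ CC hS hF hE := by
  have hTS : T ≤ S := hE.1.2.2.2.1.1
  have h1 := map_mem_CC hS hF hE le_rfl (F.conj_mem (sup_le hTS (CC_le_S hS hF hE)) hs) ⟨x, hx⟩
  exact h1

/-- A map of `F` on `Q ≥ T` preserves `CC`. -/
theorem apply_mem_CC_of_le {Q : Subgroup Ω} (hTQ : T ≤ Q) {φ : Q →* Ω} (hφ : φ ∈ F.Hom Q) (x : Q)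
    (hx : (x : Ω) ∈ CC hS hF hE) : φ x ∈ CC hS hF hE := by
  have hle : T ⊔ (Q ⊓ CC hS hF hE) ≤ Q := sup_le hTQ inf_le_left
  exact map_mem_CC hS hF hE inf_le_right (res_mem hφ hle) ⟨x, x.2, hx⟩

end Inv

end Cfsg.Agent.Lib.Fusion.GoodLift
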