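/-
Good lifts, part 5: `CC` is strongly closed.
-/
import Mathlib
import Cfsg.Agent.Lib.Fusion.GoodLift4

set_option autoImplicit false
set_option linter.style.haveILetI false

namespace Cfsg.Agent.Lib.Fusion.GoodLift

open Cfsg Cfsg.FusionSystem Cfsg.Agent.Lib.Fusion.Basic Cfsg.Agent.Lib.Fusion.Saturated
open Cfsg.Agent.Lib.Fusion.Saturated2 (autOfHom autOfHom_mem)
open Cfsg.Agent.Lib.Fusion.LocalSystems (map_mem_sup_of_ext range_ext_eq centralizerSystem)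
open Cfsg.Agent.Lib.Fusion.Joins (exists_hom_of_eq)
open Cfsg.Agent.Lib.Fusion.LiftSys
open Cfsg.Agent.Lib.Fusion.NormalPair
open Cfsg.Agent.Lib.Fusion.NormalCR
open Cfsg.Agent.Lib.Fusion.PPrime (KK KK_le_autGroup KK_le_iff mem_KK)
open Cfsg.Agent.Lib.Fusion.Centric (isCentric_of_le)
open Cfsg.Agent.Lib.Fusion.Subsystem (isCentric_of_isConj)

variable {Ω : Type*} [Group Ω] {S T : Subgroup Ω} {F : FusionSystem S} {E : FusionSystem T}

section General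

/-- The maps of `F` preserving a subgroup `W` normal in `S`. -/
def presSys (F : FusionSystem S) (W : Subgroup Ω) (hW : ∀ s ∈ S, ∀ x ∈ W, s * x * s⁻¹ ∈ W) : FusionSystem S where
  Hom P := {φ | φ ∈ F.Hom P ∧ ∀ x : P, (x : Ω) ∈ W ↔ φ x ∈ W}
  le_of_mem := fun h => F.le_of_mem h.1
  injective_of_mem := fun h => F.injective_of_mem h.1
  conj_mem := by
    intro P g hP hg
    refine ⟨F.conj_mem hP hg, fun x => ⟨fun hx => hW g hg x hx, fun hx => ?_⟩⟩
    have h1 := hW g⁻¹ (S.inv_mem hg) _ hx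
    have e : g⁻¹ * (conjHom P g x) * g⁻¹⁻¹ = x := by
      show g⁻¹ * (g * x * g⁻¹) * g⁻¹⁻¹ = x
      group
    rwa [e] at h1
  comp_mem := by
    rintro P Q φ ψ ⟨hφ, h1⟩ ⟨hψ, h2⟩ h
    exact ⟨F.comp_mem hφ hψ h, fun x => (h1 x).trans (h2 ⟨_, h x⟩)⟩
  inv_mem := by
    rintro P φ ⟨hφ, h1⟩
    obtain ⟨χ, hχ, hχa⟩ := F.inv_mem hφ
    refine ⟨χ, ⟨hχ, ?_⟩, hχa⟩
    rintro ⟨_, x, rfl⟩
    have e := hχa x
    show φ x ∈ W ↔ χ ⟨φ x, _⟩ ∈ W
    rw [e]
    exact (h1 x).symm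

variable [Finite S] {p : ℕ} [hp : Fact p.Prime]

/-- Generation on fully normalized centric subgroups, with an induction hypothesis. -/
theorem le_of_fn_centric (hS : IsPGroup p S) (hF : F.IsSaturated p) {D : FusionSystem S}
    (h : ∀ Q : Subgroup Ω, F.IsFullyNormalized Q → F.IsCentric Q →
      (∀ R' : Subgroup Ω, F.IsCentric R' → Nat.card Q < Nat.card R' → ∀ θ : R' →* Ω, θ ∈ F.Hom R' → θ ∈ D.Hom R') →
      F.autGroup Q ≤ D.autGroup Q) : F ≤ D := by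
  have key : ∀ n : ℕ, ∀ R : Subgroup Ω, F.IsCentric R → Nat.card S - Nat.card R = n →
      ∀ θ : R →* Ω, θ ∈ F.Hom R → θ ∈ D.Hom R := by
    intro n
    induction n using Nat.strong_induction_on with
    | _ n ih =>
      intro R hRc hn φ hφ
      obtain ⟨Q, hRQ, hQn⟩ := exists_fullyNormalized (F := F) hRc.1
      have hQc := isCentric_of_isConj hRc hRQ
      have hQa := (fullyNormalized_props hS hF hQn).2
      have hQr := fullyNormalized_receptive hS hF hQn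
      have hIH : ∀ R' : Subgroup Ω, F.IsCentric R' → Nat.card R < Nat.card R' → ∀ θ : R' →* Ω,
          θ ∈ F.Hom R' → θ ∈ D.Hom R' := by
        intro R' hR' hlt θ hθ
        have hc : Nat.card R' ≤ Nat.card S := Subgroup.card_le_of_le hR'.1
        exact ih (Nat.card S - Nat.card R') (by omega) R' hR' rfl θ hθ
      refine Cfsg.Agent.Lib.Fusion.PPrime.hom_mem_of_larger_centric hS hQa hQr hRQ hRc hIH ?_ φ hφ
      refine h Q hQn hQc (fun R' hR' hlt θ hθ => hIH R' hR' ?_ θ hθ)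
      rwa [Basic.IsConj.card_eq hRQ]
  have hSc : F.IsCentric S := by
    refine ⟨le_rfl, fun Q hQ => ?_⟩
    have h1 : Q ≤ S := Basic.IsConj.le_right hQ
    have h2 := Basic.IsConj.card_eq hQ
    have h3 : Q = S := Subgroup.eq_of_le_of_card_ge h1 (le_of_eq h2)
    rw [h3]
    exact inf_le_left
  refine Cfsg.Agent.Lib.Fusion.Alperin.le_of_essential hS hF ?_
  rintro P (rfl | he) α hα
  · exact mem_autGroup_of_mem (key _ P hSc rfl _ (autGroup_mem_hom le_rfl hα))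
  · exact mem_autGroup_of_mem (key _ P he.1 rfl _ (autGroup_mem_hom he.1.1 hα))

/-- **Frattini**: if a normal subgroup `K` of `Aut_F(Q)` contains a conjugation by `s ∉ Q` and the elements of order prime
to `p` of `K` are in `D`, then `Aut_F(Q) ≤ Aut_D(Q)`, given that the maps on larger centric subgroups are in `D`. -/
theorem autGroup_le_of_normal (hS : IsPGroup p S) (hF : F.IsSaturated p) {D : FusionSystem S} {Q : Subgroup Ω}
    (hQ : F.IsFullyNormalized Q) (hQc : F.IsCentric Q)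
    (hIH : ∀ R' : Subgroup Ω, F.IsCentric R' → Nat.card Q < Nat.card R' → ∀ θ : R' →* Ω, θ ∈ F.Hom R' → θ ∈ D.Hom R')
    (K : Subgroup (F.autGroup Q)) (hK : K.Normal) {s : Ω} (hsS : s ∈ S) (hsN : s ∈ Subgroup.normalizer (Q : Set Ω))
    (hsQ : s ∉ Q)
    (hsK : (⟨normConj s hsN, autInducedBy_le_autGroup hQ.1 (normConj_mem_autInducedBy hsS hsN)⟩ : F.autGroup Q) ∈ K)
    (h : ∀ g ∈ K, Nat.Coprime (orderOf g) p → (g : MulAut Q) ∈ D.autGroup Q) : F.autGroup Q ≤ D.autGroup Q := by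
  classical
  have hQS : Q ≤ S := hQ.1
  intro α hα
  obtain ⟨ν, κ, hκ, hαe, hext⟩ := Cfsg.Agent.Lib.Fusion.StrongInvariance.exists_aut_extending_of_normal hS hF hQ K hK ⟨α, hα⟩
  have hν : (ν : MulAut Q) ∈ D.autGroup Q := by
    have hνF := autGroup_mem_hom hQS ν.2
    have hr : (Q.subtype.comp (ν : MulAut Q).toMonoidHom).range = Q := by
      ext y
      constructor
      · rintro ⟨z, rfl⟩
        exact ((ν : MulAut Q) z).2
      · intro hy
        exact ⟨(ν : MulAut Q)⁻¹ ⟨y, hy⟩, by simp⟩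
    obtain ⟨ψ, hψ, hψa⟩ := (fullyNormalized_receptive hS hF hQ).2 Q _ hνF hr
    have hsX := hext s hsS hsN hsK
    have hQX : Q ≤ extender S Q (Q.subtype.comp (ν : MulAut Q).toMonoidHom) := le_extender hQS (map_mem_S hνF)
    have hXS := source_le hψ
    have hXc := isCentric_of_le hQc hQX hXS
    have hfin : Finite ↥(extender S Q (Q.subtype.comp (ν : MulAut Q).toMonoidHom)) := finite_of_le hXS
    have hcard : Nat.card Q < Nat.card ↥(extender S Q (Q.subtype.comp (ν : MulAut Q).toMonoidHom)) := by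
      by_contra hcon
      have h1 := Subgroup.eq_of_le_of_card_ge hQX (not_lt.1 hcon)
      exact hsQ (h1 ▸ hsX)
    have h1 := hIH _ hXc hcard ψ hψ
    exact mem_autGroup_of_mem (mem_of_eq_res h1 hQX (fun x => (hψa x x.2 (hQX x.2)).symm))
  have hκ' : (κ : MulAut Q) ∈ D.autGroup Q := by
    obtain ⟨-, R, hR⟩ := (fullyNormalized_props hS hF hQ).2
    haveI : Finite (F.autGroup Q) := finite_autGroup hQS
    obtain ⟨V, hV⟩ := Cfsg.Agent.Lib.Fusion.GroupNormal.isSylowIn_inf R K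
    have htop := eq_top_of_sylow_pprime V ((D.autGroup Q).comap ((F.autGroup Q).subtype.comp K.subtype)) (by
      intro v hv
      have h2 : v ∈ ((R : Subgroup (F.autGroup Q)) ⊓ K).subgroupOf K := by
        rw [← hV]
        exact hv
      have h3 : (v : F.autGroup Q) ∈ (R : Subgroup (F.autGroup Q)) := (Subgroup.mem_inf.1 (Subgroup.mem_subgroupOf.1 h2)).1
      rw [hR, Subgroup.mem_subgroupOf] at h3
      exact autInducedBy_le_autGroup hQS h3) (fun g hg => by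
        refine h g g.2 ?_
        rwa [Subgroup.orderOf_coe])
    have h1 : (⟨κ, hκ⟩ : K) ∈ (D.autGroup Q).comap ((F.autGroup Q).subtype.comp K.subtype) := by
      rw [htop]
      trivial
    exact h1
  have e : α = (κ : MulAut Q) * (ν : MulAut Q) := by
    have := congrArg (fun z : F.autGroup Q => (z : MulAut Q)) hαe
    simpa using this
  rw [e]
  exact (D.autGroup Q).mul_mem hκ' hν

end General

section Delta

variable [Finite S] {p : ℕ} [hp : Fact p.Prime] {Q : Subgroup Ω}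

/-- The values of an automorphism in `Aut_F(Q)` on `Q ∩ T`. -/
theorem aut_mem_T (hT : F.StronglyClosed T) (hQS : Q ≤ S) {g : MulAut Q} (hg : g ∈ F.autGroup Q) (x : Q)
    (hx : (x : Ω) ∈ T) : ((g x : Q) : Ω) ∈ T :=
  stronglyClosed_apply hT (autGroup_mem_hom hQS hg) x hx

/-- The automorphisms of `Q` in `Aut_F(Q)` trivial on `Q ∩ T` and on `Q / (Q ∩ T)`. -/
def DeltaK (F : FusionSystem S) (T Q : Subgroup Ω) : Subgroup (F.autGroup Q) where
  carrier := {δ | (∀ x : Q, (x : Ω) ∈ T → (δ : MulAut Q) x = x) ∧ ∀ x : Q, (x : Ω)⁻¹ * ((δ : MulAut Q) x : Q) ∈ T}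
  mul_mem' := by
    rintro a b ⟨ha1, ha2⟩ ⟨hb1, hb2⟩
    refine ⟨fun x hx => ?_, fun x => ?_⟩
    · show (a : MulAut Q) ((b : MulAut Q) x) = x
      rw [hb1 x hx, ha1 x hx]
    · show (x : Ω)⁻¹ * ((a : MulAut Q) ((b : MulAut Q) x) : Q) ∈ T
      have h1 := T.mul_mem (hb2 x) (ha2 ((b : MulAut Q) x))
      simpa [mul_assoc] using h1
  one_mem' := ⟨fun _ _ => rfl, fun x => by simp⟩
  inv_mem' := by
    rintro a ⟨ha1, ha2⟩
    refine ⟨fun x hx => ?_, fun x => ?_⟩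
    · show (a : MulAut Q)⁻¹ x = x
      have h1 := ha1 x hx
      calc (a : MulAut Q)⁻¹ x = (a : MulAut Q)⁻¹ ((a : MulAut Q) x) := by rw [h1]
        _ = x := by simp
    · show (x : Ω)⁻¹ * (((a : MulAut Q)⁻¹ x : Q) : Ω) ∈ T
      have hy : (a : MulAut Q) ((a : MulAut Q)⁻¹ x) = x := by simp
      have h1 := T.inv_mem (ha2 ((a : MulAut Q)⁻¹ x))
      rw [hy] at h1
      simpa using h1

theorem DeltaK_normal (hT : F.StronglyClosed T) (hQS : Q ≤ S) : (DeltaK F T Q).Normal := by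
  refine ⟨fun a ha g => ⟨fun x hx => ?_, fun x => ?_⟩⟩
  · show (g : MulAut Q) ((a : MulAut Q) (((g⁻¹ : F.autGroup Q) : MulAut Q) x)) = x
    have h1 : ((((g⁻¹ : F.autGroup Q) : MulAut Q) x : Q) : Ω) ∈ T := aut_mem_T hT hQS (g⁻¹).2 x hx
    rw [ha.1 _ h1]
    simp
  · show (x : Ω)⁻¹ * ((g : MulAut Q) ((a : MulAut Q) (((g⁻¹ : F.autGroup Q) : MulAut Q) x)) : Q) ∈ T
    set y : Q := ((g⁻¹ : F.autGroup Q) : MulAut Q) x with hy
    have hgy : (g : MulAut Q) y = x := by simp [hy]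
    have h1 := aut_mem_T hT hQS g.2 (y⁻¹ * (a : MulAut Q) y) (ha.2 y)
    rw [map_mul, map_inv, hgy] at h1
    simpa using h1

theorem isPGroup_DeltaK (hS : IsPGroup p S) (hQS : Q ≤ S) : IsPGroup p (DeltaK F T Q) := by
  haveI : Finite Q := finite_of_le hQS
  obtain ⟨e, he⟩ := IsPGroup.iff_card.1 (isPGroup_of_le hS hQS)
  intro δ
  refine ⟨e, ?_⟩
  have hpow : ∀ (x : Q) (k : ℕ), ((((δ : F.autGroup Q) : MulAut Q) ^ k) x : Q) = x * (x⁻¹ * ((δ : F.autGroup Q) : MulAut Q) x) ^ k := by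
    intro x k
    have hz : ((δ : F.autGroup Q) : MulAut Q) (x⁻¹ * ((δ : F.autGroup Q) : MulAut Q) x) = x⁻¹ * ((δ : F.autGroup Q) : MulAut Q) x :=
      δ.2.1 _ (δ.2.2 x)
    induction k with
    | zero => simp
    | succ k ih =>
      rw [pow_succ', MulAut.mul_apply, ih, map_mul, map_pow, hz, pow_succ']
      simp [mul_assoc]
  have h1 : ((δ : F.autGroup Q) : MulAut Q) ^ p ^ e = 1 := by
    ext x
    rw [hpow, ← he, pow_card_eq_one']
    simp
  apply Subtype.ext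
  apply Subtype.ext
  simpa using h1

/-- Transport of `Aut_F(P)`. -/
theorem congr_mem_self {P P₁ : Subgroup Ω} {χ : P →* Ω} (hχ : χ ∈ F.Hom P) (e : P ≃* P₁)
    (he : ∀ x : P, ((e x : P₁) : Ω) = χ x) {α : MulAut P} (hα : α ∈ F.autGroup P) : MulAut.congr e α ∈ F.autGroup P₁ := by
  classical
  have hPS : P ≤ S := source_le hχ
  have hr : χ.range = P₁ := by
    ext y
    constructor
    · rintro ⟨x, rfl⟩
      rw [← he]
      exact (e x).2
    · intro hy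
      refine ⟨e.symm ⟨y, hy⟩, ?_⟩
      rw [← he]
      simp
  obtain ⟨ι, hι, hιr, hι1, hι2⟩ := exists_inv hχ hr
  have hιv : ∀ z, ι z ∈ P := fun z => hιr.le ⟨z, rfl⟩
  have hg := F.comp_mem hι (autGroup_mem_hom hPS hα) hιv
  have hf := F.comp_mem hg hχ (fun z => (α _).2)
  refine mem_autGroup_of_mem (mem_of_eq_res hf le_rfl (fun y => ?_))
  obtain ⟨x, rfl⟩ := e.surjective y
  have e1 : ι.codRestrict P hιv (Subgroup.inclusion le_rfl (e x)) = x := by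
    apply Subtype.ext
    have h2 := hι1 x (by rw [← he]; exact (e x).2)
    refine Eq.trans ?_ h2
    show ι _ = ι _
    congr 1
    exact Subtype.ext (he x)
  show ((MulAut.congr e α (e x) : P₁) : Ω) = χ (α (ι.codRestrict P hιv (Subgroup.inclusion le_rfl (e x))))
  rw [e1, ← he]
  simp [MulAut.congr_apply]

/-- A group element normalizing `P₂` and `T` normalizes `C_T(P₂)`. -/
theorem conj_mem_cenIn {P₂ : Subgroup Ω} (hT : F.StronglyClosed T) {q u : Ω} (hqS : q ∈ S)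
    (hqN : q ∈ Subgroup.normalizer (P₂ : Set Ω)) (hu : u ∈ centralizerIn T P₂) : q * u * q⁻¹ ∈ centralizerIn T P₂ := by
  refine ⟨StronglyClosed.conj_mem hT hqS hu.1, Subgroup.mem_centralizer_iff.2 (fun v hv => ?_)⟩
  have hv' : q⁻¹ * v * q ∈ P₂ := by
    have := (Subgroup.mem_normalizer_iff.1 (Subgroup.inv_mem _ hqN) v).1 hv
    simpa using this
  have h1 := comm_of_mem_cen hu.2 hv'
  calc v * (q * u * q⁻¹) = q * ((q⁻¹ * v * q) * u) * q⁻¹ := by group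
    _ = q * (u * (q⁻¹ * v * q)) * q⁻¹ := by rw [h1]
    _ = q * u * q⁻¹ * v := by group

theorem mem_norm_of_conj {H : Subgroup Ω} {x : Ω} (h1 : ∀ y ∈ H, x * y * x⁻¹ ∈ H) (h2 : ∀ y ∈ H, x⁻¹ * y * x ∈ H) :
    x ∈ Subgroup.normalizer (H : Set Ω) := by
  rw [Subgroup.mem_normalizer_iff]
  intro y
  refine ⟨h1 y, fun hy => ?_⟩
  have := h2 _ hy
  simpa [mul_assoc] using this

/-- **A non-centric `Q ∩ T`** yields an element of `DeltaK` which is a conjugation by an element outside `Q`. -/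
theorem exists_delta (hS : IsPGroup p S) (hF : F.IsSaturated p) (hE : E.IsNormalIn F p) (hQ : F.IsFullyNormalized Q)
    (hQc : F.IsCentric Q) (hnc : ¬ E.IsCentric (Q ⊓ T)) :
    ∃ (s : Ω) (hsS : s ∈ S) (hsN : s ∈ Subgroup.normalizer (Q : Set Ω)), s ∉ Q ∧
      (⟨normConj s hsN, autInducedBy_le_autGroup hQ.1 (normConj_mem_autInducedBy hsS hsN)⟩ : F.autGroup Q) ∈
        DeltaK F T Q := by
  classical
  have hinv := hE.1.2.2
  have hTsc := hinv.2.1
  have hTS : T ≤ S := hTsc.1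
  have hQS : Q ≤ S := hQ.1
  haveI : Finite T := finite_of_le hTS
  have hT₁T : Q ⊓ T ≤ T := inf_le_right
  have hT₁S : Q ⊓ T ≤ S := inf_le_left.trans hQS
  -- a non-centric conjugate
  obtain ⟨Q₁, hQ₁conj, hQ₁c⟩ : ∃ Q₁, E.IsConj (Q ⊓ T) Q₁ ∧ ¬ centralizerIn T Q₁ ≤ Q₁ := by
    by_contra hcon
    push Not at hcon
    exact hnc ⟨hT₁T, hcon⟩
  obtain ⟨P₂, hconj, hFN⟩ := exists_fullyNormalized (F := F) hT₁S
  have hP₂T : P₂ ≤ T := by
    obtain ⟨χ₀, hχ₀, hr⟩ := hconj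
    rw [← hr]
    rintro _ ⟨x, rfl⟩
    exact hTsc.2 _ hT₁T χ₀ hχ₀ x
  have hP₂S : P₂ ≤ S := hP₂T.trans hTS
  -- `C_T(P₂) ≰ P₂`
  have hcen : ¬ centralizerIn T P₂ ≤ P₂ := by
    obtain ⟨φ, hφ, hφr⟩ := hQ₁conj
    have hQ₁P₂ : F.IsConj Q₁ P₂ := Basic.IsConj.trans (Basic.IsConj.symm ⟨φ, hinv.1 _ hφ, hφr⟩) hconj
    obtain ⟨χ₀, hχ₀, hr⟩ := hQ₁P₂
    obtain ⟨χ₁, hχ₁, hχ₁a⟩ := (fullyNormalized_receptive hS hF hFN).2 Q₁ χ₀ hχ₀ hr
    have hQ₁S : Q₁ ≤ S := source_le hχ₀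
    have hext : hat S Q₁ ≤ extender S Q₁ χ₀ := sup_centralizerIn_le_extender hQ₁S (map_mem_S hχ₀)
    obtain ⟨c, hc, hcQ⟩ := SetLike.not_le_iff_exists.1 hQ₁c
    have hcS : c ∈ centralizerIn S Q₁ := ⟨hTS hc.1, hc.2⟩
    have hf := res_mem hχ₁ hext
    have hfP : ∀ x : Q₁, (χ₁.comp (Subgroup.inclusion hext)) (Subgroup.inclusion (le_hat Q₁) x) = χ₀ x :=
      fun x => hχ₁a x x.2 (hext (le_hat Q₁ x.2))
    intro hle
    have h1 : (χ₁.comp (Subgroup.inclusion hext)) ⟨c, cen_le_hat Q₁ hcS⟩ ∈ centralizerIn T P₂ := by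
      have h2 := map_cen_mem (P₁ := P₂) hf (fun y hy => by
        rw [← hr] at hy
        obtain ⟨x, rfl⟩ := hy
        exact ⟨x, hfP x⟩) ⟨c, cen_le_hat Q₁ hcS⟩ hcS
      exact ⟨stronglyClosed_apply hTsc hf ⟨c, cen_le_hat Q₁ hcS⟩ hc.1, h2.2⟩
    have h3 := hle h1
    rw [← hr] at h3
    obtain ⟨x, hx⟩ := h3
    rw [← hfP] at hx
    have h4 := F.injective_of_mem hf hx
    have h5 : (x : Ω) = c := congrArg (fun t : ↥(hat S Q₁) => (t : Ω)) h4
    exact hcQ (h5 ▸ x.2)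
  -- the map from `N_S(Q ∩ T)`
  obtain ⟨θ, hθ, hθv, hθr⟩ := exists_map_to_fullyNormalized hS hF hFN hconj
  have hQN : Q ≤ normalizerIn S (Q ⊓ T) := by
    intro x hx
    refine ⟨hQS hx, mem_norm_of_conj (fun y hy => ⟨?_, ?_⟩) (fun y hy => ⟨?_, ?_⟩)⟩
    · exact Q.mul_mem (Q.mul_mem hx hy.1) (Q.inv_mem hx)
    · exact StronglyClosed.conj_mem hTsc (hQS hx) hy.2
    · exact Q.mul_mem (Q.mul_mem (Q.inv_mem hx) hy.1) hx
    · have := StronglyClosed.conj_mem hTsc (S.inv_mem (hQS hx)) hy.2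
      simpa using this
  have hχ := res_mem hθ hQN
  set χ : Q →* Ω := θ.comp (Subgroup.inclusion hQN) with hχd
  have hχinj := F.injective_of_mem hχ
  obtain ⟨ι, hι, hιr, hι1, hι2⟩ := exists_inv hχ (rfl : χ.range = χ.range)
  have hχT : ∀ x : Q, χ x ∈ T ↔ (x : Ω) ∈ T := by
    intro x
    refine ⟨fun hx => ?_, fun hx => stronglyClosed_apply hTsc hχ x hx⟩
    have h1 := stronglyClosed_apply hTsc hι ⟨χ x, ⟨x, rfl⟩⟩ hx
    have h2 := hι1 x ⟨x, rfl⟩
    exact h2 ▸ h1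
  have hQ'T : χ.range ⊓ T = P₂ := by
    apply le_antisymm
    · rintro y ⟨⟨x, rfl⟩, hy⟩
      rw [← hθr]
      exact ⟨Subgroup.inclusion hQN x, Subgroup.mem_subgroupOf.2 ⟨x.2, (hχT x).1 hy⟩, rfl⟩
    · intro y hy
      refine ⟨?_, hP₂T hy⟩
      rw [← hθr] at hy
      obtain ⟨u, hu, rfl⟩ := hy
      have hu' := Subgroup.mem_subgroupOf.1 hu
      exact ⟨⟨u, hu'.1⟩, rfl⟩
  have hQ'S : χ.range ≤ S := by
    rintro _ ⟨x, rfl⟩
    exact map_mem_S hχ x
  have hQ'c : F.IsCentric χ.range := isCentric_of_isConj hQc ⟨χ, hχ, rfl⟩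
  have hQ'N : ∀ y ∈ χ.range, y ∈ Subgroup.normalizer (P₂ : Set Ω) := by
    rintro _ ⟨x, rfl⟩
    exact (hθv (Subgroup.inclusion hQN x)).2
  -- find `w`
  have hXS : χ.range ⊔ centralizerIn T P₂ ≤ S := sup_le hQ'S (inf_le_left.trans hTS)
  have hne : χ.range ≠ χ.range ⊔ centralizerIn T P₂ := by
    intro he
    apply hcen
    intro c hc
    have h1 : c ∈ χ.range := by
      rw [he]
      exact le_sup_right (a := χ.range) hc
    rw [← hQ'T]
    exact ⟨h1, hc.1⟩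
  haveI : Finite ↥(χ.range ⊔ centralizerIn T P₂) := finite_of_le hXS
  have hlt := Cfsg.Agent.Lib.Fusion.Alperin.lt_normalizerIn (isPGroup_of_le hS hXS) (le_sup_left) hne
  obtain ⟨y, hy, hyQ⟩ := SetLike.exists_of_lt hlt
  have hNN : χ.range ≤ Subgroup.normalizer ((centralizerIn T P₂ : Subgroup Ω) : Set Ω) := by
    intro q hq
    exact mem_norm_of_conj (fun u hu => conj_mem_cenIn hTsc (hQ'S hq) (hQ'N q hq) hu)
      (fun u hu => by
        have := conj_mem_cenIn hTsc (S.inv_mem (hQ'S hq)) (Subgroup.inv_mem _ (hQ'N q hq)) hu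
        simpa using this)
  obtain ⟨q, hq, w, hw, hyq⟩ := Cfsg.Agent.Lib.Fusion.GroupSylow.exists_mul_of_mem_sup hNN hy.1
  have hwQ : w ∉ χ.range := by
    intro hwQ
    exact hyQ (hyq ▸ χ.range.mul_mem hq hwQ)
  have hwN : w ∈ Subgroup.normalizer ((χ.range : Subgroup Ω) : Set Ω) := by
    have e : w = q⁻¹ * y := by rw [hyq]; group
    rw [e]
    refine Subgroup.mul_mem _ (Subgroup.inv_mem _ ?_) hy.2
    exact Subgroup.le_normalizer hq
  have hwS : w ∈ S := hTS hw.1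
  let γ : MulAut χ.range := normConj w hwN
  have hγ : γ ∈ F.autGroup χ.range := autInducedBy_le_autGroup hQ'S (normConj_mem_autInducedBy hwS hwN)
  let e : Q ≃* χ.range := isoOfRange hχinj rfl
  have he : ∀ x : Q, ((e x : χ.range) : Ω) = χ x := fun _ => rfl
  obtain ⟨ι', hι', hι'r, hι'1, hι'2⟩ := exists_inv hχ (rfl : χ.range = χ.range)
  have hδF : MulAut.congr e.symm γ ∈ F.autGroup Q :=
    congr_mem_self hι' e.symm (fun y => by
      obtain ⟨x, rfl⟩ := e.surjective y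
      have := hι'1 x ⟨x, rfl⟩
      simp only [MulEquiv.symm_apply_apply]
      exact this.symm) hγ
  have hδχ : ∀ x : Q, χ ((MulAut.congr e.symm γ) x) = w * χ x * w⁻¹ := by
    intro x
    rw [← he]
    have e1 : e ((MulAut.congr e.symm γ) x) = γ (e x) := by
      simp [MulAut.congr_apply]
    rw [e1]
    rfl
  have hδΔ : (⟨_, hδF⟩ : F.autGroup Q) ∈ DeltaK F T Q := by
    refine ⟨fun x hx => ?_, fun x => ?_⟩
    · apply hχinj
      show χ ((MulAut.congr e.symm γ) x) = _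
      rw [hδχ]
      have h1 : χ x ∈ P₂ := by
        rw [← hQ'T]
        exact ⟨⟨x, rfl⟩, stronglyClosed_apply hTsc hχ x hx⟩
      have h2 := comm_of_mem_cen hw.2 h1
      rw [← h2]
      group
    · show (x : Ω)⁻¹ * ((MulAut.congr e.symm γ) x : Q) ∈ T
      have hz : (x⁻¹ * (MulAut.congr e.symm γ) x : Q) = ⟨_, (x⁻¹ * (MulAut.congr e.symm γ) x).2⟩ := rfl
      have h1 := (hχT (x⁻¹ * (MulAut.congr e.symm γ) x)).1 (by
        rw [map_mul, map_inv, hδχ]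
        have h2 : (χ x)⁻¹ * w * (χ x) ∈ T := by
          have := StronglyClosed.conj_mem hTsc (S.inv_mem (map_mem_S hχ x)) hw.1
          simpa using this
        have e2 : (χ x)⁻¹ * (w * χ x * w⁻¹) = ((χ x)⁻¹ * w * (χ x)) * w⁻¹ := by group
        rw [e2]
        exact T.mul_mem h2 (T.inv_mem hw.1))
      exact h1
  -- `Δ` is in the Sylow subgroup
  obtain ⟨-, R, hR⟩ := (fullyNormalized_props hS hF hQ).2
  haveI : Finite (F.autGroup Q) := finite_autGroup hQS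
  haveI := DeltaK_normal (F := F) (Q := Q) hTsc hQS
  have hΔR := (isPGroup_DeltaK (F := F) (T := T) hS hQS).le_sylow_of_normal R
  have h1 := hΔR hδΔ
  rw [hR, Subgroup.mem_subgroupOf] at h1
  obtain ⟨s, hsS, hs⟩ := mem_autInducedBy_iff.1 h1
  have hsN := mem_normalizer_of_aut hs
  have hδs : normConj s hsN = MulAut.congr e.symm γ := by
    ext x
    exact (hs x).symm
  refine ⟨s, hsS, hsN, ?_, ?_⟩
  · intro hsQ
    apply hwQ
    have hsm : χ ⟨s, hsQ⟩ ∈ χ.range := ⟨_, rfl⟩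
    have h2 : (χ ⟨s, hsQ⟩)⁻¹ * w ∈ centralizerIn S χ.range := by
      refine ⟨S.mul_mem (S.inv_mem (map_mem_S hχ _)) hwS, Subgroup.mem_centralizer_iff.2 ?_⟩
      rintro _ ⟨x, rfl⟩
      have h3 := hδχ x
      have h4 : (MulAut.congr e.symm γ) x = ⟨s, hsQ⟩ * x * ⟨s, hsQ⟩⁻¹ := Subtype.ext (hs x)
      rw [h4, map_mul, map_mul, map_inv] at h3
      have h5 : χ ⟨s, hsQ⟩ * χ x * (χ ⟨s, hsQ⟩)⁻¹ = w * χ x * w⁻¹ := h3
      calc χ x * ((χ ⟨s, hsQ⟩)⁻¹ * w) = (χ ⟨s, hsQ⟩)⁻¹ * (χ ⟨s, hsQ⟩ * χ x * (χ ⟨s, hsQ⟩)⁻¹) * w := by group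
        _ = (χ ⟨s, hsQ⟩)⁻¹ * (w * χ x * w⁻¹) * w := by rw [h5]
        _ = (χ ⟨s, hsQ⟩)⁻¹ * w * χ x := by group
    have h3 := hQ'c.2 _ (Basic.IsConj.refl hQ'S) h2
    have h4 := χ.range.mul_mem hsm h3
    simpa using h4
  · have e3 : (⟨normConj s hsN, autInducedBy_le_autGroup hQ.1 (normConj_mem_autInducedBy hsS hsN)⟩ : F.autGroup Q) =
        ⟨_, hδF⟩ := Subtype.ext hδs
    rw [e3]
    exact hδΔ

end Delta

section AA

variable [Finite S] {p : ℕ} [hp : Fact p.Prime] {Q : Subgroup Ω}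

/-- The automorphisms of `Q` in `Aut_F(Q)` trivial on `Q / (Q ∩ T)` inducing on `Q ∩ T` an element of `KK`. -/
def AA (F : FusionSystem S) (E : FusionSystem T) (p : ℕ) (Q : Subgroup Ω) : Subgroup (F.autGroup Q) where
  carrier := {a | (∀ x : Q, (x : Ω)⁻¹ * ((a : MulAut Q) x : Q) ∈ T) ∧ ∃ α₁ ∈ KK E p (Q ⊓ T), ∀ x : ↥(Q ⊓ T),
    ((α₁ x : ↥(Q ⊓ T)) : Ω) = ((a : MulAut Q) (Subgroup.inclusion inf_le_left x) : Q)}
  mul_mem' := by
    rintro a b ⟨ha1, α₁, hα₁, ha⟩ ⟨hb1, β₁, hβ₁, hb⟩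
    refine ⟨fun x => ?_, α₁ * β₁, (KK E p _).mul_mem hα₁ hβ₁, fun x => ?_⟩
    · show (x : Ω)⁻¹ * ((a : MulAut Q) ((b : MulAut Q) x) : Q) ∈ T
      have h1 := T.mul_mem (hb1 x) (ha1 ((b : MulAut Q) x))
      simpa [mul_assoc] using h1
    · have e : (b : MulAut Q) (Subgroup.inclusion inf_le_left x) = Subgroup.inclusion inf_le_left (β₁ x) :=
        Subtype.ext (hb x).symm
      show ((α₁ (β₁ x) : ↥(Q ⊓ T)) : Ω) = ((a : MulAut Q) ((b : MulAut Q) (Subgroup.inclusion inf_le_left x)) : Q)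
      rw [e, ha]
  one_mem' := ⟨fun x => by simp, 1, (KK E p _).one_mem, fun _ => rfl⟩
  inv_mem' := by
    rintro a ⟨ha1, α₁, hα₁, ha⟩
    refine ⟨fun x => ?_, α₁⁻¹, (KK E p _).inv_mem hα₁, fun x => ?_⟩
    · show (x : Ω)⁻¹ * (((a : MulAut Q)⁻¹ x : Q) : Ω) ∈ T
      have hy : (a : MulAut Q) ((a : MulAut Q)⁻¹ x) = x := by simp
      have h1 := T.inv_mem (ha1 ((a : MulAut Q)⁻¹ x))
      rw [hy] at h1
      simpa using h1
    · have e : (a : MulAut Q) (Subgroup.inclusion inf_le_left (α₁⁻¹ x)) = Subgroup.inclusion inf_le_left x := by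
        apply Subtype.ext
        rw [← ha]
        simp
      show (((α₁⁻¹ x) : ↥(Q ⊓ T)) : Ω) = (((a : MulAut Q)⁻¹ (Subgroup.inclusion inf_le_left x) : Q) : Ω)
      rw [← e]
      simp

theorem AA_normal (hE : E.IsInvariantIn F) (hQS : Q ≤ S) : (AA F E p Q).Normal := by
  classical
  have hT := hE.2.1
  haveI hfinT₁ : Finite ↥(Q ⊓ T) := finite_of_le (inf_le_left.trans hQS)
  refine ⟨fun a ha g => ?_⟩
  obtain ⟨ha1, α₁, hα₁, har⟩ := ha
  have hst : ∀ (h : F.autGroup Q) (x : Q), (x : Ω) ∈ Q ⊓ T → (((h : MulAut Q) x : Q) : Ω) ∈ Q ⊓ T := fun h x hx =>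
    ⟨((h : MulAut Q) x).2, aut_mem_T hT hQS h.2 x hx.2⟩
  let g₁ : MulAut ↥(Q ⊓ T) := resAut (g : MulAut Q) inf_le_left (hst g)
  have hg₁ : ∀ x, ((g₁ x : ↥(Q ⊓ T)) : Ω) = ((g : MulAut Q) (Subgroup.inclusion inf_le_left x) : Q) := fun _ => rfl
  have hχ : (Q ⊓ T).subtype.comp g₁.toMonoidHom ∈ F.Hom (Q ⊓ T) :=
    mem_of_eq_res (autGroup_mem_hom hQS g.2) inf_le_left (fun x => rfl)
  have hK := KK_transport hE inf_le_right hχ g₁ (fun _ => rfl) hα₁
  refine ⟨fun x => ?_, MulAut.congr g₁ α₁, hK, fun x => ?_⟩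
  · show (x : Ω)⁻¹ * ((g : MulAut Q) ((a : MulAut Q) (((g⁻¹ : F.autGroup Q) : MulAut Q) x)) : Q) ∈ T
    set y : Q := ((g⁻¹ : F.autGroup Q) : MulAut Q) x with hy
    have hgy : (g : MulAut Q) y = x := by simp [hy]
    have h1 := aut_mem_T hT hQS g.2 (y⁻¹ * (a : MulAut Q) y) (ha1 y)
    rw [map_mul, map_inv, hgy] at h1
    simpa using h1
  · obtain ⟨u, rfl⟩ := g₁.surjective x
    have e1 : (MulAut.congr g₁ α₁) (g₁ u) = g₁ (α₁ u) := by simp [MulAut.congr_apply]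
    have e2 : Subgroup.inclusion inf_le_left (g₁ u) = (g : MulAut Q) (Subgroup.inclusion inf_le_left u) :=
      Subtype.ext rfl
    have e3 : Subgroup.inclusion inf_le_left (α₁ u) = (a : MulAut Q) (Subgroup.inclusion inf_le_left u) :=
      Subtype.ext (har u)
    rw [e1, e2, hg₁, e3]
    show _ = (((g : MulAut Q) ((a : MulAut Q) (((g⁻¹ : F.autGroup Q) : MulAut Q)
      ((g : MulAut Q) (Subgroup.inclusion inf_le_left u)))) : Q) : Ω)
    simp

/-- Conjugations by elements of `T` are in `AA`. -/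
theorem conj_mem_AA (hS : IsPGroup p S) (hE : E.IsInvariantIn F) (hQS : Q ≤ S) {t : Ω} (ht : t ∈ T)
    (htN : t ∈ Subgroup.normalizer (Q : Set Ω)) :
    (⟨normConj t htN, autInducedBy_le_autGroup hQS (normConj_mem_autInducedBy (hE.2.1.1 ht) htN)⟩ : F.autGroup Q) ∈
      AA F E p Q := by
  classical
  have hT := hE.2.1
  have hTS : T ≤ S := hT.1
  have htS := hTS ht
  haveI : Finite T := finite_of_le hTS
  have hTp : IsPGroup p T := isPGroup_of_le hS hTS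
  have htN₁ : t ∈ Subgroup.normalizer ((Q ⊓ T : Subgroup Ω) : Set Ω) := by
    refine mem_norm_of_conj (fun y hy => ⟨?_, ?_⟩) (fun y hy => ⟨?_, ?_⟩)
    · exact (Subgroup.mem_normalizer_iff.1 htN y).1 hy.1
    · exact T.mul_mem (T.mul_mem ht hy.2) (T.inv_mem ht)
    · have := (Subgroup.mem_normalizer_iff.1 (Subgroup.inv_mem _ htN) y).1 hy.1
      simpa using this
    · exact T.mul_mem (T.mul_mem (T.inv_mem ht) hy.2) ht
  have hm : normConj t htN₁ ∈ autInducedBy T (Q ⊓ T) := normConj_mem_autInducedBy ht htN₁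
  refine ⟨fun x => ?_, normConj t htN₁, ?_, fun x => rfl⟩
  · show (x : Ω)⁻¹ * (t * x * t⁻¹) ∈ T
    have h1 := StronglyClosed.conj_mem hT (S.inv_mem (hQS x.2)) ht
    have e : (x : Ω)⁻¹ * (t * x * t⁻¹) = ((x : Ω)⁻¹ * t * (x : Ω)⁻¹⁻¹) * t⁻¹ := by group
    rw [e]
    exact T.mul_mem h1 (T.inv_mem ht)
  · refine mem_KK (autInducedBy_le_autGroup inf_le_right hm) ?_
    obtain ⟨k, hk⟩ := (IsPGroup.iff_orderOf.1 (isPGroup_autInducedBy hTp (Q ⊓ T))) ⟨_, hm⟩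
    exact ⟨k, by rw [← Subgroup.orderOf_mk _ hm]; exact hk⟩

/-- **Elements of order prime to `p` in `AA` fix `Q ∩ CC`**. -/
theorem fix_of_pprime (hS : IsPGroup p S) (hF : F.IsSaturated p) (hE : E.IsNormalIn F p) (hQS : Q ≤ S) {a : MulAut Q}
    (ha : a ∈ F.autGroup Q) (h1 : ∀ x : Q, (x : Ω)⁻¹ * (a x : Q) ∈ T) {α₁ : MulAut ↥(Q ⊓ T)} (hα₁ : IsP E p (Q ⊓ T) α₁)
    (hres : ∀ x : ↥(Q ⊓ T), ((α₁ x : ↥(Q ⊓ T)) : Ω) = (a (Subgroup.inclusion inf_le_left x) : Q)) {m : ℕ} (hm : a ^ m = 1)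
    (hco : m.Coprime p) (x : Q) (hx : (x : Ω) ∈ CC hS hF hE) : a x = x := by
  classical
  obtain ⟨ρ, hL⟩ := exists_lifted hS hF hE hα₁
  have hxP : (x : Ω) ∈ centralizerIn S (Q ⊓ T) := cen_mono inf_le_right (CC_le hS hF hE hx)
  have hle : (Q ⊓ T) ⊔ Subgroup.zpowers (x : Ω) ≤ Q := sup_le inf_le_left ((Subgroup.zpowers_le).2 x.2)
  have hψ₁ := res_mem (autGroup_mem_hom hQS ha) hle
  set z : Q := x⁻¹ * a x with hz
  have hzT : (z : Ω) ∈ T := h1 x
  have hzT₁ : (z : Ω) ∈ Q ⊓ T := ⟨z.2, hzT⟩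
  have hzZ : (z : Ω) ∈ Zc (Q ⊓ T) := by
    refine Subgroup.mem_inf.2 ⟨hzT₁, Subgroup.mem_centralizer_iff.2 (fun τ hτ => ?_)⟩
    obtain ⟨τ₀, hτ₀⟩ := α₁.surjective ⟨τ, hτ⟩
    have hτ₁ : (a (Subgroup.inclusion inf_le_left τ₀) : Q) = (⟨τ, hτ.1⟩ : Q) := by
      apply Subtype.ext
      rw [← hres, hτ₀]
    have h2 : τ * x = x * τ := comm_of_mem_cen hxP.2 hτ
    have h3 : (τ₀ : Ω) * x = x * τ₀ := comm_of_mem_cen hxP.2 τ₀.2
    have h4 : Subgroup.inclusion inf_le_left τ₀ * x = x * Subgroup.inclusion inf_le_left τ₀ := Subtype.ext h3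
    have h5 : (⟨τ, hτ.1⟩ : Q) * a x = a x * ⟨τ, hτ.1⟩ := by
      rw [← hτ₁, ← map_mul, ← map_mul, h4]
    have h6 : τ * (a x : Q) = (a x : Q) * τ := congrArg (fun t : Q => (t : Ω)) h5
    show τ * ((x : Ω)⁻¹ * (a x : Q)) = ((x : Ω)⁻¹ * (a x : Q)) * τ
    calc τ * ((x : Ω)⁻¹ * (a x : Q)) = (x : Ω)⁻¹ * (x * τ * (x : Ω)⁻¹) * (a x : Q) := by group
      _ = (x : Ω)⁻¹ * (τ * x * (x : Ω)⁻¹) * (a x : Q) := by rw [h2]
      _ = (x : Ω)⁻¹ * (τ * (a x : Q)) := by group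
      _ = ((x : Ω)⁻¹ * (a x : Q)) * τ := by rw [h6]; group
  obtain ⟨ω, hω, hωa, hωc⟩ := (mem_CC hS hF hE).1 hx |>.2 _ α₁ hα₁
  have hk := hL.key hxP hψ₁ hω (fun τ => (hres τ).symm) hωa hzZ (Zc (Q ⊓ T)).one_mem
    (by
      show ((a x : Q) : Ω) = x * ((x : Ω)⁻¹ * (a x : Q))
      group)
    (by rw [hωc, mul_one])
  have haz : a z = z := by
    have h2 := hres ⟨(z : Ω)⁻¹ * 1, Zc.left ((Zc (Q ⊓ T)).mul_mem ((Zc (Q ⊓ T)).inv_mem hzZ) (Zc (Q ⊓ T)).one_mem)⟩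
    rw [hk] at h2
    have e : Subgroup.inclusion inf_le_left
        (⟨(z : Ω)⁻¹ * 1, Zc.left ((Zc (Q ⊓ T)).mul_mem ((Zc (Q ⊓ T)).inv_mem hzZ) (Zc (Q ⊓ T)).one_mem)⟩ : ↥(Q ⊓ T)) =
        z⁻¹ := Subtype.ext (by simp)
    rw [e, map_inv] at h2
    have h3 : (z : Ω)⁻¹ = ((a z : Q) : Ω)⁻¹ := by
      simpa using h2
    exact Subtype.ext (inv_injective h3).symm
  have hpow : ∀ k : ℕ, (a ^ k) x = x * z ^ k := by
    intro k
    induction k with
    | zero => simp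
    | succ k ih =>
      rw [pow_succ', MulAut.mul_apply, ih, map_mul, map_pow, haz, pow_succ']
      have e : a x = x * z := by rw [hz]; group
      rw [e, mul_assoc]
  have h2 := hpow m
  rw [hm] at h2
  have h3 : z ^ m = 1 := by
    have : x * z ^ m = x * 1 := by
      rw [← h2, mul_one]
      rfl
    exact mul_left_cancel this
  have h4 := eq_one_of_pow_coprime (isPGroup_of_le hS hQS) hco h3
  have e : a x = x * z := by rw [hz]; group
  rw [e, h4, mul_one]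

end AA

section Main

variable [Finite S] {p : ℕ} [hp : Fact p.Prime]
variable (hS : IsPGroup p S) (hF : F.IsSaturated p) (hE : E.IsNormalIn F p)

/-- The subsystem of maps preserving `CC`. -/
abbrev FF : FusionSystem S := presSys F (CC hS hF hE) (fun _ hs _ hx => conj_mem_CC hS hF hE hs hx)

/-- **Every map of `F` preserves `CC`**. -/
theorem F_le_FF : F ≤ FF hS hF hE := by
  classical
  have hinv := hE.1.2.2
  have hTsc := hinv.2.1
  have hTS : T ≤ S := hTsc.1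
  refine le_of_fn_centric hS hF (fun Q hQ hQc hIH => ?_)
  have hQS : Q ≤ S := hQ.1
  by_cases hTQ : T ≤ Q
  · intro α hα
    refine mem_autGroup_of_mem ⟨autGroup_mem_hom hQS hα, fun x => ⟨fun hx =>
      apply_mem_CC_of_le hS hF hE hTQ (autGroup_mem_hom hQS hα) x hx, fun hx => ?_⟩⟩
    have h1 := apply_mem_CC_of_le hS hF hE hTQ (autGroup_mem_hom hQS (Subgroup.inv_mem _ hα)) (α x) hx
    simpa using h1
  -- an element of `N_T(Q)` outside `Q`
  obtain ⟨t, ht, htN, htQ⟩ : ∃ t ∈ T, t ∈ Subgroup.normalizer (Q : Set Ω) ∧ t ∉ Q := by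
    have hXS : Q ⊔ T ≤ S := sup_le hQS hTS
    have hne : Q ≠ Q ⊔ T := fun h => hTQ (h ▸ le_sup_right)
    haveI : Finite ↥(Q ⊔ T) := finite_of_le hXS
    have hlt := Cfsg.Agent.Lib.Fusion.Alperin.lt_normalizerIn (isPGroup_of_le hS hXS) (le_sup_left) hne
    obtain ⟨y, hy, hyQ⟩ := SetLike.exists_of_lt hlt
    obtain ⟨q, hq, t, ht, hyq⟩ := Cfsg.Agent.Lib.Fusion.GroupSylow.exists_mul_of_mem_sup
      (hQS.trans (StronglyClosed.le_normalizer hTsc)) hy.1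
    refine ⟨t, ht, ?_, fun h => hyQ (hyq ▸ Q.mul_mem hq h)⟩
    have e : t = q⁻¹ * y := by rw [hyq]; group
    rw [e]
    exact Subgroup.mul_mem _ (Subgroup.inv_mem _ (Subgroup.le_normalizer hq)) hy.2
  by_cases hc : E.IsCentric (Q ⊓ T)
  · refine autGroup_le_of_normal hS hF hQ hQc hIH (AA F E p Q) (AA_normal hinv hQS) (hTS ht) htN htQ
      (conj_mem_AA hS hinv hQS ht htN) (fun g hg hco => ?_)
    obtain ⟨h1, α₁, hα₁, hres⟩ := hg
    haveI hfinT₁ : Finite ↥(Q ⊓ T) := finite_of_le (inf_le_left.trans hQS)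
    have hpw : ∀ (k : ℕ) (x : ↥(Q ⊓ T)), (((α₁ ^ k) x : ↥(Q ⊓ T)) : Ω) =
        ((((g : F.autGroup Q) : MulAut Q) ^ k) (Subgroup.inclusion inf_le_left x) : Q) := by
      intro k
      induction k with
      | zero => intro x; rfl
      | succ k ih =>
        intro x
        rw [pow_succ, pow_succ, MulAut.mul_apply, MulAut.mul_apply, ih]
        congr 2
        exact Subtype.ext (hres x)
    have hm : ((g : F.autGroup Q) : MulAut Q) ^ orderOf (g : F.autGroup Q) = 1 := by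
      have := pow_orderOf_eq_one (g : F.autGroup Q)
      exact congrArg (fun z : F.autGroup Q => (z : MulAut Q)) this
    have hαo : α₁ ^ orderOf (g : F.autGroup Q) = 1 := by
      ext x
      rw [hpw, hm]
      rfl
    have hdvd := orderOf_dvd_of_pow_eq_one hαo
    have hP : IsP E p (Q ⊓ T) α₁ := ⟨Or.inl ⟨hc, hα₁⟩, Nat.Coprime.coprime_dvd_left hdvd hco⟩
    have hfix : ∀ (x : Q), (x : Ω) ∈ CC hS hF hE → ((g : F.autGroup Q) : MulAut Q) x = x := fun x hx =>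
      fix_of_pprime hS hF hE hQS (g : F.autGroup Q).2 h1 hP hres hm hco x hx
    refine mem_autGroup_of_mem ⟨autGroup_mem_hom hQS (g : F.autGroup Q).2, fun x => ⟨fun hx => ?_, fun hx => ?_⟩⟩
    · show (((((g : F.autGroup Q) : MulAut Q) x : Q)) : Ω) ∈ CC hS hF hE
      rw [hfix x hx]
      exact hx
    · have h2 := hfix (((g : F.autGroup Q) : MulAut Q) x) hx
      have h3 := ((g : F.autGroup Q) : MulAut Q).injective h2
      rw [← h3]
      exact hx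
  · obtain ⟨s, hsS, hsN, hsQ, hsΔ⟩ := exists_delta hS hF hE hQ hQc hc
    refine autGroup_le_of_normal hS hF hQ hQc hIH (DeltaK F T Q) (DeltaK_normal hTsc hQS) hsS hsN hsQ hsΔ
      (fun g hg hco => ?_)
    have hg1 : (⟨g, hg⟩ : DeltaK F T Q) = 1 := by
      refine eq_one_of_pow_coprime (isPGroup_DeltaK hS hQS) hco ?_
      apply Subtype.ext
      exact pow_orderOf_eq_one g
    have hg2 : g = 1 := congrArg (fun z : DeltaK F T Q => (z : F.autGroup Q)) hg1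
    rw [hg2]
    exact Subgroup.one_mem _

/-- **`CC` is strongly closed**. -/
theorem CC_stronglyClosed : F.StronglyClosed (CC hS hF hE) :=
  ⟨CC_le_S hS hF hE, fun R hR φ hφ x => ((F_le_FF hS hF hE R hφ).2 x).1 (hR x.2)⟩

end Main

end Cfsg.Agent.Lib.Fusion.GoodLift
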