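/-
Good lifts, part 6: uniqueness of good lifts of order prime to `p`, extensions of maps on subgroups of `C_S(T)`.
-/
import Mathlib
import Cfsg.Agent.Lib.Fusion.GoodLift5

set_option autoImplicit false
set_option linter.style.haveILetI false

namespace Cfsg.Agent.Lib.Fusion.GoodLift

open Cfsg Cfsg.FusionSystem Cfsg.Agent.Lib.Fusion.Basic Cfsg.Agent.Lib.Fusion.Saturated
open Cfsg.Agent.Lib.Fusion.Saturated2 (autOfHom autOfHom_mem)
open Cfsg.Agent.Lib.Fusion.LocalSystems (map_mem_sup_of_ext range_ext_eq centralizerSystem)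
open Cfsg.Agent.Lib.Fusion.Joins (exists_hom_of_eq)
open Cfsg.Agent.Lib.Fusion.LiftSys
open Cfsg.Agent.Lib.Fusion.NormalPair
open Cfsg.Agent.Lib.Fusion.NormalCR
open Cfsg.Agent.Lib.Fusion.PPrime (KK KK_le_autGroup KK_le_iff mem_KK)
open Cfsg.Agent.Lib.Fusion.Centric (isCentric_of_le)
open Cfsg.Agent.Lib.Fusion.Subsystem (isCentric_of_isConj)

variable {Ω : Type*} [Group Ω] {S T : Subgroup Ω} {F : FusionSystem S} {E : FusionSystem T}

section Gen

variable [Finite S] {p : ℕ} [hp : Fact p.Prime] {P : Subgroup Ω}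

/-- A closed subgroup is fully normalized. -/
theorem isFullyNormalized_of_closed {X : Subgroup Ω} (hXS : X ≤ S) (h : ∀ φ : X →* Ω, φ ∈ F.Hom X → ∀ x, φ x ∈ X) :
    F.IsFullyNormalized X := by
  refine ⟨hXS, fun Q hQ => ?_⟩
  obtain ⟨φ, hφ, hr⟩ := hQ
  haveI : Finite X := finite_of_le hXS
  have := range_eq_of_card hφ (h φ hφ) le_rfl
  rw [← hr, this]

/-- A strongly closed subgroup is fully normalized. -/
theorem isFullyNormalized_of_stronglyClosed {X : Subgroup Ω} (hX : F.StronglyClosed X) : F.IsFullyNormalized X :=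
  isFullyNormalized_of_closed hX.1 (fun φ hφ x => hX.2 X le_rfl φ hφ x)

/-- Conjugating a self-map of `U` along a map from `U`. -/
theorem exists_conj_map {U U₁ : Subgroup Ω} {f : U →* Ω} (hf : f ∈ F.Hom U) (hr : f.range = U₁) {g : U →* Ω}
    (hg : g ∈ F.Hom U) (hv : ∀ u, g u ∈ U) :
    ∃ g₁ ∈ F.Hom U₁, ∀ (u : U) (hu : f u ∈ U₁), g₁ ⟨f u, hu⟩ = f ⟨g u, hv u⟩ := by
  classical
  obtain ⟨ι, hι, hιr, hι1, hι2⟩ := exists_inv hf hr
  have hιv : ∀ z, ι z ∈ U := fun z => hιr.le ⟨z, rfl⟩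
  have h1 := F.comp_mem hι hg hιv
  have h2 := F.comp_mem h1 hf (fun z => hv _)
  refine ⟨_, h2, fun u hu => ?_⟩
  have e : ι.codRestrict U hιv ⟨f u, hu⟩ = u := Subtype.ext (hι1 u hu)
  show f ⟨g (ι.codRestrict U hιv ⟨f u, hu⟩), _⟩ = _
  congr 2
  rw [e]

/-- Two homomorphisms on `hat S P` agreeing on `P` and on `C_S(P)` are equal. -/
theorem hom_ext_hat {G : Type*} [Group G] {f g : ↥(hat S P) →* G} (h1 : ∀ x : P, f (Subgroup.inclusion (le_hat P) x) = g (Subgroup.inclusion (le_hat P) x))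
    (h2 : ∀ c : ↥(centralizerIn S P), f (Subgroup.inclusion (cen_le_hat P) c) = g (Subgroup.inclusion (cen_le_hat P) c)) :
    f = g := by
  ext u
  have hle : hat S P ≤ (MonoidHom.eqLocus f g).map (hat S P).subtype := by
    refine sup_le (fun x hx => ?_) (fun c hc => ?_)
    · exact ⟨Subgroup.inclusion (le_hat P) ⟨x, hx⟩, h1 ⟨x, hx⟩, rfl⟩
    · exact ⟨Subgroup.inclusion (cen_le_hat P) ⟨c, hc⟩, h2 ⟨c, hc⟩, rfl⟩
  obtain ⟨v, hv, he⟩ := hle u.2
  have : v = u := Subtype.ext he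
  rw [← this]
  exact hv

/-- **Uniqueness of good lifts of order prime to `p`** at a fully centralized subgroup. -/
theorem IsGood.unique (hS : IsPGroup p S) (hF : F.IsSaturated p) (hFC : F.IsFullyCentralized P) {ρ ρ' : MulAut ↥(hat S P)}
    {α : MulAut P} (h : IsGood F P ρ α) (h' : IsGood F P ρ' α) {n : ℕ} (hn : ρ ^ n = 1) (hn' : ρ' ^ n = 1)
    (hco : n.Coprime p) : ρ = ρ' := by
  classical
  have hPS : P ≤ S := hFC.1
  haveI : Finite P := finite_of_le hPS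
  -- the difference
  have hwZ : ∀ c : ↥(hat S P), (c : Ω) ∈ centralizerIn S P → ((ρ' c : ↥(hat S P)) : Ω)⁻¹ * (ρ c : ↥(hat S P)) ∈ Zc P := by
    intro c hc
    have h1 := (Zc P).mul_mem ((Zc P).inv_mem (h'.cen c hc)) (h.cen c hc)
    have e : ((c : Ω)⁻¹ * ((ρ' c : ↥(hat S P)) : Ω))⁻¹ * ((c : Ω)⁻¹ * ((ρ c : ↥(hat S P)) : Ω)) =
        ((ρ' c : ↥(hat S P)) : Ω)⁻¹ * (ρ c : ↥(hat S P)) := by group
    rwa [e] at h1
  have hρcen := fun (c : ↥(hat S P)) (hc : (c : Ω) ∈ centralizerIn S P) => cen_apply_mem hPS h' c hc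
  -- `w` is fixed by `α`
  have hwα : ∀ (c : ↥(hat S P)) (hc : (c : Ω) ∈ centralizerIn S P),
      ((α ⟨((ρ' c : ↥(hat S P)) : Ω)⁻¹ * (ρ c : ↥(hat S P)), Zc.left (hwZ c hc)⟩ : P) : Ω) =
        ((ρ' c : ↥(hat S P)) : Ω)⁻¹ * (ρ c : ↥(hat S P)) := by
    intro c hc
    have hy := hρcen c hc
    have hm : ρ * ρ'⁻¹ ∈ F.autGroup (hat S P) := Subgroup.mul_mem _ h.mem (Subgroup.inv_mem _ h'.mem)
    refine cl_fn hS hF hFC h hy (k := resLift (ρ * ρ'⁻¹) (sup_zp_le hy)) (resLift_mem hPS hm _) (fun x => ?_) (hwZ c hc) ?_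
    · show ((ρ (ρ'⁻¹ (Subgroup.inclusion (le_hat P) x)) : ↥(hat S P)) : Ω) = x
      have e1 : ρ'⁻¹ (Subgroup.inclusion (le_hat P) x) = Subgroup.inclusion (le_hat P) (α⁻¹ x) :=
        Subtype.ext (inv_res h'.res x)
      rw [e1, h.res]
      simp
    · show ((ρ (ρ'⁻¹ ⟨((ρ' c : ↥(hat S P)) : Ω), cen_le_hat P hy⟩) : ↥(hat S P)) : Ω) = _
      have e1 : ρ'⁻¹ ⟨((ρ' c : ↥(hat S P)) : Ω), cen_le_hat P hy⟩ = c := by
        have : (⟨((ρ' c : ↥(hat S P)) : Ω), cen_le_hat P hy⟩ : ↥(hat S P)) = ρ' c := rfl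
        rw [this]
        simp
      rw [e1]
      group
  -- `w` is `ρ'`-invariant
  have hwρ : ∀ (c : ↥(hat S P)) (hc : (c : Ω) ∈ centralizerIn S P),
      ((ρ' (ρ' c) : ↥(hat S P)) : Ω)⁻¹ * (ρ (ρ' c) : ↥(hat S P)) = ((ρ' c : ↥(hat S P)) : Ω)⁻¹ * (ρ c : ↥(hat S P)) := by
    intro c hc
    have e := h'.apply_eq c hc
    set f' : P := ⟨(c : Ω)⁻¹ * ((ρ' c : ↥(hat S P)) : Ω), Zc.left (h'.cen c hc)⟩ with hf'
    have e1 : ((ρ' (ρ' c) : ↥(hat S P)) : Ω) = ((ρ' c : ↥(hat S P)) : Ω) * ((α f' : P) : Ω) := by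
      conv_lhs => rw [e]
      rw [map_mul, Subgroup.coe_mul, h'.res]
    have e2 : ((ρ (ρ' c) : ↥(hat S P)) : Ω) = ((ρ c : ↥(hat S P)) : Ω) * ((α f' : P) : Ω) := by
      rw [e, map_mul, Subgroup.coe_mul, h.res]
    rw [e1, e2]
    have hcomm := Zc.comm (hwZ c hc) (α f').2
    calc (((ρ' c : ↥(hat S P)) : Ω) * ((α f' : P) : Ω))⁻¹ * (((ρ c : ↥(hat S P)) : Ω) * ((α f' : P) : Ω))
        = ((α f' : P) : Ω)⁻¹ * ((((ρ' c : ↥(hat S P)) : Ω)⁻¹ * (ρ c : ↥(hat S P))) * ((α f' : P) : Ω)) := by group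
      _ = ((α f' : P) : Ω)⁻¹ * (((α f' : P) : Ω) * (((ρ' c : ↥(hat S P)) : Ω)⁻¹ * (ρ c : ↥(hat S P)))) := by rw [hcomm]
      _ = _ := by group
  -- iteration
  have hkey : ∀ (c : ↥(hat S P)) (hc : (c : Ω) ∈ centralizerIn S P), ρ c = ρ' c := by
    intro c hc
    set W : P := ⟨((ρ' c : ↥(hat S P)) : Ω)⁻¹ * (ρ c : ↥(hat S P)), Zc.left (hwZ c hc)⟩ with hW
    have hWα : α W = W := Subtype.ext (hwα c hc)
    have hy : ∀ k : ℕ, (((ρ' ^ k) c : ↥(hat S P)) : Ω) ∈ centralizerIn S P ∧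
        ((ρ' ((ρ' ^ k) c) : ↥(hat S P)) : Ω)⁻¹ * (ρ ((ρ' ^ k) c) : ↥(hat S P)) = W := by
      intro k
      induction k with
      | zero => exact ⟨hc, rfl⟩
      | succ k ih =>
        rw [pow_succ', MulAut.mul_apply]
        refine ⟨hρcen _ ih.1, ?_⟩
        rw [hwρ _ ih.1]
        exact ih.2
    have hpow : ∀ k : ℕ, ((ρ ^ k) c : ↥(hat S P)) = (ρ' ^ k) c * Subgroup.inclusion (le_hat P) (W ^ k) := by
      intro k
      induction k with
      | zero => simp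
      | succ k ih =>
        have hy₁ := hy k
        have e1 : ρ ((ρ' ^ k) c) = ρ' ((ρ' ^ k) c) * Subgroup.inclusion (le_hat P) W := by
          apply Subtype.ext
          show _ = ((ρ' ((ρ' ^ k) c) : ↥(hat S P)) : Ω) * (W : Ω)
          rw [← hy₁.2]
          group
        have e2 : ρ (Subgroup.inclusion (le_hat P) (W ^ k)) = Subgroup.inclusion (le_hat P) (W ^ k) := by
          apply Subtype.ext
          rw [h.res, map_pow, hWα]
          rfl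
        rw [pow_succ', MulAut.mul_apply, ih, map_mul, e1, e2, pow_succ', MulAut.mul_apply, pow_succ', map_mul]
        rw [mul_assoc]
    have h1 := hpow n
    rw [hn, hn'] at h1
    have h2 : W ^ n = 1 := by
      have h3 : (Subgroup.inclusion (le_hat (S := S) P) (W ^ n)) = 1 := by
        have h4 : c * (Subgroup.inclusion (le_hat (S := S) P) (W ^ n)) = c * 1 := by
          rw [mul_one]
          exact h1.symm
        exact mul_left_cancel h4
      exact Subgroup.inclusion_injective _ (h3.trans (map_one _).symm)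
    have h3 := eq_one_of_pow_coprime (isPGroup_of_le hS hPS) hco h2
    have h4 : ((ρ' c : ↥(hat S P)) : Ω)⁻¹ * (ρ c : ↥(hat S P)) = 1 := congrArg (fun t : P => (t : Ω)) h3
    exact (Subtype.ext (inv_mul_eq_one.1 h4)).symm
  have hfin := hom_ext_hat (f := ρ.toMonoidHom) (g := ρ'.toMonoidHom) (fun x => ?_) (fun c => hkey _ c.2)
  · ext u
    have := DFunLike.congr_fun hfin u
    exact congrArg (fun t : ↥(hat S P) => (t : Ω)) this
  · apply Subtype.ext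
    show ((ρ (Subgroup.inclusion (le_hat P) x) : ↥(hat S P)) : Ω) = ((ρ' (Subgroup.inclusion (le_hat P) x) : ↥(hat S P)) : Ω)
    rw [h.res, h'.res]

end Gen

section Ext

variable [Finite S] {p : ℕ} [hp : Fact p.Prime] {C : Subgroup Ω}

omit [Finite S] hp in
theorem T_le_cen (hCT : C ≤ centralizerIn S T) (hTS : T ≤ S) {Q : Subgroup Ω} (hQ : Q ≤ C) : T ≤ centralizerIn S Q := by
  intro t ht
  refine ⟨hTS ht, Subgroup.mem_centralizer_iff.2 (fun x hx => ?_)⟩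
  exact (comm_of_mem_cen (hCT (hQ hx)).2 ht).symm

/-- **Maps on subgroups of `C ≤ C_S(T)` extend to `P ⊔ T`**. -/
theorem exists_ext_T (hS : IsPGroup p S) (hF : F.IsSaturated p) (hT : F.StronglyClosed T) (hC : F.StronglyClosed C)
    (hCT : C ≤ centralizerIn S T) {P : Subgroup Ω} (hPC : P ≤ C) {φ : P →* Ω} (hφ : φ ∈ F.Hom P) :
    ∃ φ' ∈ F.Hom (P ⊔ T), ∀ x : P, φ' (Subgroup.inclusion le_sup_left x) = φ x := by
  classical
  have hTS : T ≤ S := hT.1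
  haveI : Finite T := finite_of_le hTS
  have hPS : P ≤ S := source_le hφ
  have hQ₁C : φ.range ≤ C := by
    rintro _ ⟨x, rfl⟩
    exact hC.2 P hPC φ hφ x
  have hQ₁S := hQ₁C.trans hC.1
  obtain ⟨P₁, ⟨χ₀, hχ₀, hr⟩, hFN⟩ := exists_fullyNormalized (F := F) hQ₁S
  have hrec := fullyNormalized_receptive hS hF hFN
  obtain ⟨χ₁, hχ₁, hχ₁a⟩ := hrec.2 φ.range χ₀ hχ₀ hr
  have hle₂ : φ.range ⊔ T ≤ extender S φ.range χ₀ :=
    (sup_le_sup_left (T_le_cen hCT hTS hQ₁C) _).trans (sup_centralizerIn_le_extender hQ₁S (map_mem_S hχ₀))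
  have hf₂ := res_mem hχ₁ hle₂
  set f₂ : ↥(φ.range ⊔ T) →* Ω := χ₁.comp (Subgroup.inclusion hle₂) with hf₂d
  have hf₂a : ∀ x : φ.range, f₂ (Subgroup.inclusion le_sup_left x) = χ₀ x :=
    fun x => hχ₁a x x.2 (hle₂ (le_sup_left (a := φ.range) x.2))
  have hχ₂ := F.comp_mem hφ hχ₀ (h := fun x => ⟨x, rfl⟩)
  set χ₂ : P →* Ω := χ₀.comp (φ.codRestrict φ.range (fun x => ⟨x, rfl⟩)) with hχ₂d
  have hr₂ : χ₂.range = P₁ := by
    apply le_antisymm
    · rintro _ ⟨x, rfl⟩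
      rw [← hr]
      exact ⟨_, rfl⟩
    · rw [← hr]
      rintro _ ⟨⟨_, x, rfl⟩, rfl⟩
      exact ⟨x, rfl⟩
  obtain ⟨g₁, hg₁, hg₁a⟩ := hrec.2 P χ₂ hχ₂ hr₂
  have hle₁ : P ⊔ T ≤ extender S P χ₂ :=
    (sup_le_sup_left (T_le_cen hCT hTS hPC) _).trans (sup_centralizerIn_le_extender hPS (map_mem_S hχ₂))
  have hf₁ := res_mem hg₁ hle₁
  set f₁ : ↥(P ⊔ T) →* Ω := g₁.comp (Subgroup.inclusion hle₁) with hf₁d
  have hf₁a : ∀ x : P, f₁ (Subgroup.inclusion le_sup_left x) = χ₂ x :=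
    fun x => hg₁a x x.2 (hle₁ (le_sup_left (a := P) x.2))
  have hf₁v : ∀ u, f₁ u ∈ P₁ ⊔ T := by
    intro u
    refine map_mem_sup_of_ext f₁ (fun y => ?_) (fun y => ?_) u
    · rw [hf₁a, ← hr]
      exact le_sup_left (a := χ₀.range) ⟨_, rfl⟩
    · exact le_sup_right (a := P₁) (stronglyClosed_apply hT hf₁ _ y.2)
  have hr₃ : f₂.range = P₁ ⊔ T := by
    apply le_antisymm
    · rintro _ ⟨u, rfl⟩
      refine map_mem_sup_of_ext f₂ (fun y => ?_) (fun y => ?_) u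
      · rw [hf₂a, ← hr]
        exact le_sup_left (a := χ₀.range) ⟨_, rfl⟩
      · exact le_sup_right (a := P₁) (stronglyClosed_apply hT hf₂ _ y.2)
    · refine sup_le ?_ ?_
      · rw [← hr]
        rintro _ ⟨x, rfl⟩
        exact ⟨Subgroup.inclusion le_sup_left x, hf₂a x⟩
      · intro y hy
        have hres := res_mem hf₂ (le_sup_right : T ≤ φ.range ⊔ T)
        have h1 := range_eq_of_card hres (fun t => stronglyClosed_apply hT hf₂ _ t.2) le_rfl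
        rw [← h1] at hy
        obtain ⟨t, rfl⟩ := hy
        exact ⟨_, rfl⟩
  obtain ⟨ι, hι, hιr, hι1, hι2⟩ := exists_inv hf₂ hr₃
  refine ⟨ι.comp (f₁.codRestrict _ hf₁v), F.comp_mem hf₁ hι hf₁v, fun x => ?_⟩
  have hm : f₂ (Subgroup.inclusion le_sup_left (⟨φ x, ⟨x, rfl⟩⟩ : φ.range)) ∈ P₁ ⊔ T := by
    rw [hf₂a, ← hr]
    exact le_sup_left (a := χ₀.range) ⟨_, rfl⟩
  have h1 := hι1 (Subgroup.inclusion le_sup_left (⟨φ x, ⟨x, rfl⟩⟩ : φ.range)) hm
  show ι (f₁.codRestrict _ hf₁v (Subgroup.inclusion le_sup_left x)) = φ x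
  have e : f₁.codRestrict _ hf₁v (Subgroup.inclusion le_sup_left x) =
      ⟨f₂ (Subgroup.inclusion le_sup_left (⟨φ x, ⟨x, rfl⟩⟩ : φ.range)), hm⟩ := Subtype.ext ((hf₁a x).trans (hf₂a _).symm)
  rw [e, h1]
  rfl

/-- **Factorization**: a map on `P ≤ C` is an element of `Aut_F(T C_S(T))` composed with a map of `C_F(T)`. -/
theorem exists_factor (hS : IsPGroup p S) (hF : F.IsSaturated p) (hT : F.StronglyClosed T) (hC : F.StronglyClosed C)
    (hCT : C ≤ centralizerIn S T) {P : Subgroup Ω} (hPC : P ≤ C) {φ : P →* Ω} (hφ : φ ∈ F.Hom P) :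
    ∃ b ∈ F.autGroup (hat S T), ∃ φ₁ ∈ F.centralizerHom T P, ∀ (x : P) (hx : φ₁ x ∈ hat S T),
      φ x = ((b ⟨φ₁ x, hx⟩ : ↥(hat S T)) : Ω) := by
  classical
  have hTS : T ≤ S := hT.1
  haveI : Finite T := finite_of_le hTS
  obtain ⟨φ', hφ', hφ'a⟩ := exists_ext_T hS hF hT hC hCT hPC hφ
  have hFN := isFullyNormalized_of_stronglyClosed hT
  have hres := res_mem hφ' (le_sup_right : T ≤ P ⊔ T)
  have hresv : ∀ t : T, (φ'.comp (Subgroup.inclusion (le_sup_right : T ≤ P ⊔ T))) t ∈ T :=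
    fun t => stronglyClosed_apply hT hφ' _ t.2
  let β : MulAut T := autOfHom _ (F.injective_of_mem hres) hresv
  have hβa : ∀ t : T, ((β t : T) : Ω) = φ' (Subgroup.inclusion le_sup_right t) := fun _ => rfl
  have hβF : β ∈ F.autGroup T := autOfHom_mem hres hresv
  obtain ⟨b, hb, hbg⟩ := exists_ext hS hF hFN hβF
  have hφC : ∀ x : P, φ x ∈ centralizerIn S T := fun x => hCT (hC.2 P hPC φ hφ x)
  have hv : ∀ u, φ' u ∈ hat S T := by
    intro u
    refine map_mem_sup_of_ext φ' (fun y => ?_) (fun y => ?_) u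
    · rw [hφ'a]
      exact cen_le_hat T (hφC y)
    · rw [← hβa]
      exact le_hat T (β y).2
  have hψ := F.comp_mem hφ' (autGroup_mem_hom (hat_le hTS) (Subgroup.inv_mem _ hb)) hv
  set ψ : ↥(P ⊔ T) →* Ω := ((hat S T).subtype.comp (b⁻¹ : MulAut ↥(hat S T)).toMonoidHom).comp (φ'.codRestrict _ hv) with hψd
  have hφ₁ := res_mem hψ (le_sup_left : P ≤ P ⊔ T)
  have hval : ∀ x : P, (ψ.comp (Subgroup.inclusion (le_sup_left : P ≤ P ⊔ T))) x =
      (((b⁻¹ : MulAut ↥(hat S T)) ⟨φ x, cen_le_hat T (hφC x)⟩ : ↥(hat S T)) : Ω) := by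
    intro x
    show (((b⁻¹ : MulAut ↥(hat S T)) (φ'.codRestrict _ hv (Subgroup.inclusion le_sup_left x)) : ↥(hat S T)) : Ω) = _
    congr 2
    exact Subtype.ext (hφ'a x)
  have hvalU : ∀ x : P, (ψ.comp (Subgroup.inclusion (le_sup_left : P ≤ P ⊔ T))) x ∈ centralizerIn S T := by
    intro x
    rw [hval]
    exact inv_cen hTS hbg ⟨φ x, cen_le_hat T (hφC x)⟩ (hφC x)
  refine ⟨b, hb, ψ.comp (Subgroup.inclusion le_sup_left), ⟨hφ₁, hPC.trans hCT, hvalU, ψ, hψ, fun _ => rfl, fun t => ?_⟩,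
    fun x hx => ?_⟩
  · show (((b⁻¹ : MulAut ↥(hat S T)) (φ'.codRestrict _ hv (Subgroup.inclusion le_sup_right t)) : ↥(hat S T)) : Ω) = t
    have e : φ'.codRestrict _ hv (Subgroup.inclusion le_sup_right t) = b (Subgroup.inclusion (le_hat T) t) := by
      apply Subtype.ext
      rw [hbg]
      exact (hβa t).symm
    rw [e]
    simp
  · have e : (⟨(ψ.comp (Subgroup.inclusion (le_sup_left : P ≤ P ⊔ T))) x, hx⟩ : ↥(hat S T)) =
        (b⁻¹ : MulAut ↥(hat S T)) ⟨φ x, cen_le_hat T (hφC x)⟩ := Subtype.ext (hval x)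
    rw [e]
    simp

/-- Conjugation by an element of `F.Hom (C ⊔ T)` preserves automorphisms in `C_F(T)`. -/
theorem congr_mem_D₀ (hT : F.StronglyClosed T) (hCT : C ≤ centralizerIn S T) {D₀ : FusionSystem (centralizerIn S T)}
    (hD₀ : F.IsCentralizerSystem T D₀) {f₀ : ↥(C ⊔ T) →* Ω} (hf₀ : f₀ ∈ F.Hom (C ⊔ T)) {Q Q₁ : Subgroup Ω} (hQC : Q ≤ C)
    (e : Q ≃* Q₁) (he : ∀ x : Q, ((e x : Q₁) : Ω) = f₀ ⟨x, le_sup_left (a := C) (hQC x.2)⟩) {r : MulAut Q}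
    (hr : r ∈ D₀.autGroup Q) : MulAut.congr e r ∈ D₀.autGroup Q₁ := by
  classical
  have hTS : T ≤ S := hT.1
  haveI : Finite T := finite_of_le hTS
  have hQU : Q ≤ centralizerIn S T := hQC.trans hCT
  have hrD := autGroup_mem_hom hQU hr
  rw [hD₀ Q] at hrD
  obtain ⟨hrF, -, -, r', hr', hr'a, hr'T⟩ := hrD
  have hle : Q ⊔ T ≤ C ⊔ T := sup_le_sup_right hQC _
  have hf := res_mem hf₀ hle
  set f : ↥(Q ⊔ T) →* Ω := f₀.comp (Subgroup.inclusion hle) with hfd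
  have hfQ : ∀ x : Q, ((e x : Q₁) : Ω) = f (Subgroup.inclusion le_sup_left x) := he
  have hfT : ∀ t : T, f (Subgroup.inclusion le_sup_right t) ∈ T := fun t => stronglyClosed_apply hT hf _ t.2
  have hres := res_mem hf (le_sup_right : T ≤ Q ⊔ T)
  have hTr := range_eq_of_card hres hfT le_rfl
  have hsurjT : ∀ t ∈ T, ∃ t₀ : T, f (Subgroup.inclusion le_sup_right t₀) = t := by
    intro t ht
    rw [← hTr] at ht
    exact ht
  have hr1 : f.range = Q₁ ⊔ T := by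
    apply le_antisymm
    · rintro _ ⟨u, rfl⟩
      refine map_mem_sup_of_ext f (fun y => ?_) (fun y => le_sup_right (a := Q₁) (hfT y)) u
      rw [← hfQ]
      exact le_sup_left (a := Q₁) (e y).2
    · refine sup_le (fun y hy => ?_) (fun y hy => ?_)
      · obtain ⟨x, hx⟩ := e.surjective ⟨y, hy⟩
        refine ⟨Subgroup.inclusion le_sup_left x, ?_⟩
        rw [← hfQ, hx]
      · obtain ⟨t₀, ht₀⟩ := hsurjT y hy
        exact ⟨_, ht₀⟩
  have hv : ∀ u, r' u ∈ Q ⊔ T := by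
    intro u
    refine map_mem_sup_of_ext r' (fun y => ?_) (fun y => ?_) u
    · rw [hr'a]
      exact le_sup_left (a := Q) (r y).2
    · rw [hr'T]
      exact le_sup_right (a := Q) y.2
  obtain ⟨g₁, hg₁, hg₁a⟩ := exists_conj_map hf hr1 hr' hv
  have hQ₁U : Q₁ ≤ centralizerIn S T := by
    intro y hy
    obtain ⟨x, hx⟩ := e.surjective ⟨y, hy⟩
    have hy' : y = f (Subgroup.inclusion le_sup_left x) := by
      rw [← hfQ, hx]
    refine ⟨?_, Subgroup.mem_centralizer_iff.2 (fun t ht => ?_)⟩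
    · rw [hy']
      exact map_mem_S hf _
    · obtain ⟨t₀, ht₀⟩ := hsurjT t ht
      rw [hy', ← ht₀, ← map_mul, ← map_mul]
      congr 1
      exact Subtype.ext (comm_of_mem_cen (hQU x.2).2 t₀.2)
  have hrF' : r ∈ F.autGroup Q := mem_autGroup_of_mem hrF
  have hres₂ := res_mem hf (le_sup_left : Q ≤ Q ⊔ T)
  have hconj := congr_mem_self hres₂ e hfQ hrF'
  apply mem_autGroup_of_mem
  rw [hD₀ Q₁]
  refine ⟨autGroup_mem_hom (hQ₁U.trans inf_le_left) hconj, hQ₁U, fun y => hQ₁U ((MulAut.congr e r) y).2, g₁, hg₁, fun y => ?_, fun t => ?_⟩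
  · obtain ⟨x, rfl⟩ := e.surjective y
    have hm : f (Subgroup.inclusion le_sup_left x) ∈ Q₁ ⊔ T := by
      rw [← hfQ]
      exact le_sup_left (a := Q₁) (e x).2
    have h1 := hg₁a (Subgroup.inclusion le_sup_left x) hm
    have e1 : Subgroup.inclusion le_sup_left (e x) = (⟨f (Subgroup.inclusion le_sup_left x), hm⟩ : ↥(Q₁ ⊔ T)) :=
      Subtype.ext (hfQ x)
    rw [e1, h1]
    have e2 : (⟨r' (Subgroup.inclusion le_sup_left x), hv _⟩ : ↥(Q ⊔ T)) = Subgroup.inclusion le_sup_left (r x) :=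
      Subtype.ext (hr'a x)
    rw [e2, ← hfQ]
    show _ = (((MulAut.congr e r) (e x) : Q₁) : Ω)
    simp [MulAut.congr_apply]
  · obtain ⟨t₀, ht₀⟩ := hsurjT t t.2
    have hm : f (Subgroup.inclusion le_sup_right t₀) ∈ Q₁ ⊔ T := by
      rw [ht₀]
      exact le_sup_right (a := Q₁) t.2
    have h1 := hg₁a (Subgroup.inclusion le_sup_right t₀) hm
    have e1 : Subgroup.inclusion le_sup_right t = (⟨f (Subgroup.inclusion le_sup_right t₀), hm⟩ : ↥(Q₁ ⊔ T)) :=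
      Subtype.ext ht₀.symm
    rw [e1, h1]
    have e2 : (⟨r' (Subgroup.inclusion le_sup_right t₀), hv _⟩ : ↥(Q ⊔ T)) = Subgroup.inclusion le_sup_right t₀ :=
      Subtype.ext (hr'T t₀)
    rw [e2, ht₀]

end Ext

end Cfsg.Agent.Lib.Fusion.GoodLift
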