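/-
The functor `θ` on the maps of a saturated fusion system attached to an `F`-stable homomorphism `χ` of `S` to an
abelian `p`-group, part 1: definitions and the local computation.
-/
import Mathlib
import Cfsg.Prelude.Def_FusionSystem
import Cfsg.Agent.Lib.Fusion.Basic
import Cfsg.Agent.Lib.Fusion.Saturated
import Cfsg.Agent.Lib.Fusion.Saturated2
import Cfsg.Agent.Lib.Fusion.Alperin
import Cfsg.Agent.Lib.Fusion.Focal
import Cfsg.Agent.Lib.Fusion.Hyperfocal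
import Cfsg.Agent.Lib.Fusion.HyperfocalThm
import Cfsg.Agent.Lib.Fusion.Centric
import Cfsg.Agent.Lib.Fusion.GroupSylow
import Cfsg.Agent.Lib.Fusion.FNInduction
import Cfsg.Agent.Lib.Fusion.KNormalizer
import Cfsg.Agent.Lib.Fusion.LocalSystems
import Cfsg.Agent.Lib.Fusion.ModelLocal
import Cfsg.Agent.Lib.Fusion.SatCrit2

set_option autoImplicit false

namespace Cfsg.Agent.Lib.Fusion.PTheta

open Cfsg Cfsg.FusionSystem Cfsg.Agent.Lib.Fusion.Basic Cfsg.Agent.Lib.Fusion.Saturated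
open Cfsg.Agent.Lib.Fusion.Saturated2 (card_lt_of_lt)
open Cfsg.Agent.Lib.Fusion.Centric (isConj_map isCentric_of_le)
open Cfsg.Agent.Lib.Fusion.LocalSystems (normalizerSystem normalizerSystem_isNormalizerSystem map_mem_sup_of_ext range_ext_eq)
open Cfsg.Agent.Lib.Fusion.SatCrit (normHom normHom_apply)

variable {Ω : Type*} [Group Ω] {S : Subgroup Ω} {F : FusionSystem S} {C : Type*} [CommGroup C]

/-- `χ` is stable under the maps of `F`. -/
def Stable (F : FusionSystem S) (χ : S →* C) : Prop :=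
  ∀ (P : Subgroup Ω) (φ : P →* Ω) (hφ : φ ∈ F.Hom P) (x : P),
    χ ⟨φ x, map_mem_S hφ x⟩ = χ ⟨x, source_le hφ x.2⟩

/-- `Q` and all its conjugates have their centralizers in `S` inside the kernel of `χ`. -/
def InA (F : FusionSystem S) (χ : S →* C) (Q : Subgroup Ω) : Prop :=
  Q ≤ S ∧ ∀ Q', F.IsConj Q Q' → ∀ (c : Ω) (hc : c ∈ centralizerIn S Q'), χ ⟨c, hc.1⟩ = 1

variable {χ : S →* C}

theorem InA.of_conj {Q Q' : Subgroup Ω} (h : InA F χ Q) (hc : F.IsConj Q Q') : InA F χ Q' :=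
  ⟨Basic.IsConj.le_right hc, fun R hR => h.2 R (Basic.IsConj.trans hc hR)⟩

theorem InA.mono {Q R : Subgroup Ω} (h : InA F χ Q) (hQR : Q ≤ R) (hR : R ≤ S) : InA F χ R := by
  refine ⟨hR, ?_⟩
  rintro _ ⟨φ, hφ, rfl⟩ c hc
  refine h.2 _ (isConj_map hφ hQR) c ⟨hc.1, ?_⟩
  refine Subgroup.centralizer_le ?_ hc.2
  rintro _ ⟨z, -, rfl⟩
  exact ⟨z, rfl⟩

/-- The properties of `θ` for sources of order at least `n`. -/
structure IsTheta (F : FusionSystem S) (χ : S →* C) (n : ℕ) (θ : ∀ P : Subgroup Ω, (P →* Ω) → C) : Prop where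
  conj : ∀ (Q : Subgroup Ω) (g : Ω) (hg : g ∈ S), InA F χ Q → n ≤ Nat.card Q → θ Q (conjHom Q g) = χ ⟨g, hg⟩
  comp : ∀ (P Q : Subgroup Ω) (φ : P →* Ω) (ψ : Q →* Ω), InA F χ P → n ≤ Nat.card P → φ ∈ F.Hom P → ψ ∈ F.Hom Q →
    ∀ h : ∀ x : P, φ x ∈ Q, θ P (ψ.comp (φ.codRestrict Q h)) = θ Q ψ * θ P φ

variable {θ : ∀ P : Subgroup Ω, (P →* Ω) → C} {n : ℕ}

theorem IsTheta.comp' (hθ : IsTheta F χ n θ) {P Q : Subgroup Ω} {φ : P →* Ω} {ψ : Q →* Ω} (hP : InA F χ P)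
    (hn : n ≤ Nat.card P) (hφ : φ ∈ F.Hom P) (hψ : ψ ∈ F.Hom Q) (h : ∀ x : P, φ x ∈ Q) {ρ : P →* Ω}
    (hρ : ∀ x : P, ρ x = ψ ⟨φ x, h x⟩) : θ P ρ = θ Q ψ * θ P φ := by
  have e : ρ = ψ.comp (φ.codRestrict Q h) := by
    ext x
    exact hρ x
  rw [e]
  exact hθ.comp P Q φ ψ hP hn hφ hψ h

theorem IsTheta.subtype (hθ : IsTheta F χ n θ) {P : Subgroup Ω} (hP : InA F χ P) (hn : n ≤ Nat.card P) :
    θ P P.subtype = 1 := by
  have e : conjHom P (1 : Ω) = P.subtype := by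
    ext x
    simp [conjHom]
  have := hθ.conj P 1 S.one_mem hP hn
  rw [e] at this
  rw [this]
  exact map_one χ

theorem IsTheta.res (hθ : IsTheta F χ n θ) {P Q : Subgroup Ω} {ψ : Q →* Ω} (hP : InA F χ P) (hn : n ≤ Nat.card P)
    (hPQ : P ≤ Q) (hψ : ψ ∈ F.Hom Q) {ρ : P →* Ω} (hρ : ∀ x : P, ρ x = ψ (Subgroup.inclusion hPQ x)) :
    θ P ρ = θ Q ψ := by
  have h1 := hθ.comp' hP hn (subtype_mem hP.1) hψ (fun x => hPQ x.2) hρ
  rw [h1, hθ.subtype hP hn, mul_one]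

theorem IsTheta.inv (hθ : IsTheta F χ n θ) {P Q : Subgroup Ω} {φ : P →* Ω} {σ : Q →* Ω} (hP : InA F χ P)
    (hn : n ≤ Nat.card P) (hφ : φ ∈ F.Hom P) (hσ : σ ∈ F.Hom Q) (h : ∀ x : P, φ x ∈ Q)
    (hs : ∀ x : P, σ ⟨φ x, h x⟩ = x) : θ Q σ = (θ P φ)⁻¹ := by
  have h1 := hθ.comp' (ρ := P.subtype) hP hn hφ hσ h (fun x => (hs x).symm)
  rw [hθ.subtype hP hn] at h1
  exact eq_inv_of_mul_eq_one_left h1.symm

/-- The local homomorphism on `Aut_F(P*)`, as a function. -/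
def IsStar (F : FusionSystem S) (χ : S →* C) (Ps : Subgroup Ω) (f : MulAut Ps → C) : Prop :=
  (∀ a ∈ F.autGroup Ps, ∀ b ∈ F.autGroup Ps, f (a * b) = f a * f b) ∧
    ∀ (g : Ω) (hg : g ∈ S) (hN : g ∈ Subgroup.normalizer (Ps : Set Ω)), f (normConj g hN) = χ ⟨g, hg⟩

section Group

variable {A : Type*} [Group A] [Finite A] {p : ℕ} [hp : Fact p.Prime]

/-- A homomorphism from a Sylow subgroup to an abelian group, stable under the fusion in `A`, extends to `A`. -/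
theorem exists_extend_of_stable (R : Sylow p A) (f : (R : Subgroup A) →* C)
    (hf : ∀ (a : A) (x : (R : Subgroup A)) (h : a * x * a⁻¹ ∈ (R : Subgroup A)), f ⟨a * x * a⁻¹, h⟩ = f x) :
    ∃ g : A →* C, ∀ x : (R : Subgroup A), g x = f x := by
  classical
  -- the hyperfocal subgroup lies in the kernel of `f`
  have hyp : (groupFusionSystem (R : Subgroup A)).hyperfocalSubgroup p ≤ f.ker.map (R : Subgroup A).subtype := by
    refine Hyperfocal.hyperfocal_le fun P hP α hα x => ?_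
    have h1 := autGroup_mem_hom hP α.2
    obtain ⟨-, hv, g, hg⟩ := h1
    have hxR : (x : A) ∈ (R : Subgroup A) := hP x.2
    have hyR : ((α : MulAut P) x : A) ∈ (R : Subgroup A) := hP ((α : MulAut P) x).2
    refine ⟨⟨(x : A)⁻¹ * ((α : MulAut P) x : A), (R : Subgroup A).mul_mem ((R : Subgroup A).inv_mem hxR) hyR⟩, ?_, rfl⟩
    have e : (⟨(x : A)⁻¹ * ((α : MulAut P) x : A), (R : Subgroup A).mul_mem ((R : Subgroup A).inv_mem hxR) hyR⟩ :
        (R : Subgroup A)) = (⟨x, hxR⟩ : (R : Subgroup A))⁻¹ * ⟨_, hyR⟩ := rfl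
    show f _ = 1
    rw [e, map_mul, map_inv]
    have h2 : ((α : MulAut P) x : A) = g * x * g⁻¹ := hg x
    have h3 : g * (⟨x, hxR⟩ : (R : Subgroup A)) * g⁻¹ ∈ (R : Subgroup A) := h2 ▸ hyR
    have h4 := hf g ⟨x, hxR⟩ h3
    have h5 : (⟨((α : MulAut P) x : A), hyR⟩ : (R : Subgroup A)) = ⟨g * (⟨x, hxR⟩ : (R : Subgroup A)) * g⁻¹, h3⟩ :=
      Subtype.ext h2
    rw [h5, h4]
    exact inv_mul_cancel _
  have hinf : ∀ x : (R : Subgroup A), (x : A) ∈ pResidual p A → f x = 1 := by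
    intro x hx
    have h1 : (x : A) ∈ (groupFusionSystem (R : Subgroup A)).hyperfocalSubgroup p := by
      rw [HyperfocalThm.hyperfocal_eq R]
      exact ⟨x.2, hx⟩
    obtain ⟨y, hy, hyx⟩ := hyp h1
    have : y = x := Subtype.ext hyx
    rw [← this]
    exact hy
  -- factor through the quotient
  let π := QuotientGroup.mk' (pResidual p A)
  let πR : (R : Subgroup A) →* A ⧸ pResidual p A := π.comp (R : Subgroup A).subtype
  have hsurj : Function.Surjective πR := by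
    intro q
    obtain ⟨a, rfl⟩ := QuotientGroup.mk'_surjective _ q
    obtain ⟨τ, hτ, r, hr, he⟩ := Focal.exists_sylow_mul_residual R a
    refine ⟨⟨τ, hτ⟩, ?_⟩
    show π τ = π a
    rw [he, map_mul]
    have : π r = 1 := (QuotientGroup.eq_one_iff r).2 hr
    rw [this, mul_one]
  have hker : πR.ker ≤ f.ker := by
    intro x hx
    exact hinf x ((QuotientGroup.eq_one_iff (x : A)).1 hx)
  let f' := MonoidHom.liftOfRightInverse πR (Function.surjInv hsurj) (Function.rightInverse_surjInv hsurj) ⟨f, hker⟩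
  refine ⟨f'.comp π, fun x => ?_⟩
  exact MonoidHom.liftOfRightInverse_comp_apply πR (Function.surjInv hsurj) (Function.rightInverse_surjInv hsurj)
    ⟨f, hker⟩ x

end Group

section Main

variable [Finite S] {p : ℕ} [hp : Fact p.Prime]

/-- The local homomorphism exists. -/
theorem exists_star (hS : IsPGroup p S) (hF : F.IsSaturated p) (hχ : Stable F χ) {Ps : Subgroup Ω}
    (hFN : F.IsFullyNormalized Ps) (hA : InA F χ Ps) : ∃ f, IsStar F χ Ps f := by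
  classical
  obtain ⟨hPS, R, hR⟩ := (fullyNormalized_props hS hF hFN).2
  haveI : Finite (F.autGroup Ps) := finite_autGroup hPS
  have hrec := fullyNormalized_receptive hS hF hFN
  have hNN : normalizerIn S Ps ≤ Subgroup.normalizer (Ps : Set Ω) := inf_le_right
  have hmem : ∀ g : normalizerIn S Ps, normHom Ps _ hNN g ∈ autInducedBy S Ps := fun g =>
    normConj_mem_autInducedBy g.2.1 g.2.2
  let π₀ : normalizerIn S Ps →* F.autGroup Ps :=
    (normHom Ps _ hNN).codRestrict _ (fun g => autInducedBy_le_autGroup hPS (hmem g))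
  have hπR : ∀ g, π₀ g ∈ (R : Subgroup (F.autGroup Ps)) := fun g => by
    rw [hR]
    exact hmem g
  let π₁ : normalizerIn S Ps →* (R : Subgroup (F.autGroup Ps)) := π₀.codRestrict _ hπR
  have hπ₁v : ∀ (g : normalizerIn S Ps) (x : Ps), ((((π₁ g : F.autGroup Ps) : MulAut Ps) x : Ps) : Ω) = g * x * (g : Ω)⁻¹ :=
    fun _ _ => rfl
  have hsurj : Function.Surjective π₁ := by
    rintro ⟨σ, hσ⟩
    have hσ' := hσ
    rw [hR] at hσ'
    obtain ⟨g, hg, hgv⟩ := mem_autInducedBy_iff.1 hσ'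
    refine ⟨⟨g, hg, mem_normalizer_of_aut hgv⟩, ?_⟩
    apply Subtype.ext
    apply Subtype.ext
    ext x
    exact (hgv x).symm
  let χN : normalizerIn S Ps →* C := χ.comp (Subgroup.inclusion normalizerIn_le)
  have hker : π₁.ker ≤ χN.ker := by
    intro g hg
    have h1 : ∀ x : Ps, (g : Ω) * x * (g : Ω)⁻¹ = x := by
      intro x
      have h2 : π₁ g = 1 := hg
      have h3 := congrArg (fun z : (R : Subgroup (F.autGroup Ps)) => (((z : F.autGroup Ps) : MulAut Ps) x : Ps)) h2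
      exact congrArg (fun z : Ps => (z : Ω)) h3
    have hgC : (g : Ω) ∈ centralizerIn S Ps := by
      refine ⟨g.2.1, Subgroup.mem_centralizer_iff.2 fun y hy => ?_⟩
      have h2 := h1 ⟨y, hy⟩
      exact (mul_inv_eq_iff_eq_mul.1 h2).symm
    exact hA.2 Ps (Basic.IsConj.refl hPS) g hgC
  let f₀ := MonoidHom.liftOfRightInverse π₁ (Function.surjInv hsurj) (Function.rightInverse_surjInv hsurj) ⟨χN, hker⟩
  have hf₀ : ∀ g, f₀ (π₁ g) = χN g := fun g =>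
    MonoidHom.liftOfRightInverse_comp_apply π₁ (Function.surjInv hsurj) (Function.rightInverse_surjInv hsurj) ⟨χN, hker⟩ g
  -- stability
  have hstab : ∀ (a : F.autGroup Ps) (x : (R : Subgroup (F.autGroup Ps))) (h : a * x * a⁻¹ ∈ (R : Subgroup (F.autGroup Ps))),
      f₀ ⟨a * x * a⁻¹, h⟩ = f₀ x := by
    intro a x h
    obtain ⟨g, rfl⟩ := hsurj x
    obtain ⟨g', hg'⟩ := hsurj ⟨_, h⟩
    rw [← hg', hf₀, hf₀]
    have hφ := autGroup_mem_hom hPS a.2
    have hr : (Ps.subtype.comp (a : MulAut Ps).toMonoidHom).range = Ps := by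
      ext y
      constructor
      · rintro ⟨z, rfl⟩
        exact ((a : MulAut Ps) z).2
      · intro hy
        exact ⟨(a : MulAut Ps)⁻¹ ⟨y, hy⟩, by simp⟩
    obtain ⟨ψ, hψ, hext⟩ := hrec.2 Ps _ hφ hr
    have hconj : ∀ y : Ps, (((a : MulAut Ps) ⟨g * y * (g : Ω)⁻¹, (normHom Ps _ hNN g y).2⟩ : Ps) : Ω) =
        g' * ((a : MulAut Ps) y : Ps) * (g' : Ω)⁻¹ := by
      intro y
      have h1 := hπ₁v g' ((a : MulAut Ps) y)
      rw [hg'] at h1
      have e2 : ((a * π₀ g * a⁻¹ : F.autGroup Ps) : MulAut Ps) ((a : MulAut Ps) y) =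
          (a : MulAut Ps) (normHom Ps _ hNN g y) := by
        simp [π₀]
      exact (congrArg (fun z : Ps => (z : Ω)) e2).symm.trans h1 |>.symm.symm
    have hgext : (g : Ω) ∈ extender S Ps (Ps.subtype.comp (a : MulAut Ps).toMonoidHom) :=
      extender_closure_mem g.2.1 g.2.2 g'.2.1 (fun y hy => hconj y)
    have hhS := map_mem_S hψ ⟨g, hgext⟩
    -- `h = ψ g`
    have hcomm : ∀ y : Ps, ψ ⟨g, hgext⟩ * ((a : MulAut Ps) y : Ps) * (ψ ⟨g, hgext⟩)⁻¹ = g' * ((a : MulAut Ps) y : Ps) * (g' : Ω)⁻¹ := by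
      intro y
      have hle : Ps ≤ extender S Ps (Ps.subtype.comp (a : MulAut Ps).toMonoidHom) :=
        le_extender hPS (map_mem_S hφ)
      have h2 := hext y y.2 (hle y.2)
      have h3 := hext (g * y * (g : Ω)⁻¹) (normHom Ps _ hNN g y).2
        (Subgroup.mul_mem _ (Subgroup.mul_mem _ hgext (hle y.2)) (Subgroup.inv_mem _ hgext))
      have e3 : (⟨g * y * (g : Ω)⁻¹, Subgroup.mul_mem _ (Subgroup.mul_mem _ hgext (hle y.2)) (Subgroup.inv_mem _ hgext)⟩ :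
          extender S Ps (Ps.subtype.comp (a : MulAut Ps).toMonoidHom)) = ⟨g, hgext⟩ * ⟨y, hle y.2⟩ * ⟨g, hgext⟩⁻¹ := rfl
      rw [e3, map_mul, map_mul, map_inv, h2] at h3
      exact h3.trans (hconj y)
    have hC : (g' : Ω)⁻¹ * ψ ⟨g, hgext⟩ ∈ centralizerIn S Ps := by
      refine ⟨S.mul_mem (S.inv_mem g'.2.1) hhS, Subgroup.mem_centralizer_iff.2 fun y hy => ?_⟩
      obtain ⟨z, hz⟩ : ∃ z : Ps, (a : MulAut Ps) z = ⟨y, hy⟩ := ⟨(a : MulAut Ps)⁻¹ ⟨y, hy⟩, by simp⟩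
      have h4 := hcomm z
      rw [hz] at h4
      have h5 : ψ ⟨g, hgext⟩ * y = g' * y * (g' : Ω)⁻¹ * ψ ⟨g, hgext⟩ := by
        rw [← h4]
        group
      show y * ((g' : Ω)⁻¹ * ψ ⟨g, hgext⟩) = (g' : Ω)⁻¹ * ψ ⟨g, hgext⟩ * y
      rw [mul_assoc ((g' : Ω)⁻¹), h5]
      group
    have h6 := hA.2 Ps (Basic.IsConj.refl hPS) _ hC
    have h7 := hχ _ ψ hψ ⟨g, hgext⟩
    have h8 : χ ⟨ψ ⟨g, hgext⟩, hhS⟩ = χ ⟨g', g'.2.1⟩ := by
      have e : (⟨ψ ⟨g, hgext⟩, hhS⟩ : S) = ⟨g', g'.2.1⟩ * ⟨(g' : Ω)⁻¹ * ψ ⟨g, hgext⟩, hC.1⟩ := by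
        apply Subtype.ext
        show ψ ⟨g, hgext⟩ = (g' : Ω) * ((g' : Ω)⁻¹ * ψ ⟨g, hgext⟩)
        group
      rw [e, map_mul, h6, mul_one]
    show χ ⟨g', g'.2.1⟩ = χ ⟨g, g.2.1⟩
    rw [← h8, h7]
  obtain ⟨g₀, hg₀⟩ := exists_extend_of_stable R f₀ hstab
  refine ⟨fun α => if h : α ∈ F.autGroup Ps then g₀ ⟨α, h⟩ else 1, ?_, ?_⟩
  · intro a ha b hb
    simp only [dif_pos ha, dif_pos hb, dif_pos ((F.autGroup Ps).mul_mem ha hb)]
    exact map_mul g₀ ⟨a, ha⟩ ⟨b, hb⟩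
  · intro g hg hN
    have h1 : normConj g hN ∈ F.autGroup Ps := autInducedBy_le_autGroup hPS (normConj_mem_autInducedBy hg hN)
    simp only [dif_pos h1]
    have h2 := hg₀ (π₁ ⟨g, hg, hN⟩)
    rw [hf₀] at h2
    exact h2

end Main

end Cfsg.Agent.Lib.Fusion.PTheta
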