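/-
The functor `θ`, part 2: the local computation on the overgroups of a fully normalized subgroup inside its normalizer.
-/
import Mathlib
import Cfsg.Agent.Lib.Fusion.PTheta1

set_option autoImplicit false

namespace Cfsg.Agent.Lib.Fusion.PTheta

open Cfsg Cfsg.FusionSystem Cfsg.Agent.Lib.Fusion.Basic Cfsg.Agent.Lib.Fusion.Saturated
open Cfsg.Agent.Lib.Fusion.Saturated2 (card_lt_of_lt autOfHom autOfHom_coe autOfHom_mem)
open Cfsg.Agent.Lib.Fusion.Centric (isConj_map isCentric_of_le)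
open Cfsg.Agent.Lib.Fusion.LocalSystems (normalizerSystem normalizerSystem_isNormalizerSystem map_mem_sup_of_ext range_ext_eq)

variable {Ω : Type*} [Group Ω] {S : Subgroup Ω} {F : FusionSystem S} {C : Type*} [CommGroup C]
variable {χ : S →* C} {θ : ∀ P : Subgroup Ω, (P →* Ω) → C} {n : ℕ}

variable [Finite S] {p : ℕ} [hp : Fact p.Prime]

/-- A map carrying a subgroup into itself restricts to an automorphism of the subgroup. -/
theorem exists_aut_of_map {K Ps : Subgroup Ω} (hPsK : Ps ≤ K) (hPS : Ps ≤ S) {ψ : K →* Ω} (hψ : ψ ∈ F.Hom K)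
    (hv : ∀ x : Ps, ψ (Subgroup.inclusion hPsK x) ∈ Ps) :
    ∃ a ∈ F.autGroup Ps, ∀ x : Ps, ψ (Subgroup.inclusion hPsK x) = a x := by
  haveI : Finite Ps := finite_of_le hPS
  have h1 := res_mem hψ hPsK
  exact ⟨autOfHom _ (F.injective_of_mem h1) hv, autOfHom_mem h1 hv, fun x => rfl⟩

theorem card_ge_of_not_le {Ps R : Subgroup Ω} (hPS : Ps ≤ S) (hR : R ≤ S) (hn : Nat.card Ps = n) (h : ¬ R ≤ Ps) :
    n + 1 ≤ Nat.card ↥(R ⊔ Ps) := by
  haveI : Finite ↥(R ⊔ Ps) := finite_of_le (sup_le hR hPS)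
  have h1 : Ps < R ⊔ Ps := by
    refine lt_of_le_of_ne le_sup_right fun e => h ?_
    rw [e]
    exact le_sup_left
  have h2 := card_lt_of_lt h1
  omega

theorem eq_one_of_pow_coprime (hCp : IsPGroup p C) {c : C} {m : ℕ} (hm : Nat.Coprime m p) (h : c ^ m = 1) : c = 1 := by
  obtain ⟨k, hk⟩ := IsPGroup.iff_orderOf.1 hCp c
  have h1 : orderOf c ∣ m := orderOf_dvd_of_pow_eq_one h
  have h2 : Nat.Coprime (orderOf c) p := Nat.Coprime.coprime_dvd_left h1 hm
  rw [hk] at h2
  rcases Nat.eq_zero_or_pos k with rfl | hk0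
  · simpa using hk
  · exact absurd h2 (by
      intro h3
      have h4 := (Nat.coprime_pow_left_iff hk0 p p).1 h3
      exact hp.out.one_lt.ne' (by simpa using h4))

theorem IsStar.one {Ps : Subgroup Ω} {f : MulAut Ps → C} (hf : IsStar F χ Ps f) : f 1 = 1 := by
  have h1 := hf.1 1 (one_mem _) 1 (one_mem _)
  rw [mul_one] at h1
  exact left_eq_mul.1 h1

theorem IsStar.inv {Ps : Subgroup Ω} {f : MulAut Ps → C} (hf : IsStar F χ Ps f) {c : MulAut Ps}
    (hc : c ∈ F.autGroup Ps) : f c⁻¹ = (f c)⁻¹ := by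
  have h1 := hf.1 c hc c⁻¹ (inv_mem hc)
  rw [mul_inv_cancel, hf.one] at h1
  exact eq_inv_of_mul_eq_one_right h1.symm

theorem IsStar.pow {Ps : Subgroup Ω} {f : MulAut Ps → C} (hf : IsStar F χ Ps f) {c : MulAut Ps}
    (hc : c ∈ F.autGroup Ps) (k : ℕ) : f (c ^ k) = f c ^ k := by
  induction k with
  | zero => simpa using hf.one
  | succ k ih =>
    rw [pow_succ, pow_succ, hf.1 _ (pow_mem hc k) _ hc, ih]

section Aut

variable {R : Subgroup Ω}

theorem theta_mul (hR : InA F χ R) (hn : n ≤ Nat.card R) (hθ : IsTheta F χ n θ) {y z : MulAut R}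
    (hy : y ∈ F.autGroup R) (hz : z ∈ F.autGroup R) :
    θ R (R.subtype.comp (y * z).toMonoidHom) = θ R (R.subtype.comp y.toMonoidHom) * θ R (R.subtype.comp z.toMonoidHom) :=
  hθ.comp' hR hn (autGroup_mem_hom hR.1 hz) (autGroup_mem_hom hR.1 hy) (fun x => (z x).2) (fun _ => rfl)

theorem theta_one (hR : InA F χ R) (hn : n ≤ Nat.card R) (hθ : IsTheta F χ n θ) :
    θ R (R.subtype.comp (1 : MulAut R).toMonoidHom) = 1 := by
  have e : R.subtype.comp (1 : MulAut R).toMonoidHom = R.subtype := by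
    ext x
    rfl
  rw [e]
  exact hθ.subtype hR hn

theorem theta_pow (hR : InA F χ R) (hn : n ≤ Nat.card R) (hθ : IsTheta F χ n θ) {y : MulAut R}
    (hy : y ∈ F.autGroup R) (k : ℕ) :
    θ R (R.subtype.comp (y ^ k).toMonoidHom) = θ R (R.subtype.comp y.toMonoidHom) ^ k := by
  induction k with
  | zero => simpa using theta_one hR hn hθ
  | succ k ih =>
    rw [pow_succ, pow_succ, theta_mul hR hn hθ (pow_mem hy k) hy, ih]

theorem theta_inv (hR : InA F χ R) (hn : n ≤ Nat.card R) (hθ : IsTheta F χ n θ) {y : MulAut R}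
    (hy : y ∈ F.autGroup R) :
    θ R (R.subtype.comp y⁻¹.toMonoidHom) = (θ R (R.subtype.comp y.toMonoidHom))⁻¹ := by
  have h1 := theta_mul hR hn hθ hy (inv_mem hy)
  rw [mul_inv_cancel, theta_one hR hn hθ] at h1
  exact eq_inv_of_mul_eq_one_right h1.symm

theorem mem_of_normalizerHom {Ps : Subgroup Ω} (hPsR : Ps ≤ R) {φ : R →* Ω} (hφ : φ ∈ F.normalizerHom Ps R) (x : Ps) :
    φ (Subgroup.inclusion hPsR x) ∈ Ps := by
  obtain ⟨-, -, -, ψ, -, hext, himg⟩ := hφ
  have h1 : ψ (Subgroup.inclusion le_sup_left (Subgroup.inclusion hPsR x)) = φ (Subgroup.inclusion hPsR x) := hext _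
  have h2 : ψ (Subgroup.inclusion le_sup_left (Subgroup.inclusion hPsR x)) ∈ (Ps.subgroupOf (R ⊔ Ps)).map ψ :=
    ⟨Subgroup.inclusion le_sup_left (Subgroup.inclusion hPsR x), x.2, rfl⟩
  rw [himg, h1] at h2
  exact h2

/-- The value of `θ` on an automorphism of an overgroup `R` of `P*`, inside `N_S(P*)`. -/
theorem local_aut {Ps : Subgroup Ω} {M : FusionSystem (normalizerIn S Ps)} (hCp : IsPGroup p C)
    (hPS : Ps ≤ S) (hS' : IsPGroup p (normalizerIn S Ps)) (hMN : F.IsNormalizerSystem Ps M) (hM : M.IsSaturated p)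
    (hA : InA F χ R) (hn : n ≤ Nat.card R) (hθ : IsTheta F χ n θ) {f : MulAut Ps → C} (hf : IsStar F χ Ps f)
    (hPsR : Ps ≤ R) (hRFN : M.IsFullyNormalized R) {α : MulAut R} (hα : α ∈ M.autGroup R) :
    ∃ a ∈ F.autGroup Ps, (∀ x : Ps, ((α (Subgroup.inclusion hPsR x) : R) : Ω) = a x) ∧
      θ R (R.subtype.comp α.toMonoidHom) = f a := by
  classical
  haveI : Finite (normalizerIn S Ps) := finite_of_le normalizerIn_le
  have hRN : R ≤ normalizerIn S Ps := hRFN.1
  have hRS : R ≤ S := hA.1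
  obtain ⟨hR', T₀, hT₀⟩ := (fullyNormalized_props hS' hM hRFN).2
  haveI : Finite (M.autGroup R) := finite_autGroup hR'
  have hF1 : ∀ {y : MulAut R}, y ∈ M.autGroup R → R.subtype.comp y.toMonoidHom ∈ F.normalizerHom Ps R := by
    intro y hy
    have h1 := autGroup_mem_hom hR' hy
    rw [hMN R] at h1
    exact h1
  have hF2 : ∀ {y : MulAut R}, y ∈ M.autGroup R → y ∈ F.autGroup R := fun hy =>
    mem_autGroup_of_mem (hF1 hy).1
  let W : MulAut R → Prop := fun y => y ∈ M.autGroup R ∧ ∃ a ∈ F.autGroup Ps,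
    (∀ x : Ps, ((y (Subgroup.inclusion hPsR x) : R) : Ω) = a x) ∧ θ R (R.subtype.comp y.toMonoidHom) = f a
  have hWmul : ∀ {y z}, W y → W z → W (y * z) := by
    rintro y z ⟨hy, a, ha, hav, hat⟩ ⟨hz, b, hb, hbv, hbt⟩
    refine ⟨mul_mem hy hz, a * b, mul_mem ha hb, fun x => ?_, ?_⟩
    · have e : z (Subgroup.inclusion hPsR x) = Subgroup.inclusion hPsR (b x) := Subtype.ext (hbv x)
      show ((y (z (Subgroup.inclusion hPsR x)) : R) : Ω) = a (b x)
      rw [e]
      exact hav _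
    · rw [theta_mul hA hn hθ (hF2 hy) (hF2 hz), hat, hbt, hf.1 a ha b hb]
  have hWinv : ∀ {y}, W y → W y⁻¹ := by
    rintro y ⟨hy, a, ha, hav, hat⟩
    refine ⟨inv_mem hy, a⁻¹, inv_mem ha, fun x => ?_, ?_⟩
    · have e : y (Subgroup.inclusion hPsR (a⁻¹ x)) = Subgroup.inclusion hPsR x := by
        apply Subtype.ext
        rw [hav]
        simp
      rw [← e]
      simp
    · rw [theta_inv hA hn hθ (hF2 hy), hat, hf.inv ha]
  have hWτ : ∀ τ : M.autGroup R, τ ∈ (T₀ : Subgroup (M.autGroup R)) → W τ := by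
    intro τ hτ
    rw [hT₀] at hτ
    obtain ⟨g, hg, hgv⟩ := mem_autInducedBy_iff.1 hτ
    have hgS : g ∈ S := hg.1
    have hgN : g ∈ Subgroup.normalizer (Ps : Set Ω) := hg.2
    refine ⟨τ.2, normConj g hgN, autInducedBy_le_autGroup hPS (normConj_mem_autInducedBy hgS hgN), fun x => ?_, ?_⟩
    · exact hgv _
    · have e : R.subtype.comp (τ : MulAut R).toMonoidHom = conjHom R g := by
        ext x
        exact hgv x
      rw [e, hθ.conj R g hgS hA hn, hf.2 g hgS hgN]
  have hWgen : ∀ y : M.autGroup R, Nat.Coprime (orderOf y) p → W y := by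
    intro y hy
    have hy2 := (y : M.autGroup R).2
    obtain ⟨a, ha, hav⟩ := exists_aut_of_map hPsR hPS (hF1 hy2).1 (mem_of_normalizerHom hPsR (hF1 hy2))
    have hav' : ∀ x : Ps, (((y : MulAut R) (Subgroup.inclusion hPsR x) : R) : Ω) = a x := hav
    have hpow : ∀ k : ℕ, ∀ x : Ps, ((((y : MulAut R) ^ k) (Subgroup.inclusion hPsR x) : R) : Ω) = (a ^ k) x := by
      intro k
      induction k with
      | zero => intro x; rfl
      | succ k ih =>
        intro x
        have e : (y : MulAut R) (Subgroup.inclusion hPsR x) = Subgroup.inclusion hPsR (a x) := Subtype.ext (hav' x)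
        rw [pow_succ, pow_succ]
        show ((((y : MulAut R) ^ k) ((y : MulAut R) (Subgroup.inclusion hPsR x)) : R) : Ω) = (a ^ k) (a x)
        rw [e]
        exact ih _
    have hym : (y : MulAut R) ^ orderOf y = 1 := by
      have := pow_orderOf_eq_one y
      exact congrArg (fun z : M.autGroup R => (z : MulAut R)) this
    have ham : a ^ orderOf y = 1 := by
      ext x
      have := hpow (orderOf y) x
      rw [hym] at this
      exact this.symm
    have h1 : f a = 1 := by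
      have h2 := hf.pow ha (orderOf y)
      rw [ham, hf.one] at h2
      exact eq_one_of_pow_coprime hCp hy h2.symm
    have h3 : θ R (R.subtype.comp (y : MulAut R).toMonoidHom) = 1 := by
      have h2 := theta_pow hA hn hθ (hF2 hy2) (orderOf y)
      rw [hym, theta_one hA hn hθ] at h2
      exact eq_one_of_pow_coprime hCp hy h2.symm
    exact ⟨hy2, a, ha, hav', h3.trans h1.symm⟩
  have hWres : ∀ r ∈ pResidual p (M.autGroup R), W (r : M.autGroup R) := by
    intro r hr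
    induction hr using Subgroup.closure_induction with
    | mem x hx => exact hWgen x hx
    | one =>
      have := hWτ 1 (one_mem _)
      exact this
    | mul x y _ _ hx hy => exact hWmul hx hy
    | inv x _ hx => exact hWinv hx
  obtain ⟨τ, hτ, r, hr, he⟩ := Focal.exists_sylow_mul_residual T₀ (⟨α, hα⟩ : M.autGroup R)
  have hW : W α := by
    have e : α = (τ : MulAut R) * (r : MulAut R) := congrArg (fun z : M.autGroup R => (z : MulAut R)) he
    rw [e]
    exact hWmul (hWτ τ hτ) (hWres r hr)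
  exact hW.2

end Aut

/-- The value of `θ` on the extensions of an automorphism of a fully normalized `P*`, inside `N_S(P*)`. -/
theorem local_val (hS : IsPGroup p S) (hF : F.IsSaturated p) (hCp : IsPGroup p C) {Ps : Subgroup Ω}
    (hFN : F.IsFullyNormalized Ps) (hA : InA F χ Ps) (hn : Nat.card Ps = n) (hθ : IsTheta F χ (n + 1) θ)
    {f : MulAut Ps → C} (hf : IsStar F χ Ps f) {Q : Subgroup Ω} (hPQ : Ps ≤ Q) (hQN : Q ≤ normalizerIn S Ps)
    (hne : Ps ≠ Q) {b : Q →* Ω} (hb : b ∈ F.Hom Q) {a : MulAut Ps}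
    (ha : ∀ x : Ps, b (Subgroup.inclusion hPQ x) = a x) : θ Q b = f a := by
  classical
  have hPS : Ps ≤ S := hFN.1
  haveI : Finite (normalizerIn S Ps) := finite_of_le normalizerIn_le
  have hS' : IsPGroup p (normalizerIn S Ps) := isPGroup_of_le hS normalizerIn_le
  let M := normalizerSystem F Ps hPS
  have hMN : F.IsNormalizerSystem Ps M := normalizerSystem_isNormalizerSystem F Ps hPS
  have hM : M.IsSaturated p := KNormalizer.isSaturated_normalizerSystem hS hF hFN hMN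
  have hSup : ∀ {R : Subgroup Ω}, R ≤ S → R ⊔ Ps ≤ S := fun h => sup_le h hPS
  have hInA : ∀ {R : Subgroup Ω}, R ≤ S → InA F χ (R ⊔ Ps) := fun h => hA.mono le_sup_right (hSup h)
  have hN1 : ∀ {R : Subgroup Ω}, R ≤ S → ¬ R ≤ Ps → n + 1 ≤ Nat.card ↥(R ⊔ Ps) := fun h h' =>
    card_ge_of_not_le hPS h hn h'
  let Pi : ∀ R : Subgroup Ω, (R →* Ω) → Prop := fun R φ => ∃ ψ ∈ F.Hom (R ⊔ Ps),
    (∀ x : R, ψ (Subgroup.inclusion le_sup_left x) = φ x) ∧ ∃ a' ∈ F.autGroup Ps,
      (∀ x : Ps, ψ (Subgroup.inclusion le_sup_right x) = a' x) ∧ (¬ R ≤ Ps → θ (R ⊔ Ps) ψ = f a')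
  have hres : ∀ {P R : Subgroup Ω} {φ : P →* Ω}, φ ∈ M.Hom P → Pi P φ → ∀ h : R ≤ P,
      Pi R (φ.comp (Subgroup.inclusion h)) := by
    rintro P R φ hφ ⟨ψ, hψ, hext, a', ha', hav, hval⟩ h
    have hPS' : P ≤ S := (source_le hφ).trans normalizerIn_le
    have hsup : R ⊔ Ps ≤ P ⊔ Ps := sup_le_sup_right h _
    refine ⟨ψ.comp (Subgroup.inclusion hsup), res_mem hψ hsup, fun x => hext ⟨x, h x.2⟩, a', ha', fun x => hav x,
      fun hn' => ?_⟩
    have hRS : R ≤ S := h.trans hPS'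
    rw [hθ.res (hInA hRS) (hN1 hRS hn') hsup hψ (fun _ => rfl)]
    exact hval fun h' => hn' (h.trans h')
  have key : ∀ {R : Subgroup Ω} {φ : R →* Ω}, φ ∈ M.Hom R → Pi R φ := by
    refine FNInduction.fn_induction hS' hM Pi hres ?_ ?_ ?_
    · rintro P₀ Q₀ φ ψ hφ hψ' ⟨ψ₀, h₀, e₀, a₀, ha₀, v₀, t₀⟩ ⟨ψ₁, h₁, e₁, a₁, ha₁, v₁, t₁⟩ h
      have hP₀S : P₀ ≤ S := (source_le hφ).trans normalizerIn_le
      have hQ₀S : Q₀ ≤ S := (source_le hψ').trans normalizerIn_le
      have hv : ∀ x, ψ₀ x ∈ Q₀ ⊔ Ps := by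
        refine map_mem_sup_of_ext ψ₀ (fun x => ?_) (fun x => ?_)
        · rw [e₀]
          exact (le_sup_left : Q₀ ≤ Q₀ ⊔ Ps) (h x)
        · rw [v₀]
          exact (le_sup_right : Ps ≤ Q₀ ⊔ Ps) (a₀ x).2
      refine ⟨_, F.comp_mem h₀ h₁ hv, fun x => ?_, a₁ * a₀, mul_mem ha₁ ha₀, fun x => ?_, fun hn' => ?_⟩
      · have e : (ψ₀.codRestrict (Q₀ ⊔ Ps) hv) (Subgroup.inclusion le_sup_left x) =
            Subgroup.inclusion le_sup_left (φ.codRestrict Q₀ h x) := Subtype.ext (e₀ x)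
        show ψ₁ ((ψ₀.codRestrict (Q₀ ⊔ Ps) hv) (Subgroup.inclusion le_sup_left x)) = _
        rw [e, e₁]
        rfl
      · have e : (ψ₀.codRestrict (Q₀ ⊔ Ps) hv) (Subgroup.inclusion le_sup_right x) =
            Subgroup.inclusion le_sup_right (a₀ x) := Subtype.ext (v₀ x)
        show ψ₁ ((ψ₀.codRestrict (Q₀ ⊔ Ps) hv) (Subgroup.inclusion le_sup_right x)) = _
        rw [e, v₁]
        rfl
      · have hQn : ¬ Q₀ ≤ Ps := by
          intro hle
          apply hn'
          intro x hx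
          have h1 : φ ⟨x, hx⟩ ∈ Ps := hle (h ⟨x, hx⟩)
          have h2 : ψ₀ (Subgroup.inclusion le_sup_left ⟨x, hx⟩) =
              ψ₀ (Subgroup.inclusion le_sup_right ((a₀⁻¹) ⟨_, h1⟩)) := by
            rw [e₀, v₀]
            simp
          have h3 := congrArg (fun z : ↥(P₀ ⊔ Ps) => (z : Ω)) (F.injective_of_mem h₀ h2)
          have h4 : x = (((a₀⁻¹) ⟨_, h1⟩ : Ps) : Ω) := h3
          rw [h4]
          exact ((a₀⁻¹) ⟨_, h1⟩ : Ps).2
        rw [hθ.comp _ _ _ _ (hInA hP₀S) (hN1 hP₀S hn') h₀ h₁ hv, t₁ hQn, t₀ hn', hf.1 a₁ ha₁ a₀ ha₀]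
    · rintro P₀ Q₀ φ ψ hφ hψ' hr hback ⟨ψ₀, h₀, e₀, a₀, ha₀, v₀, t₀⟩
      have hP₀S : P₀ ≤ S := (source_le hφ).trans normalizerIn_le
      have hQ₀S : Q₀ ≤ S := (source_le hψ').trans normalizerIn_le
      have himg : (Ps.subgroupOf (P₀ ⊔ Ps)).map ψ₀ = Ps := by
        ext y
        constructor
        · rintro ⟨z, hz, rfl⟩
          have h1 := v₀ ⟨z, hz⟩
          have h2 : ψ₀ z = a₀ ⟨z, hz⟩ := h1
          rw [h2]
          exact (a₀ ⟨z, hz⟩).2
        · intro hy
          refine ⟨Subgroup.inclusion le_sup_right ((a₀⁻¹) ⟨y, hy⟩), ((a₀⁻¹) ⟨y, hy⟩ : Ps).2, ?_⟩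
          rw [v₀]
          simp
      have hr' : ψ₀.range = Q₀ ⊔ Ps := by
        rw [range_ext_eq e₀ himg, hr]
      obtain ⟨σ, hσ, hσr, hσ1, hσ2⟩ := exists_inv h₀ hr'
      have hσQ : ∀ x : Q₀, σ (Subgroup.inclusion le_sup_left x) = ψ x := by
        intro x
        have hx : (x : Ω) ∈ φ.range := by
          rw [hr]
          exact x.2
        obtain ⟨y, hy⟩ := hx
        have h1 : ψ₀ (Subgroup.inclusion le_sup_left y) = x := (e₀ y).trans hy
        have h2 := hσ1 (Subgroup.inclusion le_sup_left y) (by rw [h1]; exact (le_sup_left : Q₀ ≤ Q₀ ⊔ Ps) x.2)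
        have e1 : (⟨ψ₀ (Subgroup.inclusion le_sup_left y), by rw [h1]; exact (le_sup_left : Q₀ ≤ Q₀ ⊔ Ps) x.2⟩ : ↥(Q₀ ⊔ Ps)) =
            Subgroup.inclusion le_sup_left x := Subtype.ext h1
        rw [e1] at h2
        rw [h2]
        have hyQ : φ y ∈ Q₀ := by
          rw [hy]
          exact x.2
        have h3 := hback y hyQ
        have e2 : (⟨φ y, hyQ⟩ : Q₀) = x := Subtype.ext hy
        rw [e2] at h3
        exact h3.symm
      have hσP : ∀ x : Ps, σ (Subgroup.inclusion le_sup_right x) = (a₀⁻¹ x : Ps) := by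
        intro x
        have h1 : ψ₀ (Subgroup.inclusion le_sup_right ((a₀⁻¹) x)) = x := by
          rw [v₀]
          simp
        have h2 := hσ1 (Subgroup.inclusion le_sup_right ((a₀⁻¹) x)) (by rw [h1]; exact (le_sup_right : Ps ≤ Q₀ ⊔ Ps) x.2)
        have e1 : (⟨ψ₀ (Subgroup.inclusion le_sup_right ((a₀⁻¹) x)), by rw [h1]; exact (le_sup_right : Ps ≤ Q₀ ⊔ Ps) x.2⟩ : ↥(Q₀ ⊔ Ps)) =
            Subgroup.inclusion le_sup_right x := Subtype.ext h1
        rw [e1] at h2
        exact h2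
      refine ⟨σ, hσ, hσQ, a₀⁻¹, inv_mem ha₀, hσP, fun hn' => ?_⟩
      have hPn : ¬ P₀ ≤ Ps := by
        intro hle
        apply hn'
        intro x hx
        have hx' : x ∈ φ.range := by
          rw [hr]
          exact hx
        obtain ⟨y, rfl⟩ := hx'
        have h1 := e₀ y
        have h2 := v₀ ⟨(y : Ω), hle y.2⟩
        have e : (Subgroup.inclusion (le_sup_left : P₀ ≤ P₀ ⊔ Ps) y) =
            Subgroup.inclusion (le_sup_right : Ps ≤ P₀ ⊔ Ps) ⟨(y : Ω), hle y.2⟩ := rfl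
        rw [← h1, e, h2]
        exact (a₀ _).2
      have hvv : ∀ x, ψ₀ x ∈ Q₀ ⊔ Ps := fun x => by
        rw [← hr']
        exact ⟨x, rfl⟩
      rw [hθ.inv (hInA hP₀S) (hN1 hP₀S hPn) h₀ hσ hvv (fun x => hσ1 x _), t₀ hPn, hf.inv ha₀]
    · intro R φ hRFN hφ hr IH
      have hφ' := hφ
      rw [hMN R] at hφ'
      obtain ⟨hφF, hRN, hφv, ψ, hψ, hext, himg⟩ := hφ'
      have hRS : R ≤ S := hRN.trans normalizerIn_le
      by_cases hsub : Ps ≤ R
      · -- the automorphism case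
        have hval : ∀ x : Ps, ψ (Subgroup.inclusion le_sup_right x) ∈ Ps := by
          intro x
          have h2 : ψ (Subgroup.inclusion le_sup_right x) ∈ (Ps.subgroupOf (R ⊔ Ps)).map ψ :=
            ⟨Subgroup.inclusion le_sup_right x, x.2, rfl⟩
          rwa [himg] at h2
        obtain ⟨a', ha', hav⟩ := exists_aut_of_map le_sup_right hPS hψ hval
        refine ⟨ψ, hψ, hext, a', ha', hav, fun hn' => ?_⟩
        haveI : Finite R := finite_of_le hRS
        have hRA : InA F χ R := hA.mono hsub hRS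
        have hRc : n + 1 ≤ Nat.card R := by
          have h1 : Ps < R := lt_of_le_of_ne hsub fun e => hn' e.symm.le
          have h2 := card_lt_of_lt h1
          omega
        have hφR : ∀ x, φ x ∈ R := fun x => hr.le ⟨x, rfl⟩
        have hαm := autOfHom_mem hφ hφR
        obtain ⟨a₁, ha₁, ha₁v, ha₁t⟩ := local_aut hCp hPS hS' hMN hM hRA hRc hθ hf hsub hRFN hαm
        have e1 : R.subtype.comp (autOfHom φ (M.injective_of_mem hφ) hφR).toMonoidHom = φ := by
          ext x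
          rfl
        rw [e1] at ha₁t
        have e2 : a' = a₁ := by
          ext x
          rw [← hav, ← ha₁v]
          exact hext ⟨x, hsub x.2⟩
        rw [e2, ← ha₁t]
        exact (hθ.res hRA hRc le_sup_left hψ (fun x => (hext x).symm)).symm
      · have hψM : ψ ∈ M.Hom (R ⊔ Ps) :=
          ModelLocal.mem_normalizerSystem hMN le_sup_right (sup_le hRN (le_normalizerIn hPS)) hψ himg
        haveI : Finite ↥(R ⊔ Ps) := finite_of_le (hSup hRS)
        have h1 : R < R ⊔ Ps := by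
          refine lt_of_le_of_ne le_sup_left fun e => hsub ?_
          rw [e]
          exact le_sup_right
        have h2 := hres hψM (IH _ ψ (card_lt_of_lt h1) hψM) (le_sup_left : R ≤ R ⊔ Ps)
        have e : ψ.comp (Subgroup.inclusion (le_sup_left : R ≤ R ⊔ Ps)) = φ := by
          ext x
          exact hext x
        rw [e] at h2
        exact h2
  have hQS : Q ≤ S := hQN.trans normalizerIn_le
  have himg : (Ps.subgroupOf Q).map b = Ps := by
    ext y
    constructor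
    · rintro ⟨z, hz, rfl⟩
      have h1 := ha ⟨z, hz⟩
      have h2 : b z = a ⟨z, hz⟩ := h1
      rw [h2]
      exact (a ⟨z, hz⟩).2
    · intro hy
      refine ⟨Subgroup.inclusion hPQ ((a⁻¹) ⟨y, hy⟩), ((a⁻¹) ⟨y, hy⟩ : Ps).2, ?_⟩
      rw [ha]
      simp
  have hbM : b ∈ M.Hom Q := ModelLocal.mem_normalizerSystem hMN hPQ hQN hb himg
  obtain ⟨ψ, hψ, hext, a', ha', hav, hval⟩ := key hbM
  have hQn : ¬ Q ≤ Ps := fun h => hne (le_antisymm hPQ h)
  have e2 : a' = a := by
    ext x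
    rw [← hav, ← ha]
    exact hext ⟨x, hPQ x.2⟩
  haveI : Finite Q := finite_of_le hQS
  have hQc : n + 1 ≤ Nat.card Q := by
    have h1 : Ps < Q := lt_of_le_of_ne hPQ hne
    have h2 := card_lt_of_lt h1
    omega
  rw [hθ.res (hA.mono hPQ hQS) hQc le_sup_left hψ (fun x => (hext x).symm), hval hQn, e2]

end Cfsg.Agent.Lib.Fusion.PTheta
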