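/-
The functor `θ`, part 3: downward induction on the order of the source.
-/
import Mathlib
import Cfsg.Agent.Lib.Fusion.PTheta2

set_option autoImplicit false

namespace Cfsg.Agent.Lib.Fusion.PTheta

open Cfsg Cfsg.FusionSystem Cfsg.Agent.Lib.Fusion.Basic Cfsg.Agent.Lib.Fusion.Saturated
open Cfsg.Agent.Lib.Fusion.Saturated2 (card_lt_of_lt autOfHom autOfHom_coe autOfHom_mem)
open Cfsg.Agent.Lib.Fusion.Centric (isConj_map isCentric_of_le)

variable {Ω : Type*} [Group Ω] {S : Subgroup Ω} {F : FusionSystem S} {C : Type*} [CommGroup C]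
variable {χ : S →* C} {θ : ∀ P : Subgroup Ω, (P →* Ω) → C} {n : ℕ}

open Classical in
/-- A chosen fully normalized member of a family. -/
noncomputable def repSet (F : FusionSystem S) (𝒮 : Set (Subgroup Ω)) : Subgroup Ω :=
  if h : ∃ Q ∈ 𝒮, F.IsFullyNormalized Q then h.choose else ⊥

/-- A chosen fully normalized conjugate. -/
noncomputable def rep (F : FusionSystem S) (P : Subgroup Ω) : Subgroup Ω := repSet F {Q | F.IsConj P Q}

theorem rep_eq {P Q : Subgroup Ω} (h : F.IsConj P Q) : rep F P = rep F Q := by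
  have e : {R | F.IsConj P R} = {R | F.IsConj Q R} := by
    ext R
    exact ⟨fun h2 => Basic.IsConj.trans (Basic.IsConj.symm h) h2, fun h2 => Basic.IsConj.trans h h2⟩
  unfold rep
  rw [e]

/-- The conditions on a map carrying `N_S(P)` towards the normalizer of the representative. -/
structure OmSpec (F : FusionSystem S) (P : Subgroup Ω) (ω : normalizerIn S P →* Ω) : Prop where
  mem : ω ∈ F.Hom (normalizerIn S P)
  val : ∀ x, ω x ∈ normalizerIn S (rep F P)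
  map : (P.subgroupOf (normalizerIn S P)).map ω = rep F P

open Classical in
/-- A chosen map carrying `N_S(P)` towards the normalizer of the representative. -/
noncomputable def om (F : FusionSystem S) (P : Subgroup Ω) : normalizerIn S P →* Ω :=
  if h : ∃ ω, OmSpec F P ω then h.choose else 1

open Classical in
/-- The correcting factor attached to `P`. -/
noncomputable def eOf (F : FusionSystem S) (θ : ∀ P : Subgroup Ω, (P →* Ω) → C) (P : Subgroup Ω) : C :=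
  if P = S then 1 else θ (normalizerIn S P) (om F P)

open Classical in
/-- A chosen local homomorphism. -/
noncomputable def starOf (F : FusionSystem S) (χ : S →* C) (Ps : Subgroup Ω) : MulAut Ps → C :=
  if h : ∃ f, IsStar F χ Ps f then h.choose else fun _ => 1

/-- `a` is the automorphism of `Ps` induced by `φ` through the chosen maps. -/
def RelA (F : FusionSystem S) (P R₂ Ps : Subgroup Ω) (φ : P →* Ω) (a : MulAut Ps) : Prop :=
  ∀ (x : P) (hx₁ : (x : Ω) ∈ normalizerIn S P) (hx₂ : φ x ∈ normalizerIn S R₂) (h : om F P ⟨x, hx₁⟩ ∈ Ps),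
    om F R₂ ⟨φ x, hx₂⟩ = a ⟨om F P ⟨x, hx₁⟩, h⟩

open Classical in
/-- A chosen automorphism. -/
noncomputable def aOf (F : FusionSystem S) (P : Subgroup Ω) (φ : P →* Ω) : MulAut (rep F P) :=
  if h : ∃ a ∈ F.autGroup (rep F P), RelA F P φ.range (rep F P) φ a then h.choose else 1

/-- The value of the new layer. -/
noncomputable def layerVal (F : FusionSystem S) (χ : S →* C) (θ : ∀ P : Subgroup Ω, (P →* Ω) → C) (P : Subgroup Ω)
    (φ : P →* Ω) : C :=
  (eOf F θ φ.range)⁻¹ * starOf F χ (rep F P) (aOf F P φ) * eOf F θ P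

open Classical in
/-- The extended functor. -/
noncomputable def thetaStep (F : FusionSystem S) (χ : S →* C) (θ : ∀ P : Subgroup Ω, (P →* Ω) → C) (n : ℕ)
    (P : Subgroup Ω) (φ : P →* Ω) : C :=
  if n + 1 ≤ Nat.card P then θ P φ else layerVal F χ θ P φ

section Main

variable [Finite S] {p : ℕ} [hp : Fact p.Prime]

theorem rep_spec (hS : IsPGroup p S) {P : Subgroup Ω} (hP : P ≤ S) : F.IsConj P (rep F P) ∧ F.IsFullyNormalized (rep F P) := by
  classical
  have h : ∃ Q ∈ {Q | F.IsConj P Q}, F.IsFullyNormalized Q := by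
    obtain ⟨Q, h1, h2⟩ := exists_fullyNormalized (F := F) hP
    exact ⟨Q, h1, h2⟩
  unfold rep repSet
  rw [dif_pos h]
  exact h.choose_spec

theorem om_spec (hS : IsPGroup p S) (hF : F.IsSaturated p) {P : Subgroup Ω} (hP : P ≤ S) : OmSpec F P (om F P) := by
  classical
  have h : ∃ ω, OmSpec F P ω := by
    obtain ⟨h1, h2⟩ := rep_spec (F := F) hS hP
    obtain ⟨ω, h3, h4, h5⟩ := exists_map_to_fullyNormalized hS hF h2 h1
    exact ⟨ω, h3, h4, h5⟩
  unfold om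
  rw [dif_pos h]
  exact h.choose_spec

theorem starOf_spec (hS : IsPGroup p S) (hF : F.IsSaturated p) (hχ : Stable F χ) {Ps : Subgroup Ω}
    (hFN : F.IsFullyNormalized Ps) (hA : InA F χ Ps) : IsStar F χ Ps (starOf F χ Ps) := by
  classical
  have h := exists_star hS hF hχ hFN hA
  unfold starOf
  rw [dif_pos h]
  exact h.choose_spec

theorem om_mem_of_mem (hS : IsPGroup p S) (hF : F.IsSaturated p) {P : Subgroup Ω} (hP : P ≤ S) (x : normalizerIn S P)
    (hx : (x : Ω) ∈ P) : om F P x ∈ rep F P := by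
  have h := (om_spec (F := F) hS hF hP).map
  have h2 : om F P x ∈ (P.subgroupOf (normalizerIn S P)).map (om F P) := ⟨x, hx, rfl⟩
  rwa [h] at h2

theorem exists_om_eq (hS : IsPGroup p S) (hF : F.IsSaturated p) {P : Subgroup Ω} (hP : P ≤ S) {y : Ω}
    (hy : y ∈ rep F P) : ∃ (x : P) (hx : (x : Ω) ∈ normalizerIn S P), om F P ⟨x, hx⟩ = y := by
  have h := (om_spec (F := F) hS hF hP).map
  rw [← h] at hy
  obtain ⟨x, hx, rfl⟩ := hy
  exact ⟨⟨x, hx⟩, x.2, rfl⟩

theorem aOf_spec (hS : IsPGroup p S) (hF : F.IsSaturated p) {P : Subgroup Ω} {φ : P →* Ω} (hφ : φ ∈ F.Hom P) :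
    aOf F P φ ∈ F.autGroup (rep F P) ∧ RelA F P φ.range (rep F P) φ (aOf F P φ) := by
  classical
  have hP : P ≤ S := source_le hφ
  have hR : φ.range ≤ S := range_le hφ
  have hrep : rep F φ.range = rep F P := (rep_eq (F := F) ⟨φ, hφ, rfl⟩).symm
  have hsP := om_spec (F := F) hS hF hP
  have hsR := om_spec (F := F) hS hF hR
  have hPN : P ≤ normalizerIn S P := le_normalizerIn hP
  have hRN : φ.range ≤ normalizerIn S φ.range := le_normalizerIn hR
  have h : ∃ a ∈ F.autGroup (rep F P), RelA F P φ.range (rep F P) φ a := by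
    -- inverse of `om` on `P`
    let ω₀ : P →* Ω := (om F P).comp (Subgroup.inclusion hPN)
    have hω₀ : ω₀ ∈ F.Hom P := res_mem hsP.mem hPN
    have hr₀ : ω₀.range = rep F P := by
      rw [← hsP.map]
      ext y
      constructor
      · rintro ⟨x, rfl⟩
        exact ⟨Subgroup.inclusion hPN x, x.2, rfl⟩
      · rintro ⟨x, hx, rfl⟩
        exact ⟨⟨x, hx⟩, rfl⟩
    obtain ⟨σ, hσ, hσr, hσ1, hσ2⟩ := exists_inv hω₀ hr₀
    have hσP : ∀ y, σ y ∈ P := fun y => hσr.le ⟨y, rfl⟩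
    -- the composite
    have h1 := comp_mem' (F := F) hσ hφ (χ := φ.comp (σ.codRestrict P hσP)) hσP (fun _ => rfl)
    have hv : ∀ y, φ (σ.codRestrict P hσP y) ∈ φ.range := fun y => ⟨_, rfl⟩
    have h2 := comp_mem' (F := F) h1 (res_mem hsR.mem hRN)
      (χ := ((om F φ.range).comp (Subgroup.inclusion hRN)).comp ((φ.comp (σ.codRestrict P hσP)).codRestrict φ.range hv))
      hv (fun _ => rfl)
    have hb : ∀ y, ((om F φ.range).comp (Subgroup.inclusion hRN)).comp ((φ.comp (σ.codRestrict P hσP)).codRestrict φ.range hv) y ∈ rep F P := by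
      intro y
      have h3 := om_mem_of_mem hS hF hR (Subgroup.inclusion hRN ((φ.comp (σ.codRestrict P hσP)).codRestrict φ.range hv y)) (hv y)
      rw [hrep] at h3
      exact h3
    haveI : Finite (rep F P) := finite_of_le (Basic.IsConj.le_right (rep_spec (F := F) hS hP).1)
    refine ⟨autOfHom _ (F.injective_of_mem h2) hb, autOfHom_mem h2 hb, fun x hx₁ hx₂ hh => ?_⟩
    have e : σ ⟨om F P ⟨x, hx₁⟩, hh⟩ = x := by
      have := hσ1 x hh
      exact this
    have e2 : σ.codRestrict P hσP ⟨om F P ⟨x, hx₁⟩, hh⟩ = x := Subtype.ext e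
    show om F φ.range ⟨φ x, hx₂⟩ = om F φ.range _
    congr 1
    apply Subtype.ext
    show φ x = φ (σ.codRestrict P hσP ⟨om F P ⟨x, hx₁⟩, hh⟩)
    rw [e2]
  unfold aOf
  rw [dif_pos h]
  exact h.choose_spec

/-- Uniqueness of the induced automorphism. -/
theorem RelA.unique (hS : IsPGroup p S) (hF : F.IsSaturated p) {P R₂ Ps : Subgroup Ω} (hP : P ≤ S) (hPs : rep F P = Ps)
    {φ : P →* Ω} (hval : ∀ x : P, φ x ∈ normalizerIn S R₂) {a b : MulAut Ps} (ha : RelA F P R₂ Ps φ a) (hb : RelA F P R₂ Ps φ b) : a = b := by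
  ext y
  have hy : (y : Ω) ∈ rep F P := by
    rw [hPs]
    exact y.2
  obtain ⟨x, hx, hxy⟩ := exists_om_eq hS hF hP hy
  have h1 : om F P ⟨x, hx⟩ ∈ Ps := by
    rw [hxy]
    exact y.2
  have e : (⟨om F P ⟨x, hx⟩, h1⟩ : Ps) = y := Subtype.ext hxy
  have h2 := ha x hx (hval x) h1
  have h3 := hb x hx (hval x) h1
  rw [e] at h2 h3
  rw [← h2, ← h3]

/-- The defining property of the layer value. -/
theorem layer_spec (hS : IsPGroup p S) (hF : F.IsSaturated p) {P Ps R₂ : Subgroup Ω} {φ : P →* Ω} (hφ : φ ∈ F.Hom P)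
    (hPs : rep F P = Ps) (hR : φ.range = R₂) :
    ∃ a ∈ F.autGroup Ps, RelA F P R₂ Ps φ a ∧
      layerVal F χ θ P φ = (eOf F θ R₂)⁻¹ * starOf F χ Ps a * eOf F θ P := by
  subst hPs
  subst hR
  obtain ⟨h1, h2⟩ := aOf_spec (F := F) hS hF hφ
  exact ⟨_, h1, h2, rfl⟩

/-- The layer values compose. -/
theorem layer_comp (hS : IsPGroup p S) (hF : F.IsSaturated p) (hχ : Stable F χ) {P : Subgroup Ω} (hA : InA F χ P)
    {φ : P →* Ω} (hφ : φ ∈ F.Hom P) {ψ : φ.range →* Ω} (hψ : ψ ∈ F.Hom φ.range) {ρ : P →* Ω}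
    (hρ : ∀ x : P, ρ x = ψ ⟨φ x, ⟨x, rfl⟩⟩) :
    layerVal F χ θ P ρ = layerVal F χ θ φ.range ψ * layerVal F χ θ P φ := by
  have hP := source_le hφ
  have hR := range_le hφ
  have hρm : ρ ∈ F.Hom P := comp_mem' hφ hψ (fun x => ⟨x, rfl⟩) hρ
  have hrep1 : rep F φ.range = rep F P := (rep_eq (F := F) ⟨φ, hφ, rfl⟩).symm
  have hrr : ρ.range = ψ.range := by
    ext y
    constructor
    · rintro ⟨x, rfl⟩
      rw [hρ]
      exact ⟨_, rfl⟩
    · rintro ⟨⟨_, x, rfl⟩, rfl⟩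
      exact ⟨x, hρ x⟩
  obtain ⟨a₁, ha₁, hr₁, e₁⟩ := layer_spec (χ := χ) (θ := θ) hS hF hφ rfl rfl
  obtain ⟨a₂, ha₂, hr₂, e₂⟩ := layer_spec (χ := χ) (θ := θ) hS hF hψ hrep1 rfl
  obtain ⟨a₃, ha₃, hr₃, e₃⟩ := layer_spec (χ := χ) (θ := θ) hS hF hρm rfl hrr
  have hNψ : ∀ y, ψ y ∈ normalizerIn S ψ.range := fun y => le_normalizerIn (range_le hψ) ⟨y, rfl⟩
  have hNφ : ∀ x, φ x ∈ normalizerIn S φ.range := fun x => le_normalizerIn hR ⟨x, rfl⟩
  have hval : ∀ x : P, ρ x ∈ normalizerIn S ψ.range := fun x => by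
    rw [hρ]
    exact hNψ _
  have ha : a₃ = a₂ * a₁ := by
    refine RelA.unique hS hF hP rfl hval hr₃ fun x hx₁ hx₂ h => ?_
    have h1 := hr₁ x hx₁ (hNφ x) h
    have h2 : om F φ.range ⟨φ x, hNφ x⟩ ∈ rep F P := by
      rw [h1]
      exact (a₁ _).2
    have h3 := hr₂ ⟨φ x, ⟨x, rfl⟩⟩ (hNφ x) (hNψ _) h2
    have e1 : (⟨om F φ.range ⟨φ x, hNφ x⟩, h2⟩ : rep F P) = a₁ ⟨om F P ⟨x, hx₁⟩, h⟩ := Subtype.ext h1
    rw [e1] at h3
    have e2 : (⟨ρ x, hx₂⟩ : normalizerIn S ψ.range) = ⟨ψ ⟨φ x, ⟨x, rfl⟩⟩, hNψ _⟩ := Subtype.ext (hρ x)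
    rw [e2]
    exact h3
  have hspec := rep_spec (F := F) hS hP
  have hf := starOf_spec hS hF hχ hspec.2 (hA.of_conj hspec.1)
  rw [e₃, e₁, e₂, ha, hf.1 a₂ ha₂ a₁ ha₁]
  simp only [mul_assoc, mul_inv_cancel_left]

/-- The layer values agree with `θ` on restrictions of maps from larger sources. -/
theorem layer_res (hS : IsPGroup p S) (hF : F.IsSaturated p) (hCp : IsPGroup p C) (hχ : Stable F χ) {P₁ Q : Subgroup Ω}
    (hA : InA F χ P₁) (hn : Nat.card P₁ = n) (hθ : IsTheta F χ (n + 1) θ) (hPQ : P₁ ≤ Q) (hne : P₁ ≠ Q) {ψ : Q →* Ω}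
    (hψ : ψ ∈ F.Hom Q) {ρ : P₁ →* Ω} (hρ : ∀ x : P₁, ρ x = ψ (Subgroup.inclusion hPQ x)) :
    layerVal F χ θ P₁ ρ = θ Q ψ := by
  have hQS := source_le hψ
  have hP₁S := hPQ.trans hQS
  haveI : Finite Q := finite_of_le hQS
  have hρm : ρ ∈ F.Hom P₁ := mem_of_eq_res hψ hPQ hρ
  obtain ⟨a, ha, hrel, e⟩ := layer_spec (χ := χ) (θ := θ) hS hF hρm rfl rfl
  have hspec := rep_spec (F := F) hS hP₁S
  have hFN := hspec.2
  have hAs : InA F χ (rep F P₁) := hA.of_conj hspec.1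
  have hcs : Nat.card (rep F P₁) = n := (Basic.IsConj.card_eq hspec.1).symm.trans hn
  have hf := starOf_spec hS hF hχ hFN hAs
  have hltQ : P₁ < Q := lt_of_le_of_ne hPQ hne
  have hcQ : n + 1 ≤ Nat.card Q := by
    have := card_lt_of_lt hltQ
    omega
  have hQleS : Nat.card Q ≤ Nat.card S := card_le_S hQS
  have hρr : ρ.range ≤ S := range_le hρm
  have hP₁ne : P₁ ≠ S := by
    rintro rfl
    omega
  have hcr : Nat.card ρ.range = n := (card_eq_of_range hρm rfl).symm.trans hn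
  have hP'ne : ρ.range ≠ S := by
    intro h
    rw [h] at hcr
    omega
  have e₁ : eOf F θ P₁ = θ (normalizerIn S P₁) (om F P₁) := if_neg hP₁ne
  have e₂ : eOf F θ ρ.range = θ (normalizerIn S ρ.range) (om F ρ.range) := if_neg hP'ne
  have hQp : IsPGroup p Q := isPGroup_of_le hS hQS
  have hlt : P₁ < normalizerIn Q P₁ := Alperin.lt_normalizerIn hQp hPQ hne
  have hQ₃Q : normalizerIn Q P₁ ≤ Q := inf_le_left
  have hQ₃N₁ : normalizerIn Q P₁ ≤ normalizerIn S P₁ := inf_le_inf_right _ hQS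
  have hQ₃S : normalizerIn Q P₁ ≤ S := hQ₃Q.trans hQS
  haveI : Finite (normalizerIn Q P₁) := finite_of_le hQ₃S
  have hsω₁ := om_spec (F := F) hS hF hP₁S
  have hsω₂ := om_spec (F := F) hS hF hρr
  have hrrep : rep F ρ.range = rep F P₁ := (rep_eq (F := F) ⟨ρ, hρm, rfl⟩).symm
  -- the maps on `Q₃`
  let ω₁₃ : normalizerIn Q P₁ →* Ω := (om F P₁).comp (Subgroup.inclusion hQ₃N₁)
  have hω₁₃ : ω₁₃ ∈ F.Hom (normalizerIn Q P₁) := res_mem hsω₁.mem hQ₃N₁
  let ψ₃ : normalizerIn Q P₁ →* Ω := ψ.comp (Subgroup.inclusion hQ₃Q)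
  have hψ₃ : ψ₃ ∈ F.Hom (normalizerIn Q P₁) := res_mem hψ hQ₃Q
  have himg : (P₁.subgroupOf (normalizerIn Q P₁)).map ψ₃ = ρ.range := by
    ext y
    constructor
    · rintro ⟨z, hz, rfl⟩
      exact ⟨⟨z, hz⟩, hρ ⟨z, hz⟩⟩
    · rintro ⟨x, rfl⟩
      exact ⟨Subgroup.inclusion hlt.le x, x.2, (hρ x).symm⟩
  have hψ₃v : ∀ x, ψ₃ x ∈ normalizerIn S ρ.range := fun x =>
    ⟨map_mem_S hψ₃ x, map_mem_normalizer himg x x.2.2⟩
  obtain ⟨σ₁, hσ₁, hσr, hσ1, hσ2⟩ := exists_inv hω₁₃ rfl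
  have hσv : ∀ y, σ₁ y ∈ normalizerIn Q P₁ := fun y => hσr.le ⟨y, rfl⟩
  let c : ω₁₃.range →* Ω := ψ₃.comp (σ₁.codRestrict _ hσv)
  have hc : c ∈ F.Hom ω₁₃.range := comp_mem' hσ₁ hψ₃ hσv (fun _ => rfl)
  have hcv : ∀ y, c y ∈ normalizerIn S ρ.range := fun y => hψ₃v _
  let b : ω₁₃.range →* Ω := (om F ρ.range).comp (c.codRestrict _ hcv)
  have hb : b ∈ F.Hom ω₁₃.range := comp_mem' hc hsω₂.mem hcv (fun _ => rfl)
  have hPsQ₄ : rep F P₁ ≤ ω₁₃.range := by
    intro y hy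
    obtain ⟨x, hx, hxy⟩ := exists_om_eq hS hF hP₁S hy
    exact ⟨Subgroup.inclusion hlt.le x, hxy⟩
  have hQ₄N : ω₁₃.range ≤ normalizerIn S (rep F P₁) := by
    rintro _ ⟨x, rfl⟩
    exact hsω₁.val _
  have hcQ₄ : Nat.card ω₁₃.range = Nat.card (normalizerIn Q P₁) := (card_eq_of_range hω₁₃ rfl).symm
  have hcQ₃ : n + 1 ≤ Nat.card (normalizerIn Q P₁) := by
    have := card_lt_of_lt hlt
    omega
  have hPsne : rep F P₁ ≠ ω₁₃.range := by
    intro h
    have h2 : Nat.card (rep F P₁) = Nat.card ω₁₃.range := by rw [← h]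
    omega
  have hbv : ∀ x : rep F P₁, b (Subgroup.inclusion hPsQ₄ x) = a x := by
    intro y
    obtain ⟨x, hx, hxy⟩ := exists_om_eq hS hF hP₁S y.2
    have h1 : om F P₁ ⟨x, hx⟩ ∈ rep F P₁ := by
      rw [hxy]
      exact y.2
    have e0 : (⟨om F P₁ ⟨x, hx⟩, h1⟩ : rep F P₁) = y := Subtype.ext hxy
    have hxρ : ρ x ∈ normalizerIn S ρ.range := le_normalizerIn hρr ⟨x, rfl⟩
    have h2 := hrel x hx hxρ h1
    rw [e0] at h2
    rw [← h2]
    show om F ρ.range _ = _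
    congr 1
    apply Subtype.ext
    show ψ₃ (σ₁.codRestrict _ hσv (Subgroup.inclusion hPsQ₄ y)) = ρ x
    have h3 : ω₁₃ (Subgroup.inclusion hlt.le x) ∈ ω₁₃.range := ⟨_, rfl⟩
    have h4 := hσ1 (Subgroup.inclusion hlt.le x) h3
    have e3 : (⟨ω₁₃ (Subgroup.inclusion hlt.le x), h3⟩ : ω₁₃.range) = Subgroup.inclusion hPsQ₄ y := Subtype.ext hxy
    rw [e3] at h4
    have e4 : σ₁.codRestrict _ hσv (Subgroup.inclusion hPsQ₄ y) = Subgroup.inclusion hlt.le x := Subtype.ext h4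
    rw [e4, hρ]
    rfl
  have hAQ₄ : InA F χ ω₁₃.range := hAs.mono hPsQ₄ (hQ₄N.trans normalizerIn_le)
  have hAQ₃ : InA F χ (normalizerIn Q P₁) := hA.mono hlt.le hQ₃S
  have hcQ₄' : n + 1 ≤ Nat.card ω₁₃.range := by omega
  have t1 : θ (normalizerIn Q P₁) ω₁₃ = θ (normalizerIn S P₁) (om F P₁) :=
    hθ.res hAQ₃ hcQ₃ hQ₃N₁ hsω₁.mem (fun _ => rfl)
  have t2 : θ (normalizerIn Q P₁) ψ₃ = θ Q ψ := hθ.res hAQ₃ hcQ₃ hQ₃Q hψ (fun _ => rfl)
  have t3 : θ ω₁₃.range σ₁ = (θ (normalizerIn Q P₁) ω₁₃)⁻¹ :=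
    hθ.inv hAQ₃ hcQ₃ hω₁₃ hσ₁ (fun x => ⟨x, rfl⟩) (fun x => hσ1 x _)
  have t4 : θ ω₁₃.range c = θ (normalizerIn Q P₁) ψ₃ * θ ω₁₃.range σ₁ :=
    hθ.comp' hAQ₄ hcQ₄' hσ₁ hψ₃ hσv (fun _ => rfl)
  have t5 : θ ω₁₃.range b = θ (normalizerIn S ρ.range) (om F ρ.range) * θ ω₁₃.range c :=
    hθ.comp' hAQ₄ hcQ₄' hc hsω₂.mem hcv (fun _ => rfl)
  have t6 : θ ω₁₃.range b = starOf F χ (rep F P₁) a :=
    local_val hS hF hCp hFN hAs hcs hθ hf hPsQ₄ hQ₄N hPsne hb hbv
  rw [e, e₁, e₂, ← t6, t5, t4, t3, t1, t2]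
  simp only [mul_assoc, inv_mul_cancel_left, inv_mul_cancel, mul_one]

/-- The new layer on the conjugations of `S` itself. -/
theorem layer_conj_top (hS : IsPGroup p S) (hF : F.IsSaturated p) (hχ : Stable F χ) (hA : InA F χ S) {g : Ω} (hg : g ∈ S) :
    layerVal F χ θ S (conjHom S g) = χ ⟨g, hg⟩ := by
  have hr : (conjHom S g).range = S := by
    ext y
    constructor
    · rintro ⟨x, rfl⟩
      exact S.mul_mem (S.mul_mem hg x.2) (S.inv_mem hg)
    · intro hy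
      refine ⟨⟨g⁻¹ * y * g, S.mul_mem (S.mul_mem (S.inv_mem hg) hy) hg⟩, ?_⟩
      simp [conjHom, mul_assoc]
  have hspec := rep_spec (F := F) hS (le_rfl : S ≤ S)
  have hrep : rep F S = S :=
    (Subgroup.eq_of_le_of_card_ge (Basic.IsConj.le_right hspec.1) (Basic.IsConj.card_eq hspec.1).le)
  have hc := F.conj_mem (le_rfl : S ≤ S) hg
  obtain ⟨a, ha, hrel, e⟩ := layer_spec (χ := χ) (θ := θ) hS hF hc hrep hr
  have hFN : F.IsFullyNormalized S := by
    have h := hspec.2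
    rwa [hrep] at h
  have hf := starOf_spec hS hF hχ hFN hA
  have hsω := om_spec (F := F) hS hF (le_rfl : S ≤ S)
  have hgN : g ∈ normalizerIn S S := ⟨hg, Subgroup.le_normalizer hg⟩
  have hg'S : om F S ⟨g, hgN⟩ ∈ S := map_mem_S hsω.mem _
  have hg'N : om F S ⟨g, hgN⟩ ∈ Subgroup.normalizer (S : Set Ω) := Subgroup.le_normalizer hg'S
  have ha' : a = normConj (om F S ⟨g, hgN⟩) hg'N := by
    refine RelA.unique hS hF le_rfl hrep (fun x => ⟨map_mem_S hc x, Subgroup.le_normalizer (map_mem_S hc x)⟩) hrel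
      fun x hx₁ hx₂ h => ?_
    have e1 : (⟨conjHom S g x, hx₂⟩ : normalizerIn S S) = ⟨g, hgN⟩ * ⟨x, hx₁⟩ * ⟨g, hgN⟩⁻¹ := rfl
    rw [e1, map_mul, map_mul, map_inv]
    rfl
  have e0 : eOf F θ S = 1 := if_pos rfl
  rw [e, e0, ha', hf.2 _ hg'S hg'N]
  simp only [inv_one, one_mul, mul_one]
  exact hχ _ _ hsω.mem ⟨g, hgN⟩

/-- The induction step. -/
theorem isTheta_step (hS : IsPGroup p S) (hF : F.IsSaturated p) (hCp : IsPGroup p C) (hχ : Stable F χ)
    (hθ : IsTheta F χ (n + 1) θ) : IsTheta F χ n (thetaStep F χ θ n) := by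
  constructor
  · intro Q g hg hA hn
    by_cases h : n + 1 ≤ Nat.card Q
    · rw [thetaStep, if_pos h]
      exact hθ.conj Q g hg hA h
    · have hc : Nat.card Q = n := by omega
      rw [thetaStep, if_neg h]
      by_cases hQS : Q = S
      · subst hQS
        exact layer_conj_top hS hF hχ hA hg
      · have hN : Q < normalizerIn S Q := Alperin.lt_normalizerIn hS hA.1 hQS
        haveI : Finite (normalizerIn S Q) := finite_of_le normalizerIn_le
        rw [layer_res hS hF hCp hχ hA hc hθ hN.le hN.ne (F.conj_mem normalizerIn_le hg) (ρ := conjHom Q g) (fun x => rfl)]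
        refine hθ.conj _ g hg (hA.mono hN.le normalizerIn_le) ?_
        have := card_lt_of_lt hN
        omega
  · intro P Q φ ψ hA hn hφ hψ h
    have hQS := source_le hψ
    haveI : Finite Q := finite_of_le hQS
    have hrQ : φ.range ≤ Q := by
      rintro _ ⟨x, rfl⟩
      exact h x
    have hcr : Nat.card P = Nat.card φ.range := card_eq_of_range hφ rfl
    have hle : Nat.card φ.range ≤ Nat.card Q := Subgroup.card_le_of_le hrQ
    by_cases h1 : n + 1 ≤ Nat.card P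
    · have h2 : n + 1 ≤ Nat.card Q := by omega
      simp only [thetaStep, if_pos h1, if_pos h2]
      exact hθ.comp P Q φ ψ hA h1 hφ hψ h
    · have hc : Nat.card P = n := by omega
      simp only [thetaStep, if_neg h1]
      have hψ' : ψ.comp (Subgroup.inclusion hrQ) ∈ F.Hom φ.range := res_mem hψ hrQ
      rw [layer_comp hS hF hχ hA hφ hψ' (fun x => rfl)]
      congr 1
      by_cases h2 : n + 1 ≤ Nat.card Q
      · rw [if_pos h2]
        have hne : φ.range ≠ Q := by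
          intro e
          rw [e] at hcr
          omega
        exact layer_res hS hF hCp hχ (hA.of_conj ⟨φ, hφ, rfl⟩) (by omega) hθ hrQ hne hψ (fun _ => rfl)
      · rw [if_neg h2]
        have e : φ.range = Q := Subgroup.eq_of_le_of_card_ge hrQ (by omega)
        subst e
        have e2 : ψ.comp (Subgroup.inclusion hrQ) = ψ := by
          ext x
          rfl
        rw [e2]

/-- Existence of `θ`. -/
theorem exists_theta (hS : IsPGroup p S) (hF : F.IsSaturated p) (hCp : IsPGroup p C) (hχ : Stable F χ) :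
    ∃ θ : ∀ P : Subgroup Ω, (P →* Ω) → C, IsTheta F χ 0 θ := by
  have H : ∀ k : ℕ, ∃ θ : ∀ P : Subgroup Ω, (P →* Ω) → C, IsTheta F χ (Nat.card S + 1 - k) θ := by
    intro k
    induction k with
    | zero =>
      refine ⟨fun _ _ => 1, ?_, ?_⟩
      · intro Q g hg hA hn
        have := card_le_S hA.1
        omega
      · intro P Q φ ψ hA hn
        have := card_le_S hA.1
        omega
    | succ k ih =>
      obtain ⟨θ, hθ⟩ := ih
      by_cases hk : k ≤ Nat.card S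
      · have e : Nat.card S + 1 - k = Nat.card S + 1 - (k + 1) + 1 := by omega
        rw [e] at hθ
        exact ⟨_, isTheta_step hS hF hCp hχ hθ⟩
      · have e : Nat.card S + 1 - k = Nat.card S + 1 - (k + 1) := by omega
        rw [e] at hθ
        exact ⟨_, hθ⟩
  obtain ⟨θ, hθ⟩ := H (Nat.card S + 1)
  rw [Nat.sub_self] at hθ
  exact ⟨θ, hθ⟩

end Main

end Cfsg.Agent.Lib.Fusion.PTheta
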