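/-
The functor `θ`, part 4: the saturated subsystem over the kernel of `χ`.
-/
import Mathlib
import Cfsg.Agent.Lib.Fusion.PTheta3
import Cfsg.Agent.Lib.Fusion.SatCrit6
import Cfsg.Agent.Lib.Fusion.PPrime3

set_option autoImplicit false

namespace Cfsg.Agent.Lib.Fusion.PTheta

open Cfsg Cfsg.FusionSystem Cfsg.Agent.Lib.Fusion.Basic Cfsg.Agent.Lib.Fusion.Saturated
open Cfsg.Agent.Lib.Fusion.Saturated2 (card_lt_of_lt autOfHom autOfHom_coe autOfHom_mem)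
open Cfsg.Agent.Lib.Fusion.GroupSylow (IsSylowIn)
open Cfsg.Agent.Lib.Fusion.SatCrit (isSylowIn_inf_of_normal)

variable {Ω : Type*} [Group Ω] {S T : Subgroup Ω} {F : FusionSystem S} {C : Type*} [CommGroup C]
variable {χ : S →* C} {θ : ∀ P : Subgroup Ω, (P →* Ω) → C}

theorem val_mem (hχ : Stable F χ) (hker : ∀ g : S, χ g = 1 ↔ (g : Ω) ∈ T) {P : Subgroup Ω} (hP : P ≤ T) {φ : P →* Ω}
    (hφ : φ ∈ F.Hom P) (x : P) : φ x ∈ T := by
  have h1 := (hker ⟨x, source_le hφ x.2⟩).2 (hP x.2)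
  exact (hker ⟨φ x, map_mem_S hφ x⟩).1 ((hχ P φ hφ x).trans h1)

theorem InA.of_values {P Q : Subgroup Ω} (hA : InA F χ P) {φ : P →* Ω} (hφ : φ ∈ F.Hom P) (h : ∀ x, φ x ∈ Q) (hQ : Q ≤ S) :
    InA F χ Q := by
  refine (hA.of_conj ⟨φ, hφ, rfl⟩).mono ?_ hQ
  rintro _ ⟨x, rfl⟩
  exact h x

/-- The subsystem over the kernel of `χ`: the maps on which `θ` vanishes. -/
def thetaSys (hTS : T ≤ S) (hχ : Stable F χ) (hker : ∀ g : S, χ g = 1 ↔ (g : Ω) ∈ T) (hθ : IsTheta F χ 0 θ) :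
    FusionSystem T where
  Hom P := {φ | P ≤ T ∧ φ ∈ F.Hom P ∧ (InA F χ P → θ P φ = 1)}
  le_of_mem := fun {P φ} h => ⟨h.1, fun x => val_mem hχ hker h.1 h.2.1 x⟩
  injective_of_mem := fun h => F.injective_of_mem h.2.1
  conj_mem := fun {P g} hP hg => ⟨hP, F.conj_mem (hP.trans hTS) (hTS hg), fun hA => by
    rw [hθ.conj P g (hTS hg) hA (Nat.zero_le _)]
    exact (hker ⟨g, hTS hg⟩).2 hg⟩
  comp_mem := fun {P Q φ ψ} hφ hψ h => ⟨hφ.1, F.comp_mem hφ.2.1 hψ.2.1 h, fun hA => by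
    rw [hθ.comp P Q φ ψ hA (Nat.zero_le _) hφ.2.1 hψ.2.1 h, hφ.2.2 hA,
      hψ.2.2 (hA.of_values hφ.2.1 h (source_le hψ.2.1)), mul_one]⟩
  inv_mem := fun {P φ} hφ => by
    obtain ⟨ψ, hψ, hv⟩ := F.inv_mem hφ.2.1
    refine ⟨ψ, ⟨?_, hψ, fun hA => ?_⟩, hv⟩
    · rintro _ ⟨x, rfl⟩
      exact val_mem hχ hker hφ.1 hφ.2.1 x
    · have hA' : InA F χ P := hA.of_conj (Basic.IsConj.symm ⟨φ, hφ.2.1, rfl⟩)
      rw [hθ.inv hA' (Nat.zero_le _) hφ.2.1 hψ (fun x => ⟨x, rfl⟩) (fun x => hv x), hφ.2.2 hA', inv_one]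

section

variable {hTS : T ≤ S} {hχ : Stable F χ} {hker : ∀ g : S, χ g = 1 ↔ (g : Ω) ∈ T} {hθ : IsTheta F χ 0 θ}

theorem mem_thetaSys {P : Subgroup Ω} {φ : P →* Ω} :
    φ ∈ (thetaSys hTS hχ hker hθ).Hom P ↔ P ≤ T ∧ φ ∈ F.Hom P ∧ (InA F χ P → θ P φ = 1) := Iff.rfl

theorem mem_autGroup_thetaSys {Q : Subgroup Ω} (hQ : Q ≤ T) {α : MulAut Q} :
    α ∈ (thetaSys hTS hχ hker hθ).autGroup Q ↔ α ∈ F.autGroup Q ∧ (InA F χ Q → θ Q (Q.subtype.comp α.toMonoidHom) = 1) := by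
  rw [mem_autGroup_iff hQ, mem_autGroup_iff (hQ.trans hTS), mem_thetaSys]
  exact ⟨fun h => h.2, fun h => ⟨hQ, h⟩⟩

theorem extender_mono_left (hTS : T ≤ S) {P : Subgroup Ω} {φ : P →* Ω} : extender T P φ ≤ extender S P φ := by
  refine Subgroup.closure_mono ?_
  rintro g ⟨h1, h2, h, hh, hv⟩
  exact ⟨hTS h1, h2, h, hTS hh, hv⟩

variable [Finite S] {p : ℕ} [hp : Fact p.Prime]

theorem receptive_A (hS : IsPGroup p S) (hF : F.IsSaturated p) {Q : Subgroup Ω} (hQT : Q ≤ T)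
    (hFN : F.IsFullyNormalized Q) (hA : InA F χ Q) : (thetaSys hTS hχ hker hθ).IsReceptive Q := by
  refine ⟨hQT, fun P' φ hφ hr => ?_⟩
  obtain ⟨hP'T, hφF, hφθ⟩ := hφ
  obtain ⟨ψ, hψ, hext⟩ := (fullyNormalized_receptive hS hF hFN).2 P' φ hφF hr
  have hNS := extender_mono_left hTS (P := P') (φ := φ)
  have hNT : extender T P' φ ≤ T := (extender_le_normalizerIn).trans inf_le_left
  refine ⟨ψ.comp (Subgroup.inclusion hNS), ⟨hNT, res_mem hψ hNS, fun _ => ?_⟩, fun x hP hN => hext x hP (hNS hN)⟩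
  have hPN : P' ≤ extender T P' φ := le_extender hP'T (val_mem hχ hker hP'T hφF)
  have hA' : InA F χ P' := hA.of_conj (Basic.IsConj.symm ⟨φ, hφF, hr⟩)
  rw [← hθ.res hA' (Nat.zero_le _) hPN (res_mem hψ hNS) (ρ := φ) (fun x => (hext x x.2 _).symm)]
  exact hφθ hA'

theorem conj_mem_ker (hθ : IsTheta F χ 0 θ) {Q : Subgroup Ω} (hA : InA F χ Q) {g : Ω} (hg : g ∈ S) {α : MulAut Q}
    (hα : ∀ x : Q, ((α x : Q) : Ω) = g * x * g⁻¹) : θ Q (Q.subtype.comp α.toMonoidHom) = χ ⟨g, hg⟩ := by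
  have e : Q.subtype.comp α.toMonoidHom = conjHom Q g := by
    ext x
    exact hα x
  rw [e]
  exact hθ.conj Q g hg hA (Nat.zero_le _)

theorem fullyAutomized_A (hS : IsPGroup p S) (hF : F.IsSaturated p) {Q : Subgroup Ω} (hQT : Q ≤ T)
    (hFN : F.IsFullyNormalized Q) (hA : InA F χ Q) : (thetaSys hTS hχ hker hθ).IsFullyAutomized p Q := by
  have hQS : Q ≤ S := hQT.trans hTS
  refine ⟨hQT, ?_⟩
  have hFA : IsSylowIn p (autInducedBy S Q) (F.autGroup Q) := (fullyNormalized_props hS hF hFN).2.2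
  haveI : Finite (MulAut Q) := finite_mulAut hQS
  have hLH : (thetaSys hTS hχ hker hθ).autGroup Q ≤ F.autGroup Q := fun α hα => ((mem_autGroup_thetaSys hQT).1 hα).1
  have e : autInducedBy T Q = autInducedBy S Q ⊓ (thetaSys hTS hχ hker hθ).autGroup Q := by
    ext α
    constructor
    · intro hα
      obtain ⟨g, hg, hgv⟩ := mem_autInducedBy_iff.1 hα
      exact ⟨mem_autInducedBy_iff.2 ⟨g, hTS hg, hgv⟩, autInducedBy_le_autGroup hQT hα⟩
    · rintro ⟨hα, hα2⟩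
      obtain ⟨g, hg, hgv⟩ := mem_autInducedBy_iff.1 hα
      have h1 := ((mem_autGroup_thetaSys hQT).1 hα2).2 hA
      rw [conj_mem_ker hθ hA hg hgv] at h1
      exact mem_autInducedBy_iff.2 ⟨g, (hker ⟨g, hg⟩).1 h1, hgv⟩
  have h := isSylowIn_inf_of_normal (p := p) (autInducedBy_le_autGroup hQS) hLH hFA (fun n hn l hl => by
    have hl2 := (mem_autGroup_thetaSys hQT).1 hl
    refine (mem_autGroup_thetaSys hQT).2 ⟨mul_mem (mul_mem hn hl2.1) (inv_mem hn), fun hA' => ?_⟩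
    rw [theta_mul hA' (Nat.zero_le _) hθ (mul_mem hn hl2.1) (inv_mem hn),
      theta_mul hA' (Nat.zero_le _) hθ hn hl2.1, theta_inv hA' (Nat.zero_le _) hθ hn, hl2.2 hA', mul_one,
      mul_inv_cancel])
  rw [← e] at h
  exact h

/-- The consequence of the existence of a centralizing element outside `T`: centralizing elements with all values. -/
theorem exists_centralizing (hS : IsPGroup p S) (hF : F.IsSaturated p) (hχ : Stable F χ) (hcard : Nat.card C = p)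
    {Q : Subgroup Ω} (hFN : F.IsFullyNormalized Q) (hB : ¬ InA F χ Q) (u : C) :
    ∃ (z : Ω) (hz : z ∈ centralizerIn S Q), χ ⟨z, hz.1⟩ = u := by
  have hQS : Q ≤ S := hFN.1
  have h1 : ∃ Q', F.IsConj Q Q' ∧ ∃ (c : Ω) (hc : c ∈ centralizerIn S Q'), χ ⟨c, hc.1⟩ ≠ 1 := by
    by_contra hcon
    apply hB
    refine ⟨hQS, fun Q' hQ' c hc => ?_⟩
    by_contra hne
    exact hcon ⟨Q', hQ', c, hc, hne⟩
  obtain ⟨Q', hQ', c, hc, hne⟩ := h1
  obtain ⟨φ₀, hφ₀, hr₀⟩ := Basic.IsConj.symm hQ'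
  obtain ⟨ψ, hψ, hext⟩ := (fullyNormalized_receptive hS hF hFN).2 Q' φ₀ hφ₀ hr₀
  have hcE : c ∈ extender S Q' φ₀ := centralizerIn_le_extender hc
  have hc'S : ψ ⟨c, hcE⟩ ∈ S := map_mem_S hψ _
  have hc'C : ψ ⟨c, hcE⟩ ∈ centralizerIn S Q := by
    refine ⟨hc'S, Subgroup.mem_centralizer_iff.2 fun y hy => ?_⟩
    have hy' : y ∈ φ₀.range := by
      rw [hr₀]
      exact hy
    obtain ⟨x, rfl⟩ := hy'
    have hxE : (x : Ω) ∈ extender S Q' φ₀ := le_extender (Basic.IsConj.le_right hQ') (map_mem_S hφ₀) x.2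
    rw [← hext x x.2 hxE, ← map_mul, ← map_mul]
    congr 1
    apply Subtype.ext
    exact (Subgroup.mem_centralizer_iff.1 hc.2 x x.2)
  have hχc : χ ⟨ψ ⟨c, hcE⟩, hc'S⟩ ≠ 1 := by
    rw [hχ _ ψ hψ ⟨c, hcE⟩]
    exact hne
  obtain ⟨k, hk⟩ := Subgroup.mem_zpowers_iff.1 (mem_zpowers_of_prime_card hcard hχc (g' := u))
  refine ⟨(ψ ⟨c, hcE⟩) ^ k, zpow_mem hc'C k, ?_⟩
  have e : (⟨(ψ ⟨c, hcE⟩) ^ k, (zpow_mem hc'C k).1⟩ : S) = ⟨ψ ⟨c, hcE⟩, hc'S⟩ ^ k := rfl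
  rw [e, map_zpow, hk]

theorem receptive_B (hS : IsPGroup p S) (hF : F.IsSaturated p) {Q : Subgroup Ω} (hQT : Q ≤ T)
    (hFN : F.IsFullyNormalized Q) (hz : ∀ u : C, ∃ (z : Ω) (hz : z ∈ centralizerIn S Q), χ ⟨z, hz.1⟩ = u) :
    (thetaSys hTS hχ hker hθ).IsReceptive Q := by
  refine ⟨hQT, fun P' φ hφ hr => ?_⟩
  obtain ⟨hP'T, hφF, -⟩ := hφ
  obtain ⟨ψ, hψ, hext⟩ := (fullyNormalized_receptive hS hF hFN).2 P' φ hφF hr
  have hNS := extender_mono_left hTS (P := P') (φ := φ)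
  have hNT : extender T P' φ ≤ T := (extender_le_normalizerIn).trans inf_le_left
  have hψ' : ψ.comp (Subgroup.inclusion hNS) ∈ F.Hom (extender T P' φ) := res_mem hψ hNS
  by_cases hAN : InA F χ (extender T P' φ)
  · obtain ⟨z, hz', hzv⟩ := hz (θ _ (ψ.comp (Subgroup.inclusion hNS)))⁻¹
    have hv : ∀ x, (ψ.comp (Subgroup.inclusion hNS)) x ∈ S := map_mem_S hψ'
    have hzc := F.conj_mem (le_rfl : S ≤ S) hz'.1
    have h1 := comp_mem' (F := F) hψ' hzc hv (χ := (conjHom S z).comp ((ψ.comp (Subgroup.inclusion hNS)).codRestrict S hv))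
      (fun _ => rfl)
    refine ⟨_, ⟨hNT, h1, fun _ => ?_⟩, fun x hP hN => ?_⟩
    · rw [hθ.comp _ S _ _ hAN (Nat.zero_le _) hψ' hzc hv, hθ.conj S z hz'.1 (hAN.mono (hNT.trans hTS) le_rfl) (Nat.zero_le _), hzv]
      exact inv_mul_cancel _
    · have h2 : φ ⟨x, hP⟩ ∈ Q := hr.le ⟨_, rfl⟩
      have h3 := Subgroup.mem_centralizer_iff.1 hz'.2 _ h2
      show z * ψ ⟨x, hNS hN⟩ * z⁻¹ = φ ⟨x, hP⟩
      rw [hext x hP (hNS hN), ← h3]
      group
  · exact ⟨_, ⟨hNT, hψ', fun h => absurd h hAN⟩, fun x hP hN => hext x hP (hNS hN)⟩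

theorem fullyAutomized_B (hS : IsPGroup p S) (hF : F.IsSaturated p) {Q : Subgroup Ω} (hQT : Q ≤ T)
    (hFN : F.IsFullyNormalized Q) (hB : ¬ InA F χ Q)
    (hz : ∀ u : C, ∃ (z : Ω) (hz : z ∈ centralizerIn S Q), χ ⟨z, hz.1⟩ = u) :
    (thetaSys hTS hχ hker hθ).IsFullyAutomized p Q := by
  have hQS : Q ≤ S := hQT.trans hTS
  refine ⟨hQT, ?_⟩
  have hFA : IsSylowIn p (autInducedBy S Q) (F.autGroup Q) := (fullyNormalized_props hS hF hFN).2.2
  have e1 : (thetaSys hTS hχ hker hθ).autGroup Q = F.autGroup Q := by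
    ext α
    rw [mem_autGroup_thetaSys hQT]
    exact ⟨fun h => h.1, fun h => ⟨h, fun h' => absurd h' hB⟩⟩
  have e2 : autInducedBy T Q = autInducedBy S Q := by
    ext α
    constructor
    · intro hα
      obtain ⟨g, hg, hgv⟩ := mem_autInducedBy_iff.1 hα
      exact mem_autInducedBy_iff.2 ⟨g, hTS hg, hgv⟩
    · intro hα
      obtain ⟨g, hg, hgv⟩ := mem_autInducedBy_iff.1 hα
      obtain ⟨z, hz', hzv⟩ := hz (χ ⟨g, hg⟩)
      have h1 : χ ⟨g * z⁻¹, S.mul_mem hg (S.inv_mem hz'.1)⟩ = 1 := by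
        have e : (⟨g * z⁻¹, S.mul_mem hg (S.inv_mem hz'.1)⟩ : S) = ⟨g, hg⟩ * ⟨z, hz'.1⟩⁻¹ := rfl
        rw [e, map_mul, map_inv, hzv, mul_inv_cancel]
      refine mem_autInducedBy_iff.2 ⟨g * z⁻¹, (hker _).1 h1, fun x => ?_⟩
      rw [hgv]
      have h3 := Subgroup.mem_centralizer_iff.1 hz'.2 _ x.2
      have h4 : z⁻¹ * (x : Ω) * z = x := by
        rw [mul_assoc, h3]
        group
      calc g * (x : Ω) * g⁻¹ = g * (z⁻¹ * (x : Ω) * z) * g⁻¹ := by rw [h4]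
        _ = g * z⁻¹ * x * (g * z⁻¹)⁻¹ := by group
  show IsSylowIn p (autInducedBy T Q) ((thetaSys hTS hχ hker hθ).autGroup Q)
  rw [e1, e2]
  exact hFA

/-- The saturation of the system over the kernel. -/
theorem thetaSys_saturated (hS : IsPGroup p S) (hF : F.IsSaturated p) (hcard : Nat.card C = p)
    (hsurj : Function.Surjective χ) : (thetaSys hTS hχ hker hθ).IsSaturated p := by
  intro P hPT
  have hPS : P ≤ S := hPT.trans hTS
  by_cases hA : InA F χ P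
  · obtain ⟨Q₁, ⟨ω, hω, hr⟩, hFN₁⟩ := exists_fullyNormalized (F := F) hPS
    obtain ⟨⟨g, hgS⟩, hg⟩ := hsurj (θ P ω)⁻¹
    have hωv : ∀ x, ω x ∈ S := map_mem_S hω
    have hc := F.conj_mem (le_rfl : S ≤ S) hgS
    have hω' := F.comp_mem hω hc hωv
    have ht : θ P ((conjHom S g).comp (ω.codRestrict S hωv)) = 1 := by
      rw [hθ.comp P S ω (conjHom S g) hA (Nat.zero_le _) hω hc hωv, hθ.conj S g hgS (hA.mono hPS le_rfl) (Nat.zero_le _), hg]
      exact inv_mul_cancel _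
    have hE : (conjHom S g).comp (ω.codRestrict S hωv) ∈ (thetaSys hTS hχ hker hθ).Hom P := ⟨hPT, hω', fun _ => ht⟩
    have hQT : ((conjHom S g).comp (ω.codRestrict S hωv)).range ≤ T := by
      rintro _ ⟨x, rfl⟩
      exact val_mem hχ hker hPT hω' x
    have hQ₁S : Q₁ ≤ S := hFN₁.1
    have hFN : F.IsFullyNormalized ((conjHom S g).comp (ω.codRestrict S hωv)).range := by
      refine ⟨hQT.trans hTS, fun R hR => ?_⟩
      have h1 : F.IsConj Q₁ R := Basic.IsConj.trans (Basic.IsConj.trans (Basic.IsConj.symm ⟨ω, hω, hr⟩) ⟨_, hω', rfl⟩) hR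
      refine (hFN₁.2 R h1).trans ?_
      refine PPrime.card_normalizerIn_le hQ₁S (hQT.trans hTS) (MulAut.conj (⟨g, hgS⟩ : S)) fun s => ?_
      constructor
      · intro hs
        have hs' : (s : Ω) ∈ ω.range := by
          rw [hr]
          exact hs
        obtain ⟨x, hx⟩ := hs'
        refine ⟨x, ?_⟩
        show g * ω x * g⁻¹ = _
        rw [hx]
        rfl
      · rintro ⟨x, hx⟩
        have hx' : g * ω x * g⁻¹ = g * (s : Ω) * g⁻¹ := hx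
        have hx2 : ω x = s := by
          simpa using hx'
        rw [← hx2, ← hr]
        exact ⟨x, rfl⟩
    have hA' := hA.of_conj ⟨_, hω', rfl⟩
    exact ⟨_, ⟨_, hE, rfl⟩, fullyAutomized_A hS hF hQT hFN hA', receptive_A hS hF hQT hFN hA'⟩
  · obtain ⟨Q, ⟨ω, hω, hr⟩, hFN⟩ := exists_fullyNormalized (F := F) hPS
    have hQT : Q ≤ T := by
      rw [← hr]
      rintro _ ⟨x, rfl⟩
      exact val_mem hχ hker hPT hω x
    have hB : ¬ InA F χ Q := fun h => hA (h.of_conj (Basic.IsConj.symm ⟨ω, hω, hr⟩))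
    have hz := exists_centralizing hS hF hχ hcard hFN hB
    exact ⟨Q, ⟨ω, ⟨hPT, hω, fun h => absurd h hA⟩, hr⟩, fullyAutomized_B hS hF hQT hFN hB hz, receptive_B hS hF hQT hFN hz⟩

/-- The system over the kernel has `p`-power index. -/
theorem thetaSys_index (hCp : IsPGroup p C) (hT : F.hyperfocalSubgroup p ≤ T) :
    (thetaSys hTS hχ hker hθ).HasPPowerIndexIn F p := by
  refine ⟨fun P φ hφ => hφ.2.1, hT, fun P hPT => ?_⟩
  rintro _ ⟨r, hr, rfl⟩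
  induction hr using Subgroup.closure_induction with
  | mem y hy =>
    refine (mem_autGroup_thetaSys hPT).2 ⟨y.2, fun hA => ?_⟩
    have h2 := theta_pow hA (Nat.zero_le _) hθ y.2 (orderOf y)
    have hym : (y : MulAut P) ^ orderOf y = 1 := by
      have := pow_orderOf_eq_one y
      exact congrArg (fun z : F.autGroup P => (z : MulAut P)) this
    rw [hym, theta_one hA (Nat.zero_le _) hθ] at h2
    exact eq_one_of_pow_coprime hCp hy h2.symm
  | one => exact one_mem _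
  | mul x y _ _ hx hy => exact mul_mem hx hy
  | inv x _ hx => exact inv_mem hx

end

end Cfsg.Agent.Lib.Fusion.PTheta
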