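/-
The functor `θ`, part 5: existence and uniqueness of the saturated subsystem of `p`-power index over `T`.
-/
import Mathlib
import Cfsg.Agent.Lib.Fusion.PTheta4
import Cfsg.Agent.Lib.Fusion.PPowerIndex
import Cfsg.Agent.Lib.PGroup.Basic

set_option autoImplicit false

namespace Cfsg.Agent.Lib.Fusion.PTheta

open Cfsg Cfsg.FusionSystem Cfsg.Agent.Lib.Fusion.Basic Cfsg.Agent.Lib.Fusion.Saturated
open scoped commutatorElement

variable {Ω : Type*} [Group Ω] {p : ℕ} [hp : Fact p.Prime]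

/-- A subgroup of index `p` containing the hyperfocal subgroup. -/
theorem exists_of_index_p {S : Subgroup Ω} [Finite S] {F : FusionSystem S} (hS : IsPGroup p S) (hF : F.IsSaturated p)
    {M : Subgroup Ω} (hMS : M ≤ S) (hn : (M.subgroupOf S).Normal) (hi : (M.subgroupOf S).index = p)
    (hyp : F.hyperfocalSubgroup p ≤ M) : ∃ E : FusionSystem M, E.IsSaturated p ∧ E.HasPPowerIndexIn F p := by
  classical
  have hQ : Nat.card (↥S ⧸ M.subgroupOf S) = p := hi
  have hC : Nat.card (Multiplicative (ZMod p)) = p := by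
    simp
  let e := mulEquivOfPrimeCardEq hQ hC
  let χ : S →* Multiplicative (ZMod p) := e.toMonoidHom.comp (QuotientGroup.mk' (M.subgroupOf S))
  have hsurj : Function.Surjective χ := e.surjective.comp (QuotientGroup.mk'_surjective _)
  have hker : ∀ g : S, χ g = 1 ↔ (g : Ω) ∈ M := by
    intro g
    have h1 : χ g = e (QuotientGroup.mk' (M.subgroupOf S) g) := rfl
    rw [h1, map_eq_one_iff e e.injective]
    exact QuotientGroup.eq_one_iff g
  have hCp : IsPGroup p (Multiplicative (ZMod p)) := IsPGroup.of_card (n := 1) (by rw [hC, pow_one])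
  have hcomm : ⁅S, S⁆ ≤ M := by
    refine Subgroup.commutator_le.2 fun g hg h hh => ?_
    have hm : ⁅g, h⁆ ∈ S := by
      rw [commutatorElement_def]
      exact S.mul_mem (S.mul_mem (S.mul_mem hg hh) (S.inv_mem hg)) (S.inv_mem hh)
    have h1 := (hker ⟨⁅g, h⁆, hm⟩).1
    refine h1 ?_
    have e2 : (⟨⁅g, h⁆, hm⟩ : S) = ⁅(⟨g, hg⟩ : S), (⟨h, hh⟩ : S)⁆ := rfl
    rw [e2, map_commutatorElement, commutatorElement_eq_one_iff_mul_comm]
    exact mul_comm _ _
  have hfoc : F.focalSubgroup ≤ M := by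
    rw [Focal.focal_eq hS hF]
    exact sup_le hyp hcomm
  have hχ : Stable F χ := by
    intro P φ hφ x
    have h1 : (x : Ω)⁻¹ * φ x ∈ M := hfoc (Subgroup.subset_closure ⟨P, φ, x, hφ, rfl⟩)
    have h2 : QuotientGroup.mk' (M.subgroupOf S) (⟨x, source_le hφ x.2⟩ : S) =
        QuotientGroup.mk' (M.subgroupOf S) (⟨φ x, map_mem_S hφ x⟩ : S) := (QuotientGroup.eq).2 h1
    show e _ = e _
    rw [h2]
  obtain ⟨θ, hθ⟩ := exists_theta hS hF hCp hχ
  exact ⟨thetaSys hMS hχ hker hθ, thetaSys_saturated hS hF hC hsurj, thetaSys_index hCp hyp⟩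

/-- Existence of the saturated subsystem of `p`-power index over any subgroup containing the hyperfocal subgroup. -/
theorem exists_pPowerIndex (n : ℕ) : ∀ (S : Subgroup Ω) [Finite S], Nat.card S = n → ∀ (F : FusionSystem S), IsPGroup p S →
    F.IsSaturated p → ∀ T : Subgroup Ω, T ≤ S → F.hyperfocalSubgroup p ≤ T →
      ∃ E : FusionSystem T, E.IsSaturated p ∧ E.HasPPowerIndexIn F p := by
  induction n using Nat.strong_induction_on with
  | _ n ih =>
  intro S _ hn F hS hF T hTS hT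
  by_cases hTeq : T = S
  · subst hTeq
    exact ⟨F, hF, fun P => subset_rfl, hT, fun P _ => Subgroup.map_subtype_le _⟩
  · have hH : T.subgroupOf S ≠ ⊤ := by
      intro h
      exact hTeq (le_antisymm hTS (Subgroup.subgroupOf_eq_top.1 h))
    obtain ⟨N, hHN, hNn, hNi⟩ := Cfsg.Agent.Lib.PGroup.Basic.exists_normal_index_ge hS hH
    have hMS : N.map S.subtype ≤ S := Subgroup.map_subtype_le N
    have e1 : (N.map S.subtype).subgroupOf S = N := Subgroup.comap_map_eq_self_of_injective (Subgroup.subtype_injective S) N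
    have hTM : T ≤ N.map S.subtype := by
      intro t ht
      exact ⟨⟨t, hTS ht⟩, hHN ht, rfl⟩
    obtain ⟨E₁, hE₁, hE₁i⟩ := exists_of_index_p hS hF hMS (by rw [e1]; exact hNn) (by rw [e1]; exact hNi) (hT.trans hTM)
    haveI : Finite (N.map S.subtype) := finite_of_le hMS
    have hlt : Nat.card (N.map S.subtype) < n := by
      rw [← hn]
      refine Cfsg.Agent.Lib.Fusion.Saturated2.card_lt_of_lt (lt_of_le_of_ne hMS fun h => ?_)
      have h2 : N.index = 1 := by
        rw [← e1, h]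
        exact (Subgroup.index_eq_one).2 (Subgroup.subgroupOf_self S)
      rw [hNi] at h2
      exact hp.out.one_lt.ne' h2
    have hyp' : E₁.hyperfocalSubgroup p ≤ T := by
      refine (Subgroup.closure_le _).2 ?_
      rintro _ ⟨P, α, x, hPS, hα, rfl⟩
      obtain ⟨h, hr⟩ := PPowerIndex.residual_mem_of_le hE₁i.1 hPS (hPS.trans hMS) hα
      exact hT (Subgroup.subset_closure ⟨P, ⟨α, h⟩, x, hPS.trans hMS, hr, rfl⟩)
    obtain ⟨E, hE, hEi⟩ := ih _ hlt (N.map S.subtype) rfl E₁ (isPGroup_of_le hS hMS) hE₁ T hTM hyp'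
    refine ⟨E, hE, fun P φ hφ => hE₁i.1 P (hEi.1 P hφ), hT, fun P hPT => ?_⟩
    rintro _ ⟨r, hr, rfl⟩
    induction hr using Subgroup.closure_induction with
    | mem y hy =>
      have hy1 : (y : MulAut P) ∈ E₁.autGroup P :=
        hE₁i.2.2 P (hPT.trans hTM) ⟨y, Subgroup.subset_closure hy, rfl⟩
      have hy2 : (⟨y, hy1⟩ : E₁.autGroup P) ∈ pResidual p (E₁.autGroup P) := by
        apply Subgroup.subset_closure
        show Nat.Coprime _ p
        rw [← Subgroup.orderOf_coe]
        have h3 : Nat.Coprime (orderOf y) p := hy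
        rwa [← Subgroup.orderOf_coe] at h3
      exact hEi.2.2 P hPT ⟨_, hy2, rfl⟩
    | one => exact one_mem _
    | mul x y _ _ hx hy => exact mul_mem hx hy
    | inv x _ hx => exact inv_mem hx

/-- Existence and uniqueness. -/
theorem existsUnique_pPowerIndex {S : Subgroup Ω} [Finite S] {F : FusionSystem S} (hS : IsPGroup p S) (hF : F.IsSaturated p)
    {T : Subgroup Ω} (hTS : T ≤ S) (hT : F.hyperfocalSubgroup p ≤ T) :
    ∃ E : FusionSystem T, (E.IsSaturated p ∧ E.HasPPowerIndexIn F p) ∧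
      ∀ E' : FusionSystem T, E'.IsSaturated p → E'.HasPPowerIndexIn F p → E' = E := by
  obtain ⟨E, hE, hEi⟩ := exists_pPowerIndex (p := p) _ S rfl F hS hF T hTS hT
  refine ⟨E, ⟨hE, hEi⟩, fun E' hE' hE'i => ?_⟩
  haveI : Finite T := finite_of_le hTS
  have hTp : IsPGroup p T := isPGroup_of_le hS hTS
  refine Alperin.ext_of_hom fun P => Set.Subset.antisymm ?_ ?_
  · exact PPowerIndex.hom_subset_of_residual_le rfl hTp hE' hE'i.1 hTS hEi.2.2 P
  · exact PPowerIndex.hom_subset_of_residual_le rfl hTp hE hEi.1 hTS hE'i.2.2 P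

end Cfsg.Agent.Lib.Fusion.PTheta
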