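/-
Good lifts, part 7: the centralizer system `C_F(E)`: the subsystem of `p`-power index of `C_F(T)` on `CC` is normal in `F`.
-/
import Mathlib
import Cfsg.Agent.Lib.Fusion.GoodLift6
import Cfsg.Agent.Lib.Fusion.PPowerNormal
import Cfsg.Agent.Lib.Fusion.PTheta5

set_option autoImplicit false
set_option linter.style.haveILetI false

namespace Cfsg.Agent.Lib.Fusion.GoodLift

open Cfsg Cfsg.FusionSystem Cfsg.Agent.Lib.Fusion.Basic Cfsg.Agent.Lib.Fusion.Saturated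
open Cfsg.Agent.Lib.Fusion.Saturated2 (autOfHom autOfHom_mem)
open Cfsg.Agent.Lib.Fusion.LocalSystems (map_mem_sup_of_ext range_ext_eq centralizerSystem)
open Cfsg.Agent.Lib.Fusion.Joins (exists_hom_of_eq)
open Cfsg.Agent.Lib.Fusion.LiftSys
open Cfsg.Agent.Lib.Fusion.NormalPair
open Cfsg.Agent.Lib.Fusion.NormalCR
open Cfsg.Agent.Lib.Fusion.PPrime
open Cfsg.Agent.Lib.Fusion.SatCrit (imgOf mem_imgOf imgOf_le)
open Cfsg.Agent.Lib.Fusion.Centric (isCentric_of_le)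
open Cfsg.Agent.Lib.Fusion.Subsystem (isCentric_of_isConj)

variable {Ω : Type*} [Group Ω] {S T : Subgroup Ω} {F : FusionSystem S} {E : FusionSystem T}

section Inv

variable [Finite S] {p : ℕ} [hp : Fact p.Prime] {C : Subgroup Ω} {D₀ : FusionSystem (centralizerIn S T)}
  {D : FusionSystem C}

/-- Transport of `O^p(Aut_{D₀}(Q))` through an element of `Aut_F(C)`. -/
theorem conj_residual_mem' (hS : IsPGroup p S) (hF : F.IsSaturated p) (hT : F.StronglyClosed T) (hC : F.StronglyClosed C)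
    (hCT : C ≤ centralizerIn S T) (hD₀ : F.IsCentralizerSystem T D₀)
    (hDi : ∀ Q : Subgroup Ω, Q ≤ C → (pResidual p (D₀.autGroup Q)).map (D₀.autGroup Q).subtype ≤ D.autGroup Q)
    {α : MulAut C} (hα : α ∈ F.autGroup C) {Q : Subgroup Ω} (hQ : Q ≤ C) :
    (pResidual p (D₀.autGroup Q)).map (D₀.autGroup Q).subtype ≤ (conjSys D α).autGroup Q := by
  classical
  have hTS : T ≤ S := hT.1
  have hCS : C ≤ S := hC.1
  have hFNC := isFullyNormalized_of_stronglyClosed hC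
  obtain ⟨b₁, hb₁, hb₁a⟩ := exists_ext hS hF hFNC hα
  have hle : C ⊔ T ≤ hat S C := sup_le_sup_left (T_le_cen hCT hTS le_rfl) _
  have hf₀ := resLift_mem hCS hb₁ hle
  rw [Subgroup.map_le_iff_le_comap, pResidual, Subgroup.closure_le]
  intro r hr
  have hco : Nat.Coprime (orderOf r) p := hr
  have hm : resA α hQ ∈ F.Hom Q := mem_of_eq_res (autGroup_mem_hom hCS hα) hQ (fun x => rfl)
  have hinj := F.injective_of_mem hm
  let e := isoOfRange hinj (range_resA α hQ)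
  have he : ∀ x : Q, ((e x : imgOf α Q) : Ω) = resA α hQ x := fun x => rfl
  have he' : ∀ x : Q, ((e x : imgOf α Q) : Ω) = resLift b₁ hle ⟨x, le_sup_left (a := C) (hQ x.2)⟩ :=
    fun x => (hb₁a ⟨x, hQ x.2⟩).symm
  have hr' : MulAut.congr e (r : MulAut Q) ∈ D₀.autGroup (imgOf α Q) := congr_mem_D₀ hT hCT hD₀ hf₀ hQ e he' r.2
  have hord : orderOf (⟨MulAut.congr e (r : MulAut Q), hr'⟩ : D₀.autGroup (imgOf α Q)) = orderOf r := by
    rw [← Subgroup.orderOf_coe, ← Subgroup.orderOf_coe r]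
    exact orderOf_injective (MulAut.congr e).toMonoidHom (MulEquiv.injective _) _
  have h1 : MulAut.congr e (r : MulAut Q) ∈ D.autGroup (imgOf α Q) :=
    hDi _ (imgOf_le α Q) ⟨⟨_, hr'⟩, Subgroup.subset_closure (by
      show Nat.Coprime _ p
      rw [hord]
      exact hco), rfl⟩
  refine mem_autGroup_of_mem ⟨hQ, fun x => hQ ((r : MulAut Q) x).2, _, autGroup_mem_hom (imgOf_le α Q) h1, ?_⟩
  intro a b ha hb hab
  have e1 : (⟨((α a : C) : Ω), hb⟩ : imgOf α Q) = e ⟨a, ha⟩ := Subtype.ext rfl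
  show (((MulAut.congr e (r : MulAut Q)) ⟨((α a : C) : Ω), hb⟩ : imgOf α Q) : Ω) = _
  rw [e1]
  have e2 : (MulAut.congr e (r : MulAut Q)) (e ⟨a, ha⟩) = e ((r : MulAut Q) ⟨a, ha⟩) := by
    simp [MulAut.congr_apply]
  rw [e2]
  have e3 : (⟨(((r : MulAut Q) ⟨a, ha⟩ : Q) : Ω), hQ ((r : MulAut Q) ⟨a, ha⟩).2⟩ : C) = b := Subtype.ext hab
  show ((α ⟨(((r : MulAut Q) ⟨a, ha⟩ : Q) : Ω), hQ ((r : MulAut Q) ⟨a, ha⟩).2⟩ : C) : Ω) = _
  rw [e3]

/-- **`D` is invariant under `Aut_F(C)`**. -/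
theorem isInvUnder' (hS : IsPGroup p S) (hF : F.IsSaturated p) (hT : F.StronglyClosed T) (hC : F.StronglyClosed C)
    (hCT : C ≤ centralizerIn S T) (hD₀ : F.IsCentralizerSystem T D₀) (hDs : D.IsSaturated p)
    (hDi : D.HasPPowerIndexIn D₀ p) : IsInvUnder D (F.autGroup C) := by
  haveI : Finite C := finite_of_le hC.1
  have hCp : IsPGroup p C := isPGroup_of_le hS hC.1
  intro α hα P φ hφ
  have h1 := PPowerIndex.hom_subset_of_residual_le (T := C) (T₁ := C) rfl hCp hDs hDi.1 hCT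
    (E₁ := conjSys D α) (fun Q hQ => conj_residual_mem' hS hF hT hC hCT hD₀ hDi.2.2 hα hQ) P hφ
  obtain ⟨hP, hv, χ, hχ, hc⟩ := h1
  rwa [← hc.eq_conjMap hP]

/-- **`D` is invariant in `F`**. -/
theorem isInvariantIn' (hS : IsPGroup p S) (hF : F.IsSaturated p) (hT : F.StronglyClosed T) (hC : F.StronglyClosed C)
    (hCT : C ≤ centralizerIn S T) (hD₀ : F.IsCentralizerSystem T D₀) (hDn : D.IsNormalIn D₀ p)
    (hDi : D.HasPPowerIndexIn D₀ p) : D.IsInvariantIn F := by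
  classical
  have hDs := hDn.1.1
  have hinv := isInvUnder' hS hF hT hC hCT hD₀ hDs hDi
  have hD₀F : D₀.IsSubsystemOf F := fun P φ hφ => by
    rw [hD₀ P] at hφ
    exact hφ.1
  have hDF : D.IsSubsystemOf F := fun P φ hφ => hD₀F P (hDi.1 P hφ)
  haveI : Finite C := finite_of_le hC.1
  refine ⟨hDF, hC, ?_, ?_⟩
  · intro P hPT φ hφ α hα
    have h1 := hinv α hα P φ hφ
    have hle2 : (P.subgroupOf C).map (C.subtype.comp α.toMonoidHom) ≤ imgOf α P :=
      (Cfsg.Agent.Lib.Fusion.PPowerNormal.imgOf_eq_map α P).ge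
    refine ⟨_, res_mem h1 hle2, fun x hφx hαx => ?_⟩
    exact isConjBy_conjMap α φ (map_mem_S hφ) ⟨x, hPT x.2⟩ ⟨φ x, hφx⟩ x.2 (hle2 hαx) rfl
  · intro P hPC φ hφ
    obtain ⟨b, hb, φ₁, hφ₁, hfac⟩ := exists_factor hS hF hT hC hCT hPC hφ
    have hφ₁' : φ₁ ∈ D₀.Hom P := by
      rw [hD₀ P]
      exact hφ₁
    obtain ⟨a, ha, φ₂, hφ₂, hfr⟩ := hDn.1.2.2.2.2.2 P hPC φ₁ hφ₁'
    have hTS : T ≤ S := hT.1
    have hHS : hat S T ≤ S := hat_le hTS
    have hCH : C ≤ hat S T := hCT.trans (cen_le_hat T)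
    have hst : ∀ x : ↥(hat S T), (x : Ω) ∈ C → ((b x : ↥(hat S T)) : Ω) ∈ C := fun x hx =>
      stronglyClosed_apply hC (autGroup_mem_hom hHS hb) x hx
    let bC : MulAut C := resAut b hCH hst
    have hbC : bC ∈ F.autGroup C :=
      mem_autGroup_of_mem (mem_of_eq_res (autGroup_mem_hom hHS hb) hCH (fun x => rfl))
    have haF : (a : MulAut C) ∈ F.autGroup C := autGroup_le_of_subsystem hD₀F C ha
    refine ⟨bC * a, Subgroup.mul_mem _ hbC haF, φ₂, hφ₂, fun x hx => ?_⟩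
    have hx1 : φ₁ x ∈ hat S T := cen_le_hat T (hφ₁.2.2.1 x)
    rw [hfac x hx1]
    have e : (⟨φ₁ x, hx1⟩ : ↥(hat S T)) = Subgroup.inclusion hCH (a ⟨φ₂ x, hx⟩) := Subtype.ext (hfr x hx)
    rw [e]
    rfl

end Inv

section Ext2

variable [Finite S] {p : ℕ} [hp : Fact p.Prime] {C : Subgroup Ω} {D₀ : FusionSystem (centralizerIn S T)}
  {D : FusionSystem C}

omit [Finite S] hp in
theorem mem_cen_sup {A B : Subgroup Ω} {c : Ω} (hA : c ∈ Subgroup.centralizer (A : Set Ω))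
    (hB : c ∈ Subgroup.centralizer (B : Set Ω)) : c ∈ Subgroup.centralizer ((A ⊔ B : Subgroup Ω) : Set Ω) := by
  rw [Subgroup.mem_centralizer_iff]
  intro h hh
  have hle : A ⊔ B ≤ Subgroup.centralizer ({c} : Set Ω) := by
    refine sup_le (fun a ha => ?_) (fun a ha => ?_)
    · rw [Subgroup.mem_centralizer_iff]
      rintro _ rfl
      exact (comm_of_mem_cen hA ha).symm
    · rw [Subgroup.mem_centralizer_iff]
      rintro _ rfl
      exact (comm_of_mem_cen hB ha).symm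
  exact (Subgroup.mem_centralizer_iff.1 (hle hh) c rfl).symm

omit [Finite S] hp in
theorem zc_le_cen_sup (hCT : C ≤ centralizerIn S T) : Zc C ≤ centralizerIn S (C ⊔ T) := by
  intro z hz
  have hzC := Zc.left hz
  exact ⟨(hCT hzC).1, mem_cen_sup (Zc.right hz) (hCT hzC).2⟩

omit [Finite S] hp in
theorem zc_le_zc_sup (hCT : C ≤ centralizerIn S T) : Zc C ≤ Zc (C ⊔ T) := by
  intro z hz
  exact Subgroup.mem_inf.2 ⟨le_sup_left (a := C) (Zc.left hz), (zc_le_cen_sup hCT hz).2⟩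

omit [Finite S] hp in
theorem hom_ext_sup' {G : Type*} [Group G] {A B : Subgroup Ω} {f g : ↥(A ⊔ B) →* G}
    (hA : ∀ x : A, f (Subgroup.inclusion le_sup_left x) = g (Subgroup.inclusion le_sup_left x))
    (hB : ∀ x : B, f (Subgroup.inclusion le_sup_right x) = g (Subgroup.inclusion le_sup_right x)) : f = g := by
  ext u
  have hle : A ⊔ B ≤ (MonoidHom.eqLocus f g).map (A ⊔ B).subtype := by
    refine sup_le (fun x hx => ?_) (fun c hc => ?_)
    · exact ⟨Subgroup.inclusion le_sup_left ⟨x, hx⟩, hA ⟨x, hx⟩, rfl⟩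
    · exact ⟨Subgroup.inclusion le_sup_right ⟨c, hc⟩, hB ⟨c, hc⟩, rfl⟩
  obtain ⟨v, hv, he⟩ := hle u.2
  have : v = u := Subtype.ext he
  rw [← this]
  exact hv

/-- **The lift on `C T C_S(C T)`**: from the extension condition of `D` in `C_F(T)`. -/
theorem exists_rho (hT : F.StronglyClosed T) (hCS : C ≤ S) (hCT : C ≤ centralizerIn S T)
    (hD₀ : F.IsCentralizerSystem T D₀) (hDn : D.IsNormalIn D₀ p) {α : MulAut C} (hα : α ∈ D.autGroup C)
    (hco : Nat.Coprime (orderOf α) p) :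
    ∃ ρ : MulAut ↥(hat S (C ⊔ T)), ρ ∈ F.autGroup (hat S (C ⊔ T)) ∧
      (∀ x : C, ((ρ (Subgroup.inclusion ((le_sup_left : C ≤ C ⊔ T).trans (le_hat (C ⊔ T))) x) : ↥(hat S (C ⊔ T))) : Ω) = α x) ∧
      (∀ t : T, ((ρ (Subgroup.inclusion ((le_sup_right : T ≤ C ⊔ T).trans (le_hat (C ⊔ T))) t) : ↥(hat S (C ⊔ T))) : Ω) = t) ∧
      (∀ c : ↥(hat S (C ⊔ T)), (c : Ω) ∈ centralizerIn S (C ⊔ T) → (c : Ω)⁻¹ * (ρ c : ↥(hat S (C ⊔ T))) ∈ Zc C) ∧
      Nat.Coprime (orderOf ρ) p := by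
  classical
  have hTS : T ≤ S := hT.1
  have hPS : C ⊔ T ≤ S := sup_le hCS hTS
  haveI : Finite ↥(hat S (C ⊔ T)) := finite_of_le (hat_le hPS)
  haveI : Finite C := finite_of_le hCS
  obtain ⟨β₀, hβ₀, hβ₀a, hβ₀c⟩ := hDn.2 α hα
  have hCMU : C ⊔ centralizerIn (centralizerIn S T) C ≤ centralizerIn S T := sup_le hCT inf_le_left
  have h1 := autGroup_mem_hom hCMU hβ₀
  rw [hD₀ _] at h1
  obtain ⟨-, -, -, ψ, hψ, hψa, hψT⟩ := h1
  -- comparison of the subgroups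
  have hcen1 : ∀ c, c ∈ centralizerIn S (C ⊔ T) → c ∈ centralizerIn (centralizerIn S T) C := fun c hc =>
    ⟨cen_mono le_sup_right hc, (cen_mono le_sup_left hc).2⟩
  have hcen2 : ∀ c, c ∈ centralizerIn (centralizerIn S T) C → c ∈ centralizerIn S (C ⊔ T) := fun c hc =>
    ⟨hc.1.1, mem_cen_sup hc.2 hc.1.2⟩
  have hle1 : hat S (C ⊔ T) ≤ (C ⊔ centralizerIn (centralizerIn S T) C) ⊔ T := by
    refine sup_le (sup_le (le_sup_left.trans le_sup_left) le_sup_right) ?_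
    exact fun c hc => le_sup_left (a := C ⊔ centralizerIn (centralizerIn S T) C) (le_sup_right (a := C) (hcen1 c hc))
  have hle2 : (C ⊔ centralizerIn (centralizerIn S T) C) ⊔ T ≤ hat S (C ⊔ T) := by
    refine sup_le (sup_le (le_sup_left.trans le_sup_left) ?_) (le_sup_right.trans le_sup_left)
    exact fun c hc => le_sup_right (a := C ⊔ T) (hcen2 c hc)
  have hρ₀ := res_mem hψ hle1
  have hψv : ∀ u, ψ u ∈ hat S (C ⊔ T) := by
    intro u
    refine map_mem_sup_of_ext ψ (fun y => ?_) (fun y => ?_) u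
    · rw [hψa]
      exact hle2 (le_sup_left (a := C ⊔ centralizerIn (centralizerIn S T) C) (β₀ y).2)
    · rw [hψT]
      exact hle2 (le_sup_right (a := C ⊔ centralizerIn (centralizerIn S T) C) y.2)
  have hv : ∀ u, (ψ.comp (Subgroup.inclusion hle1)) u ∈ hat S (C ⊔ T) := fun u => hψv _
  let ρ₁ : MulAut ↥(hat S (C ⊔ T)) := autOfHom _ (F.injective_of_mem hρ₀) hv
  have hρ₁F : ρ₁ ∈ F.autGroup (hat S (C ⊔ T)) := autOfHom_mem hρ₀ hv
  have hρ₁v : ∀ u, ((ρ₁ u : ↥(hat S (C ⊔ T))) : Ω) = ψ (Subgroup.inclusion hle1 u) := fun _ => rfl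
  have hC₁ : ∀ x : C, ρ₁ (Subgroup.inclusion ((le_sup_left : C ≤ C ⊔ T).trans (le_hat (C ⊔ T))) x) =
      Subgroup.inclusion ((le_sup_left : C ≤ C ⊔ T).trans (le_hat (C ⊔ T))) (α x) := by
    intro x
    apply Subtype.ext
    rw [hρ₁v]
    have e : Subgroup.inclusion hle1 (Subgroup.inclusion ((le_sup_left : C ≤ C ⊔ T).trans (le_hat (C ⊔ T))) x) =
        Subgroup.inclusion le_sup_left (Subgroup.inclusion le_sup_left x) := Subtype.ext rfl
    rw [e, hψa]
    exact hβ₀a x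
  have hT₁ : ∀ t : T, ρ₁ (Subgroup.inclusion ((le_sup_right : T ≤ C ⊔ T).trans (le_hat (C ⊔ T))) t) =
      Subgroup.inclusion ((le_sup_right : T ≤ C ⊔ T).trans (le_hat (C ⊔ T))) t := by
    intro t
    apply Subtype.ext
    rw [hρ₁v]
    have e : Subgroup.inclusion hle1 (Subgroup.inclusion ((le_sup_right : T ≤ C ⊔ T).trans (le_hat (C ⊔ T))) t) =
        Subgroup.inclusion le_sup_right t := Subtype.ext rfl
    rw [e, hψT]
    rfl
  have hM₁ : ∀ c : ↥(hat S (C ⊔ T)), (c : Ω) ∈ centralizerIn S (C ⊔ T) → (c : Ω)⁻¹ * (ρ₁ c : ↥(hat S (C ⊔ T))) ∈ Zc C := by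
    intro c hc
    have hcM := hcen1 _ hc
    have e : Subgroup.inclusion hle1 c = Subgroup.inclusion le_sup_left
        (⟨c, le_sup_right (a := C) hcM⟩ : ↥(C ⊔ centralizerIn (centralizerIn S T) C)) := Subtype.ext rfl
    rw [hρ₁v, e, hψa]
    exact hβ₀c ⟨c, le_sup_right (a := C) hcM⟩ hcM
  -- powers
  have hCk : ∀ (k : ℕ) (x : C), (ρ₁ ^ k) (Subgroup.inclusion ((le_sup_left : C ≤ C ⊔ T).trans (le_hat (C ⊔ T))) x) =
      Subgroup.inclusion ((le_sup_left : C ≤ C ⊔ T).trans (le_hat (C ⊔ T))) ((α ^ k) x) := by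
    intro k
    induction k with
    | zero => intro x; rfl
    | succ k ih =>
      intro x
      rw [pow_succ', MulAut.mul_apply, ih, hC₁, pow_succ']
      rfl
  have hTk : ∀ (k : ℕ) (t : T), (ρ₁ ^ k) (Subgroup.inclusion ((le_sup_right : T ≤ C ⊔ T).trans (le_hat (C ⊔ T))) t) =
      Subgroup.inclusion ((le_sup_right : T ≤ C ⊔ T).trans (le_hat (C ⊔ T))) t := by
    intro k
    induction k with
    | zero => intro t; rfl
    | succ k ih =>
      intro t
      rw [pow_succ', MulAut.mul_apply, ih, hT₁]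
  have hMk : ∀ (k : ℕ) (c : ↥(hat S (C ⊔ T))), (c : Ω) ∈ centralizerIn S (C ⊔ T) →
      (c : Ω)⁻¹ * ((ρ₁ ^ k) c : ↥(hat S (C ⊔ T))) ∈ Zc C := by
    intro k c hc
    induction k with
    | zero => simp
    | succ k ih =>
      rw [pow_succ', MulAut.mul_apply]
      set z : C := ⟨_, Zc.left ih⟩ with hz
      have e : (ρ₁ ^ k) c = c * Subgroup.inclusion ((le_sup_left : C ≤ C ⊔ T).trans (le_hat (C ⊔ T))) z := by
        apply Subtype.ext
        show _ = (c : Ω) * ((c : Ω)⁻¹ * ((ρ₁ ^ k) c : ↥(hat S (C ⊔ T))))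
        group
      rw [e, map_mul, hC₁]
      have h2 := (Zc C).mul_mem (hM₁ c hc) (map_zc α (z := z) ih)
      have e2 : (c : Ω)⁻¹ * ((ρ₁ c * Subgroup.inclusion ((le_sup_left : C ≤ C ⊔ T).trans (le_hat (C ⊔ T))) (α z) :
          ↥(hat S (C ⊔ T))) : Ω) = (c : Ω)⁻¹ * ((ρ₁ c : ↥(hat S (C ⊔ T))) : Ω) * ((α z : C) : Ω) := by
        show (c : Ω)⁻¹ * (((ρ₁ c : ↥(hat S (C ⊔ T))) : Ω) * ((α z : C) : Ω)) = _
        group
      rw [e2]
      exact h2
  obtain ⟨u, hu, hucop⟩ := Cfsg.Agent.Lib.Fusion.FactorHyperfocal.exists_pow_coprime hp.out ρ₁ (orderOf_pos ρ₁) hco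
  have hαu : α ^ u = α := by
    have := (pow_eq_pow_iff_modEq (x := α) (n := u) (m := 1)).2 hu
    rwa [pow_one] at this
  refine ⟨ρ₁ ^ u, Subgroup.pow_mem _ hρ₁F u, fun x => ?_, fun t => ?_, fun c hc => hMk u c hc, hucop⟩
  · rw [hCk, hαu]
    rfl
  · rw [hTk]
    rfl

/-- **From the lift on `C T C_S(C T)` to a good lift on `C C_S(C)`**. -/
theorem exists_good_of_rho (hS : IsPGroup p S) (hF : F.IsSaturated p) (hT : F.StronglyClosed T) (hC : F.StronglyClosed C)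
    (hCT : C ≤ centralizerIn S T) {α : MulAut C} {ρ : MulAut ↥(hat S (C ⊔ T))} (hρ : ρ ∈ F.autGroup (hat S (C ⊔ T)))
    (hρC : ∀ x : C, ((ρ (Subgroup.inclusion ((le_sup_left : C ≤ C ⊔ T).trans (le_hat (C ⊔ T))) x) : ↥(hat S (C ⊔ T))) : Ω) = α x)
    (hρT : ∀ t : T, ((ρ (Subgroup.inclusion ((le_sup_right : T ≤ C ⊔ T).trans (le_hat (C ⊔ T))) t) : ↥(hat S (C ⊔ T))) : Ω) = t)
    (hρM : ∀ c : ↥(hat S (C ⊔ T)), (c : Ω) ∈ centralizerIn S (C ⊔ T) → (c : Ω)⁻¹ * (ρ c : ↥(hat S (C ⊔ T))) ∈ Zc C)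
    (hco : Nat.Coprime (orderOf ρ) p) : ∃ β, IsGood F C β α := by
  classical
  have hTS : T ≤ S := hT.1
  have hCS : C ≤ S := hC.1
  have hPS : C ⊔ T ≤ S := sup_le hCS hTS
  haveI hfinP : Finite ↥(C ⊔ T) := finite_of_le hPS
  haveI : Finite C := finite_of_le hCS
  haveI : Finite ↥(hat S (C ⊔ T)) := finite_of_le (hat_le hPS)
  -- the automorphism of `P`
  have hstP : ∀ y : ↥(C ⊔ T), ((ρ (Subgroup.inclusion (le_hat (C ⊔ T)) y) : ↥(hat S (C ⊔ T))) : Ω) ∈ C ⊔ T := by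
    intro y
    refine map_mem_sup_of_ext ((hat S (C ⊔ T)).subtype.comp (ρ.toMonoidHom.comp (Subgroup.inclusion (le_hat (C ⊔ T))))) (fun x => ?_)
      (fun t => ?_) y
    · exact (congrArg (fun z => z ∈ C ⊔ T) (hρC x)).mpr (le_sup_left (a := C) (α x).2)
    · exact (congrArg (fun z => z ∈ C ⊔ T) (hρT t)).mpr (le_sup_right (a := C) t.2)
  let α₁ : MulAut ↥(C ⊔ T) := resAut ρ (le_hat (C ⊔ T)) (fun x hx => hstP ⟨x, hx⟩)
  have hα₁ : ∀ y, ((α₁ y : ↥(C ⊔ T)) : Ω) = (ρ (Subgroup.inclusion (le_hat (C ⊔ T)) y) : ↥(hat S (C ⊔ T))) := fun _ => rfl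
  have hgood : IsGood F (C ⊔ T) ρ α₁ :=
    ⟨hρ, fun x => rfl, fun c hc => zc_le_zc_sup hCT (hρM c hc)⟩
  -- closedness
  have hPcl : ∀ φ : ↥(C ⊔ T) →* Ω, φ ∈ F.Hom (C ⊔ T) → ∀ x, φ x ∈ C ⊔ T := by
    intro φ hφ x
    refine map_mem_sup_of_ext φ (fun y => ?_) (fun y => ?_) x
    · exact le_sup_left (a := C) (stronglyClosed_apply hC hφ _ y.2)
    · exact le_sup_right (a := C) (stronglyClosed_apply hT hφ _ y.2)
  have hFNP : F.IsFullyNormalized (C ⊔ T) := isFullyNormalized_of_closed hPS hPcl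
  have hFCP := (fullyNormalized_props hS hF hFNP).1
  have hWS : hat S (C ⊔ T) ≤ S := hat_le hPS
  have hWcl : ∀ φ : ↥(hat S (C ⊔ T)) →* Ω, φ ∈ F.Hom (hat S (C ⊔ T)) → ∀ x, φ x ∈ hat S (C ⊔ T) := by
    intro φ hφ x
    have hres := res_mem hφ (le_hat (S := S) (C ⊔ T))
    have hsurj := range_eq_of_card hres (hPcl _ hres) le_rfl
    refine map_mem_sup_of_ext φ (fun y => ?_) (fun c => ?_) x
    · exact le_hat (C ⊔ T) (hPcl _ hres y)
    · refine cen_le_hat (C ⊔ T) (map_cen_mem (P₁ := C ⊔ T) hφ (fun y hy => ?_) _ c.2)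
      rw [← hsurj] at hy
      exact hy
  have hFNW : F.IsFullyNormalized (hat S (C ⊔ T)) := isFullyNormalized_of_closed hWS hWcl
  have hW := fullyNormalized_receptive hS hF hFNW
  have hφ₀ := autGroup_mem_hom hWS hρ
  have hφr : ((hat S (C ⊔ T)).subtype.comp ρ.toMonoidHom).range = hat S (C ⊔ T) := by
    ext y
    constructor
    · rintro ⟨z, rfl⟩
      exact (ρ z).2
    · intro hy
      exact ⟨ρ⁻¹ ⟨y, hy⟩, by simp⟩
  -- the elements of `C_S(C)` are in the extender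
  have hcomm : ∀ s ∈ centralizerIn S C, s ∈ extender S (hat S (C ⊔ T)) ((hat S (C ⊔ T)).subtype.comp ρ.toMonoidHom) := by
    intro s hs
    have hsS : s ∈ S := hs.1
    have hsT : s ∈ Subgroup.normalizer (T : Set Ω) := StronglyClosed.le_normalizer hT hsS
    have hsc : ∀ x ∈ C, s * x * s⁻¹ = x := by
      intro x hx
      have := comm_of_mem_cen hs.2 hx
      rw [← this]
      group
    have hsc' : ∀ x ∈ C, s⁻¹ * x * s = x := by
      intro x hx
      have := hsc x hx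
      calc s⁻¹ * x * s = s⁻¹ * (s * x * s⁻¹) * s := by rw [this]
        _ = x := by group
    have hsC : s ∈ Subgroup.normalizer (C : Set Ω) :=
      mem_norm_of_conj (fun y hy => by rwa [hsc y hy]) (fun y hy => by rwa [hsc' y hy])
    have hsP : s ∈ Subgroup.normalizer ((C ⊔ T : Subgroup Ω) : Set Ω) :=
      Cfsg.Agent.Lib.Fusion.KNormalizer.mem_normalizer_sup hsC hsT
    have hsCen : s ∈ Subgroup.normalizer ((centralizerIn S (C ⊔ T) : Subgroup Ω) : Set Ω) :=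
      mem_norm_of_conj (fun y hy => conj_mem_cen hsS hsP hy) (fun y hy => by
        have := conj_mem_cen (S.inv_mem hsS) (Subgroup.inv_mem _ hsP) hy
        simpa using this)
    have hsW : s ∈ Subgroup.normalizer ((hat S (C ⊔ T) : Subgroup Ω) : Set Ω) :=
      Cfsg.Agent.Lib.Fusion.KNormalizer.mem_normalizer_sup hsP hsCen
    have hb : normConj s hsW ∈ F.autGroup (hat S (C ⊔ T)) :=
      autInducedBy_le_autGroup hWS (normConj_mem_autInducedBy hsS hsW)
    have hbg : ∀ x : ↥(C ⊔ T), ((normConj s hsW (Subgroup.inclusion (le_hat (C ⊔ T)) x) : ↥(hat S (C ⊔ T))) : Ω) =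
        (normConj s hsP x : ↥(C ⊔ T)) := fun _ => rfl
    have hg2 := hgood.conj hPS hb hbg
    have hinv : ∀ y : ↥(C ⊔ T), (((normConj s hsP)⁻¹ y : ↥(C ⊔ T)) : Ω) = s⁻¹ * y * s := by
      intro y
      have h1 : normConj s hsP (⟨s⁻¹ * y * s, by
          have := (Subgroup.mem_normalizer_iff.1 (Subgroup.inv_mem _ hsP) y).1 y.2
          simpa using this⟩ : ↥(C ⊔ T)) = y := by
        apply Subtype.ext
        show s * (s⁻¹ * y * s) * s⁻¹ = y
        group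
      rw [← h1]
      simp
      group
    have hgα : normConj s hsP * α₁ * (normConj s hsP)⁻¹ = α₁ := by
      have hext := hom_ext_sup'
        (f := (normConj s hsP * α₁ * (normConj s hsP)⁻¹).toMonoidHom) (g := α₁.toMonoidHom) (fun x => ?_) (fun t => ?_)
      · ext y
        have := DFunLike.congr_fun hext y
        exact congrArg (fun z : ↥(C ⊔ T) => (z : Ω)) this
      · apply Subtype.ext
        show s * ((α₁ ((normConj s hsP)⁻¹ (Subgroup.inclusion le_sup_left x)) : ↥(C ⊔ T)) : Ω) * s⁻¹ =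
          ((α₁ (Subgroup.inclusion le_sup_left x) : ↥(C ⊔ T)) : Ω)
        have e1 : (normConj s hsP)⁻¹ (Subgroup.inclusion le_sup_left x) = Subgroup.inclusion le_sup_left x :=
          Subtype.ext ((hinv _).trans (hsc' x x.2))
        rw [e1]
        have e2 := hρC x
        have e3 : ((α₁ (Subgroup.inclusion le_sup_left x) : ↥(C ⊔ T)) : Ω) = α x := e2
        rw [e3, hsc _ (α x).2]
      · apply Subtype.ext
        show s * ((α₁ ((normConj s hsP)⁻¹ (Subgroup.inclusion le_sup_right t)) : ↥(C ⊔ T)) : Ω) * s⁻¹ =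
          ((α₁ (Subgroup.inclusion le_sup_right t) : ↥(C ⊔ T)) : Ω)
        have hm : s⁻¹ * t * s ∈ T := by
          have := StronglyClosed.conj_mem hT (S.inv_mem hsS) t.2
          simpa using this
        have e1 : (normConj s hsP)⁻¹ (Subgroup.inclusion le_sup_right t) =
            Subgroup.inclusion le_sup_right (⟨s⁻¹ * t * s, hm⟩ : T) := Subtype.ext (hinv _)
        rw [e1]
        have e2 := hρT ⟨s⁻¹ * t * s, hm⟩
        have e3 : ((α₁ (Subgroup.inclusion le_sup_right (⟨s⁻¹ * t * s, hm⟩ : T)) : ↥(C ⊔ T)) : Ω) = s⁻¹ * t * s := e2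
        have e4 := hρT t
        have e5 : ((α₁ (Subgroup.inclusion le_sup_right t) : ↥(C ⊔ T)) : Ω) = t := e4
        rw [e3, e5]
        group
    rw [hgα] at hg2
    have hn : ρ ^ orderOf ρ = 1 := pow_orderOf_eq_one ρ
    have hn2 : (normConj s hsW * ρ * (normConj s hsW)⁻¹) ^ orderOf ρ = 1 := by
      rw [conj_pow, hn]
      simp
    have huniq := IsGood.unique hS hF hFCP hg2 hgood hn2 hn hco
    refine extender_closure_mem hsS hsW hsS (fun x hx => ?_)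
    have e1 : (normConj s hsW * ρ) x = (ρ * normConj s hsW) x := DFunLike.congr_fun (mul_inv_eq_iff_eq_mul.1 huniq) x
    have e2 : normConj s hsW x = ⟨s * x * s⁻¹, hx⟩ := Subtype.ext rfl
    have e3 : ((normConj s hsW * ρ) x : ↥(hat S (C ⊔ T))) = normConj s hsW (ρ x) := rfl
    have e4 : ((ρ * normConj s hsW) x : ↥(hat S (C ⊔ T))) = ρ ⟨s * x * s⁻¹, hx⟩ := by
      rw [MulAut.mul_apply, e2]
    rw [e3, e4] at e1
    exact (congrArg (fun z : ↥(hat S (C ⊔ T)) => (z : Ω)) e1).symm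
  -- extension
  have hle3 : hat S C ≤ extender S (hat S (C ⊔ T)) ((hat S (C ⊔ T)).subtype.comp ρ.toMonoidHom) := by
    refine sup_le ?_ hcomm
    exact (le_sup_left.trans (le_hat (C ⊔ T))).trans (le_extender hWS (map_mem_S hφ₀))
  obtain ⟨β₁, hβ₁, hβ₁a⟩ := hW.2 _ _ hφ₀ hφr
  have hβ₂ := res_mem hβ₁ hle3
  set β₂ : ↥(hat S C) →* Ω := β₁.comp (Subgroup.inclusion hle3) with hβ₂d
  have hWH : hat S (C ⊔ T) ≤ hat S C := by
    refine sup_le (sup_le le_sup_left ?_) ?_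
    · exact (T_le_cen hCT hTS le_rfl).trans (cen_le_hat C)
    · exact (cen_mono le_sup_left).trans (cen_le_hat C)
  have hβ₂W : ∀ u : ↥(hat S (C ⊔ T)), β₂ (Subgroup.inclusion hWH u) = ρ u := fun u => hβ₁a u u.2 _
  have hβ₂C : ∀ x : C, β₂ (Subgroup.inclusion (le_hat C) x) = α x := by
    intro x
    have e : Subgroup.inclusion (le_hat (S := S) C) x =
        Subgroup.inclusion hWH (Subgroup.inclusion ((le_sup_left : C ≤ C ⊔ T).trans (le_hat (C ⊔ T))) x) := Subtype.ext rfl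
    rw [e, hβ₂W]
    exact hρC x
  have hsurjC : ∀ y ∈ C, ∃ x : C, β₂ (Subgroup.inclusion (le_hat C) x) = y := fun y hy =>
    ⟨α⁻¹ ⟨y, hy⟩, by rw [hβ₂C]; simp⟩
  have hv : ∀ u, β₂ u ∈ hat S C := by
    intro u
    refine map_mem_sup_of_ext β₂ (fun x => ?_) (fun c => ?_) u
    · have := hβ₂C x
      exact (congrArg (fun z => z ∈ hat S C) this).mpr (le_hat C (α x).2)
    · exact cen_le_hat C (map_cen_mem (P₁ := C) hβ₂ hsurjC _ c.2)
  haveI : Finite ↥(hat S C) := finite_of_le (hat_le hCS)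
  let β₃ : MulAut ↥(hat S C) := autOfHom β₂ (F.injective_of_mem hβ₂) hv
  have hβ₃F : β₃ ∈ F.autGroup (hat S C) := autOfHom_mem hβ₂ hv
  have hβ₃v : ∀ u, ((β₃ u : ↥(hat S C)) : Ω) = β₂ u := fun _ => rfl
  obtain ⟨u, hu, hucop⟩ := Cfsg.Agent.Lib.Fusion.FactorHyperfocal.exists_pow_coprime hp.out β₃ (orderOf_pos β₃) hco
  have hρu : ρ ^ u = ρ := by
    have := (pow_eq_pow_iff_modEq (x := ρ) (n := u) (m := 1)).2 hu
    rwa [pow_one] at this
  have hpowW : ∀ (k : ℕ) (v : ↥(hat S (C ⊔ T))), (β₃ ^ k) (Subgroup.inclusion hWH v) = Subgroup.inclusion hWH ((ρ ^ k) v) := by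
    intro k
    induction k with
    | zero => intro v; rfl
    | succ k ih =>
      intro v
      rw [pow_succ', MulAut.mul_apply, ih, pow_succ', MulAut.mul_apply]
      exact Subtype.ext (hβ₂W _)
  have hβW : ∀ v : ↥(hat S (C ⊔ T)), (β₃ ^ u) (Subgroup.inclusion hWH v) = Subgroup.inclusion hWH (ρ v) := by
    intro v
    rw [hpowW, hρu]
  have hβm : β₃ ^ u ∈ F.autGroup (hat S C) := Subgroup.pow_mem _ hβ₃F u
  have hres : ∀ x : C, (((β₃ ^ u) (Subgroup.inclusion (le_hat C) x) : ↥(hat S C)) : Ω) = α x := by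
    intro x
    have e : Subgroup.inclusion (le_hat (S := S) C) x =
        Subgroup.inclusion hWH (Subgroup.inclusion ((le_sup_left : C ≤ C ⊔ T).trans (le_hat (C ⊔ T))) x) := Subtype.ext rfl
    rw [e, hβW]
    exact hρC x
  refine ⟨β₃ ^ u, hβm, hres, fun c hc => ?_⟩
  -- the cocycle
  have hĈS : centralizerIn S C ≤ S := inf_le_left
  haveI : Finite ↥(centralizerIn S C) := finite_of_le hĈS
  have hst : ∀ x : ↥(hat S C), (x : Ω) ∈ centralizerIn S C → (((β₃ ^ u) x : ↥(hat S C)) : Ω) ∈ centralizerIn S C := by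
    intro x hx
    refine map_cen_mem (P₁ := C) (autGroup_mem_hom (hat_le hCS) hβm) (fun y hy => ?_) x hx
    refine ⟨α⁻¹ ⟨y, hy⟩, ?_⟩
    show (((β₃ ^ u) (Subgroup.inclusion (le_hat C) (α⁻¹ ⟨y, hy⟩)) : ↥(hat S C)) : Ω) = y
    rw [hres]
    simp
  let a : MulAut ↥(centralizerIn S C) := resAut (β₃ ^ u) (cen_le_hat C) hst
  have hav : ∀ g : ↥(centralizerIn S C), ((a g : ↥(centralizerIn S C)) : Ω) = (((β₃ ^ u) (Subgroup.inclusion (cen_le_hat C) g) : ↥(hat S C)) : Ω) :=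
    fun _ => rfl
  haveI hKn : ((Zc C).subgroupOf (centralizerIn S C)).Normal := by
    refine ⟨fun k hk g => ?_⟩
    rw [Subgroup.mem_subgroupOf] at hk ⊢
    have h1 := comm_of_mem_cen g.2.2 (Zc.left hk)
    have e : ((g * k * g⁻¹ : ↥(centralizerIn S C)) : Ω) = k := by
      show (g : Ω) * k * (g : Ω)⁻¹ = k
      rw [← h1]
      group
    rw [e]
    exact hk
  have hn2 : a ^ orderOf (β₃ ^ u) = 1 := by
    ext x
    rw [resAut_pow, pow_orderOf_eq_one]
    rfl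
  have hβT : ∀ t : T, (β₃ ^ u) (Subgroup.inclusion ((T_le_cen hCT hTS le_rfl).trans (cen_le_hat C)) t) =
      Subgroup.inclusion ((T_le_cen hCT hTS le_rfl).trans (cen_le_hat C)) t := by
    intro t
    have e : Subgroup.inclusion ((T_le_cen hCT hTS (le_refl C)).trans (cen_le_hat C)) t =
        Subgroup.inclusion hWH (Subgroup.inclusion ((le_sup_right : T ≤ C ⊔ T).trans (le_hat (C ⊔ T))) t) := Subtype.ext rfl
    rw [e, hβW]
    exact Subtype.ext (hρT t)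
  have hfinal := stable_coprime (isPGroup_of_le hS hĈS) a hn2 hucop ((Zc C).subgroupOf (centralizerIn S C))
    ((centralizerIn S (C ⊔ T)).subgroupOf (centralizerIn S C)) (fun g hg => ?_) (fun g => ?_) (fun g hg => ?_)
    ⟨c, hc⟩
  · rw [Subgroup.mem_subgroupOf] at hfinal
    exact hfinal
  · -- `a` preserves `Z(C)`
    rw [Subgroup.mem_subgroupOf] at hg ⊢
    rw [hav]
    have e : Subgroup.inclusion (cen_le_hat C) g = Subgroup.inclusion (le_hat C) (⟨g, Zc.left hg⟩ : C) := Subtype.ext rfl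
    rw [e, hres]
    exact map_zc α (z := ⟨g, Zc.left hg⟩) hg
  · -- `g⁻¹ a(g) ∈ C_S(C T)`
    rw [Subgroup.mem_subgroupOf]
    have hw : ((g⁻¹ * a g : ↥(centralizerIn S C)) : Ω) ∈ centralizerIn S C := (g⁻¹ * a g).2
    refine ⟨hw.1, mem_cen_sup hw.2 (Subgroup.mem_centralizer_iff.2 (fun t ht => ?_))⟩
    have hgS : (g : Ω) ∈ S := g.2.1
    have hm : (g : Ω) * t * (g : Ω)⁻¹ ∈ T := StronglyClosed.conj_mem hT hgS ht
    have h1 := hβT ⟨_, hm⟩
    have h2 := hβT ⟨t, ht⟩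
    have e : Subgroup.inclusion ((T_le_cen hCT hTS (le_refl C)).trans (cen_le_hat C)) (⟨_, hm⟩ : T) =
        Subgroup.inclusion (cen_le_hat C) g * Subgroup.inclusion ((T_le_cen hCT hTS (le_refl C)).trans (cen_le_hat C)) (⟨t, ht⟩ : T) *
          (Subgroup.inclusion (cen_le_hat C) g)⁻¹ := Subtype.ext rfl
    rw [e, map_mul, map_mul, map_inv, h2] at h1
    have h3 : ((a g : ↥(centralizerIn S C)) : Ω) * t * ((a g : ↥(centralizerIn S C)) : Ω)⁻¹ = (g : Ω) * t * (g : Ω)⁻¹ :=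
      congrArg (fun z : ↥(hat S C) => (z : Ω)) h1
    show t * ((g : Ω)⁻¹ * (a g : ↥(centralizerIn S C))) = ((g : Ω)⁻¹ * (a g : ↥(centralizerIn S C))) * t
    calc t * ((g : Ω)⁻¹ * (a g : ↥(centralizerIn S C))) = (g : Ω)⁻¹ * ((g : Ω) * t * (g : Ω)⁻¹) * (a g : ↥(centralizerIn S C)) := by group
      _ = (g : Ω)⁻¹ * (((a g : ↥(centralizerIn S C)) : Ω) * t * ((a g : ↥(centralizerIn S C)) : Ω)⁻¹) * (a g : ↥(centralizerIn S C)) := by rw [h3]
      _ = _ := by group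
  · -- on `C_S(C T)`
    rw [Subgroup.mem_subgroupOf] at hg ⊢
    have e : Subgroup.inclusion (cen_le_hat C) g = Subgroup.inclusion hWH ⟨g, cen_le_hat (C ⊔ T) hg⟩ := Subtype.ext rfl
    have h1 := hρM ⟨g, cen_le_hat (C ⊔ T) hg⟩ hg
    show (g : Ω)⁻¹ * (a g : ↥(centralizerIn S C)) ∈ Zc C
    rw [hav, e, hβW]
    exact h1

/-- **Good lifts on `C C_S(C)` for all of `Aut_D(C)`**. -/
theorem exists_good (hS : IsPGroup p S) (hF : F.IsSaturated p) (hT : F.StronglyClosed T) (hC : F.StronglyClosed C)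
    (hCT : C ≤ centralizerIn S T) (hD₀ : F.IsCentralizerSystem T D₀) (hDn : D.IsNormalIn D₀ p) (hinv : D.IsInvariantIn F)
    {α : MulAut C} (hα : α ∈ D.autGroup C) : ∃ β, IsGood F C β α := by
  classical
  have hCS : C ≤ S := hC.1
  haveI : Finite C := finite_of_le hCS
  have hCp : IsPGroup p C := isPGroup_of_le hS hCS
  obtain ⟨-, R, hR⟩ := (fullyNormalized_props hCp hDn.1.1 (isFullyNormalized_top D)).2
  haveI : Finite (D.autGroup C) := finite_autGroup le_rfl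
  have htop := eq_top_of_sylow_pprime R ((goodGroup F C hCS).subgroupOf (D.autGroup C)) (by
    rw [hR]
    intro a ha
    rw [Subgroup.mem_subgroupOf] at ha ⊢
    obtain ⟨t, ht, htv⟩ := mem_autInducedBy_iff.1 ha
    exact isGood_conj hinv le_rfl inf_le_left ht htv) (fun g hg => by
    rw [Subgroup.mem_subgroupOf]
    have hg' : Nat.Coprime (orderOf (g : MulAut C)) p := by rwa [Subgroup.orderOf_coe]
    obtain ⟨ρ, h1, h2, h3, h4, h5⟩ := exists_rho hT hCS hCT hD₀ hDn g.2 hg'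
    exact exists_good_of_rho hS hF hT hC hCT h1 h2 h3 h4 h5)
  have h1 : (⟨α, hα⟩ : D.autGroup C) ∈ (goodGroup F C hCS).subgroupOf (D.autGroup C) := by
    rw [htop]
    trivial
  exact Subgroup.mem_subgroupOf.1 h1


end Ext2

section Final

variable [Finite S] {p : ℕ} [hp : Fact p.Prime]

/-- **The centralizer of a normal subsystem**: a normal subsystem of `F` over `CC` contained in `C_F(T)`. -/
theorem exists_normal_centralizer (hS : IsPGroup p S) (hF : F.IsSaturated p) (hE : E.IsNormalIn F p) :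
    ∃ D : FusionSystem (CC hS hF hE), D.IsNormalIn F p ∧ ∀ P : Subgroup Ω, D.Hom P ⊆ F.centralizerHom T P := by
  classical
  have hT : F.StronglyClosed T := hE.1.2.2.2.1
  have hTS : T ≤ S := hT.1
  have hC := CC_stronglyClosed hS hF hE
  have hCT := CC_le hS hF hE
  have hFNT := isFullyNormalized_of_stronglyClosed hT
  have hFCT := (fullyNormalized_props hS hF hFNT).1
  have hD₀ := Cfsg.Agent.Lib.Fusion.LocalSystems.centralizerSystem_isCentralizerSystem F T hTS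
  have hD₀s := Cfsg.Agent.Lib.Fusion.KNormalizer.isSaturated_centralizerSystem hS hF hFCT hD₀
  have hUS : centralizerIn S T ≤ S := inf_le_left
  haveI : Finite ↥(centralizerIn S T) := finite_of_le hUS
  have hUp : IsPGroup p ↥(centralizerIn S T) := isPGroup_of_le hS hUS
  have hhyp : (centralizerSystem F T hTS).hyperfocalSubgroup p ≤ CC hS hF hE := by
    refine Cfsg.Agent.Lib.Fusion.Hyperfocal.hyperfocal_le (fun P hP α _ x => ?_)
    refine focal_le_CC hS hF hE hD₀ (Subgroup.subset_closure ?_)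
    exact ⟨P, _, x, autGroup_mem_hom hP α.2, rfl⟩
  obtain ⟨D, hDs, hDi⟩ := Cfsg.Agent.Lib.Fusion.PTheta.exists_pPowerIndex (p := p) _ _ rfl (centralizerSystem F T hTS) hUp hD₀s
    (CC hS hF hE) hCT hhyp
  have hCn : ((CC hS hF hE).subgroupOf (centralizerIn S T)).Normal := by
    refine ⟨fun k hk g => ?_⟩
    rw [Subgroup.mem_subgroupOf] at hk ⊢
    exact conj_mem_CC hS hF hE g.2.1 hk
  have hDn := Cfsg.Agent.Lib.Fusion.PPowerNormal.isNormalIn_of_pPowerIndex hUp hD₀s hCT hCn hhyp hDs hDi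
  have hinv := isInvariantIn' hS hF hT hC hCT hD₀ hDn hDi
  refine ⟨D, ⟨⟨hDs, hF, hinv⟩, fun α hα => ?_⟩, fun P φ hφ => ?_⟩
  · obtain ⟨β, hβ⟩ := exists_good hS hF hT hC hCT hD₀ hDn hinv hα
    exact ⟨β, hβ.mem, hβ.res, hβ.cen⟩
  · exact hDi.1 P hφ

end Final

end Cfsg.Agent.Lib.Fusion.GoodLift
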