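/-
Good lifts of all automorphisms of a normal subsystem: local lemmas.
-/
import Mathlib
import Cfsg.Agent.Lib.Fusion.GoodLift7
import Cfsg.Agent.S5096
import Cfsg.Agent.S5098

set_option autoImplicit false
set_option linter.style.haveILetI false

namespace Cfsg.Agent.Lib.Fusion.CLiftG

open Cfsg Cfsg.FusionSystem Cfsg.Agent.Lib.Fusion.Basic Cfsg.Agent.Lib.Fusion.Saturated
open Cfsg.Agent.Lib.Fusion.Saturated2 (autOfHom autOfHom_mem)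
open Cfsg.Agent.Lib.Fusion.LocalSystems (map_mem_sup_of_ext)
open Cfsg.Agent.Lib.Fusion.Joins (exists_hom_of_eq)
open Cfsg.Agent.Lib.Fusion.LiftSys (stable_coprime)
open Cfsg.Agent.Lib.Fusion.NormalPair (stronglyClosed_apply)
open Cfsg.Agent.Lib.Fusion.NormalCR
open Cfsg.Agent.Lib.Fusion.GoodLift

variable {Ω : Type*} [Group Ω] {S T : Subgroup Ω} {F : FusionSystem S} {E : FusionSystem T}
variable {p : ℕ} [hp : Fact p.Prime] {P : Subgroup Ω}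

/-- A normal `p`-subgroup of `Aut_𝒢(Q)` lies in `Aut_U(Q)` when `Q` is `𝒢`-fully normalized. -/
theorem mem_autInduced_of_normal {U Q : Subgroup Ω} [Finite U] {𝒢 : FusionSystem U} (hU : IsPGroup p U)
    (h𝒢 : 𝒢.IsSaturated p) (hQ : 𝒢.IsFullyNormalized Q) (X : Subgroup (𝒢.autGroup Q)) (hXn : X.Normal)
    (hX : IsPGroup p X) {δ : 𝒢.autGroup Q} (hδ : δ ∈ X) : (δ : MulAut Q) ∈ autInducedBy U Q := by
  obtain ⟨-, R, hR⟩ := (fullyNormalized_props hU h𝒢 hQ).2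
  haveI : Finite (𝒢.autGroup Q) := finite_autGroup hQ.1
  have h1 : IsPGroup p ↥(X ⊔ (R : Subgroup (𝒢.autGroup Q))) := by
    haveI := hXn
    exact hX.to_sup_of_normal_left R.isPGroup'
  have h2 := R.is_maximal' h1 le_sup_right
  have h3 : δ ∈ (R : Subgroup (𝒢.autGroup Q)) := by
    rw [← h2]
    exact Subgroup.mem_sup_left hδ
  rw [hR] at h3
  exact Subgroup.mem_subgroupOf.1 h3

/-- A map preserving `P` is in the normalizer system. -/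
theorem normalizerHom_of_le {Q : Subgroup Ω} {φ : Q →* Ω} (hφ : φ ∈ F.Hom Q) (hPQ : P ≤ Q)
    (hQ : Q ≤ normalizerIn S P) (hv : ∀ x : Q, φ x ∈ normalizerIn S P)
    (h1 : ∀ x : P, φ (Subgroup.inclusion hPQ x) ∈ P)
    (h2 : ∀ y ∈ P, ∃ x : P, φ (Subgroup.inclusion hPQ x) = y) : φ ∈ F.normalizerHom P Q := by
  have hle : Q ⊔ P ≤ Q := sup_le le_rfl hPQ
  refine ⟨hφ, hQ, hv, φ.comp (Subgroup.inclusion hle), res_mem hφ hle, fun x => rfl, ?_⟩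
  ext y
  constructor
  · rintro ⟨⟨x, hx⟩, hxP, rfl⟩
    exact h1 ⟨x, hxP⟩
  · intro hy
    obtain ⟨x, rfl⟩ := h2 y hy
    exact ⟨⟨x, le_sup_right (a := Q) x.2⟩, x.2, rfl⟩

/-- An automorphism preserving `P` is in the normalizer system. -/
theorem mem_autGroup_normalizer {Q : Subgroup Ω} {𝒢 : FusionSystem (normalizerIn S P)}
    (h𝒢 : F.IsNormalizerSystem P 𝒢) {a : MulAut Q} (ha : a ∈ F.autGroup Q) (hQS : Q ≤ S) (hPQ : P ≤ Q)
    (hQ : Q ≤ normalizerIn S P) (h1 : ∀ x : P, ((a (Subgroup.inclusion hPQ x) : Q) : Ω) ∈ P)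
    (h2 : ∀ y ∈ P, ∃ x : P, ((a (Subgroup.inclusion hPQ x) : Q) : Ω) = y) : a ∈ 𝒢.autGroup Q := by
  apply mem_autGroup_of_mem
  rw [h𝒢 Q]
  exact normalizerHom_of_le (autGroup_mem_hom hQS ha) hPQ hQ (fun x => hQ (a x).2) h1 h2

/-- In a normalizer system, `P` is strongly closed. -/
theorem stronglyClosed_of_normalizerSystem (hPS : P ≤ S) {𝒢 : FusionSystem (normalizerIn S P)}
    (h𝒢 : F.IsNormalizerSystem P 𝒢) : 𝒢.StronglyClosed P := by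
  refine ⟨le_normalizerIn hPS, fun R hR φ hφ x => ?_⟩
  rw [h𝒢 R] at hφ
  obtain ⟨-, -, -, ψ, -, hψ1, hψ2⟩ := hφ
  rw [← hψ1]
  exact hψ2.le ⟨Subgroup.inclusion le_sup_left x, hR x.2, rfl⟩

/-- Elements of `N_S(P)` normalize `hat S P`. -/
theorem mem_normalizer_hat {t : Ω} (htS : t ∈ S) (htP : t ∈ Subgroup.normalizer (P : Set Ω)) :
    t ∈ Subgroup.normalizer ((hat S P : Subgroup Ω) : Set Ω) := by
  have htC : t ∈ Subgroup.normalizer ((centralizerIn S P : Subgroup Ω) : Set Ω) := by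
    rw [Subgroup.mem_normalizer_iff]
    intro c
    constructor
    · intro hc
      exact conj_mem_cen htS htP hc
    · intro hc
      have := conj_mem_cen (S.inv_mem htS) (Subgroup.inv_mem _ htP) hc
      simpa [mul_assoc] using this
  exact Cfsg.Agent.Lib.Fusion.KNormalizer.mem_normalizer_sup htP htC

/-- `[R, y] ≤ P` for `y ∈ C_S(P)`, `R = N_T(P)`, `C_T(P) ≤ P`. -/
theorem comm_mem_of_cen (hT : F.StronglyClosed T) (hC : centralizerIn T P ≤ P) {y x : Ω}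
    (hy : y ∈ centralizerIn S P) (hx : x ∈ normalizerIn T P) : x⁻¹ * (y * x * y⁻¹) ∈ P := by
  apply hC
  refine ⟨T.mul_mem (T.inv_mem hx.1) (StronglyClosed.conj_mem hT hy.1 hx.1), ?_⟩
  have h1 := conj_mem_cen (S.inv_mem (hT.1 hx.1)) (Subgroup.inv_mem _ hx.2) hy
  have e : x⁻¹ * (y * x * y⁻¹) = (x⁻¹ * y * x⁻¹⁻¹) * y⁻¹ := by group
  rw [e]
  exact Subgroup.mul_mem _ h1.2 (Subgroup.inv_mem _ hy.2)

/-- `a` acts trivially on `Q` modulo `W`. -/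
def TrivMod (W Q : Subgroup Ω) (a : MulAut Q) : Prop := ∀ x : Q, (x : Ω)⁻¹ * ((a x : Q) : Ω) ∈ W

theorem TrivMod.mul {W Q : Subgroup Ω} {a b : MulAut Q} (ha : TrivMod W Q a) (hb : TrivMod W Q b) :
    TrivMod W Q (a * b) := by
  intro x
  have h1 := hb x
  have h2 := ha (b x)
  have e : (x : Ω)⁻¹ * (((a * b) x : Q) : Ω) = ((x : Ω)⁻¹ * (b x : Q)) * (((b x : Q) : Ω)⁻¹ * (a (b x) : Q)) := by
    rw [MulAut.mul_apply]
    group
  rw [e]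
  exact W.mul_mem h1 h2

theorem TrivMod.inv {W Q : Subgroup Ω} {a : MulAut Q} (ha : TrivMod W Q a) : TrivMod W Q a⁻¹ := by
  intro x
  have h1 := ha (a⁻¹ x)
  have e : ((a (a⁻¹ x) : Q) : Ω) = x := by simp
  rw [e] at h1
  have h2 := W.inv_mem h1
  simpa using h2

theorem TrivMod.pow {W Q : Subgroup Ω} {a : MulAut Q} (ha : TrivMod W Q a) (k : ℕ) : TrivMod W Q (a ^ k) := by
  induction k with
  | zero => intro x; simp
  | succ k ih => rw [pow_succ]; exact ih.mul ha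

theorem TrivMod.conj {W Q : Subgroup Ω} {a g : MulAut Q} (ha : TrivMod W Q a)
    (hg : ∀ x : Q, (x : Ω) ∈ W → ((g x : Q) : Ω) ∈ W) (hW : W ≤ Q) : TrivMod W Q (g * a * g⁻¹) := by
  intro x
  have h1 := ha (g⁻¹ x)
  have h2 := hg ⟨_, hW h1⟩ h1
  have e : (⟨_, hW h1⟩ : Q) = (g⁻¹ x)⁻¹ * a (g⁻¹ x) := Subtype.ext rfl
  rw [e, map_mul, map_inv] at h2
  simpa [MulAut.mul_apply] using h2

/-- The trivial-modulo condition on generators. -/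
theorem trivMod_of_sup {W A B : Subgroup Ω} (hW : W ≤ A ⊔ B) (hn : (W.subgroupOf (A ⊔ B)).Normal)
    {a : MulAut ↥(A ⊔ B)} (h1 : ∀ x : A, (x : Ω)⁻¹ * ((a (Subgroup.inclusion le_sup_left x) : ↥(A ⊔ B)) : Ω) ∈ W)
    (h2 : ∀ x : B, (x : Ω)⁻¹ * ((a (Subgroup.inclusion le_sup_right x) : ↥(A ⊔ B)) : Ω) ∈ W) :
    TrivMod W (A ⊔ B) a := by
  haveI := hn
  let f : ↥(A ⊔ B) →* ↥(A ⊔ B) ⧸ W.subgroupOf (A ⊔ B) :=
    (QuotientGroup.mk' (W.subgroupOf (A ⊔ B))).comp a.toMonoidHom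
  let g : ↥(A ⊔ B) →* ↥(A ⊔ B) ⧸ W.subgroupOf (A ⊔ B) := QuotientGroup.mk' (W.subgroupOf (A ⊔ B))
  have hfg : f = g := by
    apply hom_ext_sup'
    · intro x
      symm
      apply QuotientGroup.eq.2
      exact Subgroup.mem_subgroupOf.2 (h1 x)
    · intro x
      symm
      apply QuotientGroup.eq.2
      exact Subgroup.mem_subgroupOf.2 (h2 x)
  intro x
  have h3 : g x = f x := (congrArg (fun t => t x) hfg).symm
  have h4 := QuotientGroup.eq.1 h3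
  exact Subgroup.mem_subgroupOf.1 h4

local notation "𝐑" => normalizerIn T P
local notation "𝐗" => hat S (normalizerIn T P) ⊔ centralizerIn S P

/-- Conjugation on `𝐑` by `y ∈ C_S(P)`. -/
theorem exists_z [Finite S] (hS : IsPGroup p S) (hF : F.IsSaturated p) (hE : E.IsWeaklyNormalIn F p)
    (hPT : P ≤ T) (hEFN : E.IsFullyNormalized P) (hC : centralizerIn T P ≤ P) {α₁ : MulAut ↥(𝐑)}
    (hα₁ : α₁ ∈ E.autGroup (𝐑))
    (hα₁P : ∀ x : ↥(𝐑), (x : Ω) ∈ P ↔ ((α₁ x : ↥(𝐑)) : Ω) ∈ P) {y : Ω}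
    (hy : y ∈ centralizerIn S P) (hyR : y ∈ Subgroup.normalizer ((𝐑 : Subgroup Ω) : Set Ω)) :
    ∃ z ∈ Zc P, ∀ x : ↥(𝐑),
      (((α₁ * normConj y hyR * α₁⁻¹ * (normConj y hyR)⁻¹) x : ↥(𝐑)) : Ω) = z * x * z⁻¹ := by
  classical
  obtain ⟨hEs, -, hinv⟩ := hE
  have hT := hinv.2.1
  have hTS : T ≤ S := hT.1
  haveI : Finite T := finite_of_le hTS
  have hTp : IsPGroup p T := isPGroup_of_le hS hTS
  have hRT : 𝐑 ≤ T := normalizerIn_le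
  have hRS : 𝐑 ≤ S := hRT.trans hTS
  have hPR : P ≤ 𝐑 := le_normalizerIn hPT
  haveI : Finite 𝐑 := finite_of_le hRT
  have hRp : IsPGroup p 𝐑 := isPGroup_of_le hTp hRT
  obtain ⟨𝒩, h𝒩⟩ := Cfsg.Agent.S5096.result E P hPT
  have h𝒩s : 𝒩.IsSaturated p := Cfsg.Agent.S5098.result p hTp E hEs P hEFN 𝒩 h𝒩
  have hPsc := stronglyClosed_of_normalizerSystem hPT h𝒩
  let e : MulAut 𝐑 := normConj y hyR
  have he : ∀ x : 𝐑, ((e x : 𝐑) : Ω) = y * x * y⁻¹ := fun _ => rfl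
  have heinv : ∀ x : 𝐑, ((e⁻¹ x : 𝐑) : Ω) = y⁻¹ * x * y := by
    intro x
    have h1 : e (e⁻¹ x) = x := by simp
    have h2 := congrArg (fun t : 𝐑 => (t : Ω)) h1
    simp only [he] at h2
    rw [← h2]
    group
  let δ : MulAut 𝐑 := α₁ * e * α₁⁻¹ * e⁻¹
  have hδe : δ = α₁ * MulAut.congr e α₁⁻¹ := by
    ext x
    rfl
  have hδE : δ ∈ E.autGroup 𝐑 := by
    rw [hδe]
    refine Subgroup.mul_mem _ hα₁ ?_
    exact Cfsg.Agent.Lib.Fusion.NormalPair.congr_mem_autGroup hinv hRT (F.conj_mem hRS hy.1) e (fun _ => rfl)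
      (Subgroup.inv_mem _ hα₁)
  have hycomm : ∀ x ∈ P, y * x * y⁻¹ = x := by
    intro x hx
    have := comm_of_mem_cen hy.2 hx
    rw [← this]
    group
  have hyinv : ∀ x ∈ P, y⁻¹ * x * y = x := by
    intro x hx
    have := comm_of_mem_cen hy.2 hx
    rw [mul_assoc, this]
    group
  have hδP : ∀ x : 𝐑, (x : Ω) ∈ P → δ x = x := by
    intro x hx
    have h1 : e⁻¹ x = x := Subtype.ext ((heinv x).trans (hyinv x hx))
    have h2 : ((α₁⁻¹ x : 𝐑) : Ω) ∈ P := by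
      rw [hα₁P]
      simpa using hx
    have h3 : e (α₁⁻¹ x) = α₁⁻¹ x := Subtype.ext ((he _).trans (hycomm _ h2))
    show α₁ (e (α₁⁻¹ (e⁻¹ x))) = x
    rw [h1, h3]
    simp
  have heT : TrivMod P 𝐑 e := fun x => by
    rw [he]
    exact comm_mem_of_cen hT hC hy x.2
  have hα₁Pi : ∀ x : 𝐑, (x : Ω) ∈ P → ((α₁ x : 𝐑) : Ω) ∈ P := fun x hx => (hα₁P x).1 hx
  have hδT : TrivMod P 𝐑 δ := (heT.conj hα₁Pi hPR).mul heT.inv
  have hδN : δ ∈ 𝒩.autGroup 𝐑 := by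
    refine mem_autGroup_normalizer h𝒩 hδE hRT hPR le_rfl ?_ ?_
    · intro x
      rw [hδP _ x.2]
      exact x.2
    · intro w hw
      exact ⟨⟨w, hw⟩, by rw [hδP _ hw]; rfl⟩
  let δ' : 𝒩.autGroup 𝐑 := ⟨δ, hδN⟩
  have hδ' : δ' ∈ DeltaK 𝒩 P 𝐑 := ⟨hδP, hδT⟩
  have hRFN : 𝒩.IsFullyNormalized 𝐑 := isFullyNormalized_of_closed le_rfl (fun φ hφ x => map_mem_S hφ x)
  have h1 := mem_autInduced_of_normal hRp h𝒩s hRFN (DeltaK 𝒩 P 𝐑) (DeltaK_normal hPsc le_rfl) (isPGroup_DeltaK hRp le_rfl) hδ'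
  obtain ⟨z, hz, hzv⟩ := mem_autInducedBy_iff.1 h1
  have hzC : z ∈ Subgroup.centralizer (P : Set Ω) := by
    rw [Subgroup.mem_centralizer_iff]
    intro a ha
    have h2 := hzv ⟨a, hPR ha⟩
    have h3 : ((δ ⟨a, hPR ha⟩ : 𝐑) : Ω) = a := congrArg (fun t : 𝐑 => (t : Ω)) (hδP _ ha)
    have h4 : a = z * a * z⁻¹ := h3.symm.trans h2
    calc a * z = z * a * z⁻¹ * z := by rw [← h4]
      _ = z * a := by group
  have hzP : z ∈ P := hC ⟨hRT hz, hzC⟩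
  exact ⟨z, Subgroup.mem_inf.2 ⟨hzP, hzC⟩, hzv⟩

omit hp in
theorem normConj_inv_apply {Q : Subgroup Ω} {g : Ω} (hg : g ∈ Subgroup.normalizer (Q : Set Ω)) (x : Q) :
    (((normConj g hg)⁻¹ x : Q) : Ω) = g⁻¹ * x * g := by
  have h1 : normConj g hg ((normConj g hg)⁻¹ x) = x := by simp
  have h2 := congrArg (fun t : Q => (t : Ω)) h1
  have h3 : g * (((normConj g hg)⁻¹ x : Q) : Ω) * g⁻¹ = x := h2
  rw [← h3]
  group

omit hp in
theorem mem_normalizer_normalizerIn {y : Ω} (hyT : y ∈ Subgroup.normalizer (T : Set Ω))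
    (hyP : y ∈ Subgroup.normalizer (P : Set Ω)) :
    y ∈ Subgroup.normalizer ((𝐑 : Subgroup Ω) : Set Ω) := by
  rw [Subgroup.mem_normalizer_iff]
  intro x
  constructor
  · intro hx
    refine ⟨(Subgroup.mem_normalizer_iff.1 hyT x).1 hx.1, ?_⟩
    exact Subgroup.mul_mem _ (Subgroup.mul_mem _ hyP hx.2) (Subgroup.inv_mem _ hyP)
  · intro hx
    refine ⟨(Subgroup.mem_normalizer_iff.1 hyT x).2 hx.1, ?_⟩
    have h := Subgroup.mul_mem _ (Subgroup.mul_mem _ (Subgroup.inv_mem _ hyP) hx.2) hyP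
    simpa [mul_assoc] using h

/-- `hat S 𝐑` is weakly closed in the normalizer system of `P`. -/
theorem hat_fullyNormalized [Finite S] {𝒢 : FusionSystem (normalizerIn S P)} (h𝒢 : F.IsNormalizerSystem P 𝒢)
    (hT : F.StronglyClosed T) (hPS : P ≤ S) (hHU : hat S 𝐑 ≤ normalizerIn S P) : 𝒢.IsFullyNormalized (hat S 𝐑) := by
  classical
  have hTS : T ≤ S := hT.1
  have hRT : 𝐑 ≤ T := normalizerIn_le
  have hRS : 𝐑 ≤ S := hRT.trans hTS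
  haveI : Finite ↥(𝐑) := finite_of_le hRS
  haveI : Finite ↥(normalizerIn S P) := finite_of_le normalizerIn_le
  refine isFullyNormalized_of_closed hHU (fun φ hφ x => ?_)
  have hφ' := hφ
  rw [h𝒢 _] at hφ'
  have hF' : φ ∈ F.Hom (hat S 𝐑) := hφ'.1
  have h1 : ∀ x : ↥(𝐑), φ (Subgroup.inclusion (le_hat _) x) ∈ 𝐑 := fun x =>
    ⟨stronglyClosed_apply hT hF' _ (hRT x.2), (map_mem_S hφ _).2⟩
  refine map_mem_sup_of_ext φ (fun y => le_hat _ (h1 y)) (fun y => cen_le_hat _ ?_) x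
  refine map_cen_mem (P₁ := 𝐑) hF' (fun w hw => ?_) _ y.2
  -- `φ` maps `𝐑` onto `𝐑`
  have hinj : Function.Injective (fun x : ↥(𝐑) => (⟨_, h1 x⟩ : ↥(𝐑))) := by
    intro a b hab
    have h2 := congrArg (fun t : ↥(𝐑) => (t : Ω)) hab
    have h3 := F.injective_of_mem hF' h2
    exact Subtype.ext (congrArg (fun t : ↥(hat S 𝐑) => (t : Ω)) h3)
  obtain ⟨a, ha⟩ := (Finite.injective_iff_surjective.1 hinj) ⟨w, hw⟩
  exact ⟨a, congrArg (fun t : ↥(𝐑) => (t : Ω)) ha⟩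

omit hp in
/-- A good lift acts trivially modulo the subgroup. -/
theorem IsGood.trivMod {R : Subgroup Ω} {ρ : MulAut ↥(hat S R)} {α : MulAut R} (hρ : IsGood F R ρ α) :
    TrivMod R (hat S R) ρ := by
  have hRnH : hat S R ≤ Subgroup.normalizer ((R : Subgroup Ω) : Set Ω) := by
    refine sup_le Subgroup.le_normalizer ?_
    intro c hc
    exact centralizer_le_normalizer' _ hc.2
  have hRn : ((R : Subgroup Ω).subgroupOf (hat S R)).Normal := by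
    constructor
    intro n hn g
    have hn' : ((n : ↥(hat S R)) : Ω) ∈ R := Subgroup.mem_subgroupOf.1 hn
    exact Subgroup.mem_subgroupOf.2 ((Subgroup.mem_normalizer_iff.1 (hRnH g.2) _).1 hn')
  refine trivMod_of_sup (le_hat R) hRn (fun x => ?_) (fun x => ?_)
  · have h1 := hρ.res x
    have h2 : ((ρ (Subgroup.inclusion le_sup_left x) : ↥(hat S R)) : Ω) = (α x : R) := h1
    rw [h2]
    exact Subgroup.mul_mem _ (Subgroup.inv_mem _ x.2) (α x).2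
  · exact Zc.left (hρ.cen (Subgroup.inclusion le_sup_right x) x.2)

/-- Piece C. -/
theorem exists_g [Finite S] (hS : IsPGroup p S) (hF : F.IsSaturated p) (hE : E.IsWeaklyNormalIn F p)
    (hPT : P ≤ T) (hFN : F.IsFullyNormalized P) (hEFN : E.IsFullyNormalized P) (hC : centralizerIn T P ≤ P) {α₁ : MulAut ↥(𝐑)}
    (hα₁ : α₁ ∈ E.autGroup (𝐑))
    (hα₁P : ∀ x : ↥(𝐑), (x : Ω) ∈ P ↔ ((α₁ x : ↥(𝐑)) : Ω) ∈ P) {ρ₁ : MulAut ↥(hat S 𝐑)}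
    (hρ₁ : IsGood F 𝐑 ρ₁ α₁) {𝒢 : FusionSystem (normalizerIn S P)} (h𝒢 : F.IsNormalizerSystem P 𝒢) {y : Ω}
    (hy : y ∈ centralizerIn S P) :
    ∃ g ∈ normalizerIn S P, (∀ h h' : ↥(hat S 𝐑), (h' : Ω) = y * h * y⁻¹ →
      ((ρ₁ h' : ↥(hat S 𝐑)) : Ω) = g * (ρ₁ h : ↥(hat S 𝐑)) * g⁻¹) ∧ y⁻¹ * g ∈ hat S 𝐑 := by
  classical
  have hinv := hE.2.2
  have hT := hinv.2.1
  have hTS : T ≤ S := hT.1
  have hPS : P ≤ S := hPT.trans hTS
  have hRT : 𝐑 ≤ T := normalizerIn_le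
  have hRS : 𝐑 ≤ S := hRT.trans hTS
  have hPR : P ≤ 𝐑 := le_normalizerIn hPT
  haveI : Finite ↥(𝐑) := finite_of_le hRS
  have hyN : y ∈ Subgroup.normalizer (P : Set Ω) := centralizer_le_normalizer' P hy.2
  have hyR : y ∈ Subgroup.normalizer ((𝐑 : Subgroup Ω) : Set Ω) :=
    mem_normalizer_normalizerIn (StronglyClosed.le_normalizer hT hy.1) hyN
  obtain ⟨z, hzZ, hzv⟩ := exists_z hS hF hE hPT hEFN hC hα₁ hα₁P hy hyR
  have hzP : z ∈ P := Zc.left hzZ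
  have hHS : hat S 𝐑 ≤ S := hat_le hRS
  have hRH : 𝐑 ≤ hat S 𝐑 := le_hat _
  have hzH : z ∈ hat S 𝐑 := hRH (hPR hzP)
  have hyH : y ∈ Subgroup.normalizer ((hat S 𝐑 : Subgroup Ω) : Set Ω) := mem_normalizer_hat hy.1 hyR
  have hzN : z ∈ Subgroup.normalizer ((hat S 𝐑 : Subgroup Ω) : Set Ω) := Subgroup.le_normalizer hzH
  let cy : MulAut ↥(hat S 𝐑) := normConj y hyH
  let cz : MulAut ↥(hat S 𝐑) := normConj z hzN
  let e : MulAut ↥(𝐑) := normConj y hyR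
  let b₁ : MulAut ↥(hat S 𝐑) := ρ₁ * cy * ρ₁⁻¹ * cy⁻¹
  let b₂ : MulAut ↥(hat S 𝐑) := cz⁻¹ * b₁
  let ι : ↥(𝐑) →* ↥(hat S 𝐑) := Subgroup.inclusion hRH
  have hι1 : ∀ x, ρ₁ (ι x) = ι (α₁ x) := fun x => Subtype.ext (hρ₁.res x)
  have hι2 : ∀ x, ρ₁⁻¹ (ι x) = ι (α₁⁻¹ x) := fun x => Subtype.ext (inv_res hρ₁.res x)
  have hι3 : ∀ x, cy (ι x) = ι (e x) := fun x => Subtype.ext rfl
  have hι4 : ∀ x, cy⁻¹ (ι x) = ι (e⁻¹ x) := fun x => by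
    apply Subtype.ext
    show ((cy⁻¹ (ι x) : ↥(hat S 𝐑)) : Ω) = ((e⁻¹ x : ↥(𝐑)) : Ω)
    rw [normConj_inv_apply, normConj_inv_apply]
    rfl
  have hb₁ : ∀ x : ↥(𝐑), ((b₁ (ι x) : ↥(hat S 𝐑)) : Ω) = z * x * z⁻¹ := by
    intro x
    rw [← hzv x]
    show ((ρ₁ (cy (ρ₁⁻¹ (cy⁻¹ (ι x)))) : ↥(hat S 𝐑)) : Ω) = _
    rw [hι4, hι2, hι3, hι1]
    rfl
  have hb₂ι : ∀ x : ↥(𝐑), b₂ (ι x) = ι x := by
    intro x
    apply Subtype.ext
    show (((cz⁻¹) (b₁ (ι x)) : ↥(hat S 𝐑)) : Ω) = x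
    rw [normConj_inv_apply, hb₁]
    group
  have hRnH : hat S 𝐑 ≤ Subgroup.normalizer ((𝐑 : Subgroup Ω) : Set Ω) := by
    refine sup_le Subgroup.le_normalizer ?_
    intro c hc
    exact centralizer_le_normalizer' _ hc.2
  have hRn : ((𝐑 : Subgroup Ω).subgroupOf (hat S 𝐑)).Normal := by
    constructor
    intro n hn g
    have hn' : ((n : ↥(hat S 𝐑)) : Ω) ∈ 𝐑 := Subgroup.mem_subgroupOf.1 hn
    exact Subgroup.mem_subgroupOf.2 ((Subgroup.mem_normalizer_iff.1 (hRnH g.2) _).1 hn')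
  have hρT : TrivMod (𝐑) (hat S 𝐑) ρ₁ := by
    refine trivMod_of_sup (hRH) hRn (fun x => ?_) (fun x => ?_)
    · have h1 := hρ₁.res x
      have h2 : ((ρ₁ (Subgroup.inclusion le_sup_left x) : ↥(hat S 𝐑)) : Ω) = (α₁ x : ↥(𝐑)) := h1
      rw [h2]
      exact Subgroup.mul_mem _ (Subgroup.inv_mem _ x.2) (α₁ x).2
    · exact Zc.left (hρ₁.cen (Subgroup.inclusion le_sup_right x) x.2)
  have hcyR : ∀ x : ↥(hat S 𝐑), (x : Ω) ∈ 𝐑 → ((cy x : ↥(hat S 𝐑)) : Ω) ∈ 𝐑 :=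
    fun x hx => (Subgroup.mem_normalizer_iff.1 hyR _).1 hx
  have hczT : TrivMod (𝐑) (hat S 𝐑) cz := by
    intro x
    show (x : Ω)⁻¹ * (z * x * z⁻¹) ∈ 𝐑
    have h1 : (x : Ω)⁻¹ * z * x ∈ 𝐑 := by
      have := (Subgroup.mem_normalizer_iff.1 (hRnH (x⁻¹).2) z).1 (hPR hzP)
      simpa using this
    have e1 : (x : Ω)⁻¹ * (z * x * z⁻¹) = ((x : Ω)⁻¹ * z * x) * z⁻¹ := by group
    rw [e1]
    exact Subgroup.mul_mem _ h1 (Subgroup.inv_mem _ (hPR hzP))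
  have hb₁T : TrivMod (𝐑) (hat S 𝐑) b₁ := by
    have h1 := (hρT.inv.conj hcyR hRH)
    have e1 : b₁ = ρ₁ * (cy * ρ₁⁻¹ * cy⁻¹) := by
      show ρ₁ * cy * ρ₁⁻¹ * cy⁻¹ = _
      group
    rw [e1]
    exact hρT.mul h1
  have hb₂T : TrivMod (𝐑) (hat S 𝐑) b₂ := hczT.inv.mul hb₁T
  have hcyF : cy ∈ F.autGroup (hat S 𝐑) := autInducedBy_le_autGroup hHS (normConj_mem_autInducedBy hy.1 hyH)
  have hczF : cz ∈ F.autGroup (hat S 𝐑) :=
    autInducedBy_le_autGroup hHS (normConj_mem_autInducedBy (hRS (hPR hzP)) hzN)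
  have hb₂F : b₂ ∈ F.autGroup (hat S 𝐑) :=
    Subgroup.mul_mem _ (Subgroup.inv_mem _ hczF) (Subgroup.mul_mem _ (Subgroup.mul_mem _ (Subgroup.mul_mem _ hρ₁.mem hcyF)
      (Subgroup.inv_mem _ hρ₁.mem)) (Subgroup.inv_mem _ hcyF))
  have hHU : hat S 𝐑 ≤ normalizerIn S P := by
    refine sup_le (fun x hx => ⟨hRS hx, hx.2⟩) (fun c hc => ⟨hc.1, ?_⟩)
    refine centralizer_le_normalizer' P ?_
    exact Subgroup.centralizer_le hPR hc.2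
  have hPH : P ≤ hat S 𝐑 := hPR.trans hRH
  have hb₂P : ∀ x : P, b₂ (Subgroup.inclusion hPH x) = Subgroup.inclusion hPH x := fun x => hb₂ι ⟨x, hPR x.2⟩
  have hb₂𝒢 : b₂ ∈ 𝒢.autGroup (hat S 𝐑) := by
    refine mem_autGroup_normalizer h𝒢 hb₂F hHS hPH hHU (fun x => ?_) (fun w hw => ?_)
    · rw [hb₂P]
      exact x.2
    · exact ⟨⟨w, hw⟩, by rw [hb₂P]; rfl⟩
  -- `𝐑` is strongly closed in `𝒢`
  have hRsc : 𝒢.StronglyClosed (𝐑) := by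
    refine ⟨fun x hx => ⟨hRS hx, hx.2⟩, fun Q hQ φ hφ x => ?_⟩
    have hφ' := hφ
    rw [h𝒢 Q] at hφ'
    exact ⟨stronglyClosed_apply hT hφ'.1 x (hRT (hQ x.2)), (map_mem_S hφ x).2⟩
  -- `hat S 𝐑` is fully normalized in `𝒢`
  have hHFN : 𝒢.IsFullyNormalized (hat S 𝐑) := hat_fullyNormalized h𝒢 hT hPS hHU
  have hUp : IsPGroup p ↥(normalizerIn S P) := isPGroup_of_le hS normalizerIn_le
  haveI : Finite ↥(normalizerIn S P) := finite_of_le normalizerIn_le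
  have h𝒢s : 𝒢.IsSaturated p := Cfsg.Agent.S5098.result p hS F hF P hFN 𝒢 h𝒢
  let b₂' : 𝒢.autGroup (hat S 𝐑) := ⟨b₂, hb₂𝒢⟩
  have hb₂Δ : b₂' ∈ DeltaK 𝒢 (𝐑) (hat S 𝐑) := ⟨fun x hx => hb₂ι ⟨x, hx⟩, hb₂T⟩
  have h1 := mem_autInduced_of_normal hUp h𝒢s hHFN (DeltaK 𝒢 (𝐑) (hat S 𝐑)) (DeltaK_normal hRsc hHU)
    (isPGroup_DeltaK hUp hHU) hb₂Δ
  obtain ⟨w, hw, hwv⟩ := mem_autInducedBy_iff.1 h1
  have hwC : w ∈ centralizerIn S 𝐑 := by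
    refine ⟨hw.1, Subgroup.mem_centralizer_iff.2 (fun a ha => ?_)⟩
    have h2 := hwv (ι ⟨a, ha⟩)
    have h3 : ((b₂ (ι ⟨a, ha⟩) : ↥(hat S 𝐑)) : Ω) = a := congrArg (fun t : ↥(hat S 𝐑) => (t : Ω)) (hb₂ι ⟨a, ha⟩)
    have h4 : a = w * a * w⁻¹ := h3.symm.trans h2
    calc a * w = w * a * w⁻¹ * w := by rw [← h4]
      _ = w * a := by group
  have hwH : w ∈ hat S 𝐑 := cen_le_hat _ hwC
  refine ⟨z * w * y, Subgroup.mul_mem _ (Subgroup.mul_mem _ (hHU hzH) hw) ⟨hy.1, hyN⟩, fun h h' hh' => ?_, ?_⟩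
  · have hcyh : cy h = h' := Subtype.ext hh'.symm
    have h2 := hwv (cy (ρ₁ h))
    have h3 : b₂ (cy (ρ₁ h)) = cz⁻¹ (ρ₁ h') := by
      show cz⁻¹ (ρ₁ (cy (ρ₁⁻¹ (cy⁻¹ (cy (ρ₁ h)))))) = _
      simp [hcyh]
    have h4 : (((b₂' : MulAut ↥(hat S 𝐑)) (cy (ρ₁ h)) : ↥(hat S 𝐑)) : Ω) = _ := h2
    have h5 : (((cz⁻¹) (ρ₁ h') : ↥(hat S 𝐑)) : Ω) = w * (y * (ρ₁ h : ↥(hat S 𝐑)) * y⁻¹) * w⁻¹ := by
      rw [← h3]
      exact h4
    rw [normConj_inv_apply] at h5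
    have h6 : ((ρ₁ h' : ↥(hat S 𝐑)) : Ω) = z * (z⁻¹ * ((ρ₁ h' : ↥(hat S 𝐑)) : Ω) * z) * z⁻¹ := by group
    rw [h6, h5]
    group
  · have h2 : z * w ∈ hat S 𝐑 := Subgroup.mul_mem _ hzH hwH
    have h3 := (Subgroup.mem_normalizer_iff.1 (Subgroup.inv_mem _ hyH) (z * w)).1 h2
    have e1 : y⁻¹ * (z * w * y) = y⁻¹ * (z * w) * y⁻¹⁻¹ := by group
    rw [e1]
    exact h3

/-- The main step. -/
theorem isGood_step [Finite S] (hS : IsPGroup p S) (hF : F.IsSaturated p) (hE : E.IsWeaklyNormalIn F p)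
    (hPT : P ≤ T) (hFN : F.IsFullyNormalized P) (hC : centralizerIn T P ≤ P) {α₁ : MulAut ↥(𝐑)}
    (hα₁ : α₁ ∈ E.autGroup (𝐑)) {α : MulAut P}
    (hres : ∀ x : P, ((α₁ (Subgroup.inclusion (le_normalizerIn hPT) x) : ↥(𝐑)) : Ω) = α x)
    {ρ₁ : MulAut ↥(hat S 𝐑)} (hρ₁ : IsGood F 𝐑 ρ₁ α₁) (hco : Nat.Coprime (orderOf ρ₁) p) :
    ∃ β, IsGood F P β α := by
  classical
  have hinv := hE.2.2
  have hT := hinv.2.1
  have hTS : T ≤ S := hT.1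
  have hPS : P ≤ S := hPT.trans hTS
  have hRT : 𝐑 ≤ T := normalizerIn_le
  have hRS : 𝐑 ≤ S := hRT.trans hTS
  have hPR : P ≤ 𝐑 := le_normalizerIn hPT
  haveI : Finite ↥(𝐑) := finite_of_le hRS
  have hEFN := isFullyNormalized_sub hS hF hinv hPT hFN
  have hα₁P : ∀ x : ↥(𝐑), (x : Ω) ∈ P ↔ ((α₁ x : ↥(𝐑)) : Ω) ∈ P := by
    intro x
    constructor
    · intro hx
      have h1 := hres ⟨x, hx⟩
      have h2 : Subgroup.inclusion (le_normalizerIn hPT) (⟨x, hx⟩ : P) = x := Subtype.ext rfl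
      rw [h2] at h1
      rw [h1]
      exact (α _).2
    · intro hx
      obtain ⟨x', hx'⟩ := α.surjective ⟨_, hx⟩
      have h1 := hres x'
      rw [hx'] at h1
      have h2 := α₁.injective (Subtype.ext h1)
      rw [← h2]
      exact x'.2
  obtain ⟨𝒢, h𝒢⟩ := Cfsg.Agent.S5096.result F P hPS
  have hUp : IsPGroup p ↥(normalizerIn S P) := isPGroup_of_le hS normalizerIn_le
  haveI : Finite ↥(normalizerIn S P) := finite_of_le normalizerIn_le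
  have h𝒢s : 𝒢.IsSaturated p := Cfsg.Agent.S5098.result p hS F hF P hFN 𝒢 h𝒢
  have hHS : hat S 𝐑 ≤ S := hat_le hRS
  have hRH : 𝐑 ≤ hat S 𝐑 := le_hat _
  have hHU : hat S 𝐑 ≤ normalizerIn S P := by
    refine sup_le (fun x hx => ⟨hRS hx, hx.2⟩) (fun c hc => ⟨hc.1, ?_⟩)
    refine centralizer_le_normalizer' P ?_
    exact Subgroup.centralizer_le hPR hc.2
  have hPH : P ≤ hat S 𝐑 := hPR.trans hRH
  haveI : Finite ↥(hat S 𝐑) := finite_of_le hHS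
  have hρP : ∀ x : P, ((ρ₁ (Subgroup.inclusion hPH x) : ↥(hat S 𝐑)) : Ω) = α x := by
    intro x
    rw [← hres x]
    exact hρ₁.res (Subgroup.inclusion hPR x)
  have hρ𝒢 : ρ₁ ∈ 𝒢.autGroup (hat S 𝐑) := by
    refine mem_autGroup_normalizer h𝒢 hρ₁.mem hHS hPH hHU (fun x => ?_) (fun w hw => ?_)
    · rw [hρP]
      exact (α x).2
    · obtain ⟨x', hx'⟩ := α.surjective ⟨w, hw⟩
      exact ⟨x', by rw [hρP, hx']⟩
  have hHFN : 𝒢.IsFullyNormalized (hat S 𝐑) := hat_fullyNormalized h𝒢 hT hPS hHU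
  have hrec := fullyNormalized_receptive hUp h𝒢s hHFN
  have hφ𝒢 := autGroup_mem_hom hHU hρ𝒢
  set φ : ↥(hat S 𝐑) →* Ω := (hat S 𝐑).subtype.comp ρ₁.toMonoidHom with hφdef
  have hφr : φ.range = hat S 𝐑 := by
    ext w
    constructor
    · rintro ⟨v, rfl⟩
      exact (ρ₁ v).2
    · intro hw
      exact ⟨ρ₁⁻¹ ⟨w, hw⟩, by simp [hφdef]⟩
  obtain ⟨ψ, hψ, hψa⟩ := hrec.2 _ φ hφ𝒢 hφr
  have hXe : hat S 𝐑 ⊔ centralizerIn S P ≤ extender (normalizerIn S P) (hat S 𝐑) φ := by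
    refine sup_le (le_extender hHU (fun x => hHU (ρ₁ x).2)) (fun y hy => ?_)
    obtain ⟨g, hg, hgv, -⟩ := exists_g hS hF hE hPT hFN hEFN hC hα₁ hα₁P hρ₁ h𝒢 hy
    have hyN : y ∈ Subgroup.normalizer (P : Set Ω) := centralizer_le_normalizer' P hy.2
    have hyR : y ∈ Subgroup.normalizer ((𝐑 : Subgroup Ω) : Set Ω) :=
      mem_normalizer_normalizerIn (StronglyClosed.le_normalizer hT hy.1) hyN
    refine extender_closure_mem ⟨hy.1, hyN⟩ (mem_normalizer_hat hy.1 hyR) hg (fun x hx => ?_)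
    exact hgv x ⟨_, hx⟩ rfl
  have hXS : 𝐗 ≤ S := sup_le hHS inf_le_left
  haveI : Finite ↥(𝐗) := finite_of_le hXS
  have hψF : ψ ∈ F.Hom (extender (normalizerIn S P) (hat S 𝐑) φ) := by
    have h := hψ
    rw [h𝒢 _] at h
    exact h.1
  let f : ↥(𝐗) →* Ω := ψ.comp (Subgroup.inclusion hXe)
  have hfF : f ∈ F.Hom (𝐗) := res_mem hψF hXe
  let ιH : ↥(hat S 𝐑) →* ↥(𝐗) := Subgroup.inclusion le_sup_left
  let ιY : ↥(centralizerIn S P) →* ↥(𝐗) := Subgroup.inclusion le_sup_right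
  have hfH : ∀ h : ↥(hat S 𝐑), f (ιH h) = (ρ₁ h : ↥(hat S 𝐑)) := by
    intro h
    exact hψa h h.2 (hXe (le_sup_left (a := hat S 𝐑) h.2))
  have hfY : ∀ y : ↥(centralizerIn S P), (y : Ω)⁻¹ * f (ιY y) ∈ hat S 𝐑 := by
    intro y
    obtain ⟨g, hg, hgv, hyg⟩ := exists_g hS hF hE hPT hFN hEFN hC hα₁ hα₁P hρ₁ h𝒢 y.2
    have hyN : (y : Ω) ∈ Subgroup.normalizer (P : Set Ω) := centralizer_le_normalizer' P y.2.2
    have hyH : (y : Ω) ∈ Subgroup.normalizer ((hat S 𝐑 : Subgroup Ω) : Set Ω) :=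
      mem_normalizer_hat y.2.1 (mem_normalizer_normalizerIn (StronglyClosed.le_normalizer hT y.2.1) hyN)
    have hcen : g⁻¹ * f (ιY y) ∈ centralizerIn S (hat S 𝐑) := by
      refine ⟨S.mul_mem (S.inv_mem hg.1) (map_mem_S hfF _), Subgroup.mem_centralizer_iff.2 fun a ha => ?_⟩
      obtain ⟨h, hh⟩ := ρ₁.surjective ⟨a, ha⟩
      have ha' : ((ρ₁ h : ↥(hat S 𝐑)) : Ω) = a := by rw [hh]
      let h' : ↥(hat S 𝐑) := ⟨y * h * (y : Ω)⁻¹, (Subgroup.mem_normalizer_iff.1 hyH h).1 h.2⟩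
      have h1 := hgv h h' rfl
      have h2 : ιH h' = ιY y * ιH h * (ιY y)⁻¹ := Subtype.ext rfl
      have h3 := hfH h'
      rw [h2, map_mul, map_mul, map_inv, hfH h, h1, ha'] at h3
      have h4 : f (ιY y) * a = g * a * g⁻¹ * f (ιY y) := by
        rw [← h3]
        group
      calc a * (g⁻¹ * f (ιY y)) = g⁻¹ * (g * a * g⁻¹ * f (ιY y)) := by group
        _ = g⁻¹ * (f (ιY y) * a) := by rw [h4]
        _ = _ := by group
    have h5 : g⁻¹ * f (ιY y) ∈ hat S 𝐑 := cen_le_hat _ (cen_mono hRH hcen)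
    have e : (y : Ω)⁻¹ * f (ιY y) = ((y : Ω)⁻¹ * g) * (g⁻¹ * f (ιY y)) := by group
    rw [e]
    exact Subgroup.mul_mem _ hyg h5
  have hfv : ∀ u : ↥(𝐗), f u ∈ 𝐗 := by
    refine map_mem_sup_of_ext f (fun h => ?_) (fun y => ?_)
    · show f (ιH h) ∈ 𝐗
      rw [hfH]
      exact le_sup_left (a := hat S 𝐑) (ρ₁ h).2
    · show f (ιY y) ∈ 𝐗
      have e : f (ιY y) = y * ((y : Ω)⁻¹ * f (ιY y)) := by group
      rw [e]
      exact Subgroup.mul_mem _ (le_sup_right (a := hat S 𝐑) y.2) (le_sup_left (a := hat S 𝐑) (hfY y))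
  let ρ₂ : MulAut ↥(𝐗) := autOfHom f (F.injective_of_mem hfF) hfv
  have hρ₂F : ρ₂ ∈ F.autGroup (𝐗) := autOfHom_mem hfF hfv
  have hρ₂H : ∀ h, ρ₂ (ιH h) = ιH (ρ₁ h) := fun h => Subtype.ext (hfH h)
  have hpow : ∀ (k : ℕ) (h : ↥(hat S 𝐑)), (ρ₂ ^ k) (ιH h) = ιH ((ρ₁ ^ k) h) := by
    intro k
    induction k with
    | zero => intro h; rfl
    | succ k ih =>
      intro h
      rw [pow_succ', MulAut.mul_apply, ih, hρ₂H, pow_succ', MulAut.mul_apply]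
  obtain ⟨u, hu, hucop⟩ := Cfsg.Agent.Lib.Fusion.FactorHyperfocal.exists_pow_coprime hp.out ρ₂ (orderOf_pos ρ₂) hco
  have hρu : ρ₁ ^ u = ρ₁ := by
    have := (pow_eq_pow_iff_modEq (x := ρ₁) (n := u) (m := 1)).2 hu
    rwa [pow_one] at this
  have hρ₄H : ∀ h, (ρ₂ ^ u) (ιH h) = ιH (ρ₁ h) := fun h => by rw [hpow, hρu]
  have hyR : ∀ y ∈ centralizerIn S P, y ∈ Subgroup.normalizer ((𝐑 : Subgroup Ω) : Set Ω) := fun y hy =>
    mem_normalizer_normalizerIn (StronglyClosed.le_normalizer hT hy.1) (centralizer_le_normalizer' P hy.2)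
  have hXNR : 𝐗 ≤ Subgroup.normalizer ((𝐑 : Subgroup Ω) : Set Ω) :=
    sup_le (sup_le Subgroup.le_normalizer (fun c hc => centralizer_le_normalizer' _ hc.2)) hyR
  have hXNH : 𝐗 ≤ Subgroup.normalizer ((hat S 𝐑 : Subgroup Ω) : Set Ω) :=
    sup_le Subgroup.le_normalizer (fun y hy => mem_normalizer_hat hy.1 (hyR y hy))
  haveI hKn : ((𝐑 : Subgroup Ω).subgroupOf (𝐗)).Normal := by
    constructor
    intro n hn g
    exact Subgroup.mem_subgroupOf.2 ((Subgroup.mem_normalizer_iff.1 (hXNR g.2) _).1 (Subgroup.mem_subgroupOf.1 hn))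
  have hHn : ((hat S 𝐑 : Subgroup Ω).subgroupOf (𝐗)).Normal := by
    constructor
    intro n hn g
    exact Subgroup.mem_subgroupOf.2 ((Subgroup.mem_normalizer_iff.1 (hXNH g.2) _).1 (Subgroup.mem_subgroupOf.1 hn))
  have hρ₂T : TrivMod (hat S 𝐑) (𝐗) ρ₂ := by
    refine trivMod_of_sup le_sup_left hHn (fun x => ?_) (fun x => ?_)
    · show (x : Ω)⁻¹ * ((ρ₂ (ιH x) : ↥(𝐗)) : Ω) ∈ _
      rw [hρ₂H]
      exact Subgroup.mul_mem _ (Subgroup.inv_mem _ x.2) (ρ₁ x).2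
    · exact hfY x
  have hρ₄T := hρ₂T.pow u
  have hXp : IsPGroup p ↥(𝐗) := isPGroup_of_le hS hXS
  have hρT := IsGood.trivMod hρ₁
  have hstab : ∀ g : ↥(𝐗), (g : Ω)⁻¹ * (((ρ₂ ^ u) g : ↥(𝐗)) : Ω) ∈ 𝐑 := by
    intro g
    have := stable_coprime hXp (ρ₂ ^ u) (pow_orderOf_eq_one (ρ₂ ^ u)) hucop ((𝐑 : Subgroup Ω).subgroupOf (𝐗))
      ((hat S 𝐑 : Subgroup Ω).subgroupOf (𝐗)) (fun g hg => ?_) (fun g => Subgroup.mem_subgroupOf.2 (hρ₄T g))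
      (fun g hg => ?_) g
    · exact Subgroup.mem_subgroupOf.1 this
    · have hg' : (g : Ω) ∈ 𝐑 := Subgroup.mem_subgroupOf.1 hg
      have e : g = ιH (Subgroup.inclusion hRH ⟨g, hg'⟩) := Subtype.ext rfl
      rw [e, hρ₄H]
      refine Subgroup.mem_subgroupOf.2 ?_
      have h1 := hρ₁.res ⟨g, hg'⟩
      show ((ρ₁ (Subgroup.inclusion hRH ⟨g, hg'⟩) : ↥(hat S 𝐑)) : Ω) ∈ 𝐑
      exact h1 ▸ (α₁ ⟨g, hg'⟩).2
    · have hg' : (g : Ω) ∈ hat S 𝐑 := Subgroup.mem_subgroupOf.1 hg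
      have e : g = ιH ⟨g, hg'⟩ := Subtype.ext rfl
      rw [e, hρ₄H]
      exact Subgroup.mem_subgroupOf.2 (hρT ⟨g, hg'⟩)
  have hPX : P ≤ 𝐗 := hPH.trans le_sup_left
  have hρ₄P : ∀ x : P, (((ρ₂ ^ u) (Subgroup.inclusion hPX x) : ↥(𝐗)) : Ω) = α x := by
    intro x
    have e : Subgroup.inclusion hPX x = ιH (Subgroup.inclusion hPH x) := Subtype.ext rfl
    rw [e, hρ₄H]
    exact hρP x
  have hρ₄C : ∀ y : ↥(centralizerIn S P), (y : Ω)⁻¹ * (((ρ₂ ^ u) (ιY y) : ↥(𝐗)) : Ω) ∈ Zc P := by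
    intro y
    have hcen : ((ρ₂ ^ u) (ιY y) : ↥(𝐗)).1 ∈ Subgroup.centralizer (P : Set Ω) := by
      refine Subgroup.mem_centralizer_iff.2 fun a ha => ?_
      obtain ⟨a', ha'⟩ := α.surjective ⟨a, ha⟩
      have h1 : Subgroup.inclusion hPX a' * ιY y = ιY y * Subgroup.inclusion hPX a' :=
        Subtype.ext (comm_of_mem_cen y.2.2 a'.2)
      have h2 := congrArg (fun t => (((ρ₂ ^ u) t : ↥(𝐗)) : Ω)) h1
      simp only [map_mul, Subgroup.coe_mul, hρ₄P, ha'] at h2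
      exact h2
    have hr := hstab (ιY y)
    refine Subgroup.mem_inf.2 ⟨hC ⟨hRT hr, ?_⟩, ?_⟩ <;>
    exact Subgroup.mul_mem _ (Subgroup.inv_mem _ y.2.2) hcen
  have hle : hat S P ≤ 𝐗 := sup_le hPX le_sup_right
  have hρ₄F : ρ₂ ^ u ∈ F.autGroup (𝐗) := Subgroup.pow_mem _ hρ₂F u
  have hf₀ := res_mem (autGroup_mem_hom hXS hρ₄F) hle
  have hv : ∀ w : ↥(hat S P), (((𝐗).subtype.comp (ρ₂ ^ u).toMonoidHom).comp (Subgroup.inclusion hle)) w ∈ hat S P := by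
    refine map_mem_sup_of_ext _ (fun x => ?_) (fun y => ?_)
    · have h1 := hρ₄P x
      have h2 : ((α x : P) : Ω) ∈ P := (α x).2
      rw [← h1] at h2
      exact le_hat P h2
    · have h1 := hρ₄C y
      have e : ((ρ₂ ^ u) (ιY y) : ↥(𝐗)).1 = y * ((y : Ω)⁻¹ * ((ρ₂ ^ u) (ιY y) : ↥(𝐗)).1) := by group
      show ((ρ₂ ^ u) (ιY y) : ↥(𝐗)).1 ∈ hat S P
      rw [e]
      exact Subgroup.mul_mem _ (cen_le_hat P y.2) (le_hat P (Zc.left h1))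
  haveI : Finite ↥(hat S P) := finite_of_le (hat_le hPS)
  refine ⟨autOfHom _ (F.injective_of_mem hf₀) hv, autOfHom_mem hf₀ hv, fun x => ?_, fun c hc => ?_⟩
  · exact hρ₄P x
  · exact hρ₄C ⟨c, hc⟩

end Cfsg.Agent.Lib.Fusion.CLiftG
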