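/-
Good lifts of all automorphisms of a normal subsystem: the theorem.
-/
import Mathlib
import Cfsg.Agent.Lib.Fusion.CLiftG1

set_option autoImplicit false
set_option linter.style.haveILetI false

namespace Cfsg.Agent.Lib.Fusion.CLiftG

open Cfsg Cfsg.FusionSystem Cfsg.Agent.Lib.Fusion.Basic Cfsg.Agent.Lib.Fusion.Saturated
open Cfsg.Agent.Lib.Fusion.Saturated2 (autOfHom autOfHom_mem)
open Cfsg.Agent.Lib.Fusion.LocalSystems (map_mem_sup_of_ext)
open Cfsg.Agent.Lib.Fusion.NormalPair (stronglyClosed_apply)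
open Cfsg.Agent.Lib.Fusion.NormalCR
open Cfsg.Agent.Lib.Fusion.GoodLift

variable {Ω : Type*} [Group Ω] {S T : Subgroup Ω} {F : FusionSystem S} {E : FusionSystem T}
variable {p : ℕ} [hp : Fact p.Prime] {P : Subgroup Ω}

/-- Decomposition of an element into its `p'`-part and `p`-part. -/
theorem exists_decomp {G : Type*} [Group G] (a : G) (ha : 0 < orderOf a) :
    ∃ u v : ℕ, a = a ^ u * a ^ v ∧ Nat.Coprime (orderOf (a ^ u)) p ∧ ∃ k : ℕ, orderOf (a ^ v) = p ^ k := by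
  obtain ⟨e, m, hm, he⟩ := Nat.exists_eq_pow_mul_and_not_dvd ha.ne' p hp.out.ne_one
  have hmp : Nat.Coprime m p := ((Nat.Prime.coprime_iff_not_dvd hp.out).2 hm).symm
  have hcop : Nat.Coprime (p ^ e) m := (hmp.symm).pow_left e
  obtain ⟨u, hu1, hu2⟩ := Nat.chineseRemainder hcop 0 1
  obtain ⟨v, hv1, hv2⟩ := Nat.chineseRemainder hcop 1 0
  refine ⟨u, v, ?_, ?_, ?_⟩
  · rw [← pow_add]
    have h1 : u + v ≡ 1 [MOD orderOf a] := by
      rw [he]
      refine (Nat.modEq_and_modEq_iff_modEq_mul hcop).1 ⟨?_, ?_⟩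
      · simpa using hu1.add hv1
      · simpa using hu2.add hv2
    have := (pow_eq_pow_iff_modEq (x := a) (n := u + v) (m := 1)).2 h1
    rw [pow_one] at this
    exact this.symm
  · have h1 : (a ^ u) ^ m = 1 := by
      rw [← pow_mul]
      have hd : p ^ e ∣ u := (Nat.modEq_zero_iff_dvd.1 hu1)
      obtain ⟨c, hc⟩ := hd
      rw [hc, mul_assoc, mul_comm c, ← mul_assoc, ← he, pow_mul, pow_orderOf_eq_one, one_pow]
    exact Nat.Coprime.coprime_dvd_left (orderOf_dvd_of_pow_eq_one h1) hmp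
  · have h1 : (a ^ v) ^ p ^ e = 1 := by
      rw [← pow_mul]
      have hd : m ∣ v := (Nat.modEq_zero_iff_dvd.1 hv2)
      obtain ⟨c, hc⟩ := hd
      rw [hc, mul_comm m, mul_assoc, mul_comm m, ← he, mul_comm c, pow_mul, pow_orderOf_eq_one, one_pow]
    obtain ⟨s, -, hs⟩ := (Nat.dvd_prime_pow hp.out).1 (orderOf_dvd_of_pow_eq_one h1)
    exact ⟨s, hs⟩

/-- Transport data. -/
structure TData (F : FusionSystem S) (P : Subgroup Ω) (α : MulAut P) (P₁ : Subgroup Ω) (χ : ↥(hat S P) →* Ω)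
    (α₁ : MulAut P₁) (β₁ : MulAut ↥(hat S P₁)) : Prop where
  fn : P₁ ≤ S
  hom : χ ∈ F.Hom (hat S P)
  val : ∀ x : P, χ (Subgroup.inclusion (le_hat P) x) ∈ P₁
  surj : ∀ y ∈ P₁, ∃ x : P, χ (Subgroup.inclusion (le_hat P) x) = y
  conj : ∀ x : P, ((α₁ ⟨_, val x⟩ : P₁) : Ω) = χ (Subgroup.inclusion (le_hat P) (α x))
  good : IsGood F P₁ β₁ α₁

variable {P₁ : Subgroup Ω} {χ : ↥(hat S P) →* Ω} {α : MulAut P} {α₁ : MulAut P₁} {β₁ : MulAut ↥(hat S P₁)}

theorem TData.exists_zc (d : TData F P α P₁ χ α₁ β₁) {z : Ω} (hz : z ∈ Zc P₁) :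
    ∃ z₀ : P, (z₀ : Ω) ∈ Zc P ∧ χ (Subgroup.inclusion (le_hat P) z₀) = z := by
  obtain ⟨x, rfl⟩ := d.surj z (Zc.left hz)
  refine ⟨x, Subgroup.mem_inf.2 ⟨x.2, Subgroup.mem_centralizer_iff.2 ?_⟩, rfl⟩
  intro u hu
  have h1 := comm_of_mem_cen (Zc.right hz) (d.val ⟨u, hu⟩)
  have h3 : χ (Subgroup.inclusion (le_hat P) ⟨u, hu⟩ * Subgroup.inclusion (le_hat P) x) =
      χ (Subgroup.inclusion (le_hat P) x * Subgroup.inclusion (le_hat P) ⟨u, hu⟩) := by
    rw [map_mul, map_mul]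
    exact h1
  have h2 := F.injective_of_mem d.hom h3
  exact congrArg (fun t : ↥(hat S P) => (t : Ω)) h2

theorem TData.cen_mem [Finite S] (d : TData F P α P₁ χ α₁ β₁) (c : ↥(hat S P)) (hc : (c : Ω) ∈ centralizerIn S P) :
    χ c ∈ centralizerIn S P₁ :=
  map_cen_mem d.hom d.surj c hc

theorem TData.val_hat [Finite S] (d : TData F P α P₁ χ α₁ β₁) (u : ↥(hat S P)) : χ u ∈ hat S P₁ := by
  refine map_mem_sup_of_ext χ (fun y => le_hat P₁ (d.val y)) (fun y => cen_le_hat P₁ (d.cen_mem _ y.2)) u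

/-- **Transport** of good lifts. -/
theorem TData.exists_lift [Finite S] (d : TData F P α P₁ χ α₁ β₁) : ∃ ρ : MulAut ↥(hat S P), IsGood F P ρ α := by
  classical
  have hP₁S : P₁ ≤ S := d.fn
  have hPS : P ≤ S := fun x hx => source_le d.hom (le_hat P hx)
  let χ₁ : ↥(hat S P) →* ↥(hat S P₁) := χ.codRestrict _ d.val_hat
  have hχ₁ : ∀ u, ((χ₁ u : ↥(hat S P₁)) : Ω) = χ u := fun _ => rfl
  let f : ↥(hat S P) →* Ω := ((hat S P₁).subtype.comp β₁.toMonoidHom).comp χ₁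
  have hf : f ∈ F.Hom (hat S P) := F.comp_mem d.hom (autGroup_mem_hom (hat_le hP₁S) d.good.mem) d.val_hat
  have hfv : ∀ u, f u = ((β₁ (χ₁ u) : ↥(hat S P₁)) : Ω) := fun _ => rfl
  have hfP : ∀ x : P, f (Subgroup.inclusion (le_hat P) x) = χ (Subgroup.inclusion (le_hat P) (α x)) := by
    intro x
    rw [hfv]
    have e : χ₁ (Subgroup.inclusion (le_hat P) x) = Subgroup.inclusion (le_hat P₁) ⟨_, d.val x⟩ := Subtype.ext rfl
    rw [e, d.good.res, d.conj]
  have hfC : ∀ (c : ↥(hat S P)) (hc : (c : Ω) ∈ centralizerIn S P), ∃ z₀ : P, (z₀ : Ω) ∈ Zc P ∧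
      f c = χ (c * Subgroup.inclusion (le_hat P) z₀) := by
    intro c hc
    have h1 := d.good.cen (χ₁ c) (d.cen_mem c hc)
    obtain ⟨z₀, hz₀, hz₀e⟩ := d.exists_zc h1
    refine ⟨z₀, hz₀, ?_⟩
    rw [map_mul, hz₀e, hfv]
    show _ = χ c * ((χ c)⁻¹ * ((β₁ (χ₁ c) : ↥(hat S P₁)) : Ω))
    group
  have hfr : ∀ u, f u ∈ χ.range := by
    intro u
    refine map_mem_sup_of_ext f (fun y => ?_) (fun y => ?_) u
    · rw [hfP]
      exact ⟨_, rfl⟩
    · obtain ⟨z₀, -, h⟩ := hfC (Subgroup.inclusion (cen_le_hat P) y) y.2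
      have e : f (Subgroup.inclusion le_sup_right y) = f (Subgroup.inclusion (cen_le_hat P) y) := rfl
      rw [e, h]
      exact ⟨_, rfl⟩
  obtain ⟨ι, hι, hιr, hι1, hι2⟩ := exists_inv d.hom (rfl : χ.range = χ.range)
  have hρ₀ : ι.comp (f.codRestrict χ.range hfr) ∈ F.Hom (hat S P) := F.comp_mem hf hι hfr
  set ρ₀ : ↥(hat S P) →* Ω := ι.comp (f.codRestrict χ.range hfr) with hρ₀d
  have hv : ∀ u, ρ₀ u ∈ hat S P := fun u => hιr.le ⟨_, rfl⟩
  haveI := finite_hat (S := S) hPS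
  let ρ : MulAut ↥(hat S P) := autOfHom ρ₀ (F.injective_of_mem hρ₀) hv
  have hform : ∀ u, χ (ρ u) = f u := fun u => hι2 ⟨f u, hfr u⟩ (hv u)
  have dinj := F.injective_of_mem d.hom
  refine ⟨ρ, ⟨autOfHom_mem hρ₀ hv, fun x => ?_, fun c hc => ?_⟩⟩
  · have h1 := (hform (Subgroup.inclusion (le_hat P) x)).trans (hfP x)
    exact congrArg (fun t : ↥(hat S P) => (t : Ω)) (dinj h1)
  · obtain ⟨z₀, hz₀, h⟩ := hfC c hc
    have h1 := dinj ((hform c).trans h)
    rw [h1]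
    simpa using hz₀

/-- Transport from a fully normalized conjugate. -/
theorem exists_good_of_fn [Finite S] (hS : IsPGroup p S) (hF : F.IsSaturated p) (hFN : F.IsFullyNormalized P₁) {χ₀ : P →* Ω}
    (hχ₀ : χ₀ ∈ F.Hom P) (hr : χ₀.range = P₁) (e : P ≃* P₁) (he : ∀ x : P, ((e x : P₁) : Ω) = χ₀ x) {α : MulAut P}
    (h : ∃ β, IsGood F P₁ β (MulAut.congr e α)) : ∃ β, IsGood F P β α := by
  classical
  obtain ⟨β₁, hβ₁⟩ := h
  have hPS : P ≤ S := source_le hχ₀
  have hrec := fullyNormalized_receptive hS hF hFN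
  obtain ⟨χ₁, hχ₁, hχ₁a⟩ := hrec.2 P χ₀ hχ₀ hr
  have hext : hat S P ≤ extender S P χ₀ := sup_centralizerIn_le_extender hPS (map_mem_S hχ₀)
  have hχ := res_mem hχ₁ hext
  have hχP : ∀ x : P, (χ₁.comp (Subgroup.inclusion hext)) (Subgroup.inclusion (le_hat P) x) = χ₀ x :=
    fun x => hχ₁a x x.2 (hext (le_hat P x.2))
  have hval : ∀ x : P, (χ₁.comp (Subgroup.inclusion hext)) (Subgroup.inclusion (le_hat P) x) ∈ P₁ := by
    intro x
    rw [hχP, ← hr]
    exact ⟨x, rfl⟩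
  refine (TData.exists_lift (P₁ := P₁) (χ := χ₁.comp (Subgroup.inclusion hext)) (α₁ := MulAut.congr e α) (β₁ := β₁)
    ⟨hFN.1, hχ, hval, fun y hy => ?_, fun x => ?_, hβ₁⟩)
  · rw [← hr] at hy
    obtain ⟨x, rfl⟩ := hy
    exact ⟨x, hχP x⟩
  · have e1 : (⟨(χ₁.comp (Subgroup.inclusion hext)) (Subgroup.inclusion (le_hat P) x), hval x⟩ : P₁) = e x :=
      Subtype.ext ((hχP x).trans (he x).symm)
    rw [e1, hχP, ← he]
    have e2 : (MulAut.congr e α) (e x) = e (α x) := by simp [MulAut.congr_apply]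
    rw [e2]

local notation "𝐑" => normalizerIn T P

/-- Good lifts at a fully normalized subgroup, given the result for larger subgroups. -/
theorem good_at_fn [Finite S] (hS : IsPGroup p S) (hF : F.IsSaturated p) (hE : E.IsNormalIn F p) (hPT : P ≤ T)
    (hFN : F.IsFullyNormalized P) (hc : E.IsCentric P)
    (IH : ∀ R : Subgroup Ω, E.IsCentric R → Nat.card P < Nat.card R → ∀ α ∈ E.autGroup R, ∃ β, IsGood F R β α)
    {α : MulAut P} (hα : α ∈ E.autGroup P) : ∃ β, IsGood F P β α := by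
  classical
  obtain ⟨hEs, -, hinv⟩ := hE.1
  by_cases hPe : P = T
  · subst hPe
    obtain ⟨β, hβ, h1, h2⟩ := hE.2 α hα
    exact ⟨β, hβ, h1, h2⟩
  have hPlt : P < T := lt_of_le_of_ne hPT hPe
  have hTS : T ≤ S := hinv.2.1.1
  have hPS : P ≤ S := hPT.trans hTS
  haveI : Finite T := finite_of_le hTS
  have hTp : IsPGroup p T := isPGroup_of_le hS hTS
  have hRT : 𝐑 ≤ T := normalizerIn_le
  have hRS : 𝐑 ≤ S := hRT.trans hTS
  have hPR : P ≤ 𝐑 := le_normalizerIn hPT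
  haveI : Finite ↥(𝐑) := finite_of_le hRS
  haveI : Finite P := finite_of_le hPS
  have hEFN := isFullyNormalized_sub hS hF hinv hPT hFN
  have hC : centralizerIn T P ≤ P := hc.2 P (Basic.IsConj.refl hPT)
  obtain ⟨-, R₀, hR₀⟩ := (fullyNormalized_props hTp hEs hEFN).2
  haveI : Finite (E.autGroup P) := finite_autGroup hPT
  have hErec := fullyNormalized_receptive hTp hEs hEFN
  -- `p`-elements are good
  have hpel : ∀ a : E.autGroup P, (∃ k, orderOf a = p ^ k) → (a : MulAut P) ∈ goodGroup F P hPS := by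
    rintro a ⟨k, hk⟩
    exact isGood_of_pelement hS hF hE.1 hFN hPT hC a.2 ⟨k, by rw [Subgroup.orderOf_coe]; exact hk⟩
  let H : Subgroup (E.autGroup P) := (goodGroup F P hPS).subgroupOf (E.autGroup P)
  have hstep : ∀ a : E.autGroup P, a ∈ Subgroup.normalizer ((R₀ : Subgroup (E.autGroup P)) : Set (E.autGroup P)) →
      Nat.Coprime (orderOf a) p → a ∈ H := by
    intro a ha hco
    set α₀ : MulAut P := (a : MulAut P) with hα₀
    have hφ₀ : P.subtype.comp α₀.toMonoidHom ∈ E.Hom P := autGroup_mem_hom hPT a.2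
    have hφr : (P.subtype.comp α₀.toMonoidHom).range = P := by
      ext w
      constructor
      · rintro ⟨v, rfl⟩
        exact (α₀ v).2
      · intro hw
        exact ⟨α₀⁻¹ ⟨w, hw⟩, by simp⟩
    obtain ⟨ψ, hψ, hψa⟩ := hErec.2 P _ hφ₀ hφr
    have hRe : 𝐑 ≤ extender T P (P.subtype.comp α₀.toMonoidHom) := by
      intro t ht
      let c : E.autGroup P := ⟨normConj t ht.2, autInducedBy_le_autGroup hPT (normConj_mem_autInducedBy ht.1 ht.2)⟩
      have hcR : c ∈ (R₀ : Subgroup (E.autGroup P)) := by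
        rw [hR₀]
        exact Subgroup.mem_subgroupOf.2 (normConj_mem_autInducedBy ht.1 ht.2)
      have h1 : a * c * a⁻¹ ∈ (R₀ : Subgroup (E.autGroup P)) := (Subgroup.mem_normalizer_iff.1 ha c).1 hcR
      rw [hR₀] at h1
      obtain ⟨t', ht', hv⟩ := mem_autInducedBy_iff.1 (Subgroup.mem_subgroupOf.1 h1)
      refine extender_closure_mem ht.1 ht.2 ht' (fun x hx => ?_)
      have h2 := hv (α₀ x)
      have e1 : (((a * c * a⁻¹ : E.autGroup P) : MulAut P) (α₀ x)) = α₀ ⟨t * x * t⁻¹, hx⟩ := by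
        have hh : α₀⁻¹ (α₀ x) = x := by simp
        show α₀ (normConj t ht.2 (α₀⁻¹ (α₀ x))) = _
        rw [hh]
        rfl
      rw [e1] at h2
      exact h2
    have hf := res_mem hψ hRe
    set f : ↥(𝐑) →* Ω := ψ.comp (Subgroup.inclusion hRe) with hfd
    have hfP : ∀ x : P, f (Subgroup.inclusion hPR x) = α₀ x := fun x => hψa x x.2 _
    have hfm : (P.subgroupOf (𝐑)).map f = P := by
      ext w
      constructor
      · rintro ⟨x, hx, rfl⟩
        have := hfP ⟨x, hx⟩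
        have e1 : Subgroup.inclusion hPR ⟨x, hx⟩ = x := Subtype.ext rfl
        rw [e1] at this
        rw [this]
        exact (α₀ _).2
      · intro hw
        obtain ⟨x, hx⟩ := α₀.surjective ⟨w, hw⟩
        refine ⟨Subgroup.inclusion hPR x, x.2, ?_⟩
        rw [hfP, hx]
    have hfv : ∀ u, f u ∈ 𝐑 := fun u => ⟨map_mem_S hf u, map_mem_normalizer hfm u u.2.2⟩
    let α₁' : MulAut ↥(𝐑) := autOfHom f (E.injective_of_mem hf) hfv
    have hα₁'E : α₁' ∈ E.autGroup (𝐑) := autOfHom_mem hf hfv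
    have hα₁'P : ∀ x : P, α₁' (Subgroup.inclusion hPR x) = Subgroup.inclusion hPR (α₀ x) := fun x => Subtype.ext (hfP x)
    have hpow : ∀ (k : ℕ) (x : P), (α₁' ^ k) (Subgroup.inclusion hPR x) = Subgroup.inclusion hPR ((α₀ ^ k) x) := by
      intro k
      induction k with
      | zero => intro x; rfl
      | succ k ih =>
        intro x
        rw [pow_succ', MulAut.mul_apply, ih, hα₁'P, pow_succ', MulAut.mul_apply]
    have hco' : Nat.Coprime (orderOf α₀) p := by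
      rw [hα₀, Subgroup.orderOf_coe]
      exact hco
    haveI : Finite (MulAut ↥(𝐑)) := finite_mulAut hRT
    obtain ⟨u, hu, hucop⟩ := Cfsg.Agent.Lib.Fusion.FactorHyperfocal.exists_pow_coprime hp.out α₁' (orderOf_pos α₁') hco'
    have hαu : α₀ ^ u = α₀ := by
      have := (pow_eq_pow_iff_modEq (x := α₀) (n := u) (m := 1)).2 hu
      rwa [pow_one] at this
    have hres : ∀ x : P, (((α₁' ^ u) (Subgroup.inclusion (le_normalizerIn hPT) x) : ↥(𝐑)) : Ω) = α₀ x := by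
      intro x
      have h1 := hpow u x
      rw [hαu] at h1
      exact congrArg (fun t : ↥(𝐑) => (t : Ω)) h1
    have hα₁E : α₁' ^ u ∈ E.autGroup (𝐑) := Subgroup.pow_mem _ hα₁'E u
    have hcR : E.IsCentric (𝐑) := Cfsg.Agent.Lib.Fusion.Centric.isCentric_of_le hc hPR hRT
    have hcard : Nat.card P < Nat.card ↥(𝐑) :=
      Cfsg.Agent.Lib.Fusion.Saturated2.card_lt_of_lt (Cfsg.Agent.Lib.Fusion.Saturated2.lt_normalizerIn hTp hPlt)
    obtain ⟨ρ, hρ⟩ := IH (𝐑) hcR hcard _ hα₁E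
    haveI : Finite (MulAut ↥(hat S 𝐑)) := finite_mulAut (hat_le hRS)
    obtain ⟨v, hv, hvcop⟩ := Cfsg.Agent.Lib.Fusion.FactorHyperfocal.exists_pow_coprime hp.out ρ (orderOf_pos ρ) hucop
    have hαv : (α₁' ^ u) ^ v = α₁' ^ u := by
      have := (pow_eq_pow_iff_modEq (x := α₁' ^ u) (n := v) (m := 1)).2 hv
      rwa [pow_one] at this
    have hρv := hρ.pow v
    rw [hαv] at hρv
    exact Subgroup.mem_subgroupOf.2 (isGood_step hS hF hE.1 hPT hFN hC hα₁E hres hρv hvcop)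
  let X : Subgroup (E.autGroup P) := Subgroup.normalClosure ((R₀ : Subgroup (E.autGroup P)) : Set (E.autGroup P))
  haveI : X.Normal := Subgroup.normalClosure_normal
  have hR₀p := R₀.isPGroup'
  have hXH : X ≤ H := by
    refine (Subgroup.closure_le _).2 ?_
    intro g hg
    obtain ⟨a, ha, hag⟩ := Group.mem_conjugatesOfSet_iff.1 hg
    obtain ⟨k, hk⟩ := hR₀p ⟨a, ha⟩
    have h1 : a ^ p ^ k = 1 := congrArg (fun t : ↥(R₀ : Subgroup (E.autGroup P)) => (t : E.autGroup P)) hk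
    have h2 : g ^ p ^ k = 1 := by
      obtain ⟨c, rfl⟩ := isConj_iff.1 hag
      rw [conj_pow, h1]
      group
    obtain ⟨s, -, hs⟩ := (Nat.dvd_prime_pow hp.out).1 (orderOf_dvd_of_pow_eq_one h2)
    exact Subgroup.mem_subgroupOf.2 (hpel g ⟨s, hs⟩)
  have hR₀X : (R₀ : Subgroup (E.autGroup P)) ≤ X := Subgroup.le_normalClosure
  have htop := Sylow.normalizer_sup_eq_top' R₀ hR₀X
  have hN : Subgroup.normalizer ((R₀ : Subgroup (E.autGroup P)) : Set (E.autGroup P)) ≤ H := by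
    intro a ha
    obtain ⟨u, v, e, hu, hv⟩ := exists_decomp (p := p) a (orderOf_pos a)
    rw [e]
    refine H.mul_mem (hstep _ (Subgroup.pow_mem _ ha u) hu) ?_
    exact Subgroup.mem_subgroupOf.2 (hpel _ hv)
  have hH : H = ⊤ := top_le_iff.1 (htop ▸ sup_le hN hXH)
  have h3 : (⟨α, hα⟩ : E.autGroup P) ∈ H := by
    rw [hH]
    exact Subgroup.mem_top _
  exact Subgroup.mem_subgroupOf.1 h3

/-- **Theorem G**: every automorphism of a centric subgroup of a normal subsystem has a good lift. -/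
theorem exists_good_all [Finite S] (hS : IsPGroup p S) (hF : F.IsSaturated p) (hE : E.IsNormalIn F p) :
    ∀ P : Subgroup Ω, E.IsCentric P → ∀ α ∈ E.autGroup P, ∃ β, IsGood F P β α := by
  classical
  obtain ⟨hEs, -, hinv⟩ := hE.1
  have hTS : T ≤ S := hinv.2.1.1
  haveI : Finite T := finite_of_le hTS
  have key : ∀ n : ℕ, ∀ P : Subgroup Ω, Nat.card T - Nat.card P = n → E.IsCentric P → ∀ α ∈ E.autGroup P,
      ∃ β, IsGood F P β α := by
    intro n
    induction n using Nat.strong_induction_on with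
    | _ n ih =>
      intro P hn hc α hα
      have hPT : P ≤ T := hc.1
      have hPS : P ≤ S := hPT.trans hTS
      obtain ⟨P₁, ⟨χ₀, hχ₀, hr⟩, hFN⟩ := exists_fullyNormalized (F := F) hPS
      let e : P ≃* P₁ := isoOfRange (F.injective_of_mem hχ₀) hr
      refine exists_good_of_fn hS hF hFN hχ₀ hr e (fun _ => rfl) ?_
      have hP₁T : P₁ ≤ T := by
        rw [← hr]
        rintro _ ⟨x, rfl⟩
        exact hinv.2.1.2 P hPT χ₀ hχ₀ x
      have hcP₁ := isCentric_transport hinv hc hχ₀ hr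
      have hcard := card_eq_of_range hχ₀ hr
      refine good_at_fn hS hF hE hP₁T hFN hcP₁ (fun R hcR hlt α' hα' => ?_)
        (Cfsg.Agent.Lib.Fusion.NormalPair.congr_mem_autGroup hinv hPT hχ₀ e (fun _ => rfl) hα)
      refine ih (Nat.card T - Nat.card R) ?_ R rfl hcR α' hα'
      have hle : Nat.card R ≤ Nat.card T := card_le_S hcR.1
      omega
  exact fun P hc α hα => key _ P rfl hc α hα

end Cfsg.Agent.Lib.Fusion.CLiftG
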