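/-
Lifting a normal subsystem along a central quotient: the setting and the full preimage `J`.
-/
import Mathlib
import Cfsg.Agent.Lib.Fusion.CLiftG2
import Cfsg.Agent.Lib.Fusion.Image
import Cfsg.Agent.Lib.Fusion.QdFreeFactor
import Cfsg.Agent.Lib.Fusion.AlperinInduct

set_option autoImplicit false
set_option linter.style.haveILetI false

namespace Cfsg.Agent.Lib.Fusion.CLift

open Cfsg Cfsg.FusionSystem Cfsg.Agent.Lib.Fusion.Basic Cfsg.Agent.Lib.Fusion.Saturated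
open Cfsg.Agent.Lib.Fusion.Saturated2 (autOfHom autOfHom_mem)
open Cfsg.Agent.Lib.Fusion.LocalSystems (map_mem_sup_of_ext)
open Cfsg.Agent.Lib.Fusion.Joins (exists_hom_of_eq)
open Cfsg.Agent.Lib.Fusion.NormalPair (stronglyClosed_apply)
open Cfsg.Agent.Lib.Fusion.NormalCR
open Cfsg.Agent.Lib.Fusion.GoodLift
open Cfsg.Agent.Lib.Fusion.CLiftG
open Cfsg.Agent.Lib.Fusion.FactorMorphism
open Cfsg.Agent.Lib.Fusion.Image (toImage toImage_surjective)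

variable {Ω : Type*} [Group Ω] {S Z T : Subgroup Ω} {Ω' : Type*} [Group Ω'] {S' T' : Subgroup Ω'}
variable {F : FusionSystem S} {θ : S →* Ω'} {Fb : FusionSystem S'} {Nb : FusionSystem T'} {p : ℕ}

/-- The setting. -/
structure Ctx (p : ℕ) (F : FusionSystem S) (Z T : Subgroup Ω) (θ : S →* Ω') (Fb : FusionSystem S')
    (Nb : FusionSystem T') : Prop where
  hS : IsPGroup p S
  hF : F.IsSaturated p
  hZ : F.IsCentral Z
  hθ : F.IsFactorSystem Z θ Fb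
  hN : Nb.IsNormalIn Fb p
  hT : T = preimageAlong θ T'

/-- A central subgroup is fixed. -/
theorem central_fix (hZ : F.IsCentral Z) {P : Subgroup Ω} {φ : P →* Ω} (hφ : φ ∈ F.Hom P) (x : P) (hx : (x : Ω) ∈ Z) :
    φ x = x := by
  obtain ⟨ψ, -, h1, h2⟩ := hZ.2 P φ hφ
  rw [← h1 x]
  exact h2 ⟨x, hx⟩

theorem central_comm (hZ : F.IsCentral Z) {z s : Ω} (hz : z ∈ Z) (hs : s ∈ S) : s * z = z * s := by
  have h1 : z ∈ F.center := (le_sSup (a := Z) hZ) hz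
  exact Subgroup.mem_centralizer_iff.1 (F.center_le_centralizer h1) s hs

theorem central_sc (hZ : F.IsCentral Z) : F.StronglyClosed Z :=
  ⟨hZ.1, fun R hR φ hφ x => by
    rw [central_fix hZ hφ x (hR x.2)]
    exact hR x.2⟩

namespace Ctx

variable (c : Ctx p F Z T θ Fb Nb)
include c

theorem hZS : Z ≤ S := c.hZ.1
theorem hker : ∀ s : S, θ s = 1 ↔ (s : Ω) ∈ Z := c.hθ.2.1
theorem hrange : θ.range = S' := c.hθ.2.2.1
theorem hiff : ∀ (P' : Subgroup Ω') (φ' : P' →* Ω'),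
    φ' ∈ Fb.Hom P' ↔ P' ≤ S' ∧ ∃ φ ∈ F.Hom (preimageAlong θ P'), InducedAlong θ φ φ' := c.hθ.2.2.2
theorem hZsc : F.StronglyClosed Z := central_sc c.hZ
theorem hFb : Fb.IsSaturated p := c.hN.1.2.1
theorem hNs : Nb.IsSaturated p := c.hN.1.1
theorem hinvN : Nb.IsInvariantIn Fb := c.hN.1.2.2
theorem hT'sc : Fb.StronglyClosed T' := c.hinvN.2.1
theorem hT'S' : T' ≤ S' := c.hT'sc.1

theorem mem_T {x : Ω} : x ∈ T ↔ ∃ h : x ∈ S, θ ⟨x, h⟩ ∈ T' := by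
  rw [c.hT]
  exact mem_preimage

theorem hZT : Z ≤ T := by
  rw [c.hT]
  exact le_preimage c.hZS c.hker T'

theorem hTS : T ≤ S := by
  rw [c.hT]
  exact preimage_le θ T'

theorem mem_Z_of_eq {x y : Ω} (hx : x ∈ S) (hy : y ∈ S) (h : θ ⟨x, hx⟩ = θ ⟨y, hy⟩) : x⁻¹ * y ∈ Z := by
  have h1 : θ (⟨x, hx⟩⁻¹ * ⟨y, hy⟩) = 1 := by
    rw [map_mul, map_inv, h, inv_mul_cancel]
  exact (c.hker _).1 h1

theorem eq_of_mem_Z {x y : Ω} (hx : x ∈ S) (hy : y ∈ S) (h : x⁻¹ * y ∈ Z) : θ ⟨x, hx⟩ = θ ⟨y, hy⟩ := by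
  have h1 := (c.hker (⟨x, hx⟩⁻¹ * ⟨y, hy⟩)).2 h
  rw [map_mul, map_inv, inv_mul_eq_one] at h1
  exact h1

variable [Finite S] [hp : Fact p.Prime]

theorem finS' : Finite S' := by
  rw [← c.hrange]
  exact Finite.of_surjective θ.rangeRestrict θ.rangeRestrict_surjective

theorem hS' : IsPGroup p S' := by
  rw [← c.hrange]
  exact c.hS.of_surjective θ.rangeRestrict θ.rangeRestrict_surjective

theorem hmor : F.IsMorphism Fb θ := isMorphism_of_isFactorSystem c.hS c.hF c.hZsc c.hθ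

theorem hsurj : F.IsSurjectiveMorphism Fb θ := isSurjectiveMorphism_of_isFactorSystem c.hS c.hF c.hZsc c.hθ

theorem hT'p : IsPGroup p T' := c.hS'.to_le c.hT'S'

theorem finT' : Finite T' := by
  haveI := c.finS'
  exact finite_of_le c.hT'S'

theorem image_le_T' {P : Subgroup Ω} (hP : P ≤ T) : imageAlong θ P ≤ T' := by
  rintro _ ⟨s, hs, rfl⟩
  exact (c.mem_T.1 (hP hs)).2

theorem hTsc : F.StronglyClosed T := by
  refine ⟨c.hTS, fun R hR φ hφ x => ?_⟩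
  obtain ⟨φ', hφ', hP, hv, hmem, he⟩ := c.hmor.2 R φ hφ
  have h1 := c.hT'sc.2 _ (c.image_le_T' hR) φ' hφ' ⟨θ ⟨x, hP x.2⟩, hmem x⟩
  rw [he x] at h1
  exact c.mem_T.2 ⟨hv x, h1⟩

theorem preimage_image_eq' {P : Subgroup Ω} (hZP : Z ≤ P) (hP : P ≤ S) : preimageAlong θ (imageAlong θ P) = P := by
  rw [preimage_image c.hZS hP c.hker]
  exact sup_eq_left.2 hZP

theorem mem_of_image {P : Subgroup Ω} (hZP : Z ≤ P) (hP : P ≤ S) {x : Ω} (hx : x ∈ S) (h : θ ⟨x, hx⟩ ∈ imageAlong θ P) :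
    x ∈ P := by
  rw [← c.preimage_image_eq' hZP hP]
  exact mem_preimage.2 ⟨hx, h⟩

end Ctx

/-- Two maps with the same reduction. -/
theorem InducedAlong.of_eqv {P P' : Subgroup Ω} {P₁ : Subgroup Ω'} {φ : P →* Ω} {β : P₁ →* Ω'} (h : InducedAlong θ φ β) {φ₁ : P →* Ω}
    (hv : ∀ x, φ₁ x ∈ S) (he : ∀ (x : P) (hx : φ x ∈ S), θ ⟨φ₁ x, hv x⟩ = θ ⟨φ x, hx⟩) : InducedAlong θ φ₁ β := by
  obtain ⟨hP, hφ, hP', h1⟩ := h
  refine ⟨hP, hv, hP', fun x => ?_⟩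
  rw [h1 x, he x (hφ x)]

/-- The full preimage of `Nb`: the maps of `F` on subgroups of `T` reducing to maps of `Nb`. -/
def JJ [Finite S] [Fact p.Prime] (c : Ctx p F Z T θ Fb Nb) : FusionSystem T where
  Hom P := {φ | φ ∈ F.Hom P ∧ P ≤ T ∧ (∀ x, φ x ∈ T) ∧ ∃ β ∈ Nb.Hom (imageAlong θ P), InducedAlong θ φ β}
  le_of_mem h := ⟨h.2.1, h.2.2.1⟩
  injective_of_mem h := F.injective_of_mem h.1
  conj_mem := by
    intro P g hP hg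
    have hgS := c.hTS hg
    have hg' := (c.mem_T.1 hg).2
    refine ⟨F.conj_mem (hP.trans c.hTS) hgS, hP, fun x => T.mul_mem (T.mul_mem hg (hP x.2)) (T.inv_mem hg),
      conjHom (imageAlong θ P) (θ ⟨g, hgS⟩), Nb.conj_mem (c.image_le_T' hP) hg', hP.trans c.hTS,
      fun x => S.mul_mem (S.mul_mem hgS (c.hTS (hP x.2))) (S.inv_mem hgS), fun x => ⟨⟨x, c.hTS (hP x.2)⟩, x.2, rfl⟩,
      fun x => ?_⟩
    show θ ⟨g, hgS⟩ * θ ⟨x, _⟩ * (θ ⟨g, hgS⟩)⁻¹ = θ ⟨g * x * g⁻¹, _⟩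
    rw [← map_inv, ← map_mul, ← map_mul]
    rfl
  comp_mem := by
    rintro P Q φ ψ ⟨hφF, hP, hφT, β, hβ, hPS, hv, hmem, hind⟩ ⟨hψF, hQ, hψT, γ, hγ, hQS, hw, hmem', hind'⟩ h
    have hval : ∀ y : imageAlong θ P, β y ∈ imageAlong θ Q := by
      rintro ⟨_, s, hs, rfl⟩
      have := hind ⟨s, hs⟩
      have e : (⟨θ s, s, hs, rfl⟩ : imageAlong θ P) = ⟨θ ⟨(⟨s, hs⟩ : P), hPS hs⟩, hmem ⟨s, hs⟩⟩ := rfl
      rw [e, this]
      exact hmem' ⟨φ ⟨s, hs⟩, h ⟨s, hs⟩⟩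
    refine ⟨F.comp_mem hφF hψF h, hP, fun x => hψT _, γ.comp (β.codRestrict _ hval), Nb.comp_mem hβ hγ hval, hPS,
      fun x => hw _, hmem, fun x => ?_⟩
    show γ (β.codRestrict _ hval ⟨_, hmem x⟩) = θ ⟨ψ ⟨φ x, h x⟩, _⟩
    have e : β.codRestrict _ hval ⟨_, hmem x⟩ = ⟨θ ⟨φ x, hv x⟩, hmem' ⟨φ x, h x⟩⟩ := Subtype.ext (hind x)
    rw [e]
    exact hind' ⟨φ x, h x⟩
  inv_mem := by
    rintro P φ ⟨hφF, hP, hφT, β, hβ, hPS, hv, hmem, hind⟩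
    obtain ⟨ψ, hψ, hψx⟩ := F.inv_mem hφF
    obtain ⟨γ, hγ, hγx⟩ := Nb.inv_mem hβ
    have him : imageAlong θ φ.range = β.range := by
      ext y
      constructor
      · rintro ⟨s, ⟨x, hx⟩, rfl⟩
        refine ⟨⟨_, hmem x⟩, (hind x).trans ?_⟩
        congr 1
        exact Subtype.ext hx
      · rintro ⟨⟨_, s, hs, rfl⟩, rfl⟩
        have e : (⟨θ s, s, hs, rfl⟩ : imageAlong θ P) = ⟨θ ⟨(⟨s, hs⟩ : P), hPS hs⟩, hmem ⟨s, hs⟩⟩ := rfl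
        rw [e, hind]
        exact ⟨_, ⟨⟨s, hs⟩, rfl⟩, rfl⟩
    obtain ⟨γ', hγ', hγ'e⟩ := exists_hom_of_eq Nb him.symm γ hγ
    have hψv : ∀ y : φ.range, ψ y ∈ T := by
      rintro ⟨_, x, rfl⟩
      rw [hψx x]
      exact hP x.2
    have hrS : φ.range ≤ S := range_le hφF
    have hrT : φ.range ≤ T := by
      rintro _ ⟨x, rfl⟩
      exact hφT x
    refine ⟨ψ, ⟨hψ, hrT, hψv, γ', hγ', hrS, fun y => c.hTS (hψv y), fun y => ⟨⟨y, hrS y.2⟩, y.2, rfl⟩, ?_⟩, hψx⟩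
    rintro ⟨_, x, rfl⟩
    have hmemr : θ ⟨φ x, hv x⟩ ∈ β.range := ⟨⟨_, hmem x⟩, hind x⟩
    have h1 := hγ'e (θ ⟨φ x, hv x⟩) hmemr ⟨⟨φ x, hv x⟩, ⟨x, rfl⟩, rfl⟩
    have e1 : γ ⟨θ ⟨φ x, hv x⟩, hmemr⟩ = θ ⟨x, hPS x.2⟩ := by
      have h2 := hγx ⟨_, hmem x⟩
      have e2 : (⟨β ⟨_, hmem x⟩, ⟨⟨_, hmem x⟩, rfl⟩⟩ : β.range) = ⟨θ ⟨φ x, hv x⟩, hmemr⟩ := Subtype.ext (hind x)
      rw [e2] at h2
      exact h2
    have e3 : (⟨ψ ⟨φ x, ⟨x, rfl⟩⟩, c.hTS (hψv _)⟩ : S) = ⟨x, hPS x.2⟩ := Subtype.ext (hψx x)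
    rw [e3, ← e1]
    exact h1

end Cfsg.Agent.Lib.Fusion.CLift
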