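/-
Lifting a normal subsystem along a central quotient: `K(P)`, `M(P)` and their invariance.
-/
import Mathlib
import Cfsg.Agent.Lib.Fusion.CLift1

set_option autoImplicit false
set_option linter.style.haveILetI false
set_option linter.unusedSectionVars false

namespace Cfsg.Agent.Lib.Fusion.CLift

open Cfsg Cfsg.FusionSystem Cfsg.Agent.Lib.Fusion.Basic Cfsg.Agent.Lib.Fusion.Saturated
open Cfsg.Agent.Lib.Fusion.Saturated2 (autOfHom autOfHom_mem)
open Cfsg.Agent.Lib.Fusion.LocalSystems (map_mem_sup_of_ext)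
open Cfsg.Agent.Lib.Fusion.Joins (exists_hom_of_eq)
open Cfsg.Agent.Lib.Fusion.NormalPair (stronglyClosed_apply)
open Cfsg.Agent.Lib.Fusion.NormalCR
open Cfsg.Agent.Lib.Fusion.GoodLift
open Cfsg.Agent.Lib.Fusion.CLiftG
open Cfsg.Agent.Lib.Fusion.FactorMorphism
open Cfsg.Agent.Lib.Fusion.Image (toImage toImage_surjective)

variable {Ω : Type*} [Group Ω] {S Z T : Subgroup Ω} {Ω' : Type*} [Group Ω'] {S' T' : Subgroup Ω'}
variable {F : FusionSystem S} {θ : S →* Ω'} {Fb : FusionSystem S'} {Nb : FusionSystem T'} {p : ℕ}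
variable [Finite S] [hp : Fact p.Prime] (c : Ctx p F Z T θ Fb Nb) {P P₁ : Subgroup Ω}

include c

theorem mem_JJ {φ : P →* Ω} : φ ∈ (JJ c).Hom P ↔ φ ∈ F.Hom P ∧ P ≤ T ∧ (∀ x, φ x ∈ T) ∧
    ∃ β ∈ Nb.Hom (imageAlong θ P), InducedAlong θ φ β := Iff.rfl

theorem JJ_sub : (JJ c).IsSubsystemOf F := fun _ _ h => h.1

theorem autJ_le (hPT : P ≤ T) : (JJ c).autGroup P ≤ F.autGroup P := by
  refine (Subgroup.closure_le _).2 fun α hα => ?_
  exact mem_autGroup_of_mem hα.1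

/-- `kernel θ = Z`. -/
theorem kernel_eq : Cfsg.Agent.Lib.Fusion.Image.kernel θ = Z := by
  ext x
  constructor
  · intro hx
    obtain ⟨hxS, h⟩ := mem_preimage.1 hx
    exact (c.hker ⟨x, hxS⟩).1 (by simpa using h)
  · intro hx
    exact mem_preimage.2 ⟨c.hZS hx, by simpa using (c.hker ⟨x, c.hZS hx⟩).2 hx⟩

theorem finImage (hPS : P ≤ S) : Finite (imageAlong θ P) := by
  haveI : Finite P := finite_of_le hPS
  exact Finite.of_surjective _ (toImage_surjective (α := θ) hPS)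

/-- The reduction of an automorphism in `J`. -/
theorem exists_red (hPT : P ≤ T) {α : MulAut P} (hα : α ∈ (JJ c).autGroup P) :
    ∃ b ∈ Nb.autGroup (imageAlong θ P), ∀ x : P, b (toImage θ (hPT.trans c.hTS) x) = toImage θ (hPT.trans c.hTS) (α x) := by
  have hPS : P ≤ S := hPT.trans c.hTS
  have hm := autGroup_mem_hom hPT hα
  obtain ⟨-, -, -, φ', hφ', hP0, hv, hmem, he⟩ := hm
  haveI := finImage c hPS
  have he' : ∀ x : P, φ' (toImage θ hPS x) = θ ⟨(α x : P), hPS (α x).2⟩ := he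
  have hr : φ'.range = imageAlong θ P := by
    refine range_eq_of_card hφ' (fun y => ?_) le_rfl
    obtain ⟨z, rfl⟩ := toImage_surjective hPS y
    rw [he']
    exact (toImage θ hPS _).2
  let b : MulAut (imageAlong θ P) := isoOfRange (Nb.injective_of_mem hφ') hr
  have hag : ∀ y, ((b y : imageAlong θ P) : Ω') = φ' y := fun _ => rfl
  have hbA : b ∈ Nb.autGroup (imageAlong θ P) := by
    apply mem_autGroup_of_mem
    have e : (imageAlong θ P).subtype.comp b.toMonoidHom = φ' := by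
      ext y
      exact hag y
    rw [e]
    exact hφ'
  refine ⟨b, hbA, fun x => Subtype.ext ?_⟩
  show φ' (toImage θ hPS x) = _
  rw [he']
  rfl

/-- An automorphism in `F` with reduction in `Nb` lies in `J`. -/
theorem mem_J_of_red (hPT : P ≤ T) {α : MulAut P} (hαF : α ∈ F.autGroup P) {b : MulAut (imageAlong θ P)}
    (hb : b ∈ Nb.autGroup (imageAlong θ P))
    (h : ∀ x : P, b (toImage θ (hPT.trans c.hTS) x) = toImage θ (hPT.trans c.hTS) (α x)) : α ∈ (JJ c).autGroup P := by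
  have hPS : P ≤ S := hPT.trans c.hTS
  apply mem_autGroup_of_mem
  refine ⟨autGroup_mem_hom hPS hαF, hPT, fun x => hPT (α x).2, (imageAlong θ P).subtype.comp b.toMonoidHom,
    autGroup_mem_hom (c.image_le_T' hPT) hb, hPS, fun x => hPS (α x).2, fun x => (toImage θ hPS x).2, fun x => ?_⟩
  exact congrArg Subtype.val (h x)

/-- The range of an induced map. -/
theorem range_eq_image {χ : P →* Ω} {χ' : imageAlong θ P →* Ω'} (hind : InducedAlong θ χ χ') :
    χ'.range = imageAlong θ χ.range := by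
  obtain ⟨hPS, hv, hmem, he⟩ := hind
  ext y
  constructor
  · rintro ⟨⟨_, s, hs, rfl⟩, rfl⟩
    have e : (⟨θ s, s, hs, rfl⟩ : imageAlong θ P) = ⟨θ ⟨(⟨s, hs⟩ : P), hPS hs⟩, hmem ⟨s, hs⟩⟩ := rfl
    rw [e, he]
    exact ⟨_, ⟨⟨s, hs⟩, rfl⟩, rfl⟩
  · rintro ⟨s, ⟨x, hx⟩, rfl⟩
    refine ⟨⟨_, hmem x⟩, (he x).trans ?_⟩
    congr 1
    exact Subtype.ext hx

/-- The reduced automorphism transports under a map of `F`. -/
theorem congr_mem_J (hZP : Z ≤ P) (hPT : P ≤ T) {χ : P →* Ω} (hχ : χ ∈ F.Hom P) (e : P ≃* P₁)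
    (he : ∀ x : P, ((e x : P₁) : Ω) = χ x) {α : MulAut P} (hα : α ∈ (JJ c).autGroup P) :
    MulAut.congr e α ∈ (JJ c).autGroup P₁ := by
  classical
  haveI := c.finS'
  have hPS : P ≤ S := hPT.trans c.hTS
  have hP₁T : P₁ ≤ T := by
    intro y hy
    have h1 := he (e.symm ⟨y, hy⟩)
    have h2 := c.hTsc.2 P hPT χ hχ (e.symm ⟨y, hy⟩)
    rw [← h1] at h2
    simpa using h2
  have hP₁S : P₁ ≤ S := hP₁T.trans c.hTS
  obtain ⟨b, hb, hbe⟩ := exists_red c hPT hα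
  obtain ⟨χ', hχ', hind⟩ := c.hmor.2 P χ hχ
  have hr0 : χ.range = P₁ := by
    ext y
    constructor
    · rintro ⟨x, rfl⟩
      rw [← he]
      exact (e x).2
    · intro hy
      exact ⟨e.symm ⟨y, hy⟩, by rw [← he]; simp⟩
  have hr : χ'.range = imageAlong θ P₁ := by
    rw [range_eq_image c hind, hr0]
  let e' : imageAlong θ P ≃* imageAlong θ P₁ := isoOfRange (Fb.injective_of_mem hχ') hr
  have he' : ∀ y, ((e' y : imageAlong θ P₁) : Ω') = χ' y := fun _ => rfl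
  have h1 := Cfsg.Agent.Lib.Fusion.NormalPair.congr_mem_autGroup c.hinvN (c.image_le_T' hPT) hχ' e' he' hb
  refine mem_J_of_red c hP₁T (congr_mem_autGroup hχ e he (autJ_le c hPT hα)) h1 (fun y => ?_)
  obtain ⟨x, rfl⟩ := e.surjective y
  obtain ⟨hP0, hv, hmem, hee⟩ := hind
  have hxi : ∀ x : P, e' (toImage θ hPS x) = toImage θ hP₁S (e x) := by
    intro x
    apply Subtype.ext
    rw [he']
    show χ' ⟨_, _⟩ = θ ⟨((e x : P₁) : Ω), _⟩
    rw [hee x]
    congr 1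
    exact Subtype.ext (he x).symm
  rw [← hxi]
  have e1 : (MulAut.congr e' b) (e' (toImage θ hPS x)) = e' (b (toImage θ hPS x)) := by simp [MulAut.congr_apply]
  have e2 : (MulAut.congr e α) (e x) = e (α x) := by simp [MulAut.congr_apply]
  rw [e1, hbe, hxi, e2]

/-! ### `K(P)` -/

/-- Automorphisms in `F` trivial modulo `Z`. -/
def IsK (F : FusionSystem S) (Z : Subgroup Ω) (P : Subgroup Ω) (k : MulAut P) : Prop :=
  k ∈ F.autGroup P ∧ TrivMod Z P k

theorem isK_iff (hPS : P ≤ S) {k : MulAut P} (hk : k ∈ F.autGroup P) :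
    (⟨k, hk⟩ : F.autGroup P) ∈ DeltaK F Z P ↔ IsK F Z P k := by
  constructor
  · exact fun h => ⟨hk, h.2⟩
  · intro h
    refine ⟨fun x hx => ?_, h.2⟩
    exact Subtype.ext (central_fix c.hZ (autGroup_mem_hom hPS hk) x hx)

theorem IsK.mul {k k' : MulAut P} (h : IsK F Z P k) (h' : IsK F Z P k') : IsK F Z P (k * k') :=
  ⟨Subgroup.mul_mem _ h.1 h'.1, h.2.mul h'.2⟩

theorem IsK.inv {k : MulAut P} (h : IsK F Z P k) : IsK F Z P k⁻¹ :=
  ⟨Subgroup.inv_mem _ h.1, h.2.inv⟩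

theorem IsK.pow {k : MulAut P} (h : IsK F Z P k) (n : ℕ) : IsK F Z P (k ^ n) :=
  ⟨Subgroup.pow_mem _ h.1 n, h.2.pow n⟩

theorem IsK.conj (hPS : P ≤ S) {k g : MulAut P} (h : IsK F Z P k) (hg : g ∈ F.autGroup P) : IsK F Z P (g * k * g⁻¹) := by
  have h1 : (⟨k, h.1⟩ : F.autGroup P) ∈ DeltaK F Z P := (isK_iff c hPS h.1).2 h
  have h2 := (DeltaK_normal (F := F) c.hZsc hPS).conj_mem _ h1 ⟨g, hg⟩
  exact (isK_iff c hPS _).1 h2

/-- Fixing `Z`. -/
theorem IsK.apply_Z (hPS : P ≤ S) {k : MulAut P} (h : IsK F Z P k) (x : P) (hx : (x : Ω) ∈ Z) : k x = x :=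
  Subtype.ext (central_fix c.hZ (autGroup_mem_hom hPS h.1) x hx)

/-- `K(P)` is abelian. -/
theorem IsK.comm (hZP : Z ≤ P) (hPS : P ≤ S) {k k' : MulAut P} (h : IsK F Z P k) (h' : IsK F Z P k') : k * k' = k' * k := by
  ext x
  show ((k (k' x) : P) : Ω) = ((k' (k x) : P) : Ω)
  obtain ⟨z, hz, h1⟩ : ∃ z, ∃ hz : z ∈ Z, k x = x * ⟨z, hZP hz⟩ :=
    ⟨_, h.2 x, Subtype.ext (by simp)⟩
  obtain ⟨z', hz', h2⟩ : ∃ z, ∃ hz : z ∈ Z, k' x = x * ⟨z, hZP hz⟩ :=
    ⟨_, h'.2 x, Subtype.ext (by simp)⟩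
  rw [h2, map_mul, h1, IsK.apply_Z c hPS h ⟨z', hZP hz'⟩ hz', map_mul, h2, IsK.apply_Z c hPS h' ⟨z, hZP hz⟩ hz]
  show (x : Ω) * z * z' = (x : Ω) * z' * z
  have hc := central_comm c.hZ hz' (c.hZS hz)
  rw [mul_assoc, hc, mul_assoc]

/-- Elements of `F` with equal reduction differ by `K`. -/
theorem isK_of_eqv {a b : MulAut P} (ha : a ∈ F.autGroup P) (hb : b ∈ F.autGroup P)
    (h : ∀ x : P, ((a x : P) : Ω)⁻¹ * ((b x : P) : Ω) ∈ Z) : IsK F Z P (b * a⁻¹) := by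
  refine ⟨Subgroup.mul_mem _ hb (Subgroup.inv_mem _ ha), fun x => ?_⟩
  have h1 := h (a⁻¹ x)
  simpa using h1

/-- `K(P) ≤ Aut_J(P)`. -/
theorem IsK.le_J (hZP : Z ≤ P) (hPT : P ≤ T) {k : MulAut P} (h : IsK F Z P k) : k ∈ (JJ c).autGroup P := by
  have hPS : P ≤ S := hPT.trans c.hTS
  refine mem_J_of_red c hPT h.1 (Subgroup.one_mem _) (fun x => Subtype.ext ?_)
  exact c.eq_of_mem_Z (hPS x.2) (hPS (k x).2) (h.2 x)

/-- `K` transports. -/
theorem IsK.congr (hZP : Z ≤ P) {χ : P →* Ω} (hχ : χ ∈ F.Hom P) (e : P ≃* P₁)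
    (he : ∀ x : P, ((e x : P₁) : Ω) = χ x) {k : MulAut P} (h : IsK F Z P k) : IsK F Z P₁ (MulAut.congr e k) := by
  refine ⟨congr_mem_autGroup hχ e he h.1, fun y => ?_⟩
  obtain ⟨x, rfl⟩ := e.surjective y
  have e2 : (MulAut.congr e k) (e x) = e (k x) := by simp [MulAut.congr_apply]
  rw [e2]
  have hz := h.2 x
  have h1 : χ (k x) = χ x * χ ⟨(x : Ω)⁻¹ * (k x : P), Subgroup.mul_mem _ (Subgroup.inv_mem _ x.2) (k x).2⟩ := by
    rw [← map_mul]
    congr 1
    apply Subtype.ext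
    show ((k x : P) : Ω) = (x : Ω) * ((x : Ω)⁻¹ * (k x : P))
    group
  have h2 := central_fix c.hZ hχ ⟨(x : Ω)⁻¹ * (k x : P), Subgroup.mul_mem _ (Subgroup.inv_mem _ x.2) (k x).2⟩ hz
  rw [he, he, h1, h2]
  simpa using hz

/-! ### Inverse maps, `M(P)` -/

/-- The inverse of a map, as a map. -/
theorem symm_mem {χ : P →* Ω} (hχ : χ ∈ F.Hom P) (e : P ≃* P₁) (he : ∀ x : P, ((e x : P₁) : Ω) = χ x) :
    P.subtype.comp e.symm.toMonoidHom ∈ F.Hom P₁ := by
  have hr : χ.range = P₁ := by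
    ext y
    constructor
    · rintro ⟨x, rfl⟩
      rw [← he]
      exact (e x).2
    · intro hy
      exact ⟨e.symm ⟨y, hy⟩, by rw [← he]; simp⟩
  obtain ⟨ψ, hψ, -, h1, -⟩ := exists_inv hχ hr
  have e1 : P.subtype.comp e.symm.toMonoidHom = ψ := by
    ext y
    obtain ⟨x, rfl⟩ := e.surjective y
    have hmem : χ x ∈ P₁ := by
      rw [← he]
      exact (e x).2
    have h2 := h1 x hmem
    have e3 : (⟨χ x, hmem⟩ : P₁) = e x := Subtype.ext (he x).symm
    rw [e3] at h2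
    rw [h2]
    simp
  rw [e1]
  exact hψ

/-- The generators of the form: conjugate of `Aut_T`. -/
def IIset (F : FusionSystem S) (T P : Subgroup Ω) : Set (MulAut P) :=
  {γ | ∃ χ ∈ F.Hom P, ∃ t ∈ T, t ∈ Subgroup.normalizer ((χ.range : Subgroup Ω) : Set Ω) ∧
    ∀ x : P, χ (γ x) = t * χ x * t⁻¹}

omit c in
/-- `M(P)`. -/
def MM (c : Ctx p F Z T θ Fb Nb) (P : Subgroup Ω) : Subgroup (MulAut P) :=
  Subgroup.closure ({α | α ∈ (JJ c).autGroup P ∧ Nat.Coprime (orderOf α) p} ∪ IIset F T P)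

/-- `M(P)` transports. -/
theorem MM_congr (hZP : Z ≤ P) (hPT : P ≤ T) {χ : P →* Ω} (hχ : χ ∈ F.Hom P) (e : P ≃* P₁)
    (he : ∀ x : P, ((e x : P₁) : Ω) = χ x) {α : MulAut P} (hα : α ∈ MM c P) : MulAut.congr e α ∈ MM c P₁ := by
  have hle : MM c P ≤ (MM c P₁).comap (MulAut.congr e).toMonoidHom := by
    refine (Subgroup.closure_le _).2 ?_
    rintro a (⟨ha, hco⟩ | ⟨ξ, hξ, t, ht, htN, hv⟩)
    · refine Subgroup.subset_closure (Or.inl ⟨congr_mem_J c hZP hPT hχ e he ha, ?_⟩)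
      have hord : orderOf (MulAut.congr e a) = orderOf a :=
        orderOf_injective (MulAut.congr e).toMonoidHom (MulEquiv.injective _) a
      show Nat.Coprime (orderOf (MulAut.congr e a)) p
      rw [hord]
      exact hco
    · refine Subgroup.subset_closure (Or.inr ⟨ξ.comp e.symm.toMonoidHom, ?_, t, ht, ?_, fun y => ?_⟩)
      · exact comp_mem' (symm_mem c hχ e he) hξ (fun x => (e.symm x).2) (fun _ => rfl)
      · have hr : (ξ.comp e.symm.toMonoidHom).range = ξ.range := by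
          ext w
          constructor
          · rintro ⟨y, rfl⟩
            exact ⟨_, rfl⟩
          · rintro ⟨x, rfl⟩
            exact ⟨e x, by simp⟩
        rw [hr]
        exact htN
      · obtain ⟨x, rfl⟩ := e.surjective y
        have e2 : (MulAut.congr e a) (e x) = e (a x) := by simp [MulAut.congr_apply]
        show ξ (e.symm ((MulAut.congr e a) (e x))) = t * ξ (e.symm (e x)) * t⁻¹
        rw [e2]
        simpa using hv x
  exact hle hα

end Cfsg.Agent.Lib.Fusion.CLift
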