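/-
Normal subsystems of the fusion system of a finite group `G` with `C_G(O_p(G)) ≤ O_p(G)`:
they are the systems `F_T(H)` of the normal subgroups `H` of `G` (S5121).
-/
import Mathlib
import Cfsg.Prelude.Def_FusionSystem
import Cfsg.Prelude.Def_Solvable
import Cfsg.Agent.Lib.Basic.PCore
import Cfsg.Agent.Lib.Fusion.Basic
import Cfsg.Agent.Lib.Fusion.Saturated
import Cfsg.Agent.Lib.Fusion.Alperin
import Cfsg.Agent.Lib.Fusion.FNInduction
import Cfsg.Agent.Lib.Fusion.GroupSylow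
import Cfsg.Agent.Lib.Fusion.GroupNormal
import Cfsg.Agent.Lib.Fusion.StrongInvariance
import Cfsg.Agent.Lib.Fusion.Hyperfocal
import Cfsg.Agent.Lib.Transfer.Basic

set_option autoImplicit false

namespace Cfsg.Agent.Lib.Fusion.NormalModel

open Cfsg Cfsg.FusionSystem Cfsg.Agent.Lib.Fusion.Basic Cfsg.Agent.Lib.Fusion.Saturated

/-! ### A transfer argument -/

section TransferPart

variable {B : Type*} [Group B] [Finite B] {p : ℕ} [hp : Fact p.Prime]

theorem pow_eq_one_of_coprime {A : Type*} [Group A] (hA : IsPGroup p A) {x : A} {m : ℕ}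
    (hm : Nat.Coprime m p) (h : x ^ m = 1) : x = 1 := by
  obtain ⟨n, hn⟩ := hA x
  have h1 : orderOf x ∣ m := orderOf_dvd_of_pow_eq_one h
  have h2 : orderOf x ∣ p ^ n := orderOf_dvd_of_pow_eq_one hn
  have h3 : Nat.Coprime m (p ^ n) := hm.pow_right n
  have h4 : orderOf x ∣ 1 := by
    rw [← h3.gcd_eq_one]
    exact Nat.dvd_gcd h1 h2
  exact orderOf_eq_one_iff.1 (Nat.dvd_one.1 h4)

theorem exists_ker_transfer_aux {A : Type*} [CommGroup A] (W T₀ D₀ : Subgroup B) (𝒯 : Set B)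
    (ϕ : W →* A) (hϕs : Function.Surjective ϕ) (hϕk : ∀ w : W, ϕ w = 1 ↔ (w : B) ∈ T₀)
    (hWp : IsPGroup p W) (hWi : ¬ p ∣ W.index) (hT₀W : T₀ ≤ W) (hD₀W : D₀ ≤ W)
    (hsplit : ∀ w ∈ W, ∃ t ∈ T₀, ∃ d ∈ D₀, w = t * d)
    (hT𝒯 : ∀ t ∈ T₀, t ∈ 𝒯)
    (h𝒯conj : ∀ x ∈ 𝒯, ∀ b : B, b * x * b⁻¹ ∈ 𝒯)
    (h𝒯pow : ∀ x ∈ 𝒯, ∀ k : ℕ, x ^ k ∈ 𝒯)
    (h𝒯W : ∀ x ∈ 𝒯, x ∈ W → x ∈ T₀)
    (hD : ∀ d ∈ D₀, ∀ b : B, d⁻¹ * (b * d * b⁻¹) ∈ T₀) :
    ∃ L : Subgroup B, L.Normal ∧ (∀ x ∈ 𝒯, x ∈ L) ∧ (∀ w ∈ W, w ∈ L → w ∈ T₀) ∧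
      (∀ b : B, ∃ d ∈ D₀, b * d⁻¹ ∈ L) ∧ (∀ x : B, Nat.Coprime (orderOf x) p → x ∈ L) := by
  classical
  have hA : IsPGroup p A := hWp.of_surjective ϕ hϕs
  have hm : Nat.Coprime W.index p :=
    ((Nat.Prime.coprime_iff_not_dvd hp.out).2 hWi).symm
  let τ : B →* A := ϕ.transfer
  -- `τ` kills `𝒯`
  have hτ𝒯 : ∀ x ∈ 𝒯, τ x = 1 := by
    intro x hx
    have : Fintype (Quotient (MulAction.orbitRel (Subgroup.zpowers x) (B ⧸ W))) :=
      Fintype.ofFinite _
    show ϕ.transfer x = 1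
    rw [MonoidHom.transfer_eq_prod_quotient_orbitRel_zpowers_quot]
    refine Finset.prod_eq_one fun q _ => ?_
    rw [hϕk]
    refine h𝒯W _ ?_ (QuotientGroup.out_conj_pow_minimalPeriod_mem W x q.out)
    have := h𝒯conj _ (h𝒯pow x hx (Function.minimalPeriod (x • ·) q.out)) (q.out.out)⁻¹
    simpa using this
  -- `τ` on `D₀`
  have hτD : ∀ d (hd : d ∈ D₀), τ d = ϕ ⟨d, hD₀W hd⟩ ^ W.index := by
    intro d hd
    refine Cfsg.Agent.Lib.Transfer.Basic.transfer_eq_pow_of_fusion W ϕ ⟨d, hD₀W hd⟩ ?_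
    intro k g₀ h
    rw [← map_pow]
    have h1 : ((⟨d, hD₀W hd⟩ : W) ^ k : W)⁻¹ * ⟨g₀⁻¹ * d ^ k * g₀, h⟩ ∈ ϕ.ker := by
      rw [MonoidHom.mem_ker, hϕk]
      have := hD (d ^ k) (D₀.pow_mem hd k) g₀⁻¹
      simpa using this
    have h2 := (MonoidHom.mem_ker).1 h1
    rw [map_mul, map_inv, inv_mul_eq_one] at h2
    exact h2.symm
  refine ⟨τ.ker, inferInstance, fun x hx => hτ𝒯 x hx, ?_, ?_, ?_⟩
  · intro w hw hL
    obtain ⟨t, ht, d, hd, rfl⟩ := hsplit w hw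
    have h1 : τ d = 1 := by
      have h2 := (MonoidHom.mem_ker).1 hL
      rw [map_mul, hτ𝒯 t (hT𝒯 t ht), one_mul] at h2
      exact h2
    rw [hτD d hd] at h1
    have h2 := pow_eq_one_of_coprime hA hm h1
    have h3 : d ∈ T₀ := (hϕk _).1 h2
    exact T₀.mul_mem ht h3
  · intro b
    have : Finite A := Finite.of_surjective ϕ hϕs
    have hc : Nat.Coprime (Nat.card A) W.index := by
      obtain ⟨n, hn⟩ := IsPGroup.iff_card.1 hA
      rw [hn]
      exact (hm.symm).pow_left n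
    obtain ⟨y, hy⟩ := (powCoprime hc).surjective (τ b)
    obtain ⟨w, rfl⟩ := hϕs y
    obtain ⟨t, ht, d, hd, hw⟩ := hsplit w w.2
    refine ⟨d, hd, ?_⟩
    have hwd : ϕ w = ϕ ⟨d, hD₀W hd⟩ := by
      have h1 : w = ⟨t, hT₀W ht⟩ * ⟨d, hD₀W hd⟩ := Subtype.ext hw
      rw [h1, map_mul, (hϕk ⟨t, hT₀W ht⟩).2 ht, one_mul]
    rw [MonoidHom.mem_ker, map_mul, map_inv, mul_inv_eq_one, hτD d hd, ← hwd]
    exact hy.symm
  · intro x hx
    exact Cfsg.Agent.Lib.Transfer.Basic.map_eq_one_of_coprime hA τ hx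

/-- The abstract transfer statement. -/
theorem exists_ker_transfer (W T₀ D₀ : Subgroup B) (𝒯 : Set B)
    (hWp : IsPGroup p W) (hWi : ¬ p ∣ W.index) (hT₀W : T₀ ≤ W) (hD₀W : D₀ ≤ W)
    (hsplit : ∀ w ∈ W, ∃ t ∈ T₀, ∃ d ∈ D₀, w = t * d)
    (hT𝒯 : ∀ t ∈ T₀, t ∈ 𝒯)
    (h𝒯conj : ∀ x ∈ 𝒯, ∀ b : B, b * x * b⁻¹ ∈ 𝒯)
    (h𝒯pow : ∀ x ∈ 𝒯, ∀ k : ℕ, x ^ k ∈ 𝒯)
    (h𝒯W : ∀ x ∈ 𝒯, x ∈ W → x ∈ T₀)
    (hD : ∀ d ∈ D₀, ∀ b : B, d⁻¹ * (b * d * b⁻¹) ∈ T₀) :
    ∃ L : Subgroup B, L.Normal ∧ (∀ x ∈ 𝒯, x ∈ L) ∧ (∀ w ∈ W, w ∈ L → w ∈ T₀) ∧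
      (∀ b : B, ∃ d ∈ D₀, b * d⁻¹ ∈ L) ∧ (∀ x : B, Nat.Coprime (orderOf x) p → x ∈ L) := by
  classical
  let N : Subgroup W := T₀.subgroupOf W
  have hN : N.Normal := by
    constructor
    intro n hn g
    have hn' : (n : B) ∈ T₀ := Subgroup.mem_subgroupOf.1 hn
    exact Subgroup.mem_subgroupOf.2 (h𝒯W _ (h𝒯conj _ (hT𝒯 _ hn') g) (g * n * g⁻¹).2)
  have hkill : ∀ t (ht : t ∈ T₀), ((⟨t, hT₀W ht⟩ : W) : W ⧸ N) = 1 := by
    intro t ht
    exact (QuotientGroup.eq_one_iff _).2 (Subgroup.mem_subgroupOf.2 ht)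
  -- every class is represented in `D₀`, and those are central
  have hcentral : ∀ d (hd : d ∈ D₀) (y : W ⧸ N), ((⟨d, hD₀W hd⟩ : W) : W ⧸ N) * y =
      y * ((⟨d, hD₀W hd⟩ : W) : W ⧸ N) := by
    intro d hd y
    induction y using QuotientGroup.induction_on with
    | H b =>
      have h1 : ((⟨d, hD₀W hd⟩ : W)⁻¹ * (b * ⟨d, hD₀W hd⟩ * b⁻¹) : W) ∈ N :=
        Subgroup.mem_subgroupOf.2 (hD d hd b)
      have h2 := (QuotientGroup.eq_one_iff _).2 h1
      rw [QuotientGroup.mk_mul, QuotientGroup.mk_inv, QuotientGroup.mk_mul, QuotientGroup.mk_mul,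
        QuotientGroup.mk_inv, inv_mul_eq_one] at h2
      rw [h2, mul_assoc, mul_assoc, inv_mul_cancel, mul_one]
      rw [← h2]
  have hcomm : ∀ x y : W ⧸ N, x * y = y * x := by
    intro x y
    induction x using QuotientGroup.induction_on with
    | H a =>
      obtain ⟨t, ht, d, hd, hw⟩ := hsplit a a.2
      have h1 : a = ⟨t, hT₀W ht⟩ * ⟨d, hD₀W hd⟩ := Subtype.ext hw
      rw [h1, QuotientGroup.mk_mul, hkill t ht, one_mul]
      exact hcentral d hd y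
  letI : CommGroup (W ⧸ N) := { (inferInstance : Group (W ⧸ N)) with mul_comm := hcomm }
  refine exists_ker_transfer_aux (A := W ⧸ N) W T₀ D₀ 𝒯 (QuotientGroup.mk' N)
    (QuotientGroup.mk'_surjective N) ?_ hWp hWi hT₀W hD₀W hsplit hT𝒯 h𝒯conj h𝒯pow h𝒯W hD
  intro w
  rw [QuotientGroup.mk'_apply, QuotientGroup.eq_one_iff]
  exact Subgroup.mem_subgroupOf

end TransferPart

/-! ### Elementary group theory -/

section GroupPart

variable {G : Type*} [Group G]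

/-- A coprime element acting on a group with `[q,a] = w`, `[w,a] = 1` and `w` a `p`-element has `w = 1`. -/
theorem comm_step {p : ℕ} [hp : Fact p.Prime] {H : Type*} [Group H] {a q w : H} (h1 : a * q * a⁻¹ = q * w)
    (h2 : a * w * a⁻¹ = w) (hc : Nat.Coprime (orderOf a) p) (hw : ∃ e : ℕ, w ^ p ^ e = 1) : w = 1 := by
  have key : ∀ k : ℕ, a ^ k * q * (a ^ k)⁻¹ = q * w ^ k := by
    intro k
    induction k with
    | zero => simp
    | succ k ih =>
      have hwk : a * w ^ k * a⁻¹ = w ^ k := by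
        rw [← conj_pow, h2]
      calc a ^ (k + 1) * q * (a ^ (k + 1))⁻¹ = a * (a ^ k * q * (a ^ k)⁻¹) * a⁻¹ := by
            rw [pow_succ' a k]; group
        _ = a * (q * w ^ k) * a⁻¹ := by rw [ih]
        _ = (a * q * a⁻¹) * (a * w ^ k * a⁻¹) := by group
        _ = q * w * w ^ k := by rw [h1, hwk]
        _ = q * w ^ (k + 1) := by rw [pow_succ', mul_assoc]
  have h3 := key (orderOf a)
  rw [pow_orderOf_eq_one] at h3
  have h4 : w ^ orderOf a = 1 := by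
    have : q * w ^ orderOf a = q := by
      rw [← h3]
      simp
    simpa using this
  obtain ⟨e, he⟩ := hw
  have h5 : orderOf w ∣ orderOf a := orderOf_dvd_of_pow_eq_one h4
  have h6 : orderOf w ∣ p ^ e := orderOf_dvd_of_pow_eq_one he
  have h7 : orderOf w ∣ 1 := by
    rw [← (hc.pow_right e).gcd_eq_one]
    exact Nat.dvd_gcd h5 h6
  exact orderOf_eq_one_iff.1 (Nat.dvd_one.1 h7)

/-- The elements acting trivially on `Q/R`. -/
def stabQuot (Q R : Subgroup G) [Q.Normal] [R.Normal] : Subgroup G where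
  carrier := {g | ∀ q ∈ Q, q⁻¹ * (g * q * g⁻¹) ∈ R}
  one_mem' := by
    intro q _
    simp
  mul_mem' := by
    intro a b ha hb q hq
    have h1 := hb q hq
    have hq' : b * q * b⁻¹ ∈ Q := Subgroup.Normal.conj_mem inferInstance q hq b
    have h2 := ha _ hq'
    have e : q⁻¹ * (a * b * q * (a * b)⁻¹) =
        (q⁻¹ * (b * q * b⁻¹)) * ((b * q * b⁻¹)⁻¹ * (a * (b * q * b⁻¹) * a⁻¹)) := by group
    rw [e]
    exact R.mul_mem h1 h2
  inv_mem' := by
    intro a ha q hq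
    have hq' : a⁻¹ * q * a ∈ Q := by
      have := Subgroup.Normal.conj_mem (inferInstance : Q.Normal) q hq a⁻¹
      simpa using this
    have h2 := R.inv_mem (ha _ hq')
    have e : q⁻¹ * (a⁻¹ * q * a⁻¹⁻¹) = ((a⁻¹ * q * a)⁻¹ * (a * (a⁻¹ * q * a) * a⁻¹))⁻¹ := by group
    rw [e]
    exact h2

theorem mem_stabQuot {Q R : Subgroup G} [Q.Normal] [R.Normal] {g : G} :
    g ∈ stabQuot Q R ↔ ∀ q ∈ Q, q⁻¹ * (g * q * g⁻¹) ∈ R := Iff.rfl

instance stabQuot_normal (Q R : Subgroup G) [Q.Normal] [R.Normal] : (stabQuot Q R).Normal := by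
  constructor
  intro g hg x q hq
  have hq' : x⁻¹ * q * x ∈ Q := by
    have := Subgroup.Normal.conj_mem (inferInstance : Q.Normal) q hq x⁻¹
    simpa using this
  have h1 := hg _ hq'
  have h2 := Subgroup.Normal.conj_mem (inferInstance : R.Normal) _ h1 x
  have e : q⁻¹ * (x * g * x⁻¹ * q * (x * g * x⁻¹)⁻¹) =
      x * ((x⁻¹ * q * x)⁻¹ * (g * (x⁻¹ * q * x) * g⁻¹)) * x⁻¹ := by group
  rw [e]
  exact h2

variable [Finite G] {p : ℕ} [hp : Fact p.Prime]

/-- Under `C_G(O_p(G)) ≤ O_p(G)`, the elements acting trivially on `R` and on `O_p(G)/R` lie in `O_p(G)`. -/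
theorem stab_le_pCore (hG : Subgroup.centralizer ((pCore p G : Subgroup G) : Set G) ≤ pCore p G)
    {R : Subgroup G} [R.Normal] (hRQ : R ≤ pCore p G) [(pCore p G).Normal] :
    stabQuot (pCore p G) R ⊓ Subgroup.centralizer (R : Set G) ≤ pCore p G := by
  have hOp : IsPGroup p (pCore p G) := Cfsg.Agent.Lib.Basic.PCore.pCore_isPGroup p
  refine Cfsg.Agent.Lib.Basic.PCore.le_pCore inferInstance ?_
  rw [IsPGroup.iff_orderOf]
  rintro ⟨g, hg⟩
  obtain ⟨a, b, hab, -, -, hb, ⟨k, hk⟩, hbc⟩ := Cfsg.Agent.Lib.Transfer.Basic.exists_pPart_decomp (p := p) g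
  have hbD : b ∈ stabQuot (pCore p G) R ⊓ Subgroup.centralizer (R : Set G) :=
    (Subgroup.zpowers_le.2 hg) hb
  have hbQ : b ∈ pCore p G := by
    apply hG
    rw [Subgroup.mem_centralizer_iff]
    intro q hq
    have hw := hbD.1 q hq
    set w := q⁻¹ * (b * q * b⁻¹) with hwdef
    have h1 : b * q * b⁻¹ = q * w := by
      rw [hwdef]
      group
    have h2 : b * w * b⁻¹ = w := by
      have := Subgroup.mem_centralizer_iff.1 hbD.2 w hw
      rw [← this]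
      group
    have hwp : ∃ e : ℕ, w ^ p ^ e = 1 := by
      obtain ⟨e, he⟩ := hOp ⟨w, hRQ hw⟩
      exact ⟨e, congrArg Subtype.val he⟩
    have h3 : w = 1 := comm_step h1 h2 hbc hwp
    rw [h3, mul_one] at h1
    have : q * b = b * q * b⁻¹ * b := by rw [h1]
    rw [this]
    group
  have hb1 : b = 1 := by
    obtain ⟨e, he⟩ := hOp ⟨b, hbQ⟩
    have he' : b ^ p ^ e = 1 := congrArg Subtype.val he
    have h6 : orderOf b ∣ p ^ e := orderOf_dvd_of_pow_eq_one he'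
    have h7 : orderOf b = 1 := Nat.Coprime.eq_one_of_dvd (hbc.pow_right e) h6
    exact orderOf_eq_one_iff.1 h7
  subst hb1
  rw [mul_one] at hab
  subst hab
  refine ⟨k, ?_⟩
  rw [Subgroup.orderOf_mk]
  exact hk

end GroupPart

/-! ### A subsystem all of whose maps on the top are induced by a normal subgroup -/

section Induction

variable {G : Type*} [Group G] {p : ℕ} [hp : Fact p.Prime] {T : Subgroup G} {E : FusionSystem T}

/-- If `E` over `T` consists of conjugations in `G`, `T ≤ H ⊴ G` and every automorphism of `T` in `E` is induced by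
`H`, then every map of `E` is induced by `H`. -/
theorem hom_conj_of_aut_top [Finite T] (hTp : IsPGroup p T) (hE : E.IsSaturated p)
    (hsub : ∀ (P : Subgroup G) (φ : P →* G), φ ∈ E.Hom P → ∃ g : G, ∀ x : P, φ x = g * x * g⁻¹)
    (H : Subgroup G) [hH : H.Normal] (hTH : T ≤ H)
    (htop : ∀ α ∈ E.autGroup T, ∃ h ∈ H, ∀ t : T, ((α t : T) : G) = h * t * h⁻¹) :
    ∀ {P : Subgroup G} {φ : P →* G}, φ ∈ E.Hom P → ∃ h ∈ H, ∀ x : P, φ x = h * x * h⁻¹ := by
  refine Cfsg.Agent.Lib.Fusion.FNInduction.fn_induction (F := E) hTp hE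
    (fun P φ => ∃ h ∈ H, ∀ x : P, φ x = h * x * h⁻¹) ?_ ?_ ?_ ?_
  · rintro P R φ - ⟨h, hh, he⟩ hRP
    exact ⟨h, hh, fun x => he (Subgroup.inclusion hRP x)⟩
  · rintro P Q φ ψ - - ⟨h, hh, he⟩ ⟨k, hk, hke⟩ hv
    refine ⟨k * h, H.mul_mem hk hh, fun x => ?_⟩
    show ψ (φ.codRestrict Q hv x) = _
    rw [hke]
    show k * φ x * k⁻¹ = _
    rw [he]
    group
  · rintro P Q φ ψ - - hr hψ ⟨h, hh, he⟩
    refine ⟨h⁻¹, H.inv_mem hh, fun y => ?_⟩
    have hy : (y : G) ∈ φ.range := hr ▸ y.2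
    obtain ⟨x, hx⟩ := hy
    have hxQ : φ x ∈ Q := by rw [hx]; exact y.2
    have e1 : y = ⟨φ x, hxQ⟩ := Subtype.ext hx.symm
    rw [e1, hψ x hxQ]
    show (x : G) = h⁻¹ * φ x * h⁻¹⁻¹
    rw [he]
    group
  · intro P φ hP hφ hr IH
    have hPT : P ≤ T := hP.1
    have hfin : Finite (E.autGroup P) := finite_autGroup hPT
    let α : MulAut P := isoOfRange (E.injective_of_mem hφ) hr
    have hα : α ∈ E.autGroup P := mem_autGroup_of_mem hφ
    have hαv : ∀ x : P, ((α x : P) : G) = φ x := fun x => rfl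
    -- the normal subgroup of automorphisms induced by `H`
    let K : Subgroup (E.autGroup P) :=
      { carrier := {a | ∃ h ∈ H, ∀ x : P, (((a : MulAut P) x : P) : G) = h * x * h⁻¹}
        one_mem' := ⟨1, H.one_mem, fun x => by simp⟩
        mul_mem' := by
          rintro a b ⟨h, hh, he⟩ ⟨k, hk, hke⟩
          refine ⟨h * k, H.mul_mem hh hk, fun x => ?_⟩
          show (((a : MulAut P) ((b : MulAut P) x) : P) : G) = _
          rw [he, hke]
          group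
        inv_mem' := by
          rintro a ⟨h, hh, he⟩
          refine ⟨h⁻¹, H.inv_mem hh, fun x => ?_⟩
          have e := he ((a : MulAut P)⁻¹ x)
          rw [MulAut.apply_inv_self] at e
          show (((a : MulAut P)⁻¹ x : P) : G) = _
          have e2 : (((a : MulAut P)⁻¹ x : P) : G) = h⁻¹ * x * h := by
            rw [e]
            group
          rw [e2]
          group }
    have hKn : K.Normal := by
      constructor
      rintro κ ⟨h, hh, he⟩ b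
      obtain ⟨g, hg⟩ := hsub P _ (autGroup_mem_hom hPT b.2)
      have hg' : ∀ x : P, (((b : MulAut P) x : P) : G) = g * x * g⁻¹ := hg
      refine ⟨g * h * g⁻¹, hH.conj_mem h hh g, fun x => ?_⟩
      show (((b : MulAut P) ((κ : MulAut P) ((b : MulAut P)⁻¹ x)) : P) : G) = _
      rw [hg', he]
      have e := hg' ((b : MulAut P)⁻¹ x)
      rw [MulAut.apply_inv_self] at e
      rw [show (x : G) = g * (((b : MulAut P)⁻¹ x : P) : G) * g⁻¹ from e]
      group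
    have hFN := hP
    obtain ⟨ν, κ, hκ, hmul, hν⟩ :=
      Cfsg.Agent.Lib.Fusion.StrongInvariance.exists_aut_extending_of_normal hTp hE hP K hKn ⟨α, hα⟩
    obtain ⟨h, hh, he⟩ := hκ
    have hνK : ν ∈ K := by
      by_cases hPeq : P = T
      · subst hPeq
        obtain ⟨k, hk, hke⟩ := htop _ ν.2
        exact ⟨k, hk, hke⟩
      · -- `ν` extends to a larger subgroup
        have hlt : P < normalizerIn T P := Cfsg.Agent.Lib.Fusion.Alperin.lt_normalizerIn hTp hPT hPeq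
        let ν₀ : P →* G := P.subtype.comp (ν : MulAut P).toMonoidHom
        have hν₀ : ν₀ ∈ E.Hom P := autGroup_mem_hom hPT ν.2
        have hν₀r : ν₀.range = P := by
          ext y
          constructor
          · rintro ⟨x, rfl⟩
            exact ((ν : MulAut P) x).2
          · intro hy
            exact ⟨(ν : MulAut P)⁻¹ ⟨y, hy⟩, by simp [ν₀]⟩
        have hle : normalizerIn T P ≤ extender T P ν₀ := by
          rintro g ⟨hgT, hgN⟩
          refine hν g hgT hgN ⟨g, hTH hgT, fun x => rfl⟩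
        obtain ⟨ν₁, hν₁, hag⟩ := (fullyNormalized_receptive hTp hE hP).2 P ν₀ hν₀ hν₀r
        have hPE : P ≤ extender T P ν₀ := hlt.le.trans hle
        have hcard : Nat.card P < Nat.card (extender T P ν₀) := by
          have hfinT : Finite (extender T P ν₀) :=
            finite_of_le (S := T) (extender_le_normalizerIn.trans normalizerIn_le)
          by_contra hc
          have h1 : P = extender T P ν₀ := Subgroup.eq_of_le_of_card_ge hPE (not_lt.1 hc)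
          have h2 := lt_of_lt_of_le hlt hle
          rw [← h1] at h2
          exact lt_irrefl _ h2
        obtain ⟨k, hk, hke⟩ := IH _ ν₁ hcard hν₁
        refine ⟨k, hk, fun x => ?_⟩
        have e1 := hag x x.2 (hPE x.2)
        have e2 := hke ⟨x, hPE x.2⟩
        rw [e1] at e2
        exact e2
    obtain ⟨k, hk, hke⟩ := hνK
    refine ⟨h * k, H.mul_mem hh hk, fun x => ?_⟩
    rw [← hαv]
    have e : ((α x : P) : G) = (((κ : MulAut P) ((ν : MulAut P) x) : P) : G) := by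
      have := congrArg (fun a : E.autGroup P => (((a : MulAut P) x : P) : G)) hmul
      exact this
    rw [e, he, hke]
    group

end Induction

/-! ### The main argument -/

section Main

open Cfsg.Agent.Lib.Fusion.GroupSylow Cfsg.Agent.Lib.Fusion.GroupNormal

variable {G : Type*} [Group G] [Finite G] {p : ℕ} [hp : Fact p.Prime] (S : Sylow p G) {T : Subgroup G}

omit [Finite G] hp in
theorem conj_mem_of_sc {S : Subgroup G} (hsc : (groupFusionSystem S).StronglyClosed T) {t g : G} (ht : t ∈ T)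
    (hv : g * t * g⁻¹ ∈ S) : g * t * g⁻¹ ∈ T := by
  have hP : Subgroup.zpowers t ≤ T := Subgroup.zpowers_le.2 ht
  have hφ : conjHom (Subgroup.zpowers t) g ∈ (groupFusionSystem S).Hom (Subgroup.zpowers t) := by
    refine ⟨hP.trans hsc.1, ?_, g, fun _ => rfl⟩
    rintro ⟨x, k, rfl⟩
    show g * (t ^ k) * g⁻¹ ∈ _
    rw [← conj_zpow]
    exact zpow_mem hv k
  exact hsc.2 _ hP _ hφ ⟨t, Subgroup.mem_zpowers t⟩

omit [Finite G] hp in
theorem normalizer_of_mem_S {S : Subgroup G} (hsc : (groupFusionSystem S).StronglyClosed T) {s : G} (hs : s ∈ S) :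
    s ∈ Subgroup.normalizer (T : Set G) := by
  rw [Subgroup.mem_normalizer_iff]
  intro x
  constructor
  · intro hx
    exact conj_mem_of_sc hsc hx (S.mul_mem (S.mul_mem hs (hsc.1 hx)) (S.inv_mem hs))
  · intro hx
    have := conj_mem_of_sc (g := s⁻¹) hsc hx
      (S.mul_mem (S.mul_mem (S.inv_mem hs) (hsc.1 hx)) (S.inv_mem (S.inv_mem hs)))
    simpa [mul_assoc] using this

include S in
/-- `T ∩ O_p(G)` is normal in `G`. -/
theorem normal_inf_pCore (hsc : (groupFusionSystem (S : Subgroup G)).StronglyClosed T) :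
    (T ⊓ pCore p G).Normal := by
  constructor
  rintro r ⟨hrT, hrQ⟩ g
  have hrQ' : g * r * g⁻¹ ∈ pCore p G := Subgroup.Normal.conj_mem inferInstance r hrQ g
  have hQS : pCore p G ≤ (S : Subgroup G) := Cfsg.Agent.Lib.Basic.PCore.pCore_le_sylow S
  exact ⟨conj_mem_of_sc hsc hrT (hQS hrQ'), hrQ'⟩

include S in
/-- `T` acts trivially on `O_p(G)/(T ∩ O_p(G))`. -/
theorem le_stabQuot (hsc : (groupFusionSystem (S : Subgroup G)).StronglyClosed T) {R : Subgroup G} [R.Normal]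
    (hR : R = T ⊓ pCore p G) : T ≤ stabQuot (pCore p G) R := by
  intro t ht q hq
  have hQS : pCore p G ≤ (S : Subgroup G) := Cfsg.Agent.Lib.Basic.PCore.pCore_le_sylow S
  rw [hR]
  constructor
  · have h1 : q⁻¹ * t * q⁻¹⁻¹ ∈ T :=
      conj_mem_of_sc hsc ht ((S : Subgroup G).mul_mem ((S : Subgroup G).mul_mem
        ((S : Subgroup G).inv_mem (hQS hq)) (hsc.1 ht)) ((S : Subgroup G).inv_mem ((S : Subgroup G).inv_mem (hQS hq))))
    have e : q⁻¹ * (t * q * t⁻¹) = (q⁻¹ * t * q⁻¹⁻¹) * t⁻¹ := by group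
    rw [e]
    exact T.mul_mem h1 (T.inv_mem ht)
  · exact (pCore p G).mul_mem ((pCore p G).inv_mem hq) (Subgroup.Normal.conj_mem inferInstance q hq t)

variable {S} {E : FusionSystem T}

omit [Finite G] hp in
theorem hom_conj {S : Subgroup G} {p : ℕ} (hE : E.IsNormalIn (groupFusionSystem S) p) {P : Subgroup G} {φ : P →* G}
    (hφ : φ ∈ E.Hom P) : ∃ g : G, ∀ x : P, φ x = g * x * g⁻¹ := by
  obtain ⟨-, -, g, hg⟩ := hE.1.2.2.1 P hφ
  exact ⟨g, hg⟩

omit [Finite G] hp in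
/-- Transport of `Aut_E(P)` by an element of `N_G(T)` normalizing `P`. -/
theorem aut_conj_mem {S : Subgroup G} {p : ℕ} (hE : E.IsNormalIn (groupFusionSystem S) p) {P : Subgroup G}
    (hPT : P ≤ T) {n : G} {α : MulAut T} (hα : α ∈ (groupFusionSystem S).autGroup T)
    (hαn : ∀ t : T, ((α t : T) : G) = n * t * n⁻¹) {δ : MulAut P} (hδ : ∀ x : P, ((δ x : P) : G) = n * x * n⁻¹)
    {γ : MulAut P} (hγ : γ ∈ E.autGroup P) : δ * γ * δ⁻¹ ∈ E.autGroup P := by
  have hφ := autGroup_mem_hom hPT hγ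
  obtain ⟨χ, hχ, hχe⟩ := hE.1.2.2.2.2.1 P hPT _ hφ α hα
  have hmem : ∀ x : P, ((α ⟨x, hPT x.2⟩ : T) : G) ∈ (P.subgroupOf T).map (T.subtype.comp α.toMonoidHom) :=
    fun x => ⟨⟨x, hPT x.2⟩, x.2, rfl⟩
  have hαδ : ∀ x : P, ((α ⟨x, hPT x.2⟩ : T) : G) = ((δ x : P) : G) := by
    intro x
    rw [hαn, hδ]
  have hPP' : P ≤ (P.subgroupOf T).map (T.subtype.comp α.toMonoidHom) := by
    intro y hy
    have h1 := hmem (δ⁻¹ ⟨y, hy⟩)
    rw [hαδ, MulAut.apply_inv_self] at h1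
    exact h1
  apply mem_autGroup_of_mem
  refine mem_of_eq_res hχ hPP' (fun y => ?_)
  have hy : (y : G) = ((α ⟨(δ⁻¹ y : P), hPT (δ⁻¹ y : P).2⟩ : T) : G) := by
    rw [hαδ, MulAut.apply_inv_self]
  have h2 := hχe (δ⁻¹ y) (hPT (γ (δ⁻¹ y)).2) (hmem (δ⁻¹ y))
  have e1 : Subgroup.inclusion hPP' y = ⟨((α ⟨(δ⁻¹ y : P), hPT (δ⁻¹ y : P).2⟩ : T) : G), hmem (δ⁻¹ y)⟩ :=
    Subtype.ext hy
  rw [e1, h2]
  show (((δ * γ * δ⁻¹) y : P) : G) = ((α ⟨_, _⟩ : T) : G)
  rw [hαn]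
  show ((δ (γ (δ⁻¹ y)) : P) : G) = _
  rw [hδ]
  rfl

omit [Finite G] hp in
/-- `Aut_E(R)` is normalized by `G`. -/
theorem rho_conj_mem {S : Subgroup G} {p : ℕ} (hE : E.IsNormalIn (groupFusionSystem S) p) {R : Subgroup G} [R.Normal]
    (hRT : R ≤ T) (g : G) {γ : MulAut R} (hγ : γ ∈ E.autGroup R) :
    MulAut.conjNormal (H := R) g * γ * (MulAut.conjNormal (H := R) g)⁻¹ ∈ E.autGroup R := by
  have hTS : T ≤ S := hE.1.2.2.2.1.1
  have hconj : ∀ (g : G) (r : R), g * (r : G) * g⁻¹ ∈ R :=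
    fun g r => Subgroup.Normal.conj_mem inferInstance _ r.2 g
  have hφ : conjHom R g ∈ (groupFusionSystem S).Hom R :=
    ⟨hRT.trans hTS, fun x => hTS (hRT (hconj g x)), g, fun _ => rfl⟩
  obtain ⟨α, hα, φ₀, hφ₀, he⟩ := hE.1.2.2.2.2.2 R hRT _ hφ
  obtain ⟨g₀, hg₀⟩ := hom_conj hE hφ₀
  obtain ⟨-, -, n, hn'⟩ := autGroup_mem_hom hTS hα
  have hn : ∀ t : T, ((α t : T) : G) = n * t * n⁻¹ := hn'
  have hρ : MulAut.conjNormal (H := R) g = MulAut.conjNormal (H := R) n * MulAut.conjNormal (H := R) g₀ := by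
    ext r
    have h1 : φ₀ r ∈ T := hRT (by rw [hg₀]; exact hconj g₀ r)
    have h2 := he r h1
    rw [hn] at h2
    simp only [hg₀] at h2
    show ((MulAut.conjNormal (H := R) g r : R) : G) = ((MulAut.conjNormal (H := R) n (MulAut.conjNormal (H := R) g₀ r) : R) : G)
    rw [MulAut.conjNormal_apply, MulAut.conjNormal_apply, MulAut.conjNormal_apply]
    exact h2
  have hg₀Γ : MulAut.conjNormal (H := R) g₀ ∈ E.autGroup R := by
    apply mem_autGroup_of_mem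
    refine mem_of_eq_res hφ₀ le_rfl (fun x => ?_)
    show ((MulAut.conjNormal (H := R) g₀ x : R) : G) = φ₀ _
    rw [MulAut.conjNormal_apply, hg₀]
    rfl
  have h1 : MulAut.conjNormal (H := R) g₀ * γ * (MulAut.conjNormal (H := R) g₀)⁻¹ ∈ E.autGroup R :=
    (E.autGroup R).mul_mem ((E.autGroup R).mul_mem hg₀Γ hγ) ((E.autGroup R).inv_mem hg₀Γ)
  have h2 := aut_conj_mem hE hRT hα hn (δ := MulAut.conjNormal (H := R) n)
    (fun x => MulAut.conjNormal_apply n x) h1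
  rw [hρ]
  have e : MulAut.conjNormal (H := R) n * MulAut.conjNormal (H := R) g₀ * γ *
      (MulAut.conjNormal (H := R) n * MulAut.conjNormal (H := R) g₀)⁻¹ =
      MulAut.conjNormal (H := R) n * (MulAut.conjNormal (H := R) g₀ * γ * (MulAut.conjNormal (H := R) g₀)⁻¹) *
        (MulAut.conjNormal (H := R) n)⁻¹ := by
    group
  rw [e]
  exact h2

/-- A `p`-element of `Aut_E(T)` is inner. -/
theorem p_elt_mem_inn (hE : E.IsNormalIn (groupFusionSystem (S : Subgroup G)) p) {δ : MulAut T}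
    (hδ : δ ∈ E.autGroup T) {e : ℕ} (he : δ ^ p ^ e = 1) :
    ∃ t ∈ T, ∀ x : T, ((δ x : T) : G) = t * x * t⁻¹ := by
  have hTS : T ≤ (S : Subgroup G) := hE.1.2.2.2.1.1
  have hTp : IsPGroup p T := isPGroup_of_le_sylow S hTS
  have hES : E.IsSaturated p := hE.1.1
  obtain ⟨-, R₁, hR₁⟩ := (fullyNormalized_props hTp hES Cfsg.Agent.Lib.Fusion.Hyperfocal.isFullyNormalized_S).2
  have hfin : Finite (E.autGroup T) := finite_autGroup le_rfl
  have hnorm : (R₁ : Subgroup (E.autGroup T)).Normal := by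
    rw [hR₁]
    constructor
    intro n hn g
    rw [Subgroup.mem_subgroupOf] at hn ⊢
    obtain ⟨t, ht, hte⟩ := Cfsg.Agent.Lib.Fusion.Basic.mem_autInducedBy_iff.1 hn
    refine Cfsg.Agent.Lib.Fusion.Basic.mem_autInducedBy_iff.2 ⟨((g : MulAut T) ⟨t, ht⟩ : T), ((g : MulAut T) ⟨t, ht⟩).2, fun x => ?_⟩
    show (((g : MulAut T) ((n : MulAut T) ((g : MulAut T)⁻¹ x)) : T) : G) = _
    have h1 : (n : MulAut T) ((g : MulAut T)⁻¹ x) = ⟨t, ht⟩ * ((g : MulAut T)⁻¹ x) * ⟨t, ht⟩⁻¹ :=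
      Subtype.ext (hte _)
    rw [h1, map_mul, map_mul, map_inv, MulAut.apply_inv_self]
    rfl
  have hsub : Subsingleton (Sylow p (E.autGroup T)) := (Sylow.unique_of_normal R₁ hnorm).instSubsingleton
  have hz : IsPGroup p (Subgroup.zpowers (⟨δ, hδ⟩ : E.autGroup T)) := by
    have h1 : (⟨δ, hδ⟩ : E.autGroup T) ^ p ^ e = 1 := Subtype.ext he
    obtain ⟨j, _, hj⟩ := (Nat.dvd_prime_pow hp.out).1 (orderOf_dvd_of_pow_eq_one h1)
    exact IsPGroup.of_card (n := j) (by rw [Nat.card_zpowers]; exact hj)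
  obtain ⟨R₂, hR₂⟩ := hz.exists_le_sylow
  have h2 : R₂ = R₁ := Subsingleton.elim _ _
  have h3 : (⟨δ, hδ⟩ : E.autGroup T) ∈ (R₁ : Subgroup (E.autGroup T)) := by
    rw [← h2]
    exact hR₂ (Subgroup.mem_zpowers _)
  rw [hR₁, Subgroup.mem_subgroupOf] at h3
  exact Cfsg.Agent.Lib.Fusion.Basic.mem_autInducedBy_iff.1 h3

/-- An automorphism of order prime to `p` in `Aut_E(T)` lifts to an element of order prime to `p` acting trivially
on `O_p(G)/(T ∩ O_p(G))`. -/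
theorem lift_coprime (hE : E.IsNormalIn (groupFusionSystem (S : Subgroup G)) p) {R : Subgroup G} [R.Normal]
    (hR : R = T ⊓ pCore p G) {β : MulAut T} (hβ : β ∈ E.autGroup T) (hβc : Nat.Coprime (orderOf β) p) :
    ∃ a : G, Nat.Coprime (orderOf a) p ∧ (∀ t : T, ((β t : T) : G) = a * t * a⁻¹) ∧ a ∈ stabQuot (pCore p G) R := by
  classical
  have hsc := hE.1.2.2.2.1
  have hTS : T ≤ (S : Subgroup G) := hsc.1
  have hQS : pCore p G ≤ (S : Subgroup G) := Cfsg.Agent.Lib.Basic.PCore.pCore_le_sylow S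
  have hOp : IsPGroup p (pCore p G) := Cfsg.Agent.Lib.Basic.PCore.pCore_isPGroup p
  obtain ⟨βh, hβh, hext1, hext2⟩ := hE.2 β hβ
  have hXS : T ⊔ centralizerIn (S : Subgroup G) T ≤ (S : Subgroup G) := sup_le hTS inf_le_left
  obtain ⟨-, -, g₀, hg₀'⟩ := autGroup_mem_hom hXS hβh
  have hg₀ : ∀ x : ↥(T ⊔ centralizerIn (S : Subgroup G) T), ((βh x : ↥(T ⊔ centralizerIn (S : Subgroup G) T)) : G) = g₀ * x * g₀⁻¹ := hg₀'
  have h1 : ∀ t : T, g₀ * (t : G) * g₀⁻¹ = ((β t : T) : G) := by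
    intro t
    have e := hext1 t
    rw [hg₀] at e
    exact e
  have h2 : ∀ c ∈ centralizerIn (S : Subgroup G) T, c⁻¹ * (g₀ * c * g₀⁻¹) ∈ T ⊓ Subgroup.centralizer (T : Set G) := by
    intro c hc
    have hcX : c ∈ T ⊔ centralizerIn (S : Subgroup G) T := Subgroup.mem_sup_right hc
    have e := hext2 ⟨c, hcX⟩ hc
    rw [hg₀] at e
    exact e
  have hg₀N : g₀ ∈ Subgroup.normalizer (T : Set G) :=
    mem_normalizer_of_aut (α := β) (fun t => (h1 t).symm)
  -- powers of `g₀`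
  have h4 : ∀ (n : ℕ) (t : T), g₀ ^ n * (t : G) * (g₀ ^ n)⁻¹ = (((β ^ n) t : T) : G) := by
    intro n
    induction n with
    | zero => intro t; simp
    | succ n ih =>
      intro t
      have e : g₀ ^ (n + 1) * (t : G) * (g₀ ^ (n + 1))⁻¹ = g₀ * (g₀ ^ n * (t : G) * (g₀ ^ n)⁻¹) * g₀⁻¹ := by
        rw [pow_succ' g₀ n]
        group
      rw [e, ih t, h1, pow_succ' β n]
      rfl
  have hZT : ∀ z ∈ T ⊓ Subgroup.centralizer (T : Set G),
      g₀ * z * g₀⁻¹ ∈ T ⊓ Subgroup.centralizer (T : Set G) := by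
    rintro z ⟨hzT, hzC⟩
    refine ⟨(Subgroup.mem_normalizer_iff.1 hg₀N z).1 hzT, centralizer_conj_mem hg₀N hzC⟩
  have h8 : ∀ (n : ℕ), ∀ c ∈ centralizerIn (S : Subgroup G) T, c⁻¹ * (g₀ ^ n * c * (g₀ ^ n)⁻¹) ∈ T ⊓ Subgroup.centralizer (T : Set G) := by
    intro n
    induction n with
    | zero =>
      intro c _
      simpa using (T ⊓ Subgroup.centralizer (T : Set G)).one_mem
    | succ n ih =>
      intro c hc
      have e : c⁻¹ * (g₀ ^ (n + 1) * c * (g₀ ^ (n + 1))⁻¹) =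
          (c⁻¹ * (g₀ * c * g₀⁻¹)) * (g₀ * (c⁻¹ * (g₀ ^ n * c * (g₀ ^ n)⁻¹)) * g₀⁻¹) := by
        rw [pow_succ' g₀ n]
        group
      rw [e]
      exact (T ⊓ Subgroup.centralizer (T : Set G)).mul_mem (h2 c hc) (hZT _ (ih c hc))
  obtain ⟨a', a, hmul, -, ha'z, haz, ⟨k, hk⟩, hcop⟩ := Cfsg.Agent.Lib.Transfer.Basic.exists_pPart_decomp (p := p) g₀
  obtain ⟨n', rfl⟩ := (mem_powers_iff_mem_zpowers).2 ha'z
  obtain ⟨n, rfl⟩ := (mem_powers_iff_mem_zpowers).2 haz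
  -- the `p`-part centralizes `T`
  have hβ1 : β ^ n' = 1 := by
    have h5 : (β ^ n') ^ p ^ k = 1 := by
      ext t
      have e1 : (g₀ ^ n') ^ p ^ k = 1 := by
        rw [← hk]
        exact pow_orderOf_eq_one _
      have e2 := h4 (n' * p ^ k) t
      rw [pow_mul, e1, pow_mul] at e2
      simpa using e2.symm
    have h6 : orderOf (β ^ n') ∣ p ^ k := orderOf_dvd_of_pow_eq_one h5
    have h7 : orderOf (β ^ n') ∣ orderOf β := orderOf_dvd_of_pow_eq_one (by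
      rw [← pow_mul, mul_comm, pow_mul, pow_orderOf_eq_one, one_pow])
    have h8' : orderOf (β ^ n') ∣ 1 := by
      rw [← (hβc.pow_right k).gcd_eq_one]
      exact Nat.dvd_gcd h7 h6
    exact orderOf_eq_one_iff.1 (Nat.dvd_one.1 h8')
  have hanN : g₀ ^ n ∈ Subgroup.normalizer (T : Set G) := pow_mem hg₀N n
  have hact : ∀ t : T, ((β t : T) : G) = g₀ ^ n * (t : G) * (g₀ ^ n)⁻¹ := by
    intro t
    have e1 : g₀ ^ n' * ((g₀ ^ n * (t : G) * (g₀ ^ n)⁻¹)) * (g₀ ^ n')⁻¹ = g₀ ^ n * (t : G) * (g₀ ^ n)⁻¹ := by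
      have ht' : g₀ ^ n * (t : G) * (g₀ ^ n)⁻¹ ∈ T := (Subgroup.mem_normalizer_iff.1 hanN t).1 t.2
      have := h4 n' ⟨_, ht'⟩
      rw [hβ1] at this
      exact this
    have hmul' : g₀ ^ n' * g₀ ^ n = g₀ := hmul
    have e2 : g₀ * (t : G) * g₀⁻¹ = g₀ ^ n' * (g₀ ^ n * (t : G) * (g₀ ^ n)⁻¹) * (g₀ ^ n')⁻¹ := by
      conv_lhs => rw [← hmul']
      group
    rw [← h1, e2, e1]
  refine ⟨g₀ ^ n, hcop, hact, ?_⟩
  set a := g₀ ^ n with ha
  -- the action on `O_p(G)/R`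
  intro q hq
  have hqS : q ∈ (S : Subgroup G) := hQS hq
  have hqN : q ∈ Subgroup.normalizer (T : Set G) := normalizer_of_mem_S hsc hqS
  have hqN' : q⁻¹ ∈ Subgroup.normalizer (T : Set G) := Subgroup.inv_mem _ hqN
  set w := q⁻¹ * (a * q * a⁻¹) with hw
  have hwQ : w ∈ pCore p G :=
    (pCore p G).mul_mem ((pCore p G).inv_mem hq) (Subgroup.Normal.conj_mem inferInstance q hq a)
  have hwS : w ∈ (S : Subgroup G) := hQS hwQ
  -- `w` acts on `T` as an element of `Aut_E(T)`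
  let Aq : MulAut T := normConj q hqN
  have hAqF : ∀ u (hu : u ∈ (S : Subgroup G)),
      normConj u (normalizer_of_mem_S hsc hu) ∈ (groupFusionSystem (S : Subgroup G)).autGroup T := by
    intro u hu
    apply mem_autGroup_of_mem
    exact ⟨hTS, fun x => hTS (normConj u (normalizer_of_mem_S hsc hu) x).2, u, fun _ => rfl⟩
  let δ : MulAut T := (Aq⁻¹ * β * Aq) * β⁻¹
  have hδ : δ ∈ E.autGroup T := by
    refine (E.autGroup T).mul_mem ?_ ((E.autGroup T).inv_mem hβ)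
    have h5 := aut_conj_mem hE le_rfl (n := q⁻¹) (α := normConj q⁻¹ hqN')
      (hAqF q⁻¹ ((S : Subgroup G).inv_mem hqS)) (fun _ => rfl) (δ := normConj q⁻¹ hqN') (fun _ => rfl) hβ
    have e : Aq⁻¹ = normConj q⁻¹ hqN' := by
      ext x
      have : Aq (normConj q⁻¹ hqN' x) = x := by
        apply Subtype.ext
        show q * (q⁻¹ * (x : G) * q⁻¹⁻¹) * q⁻¹ = x
        group
      have h9 : Aq⁻¹ x = normConj q⁻¹ hqN' x := by
        calc Aq⁻¹ x = Aq⁻¹ (Aq (normConj q⁻¹ hqN' x)) := by rw [this]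
          _ = _ := MulAut.inv_apply_self _ _ _
      rw [h9]
    have e2 : Aq⁻¹ * β * Aq = normConj q⁻¹ hqN' * β * (normConj q⁻¹ hqN')⁻¹ := by
      rw [← e, inv_inv]
    rw [e2]
    exact h5
  have hwN : w ∈ Subgroup.normalizer (T : Set G) :=
    Subgroup.mul_mem _ hqN' (Subgroup.mul_mem _ (Subgroup.mul_mem _ hanN hqN) (Subgroup.inv_mem _ hanN))
  have hδw : ∀ x : T, ((δ x : T) : G) = w * x * w⁻¹ := by
    intro x
    have hy : ((β⁻¹ x : T) : G) = a⁻¹ * x * a := by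
      have e := hact (β⁻¹ x)
      rw [MulAut.apply_inv_self] at e
      rw [show (x : G) = a * ((β⁻¹ x : T) : G) * a⁻¹ from e]
      group
    have e1 : ((Aq (β⁻¹ x) : T) : G) = q * ((β⁻¹ x : T) : G) * q⁻¹ := rfl
    have e2 : ((β (Aq (β⁻¹ x)) : T) : G) = a * ((Aq (β⁻¹ x) : T) : G) * a⁻¹ := hact _
    have e3 : ∀ u : T, ((Aq⁻¹ u : T) : G) = q⁻¹ * u * q := by
      intro u
      have e := (show ((Aq (Aq⁻¹ u) : T) : G) = q * ((Aq⁻¹ u : T) : G) * q⁻¹ from rfl)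
      rw [MulAut.apply_inv_self] at e
      rw [show (u : G) = q * ((Aq⁻¹ u : T) : G) * q⁻¹ from e]
      group
    show ((Aq⁻¹ (β (Aq (β⁻¹ x))) : T) : G) = _
    rw [e3, e2, e1, hy, hw]
    group
  have hδp : ∃ e : ℕ, δ ^ p ^ e = 1 := by
    obtain ⟨e, he⟩ := hOp ⟨w, hwQ⟩
    have he' : w ^ p ^ e = 1 := congrArg Subtype.val he
    refine ⟨e, ?_⟩
    have hpow : ∀ (m : ℕ) (x : T), (((δ ^ m) x : T) : G) = w ^ m * x * (w ^ m)⁻¹ := by
      intro m
      induction m with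
      | zero => intro x; simp
      | succ m ih =>
        intro x
        rw [pow_succ', MulAut.mul_apply, hδw, ih, pow_succ' w m]
        group
    ext x
    rw [hpow, he']
    simp
  obtain ⟨e, he⟩ := hδp
  obtain ⟨t, ht, hte⟩ := p_elt_mem_inn hE hδ he
  -- so `w = t c` with `c ∈ centralizerIn (S : Subgroup G) T_S(T)`
  set c := t⁻¹ * w with hc
  have hcC : c ∈ centralizerIn (S : Subgroup G) T := by
    refine ⟨(S : Subgroup G).mul_mem ((S : Subgroup G).inv_mem (hTS ht)) hwS, Subgroup.mem_centralizer_iff.2 ?_⟩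
    intro x hx
    have e1 := hte ⟨x, hx⟩
    rw [hδw] at e1
    have e2 : w * x * w⁻¹ = t * x * t⁻¹ := e1
    have e3 : c * x * c⁻¹ = x := by
      rw [hc]
      calc t⁻¹ * w * x * (t⁻¹ * w)⁻¹ = t⁻¹ * (w * x * w⁻¹) * t := by group
        _ = x := by rw [e2]; group
    calc x * c = (c * x * c⁻¹) * c := by rw [e3]
      _ = c * x := by group
  have hwtc : w = t * c := by
    rw [hc]
    group
  -- `w` is central modulo `R`
  have hwa : w⁻¹ * (a * w * a⁻¹) ∈ R := by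
    have hz := h8 n c hcC
    set z := c⁻¹ * (a * c * a⁻¹) with hzdef
    have h5 : a * c * a⁻¹ = c * z := by
      rw [hzdef]
      group
    have hcc : Subgroup.centralizer (T : Set G) ≥ Subgroup.centralizer (T : Set G) := le_rfl
    have hct : ∀ x ∈ T, c⁻¹ * x * c = x := by
      intro x hx
      have := Subgroup.mem_centralizer_iff.1 hcC.2 x hx
      calc c⁻¹ * x * c = c⁻¹ * (x * c) := by group
        _ = c⁻¹ * (c * x) := by rw [this]
        _ = x := by group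
    have hatT : a * t * a⁻¹ ∈ T := (Subgroup.mem_normalizer_iff.1 hanN t).1 ht
    have e1 : w⁻¹ * (a * w * a⁻¹) = (c⁻¹ * (t⁻¹ * (a * t * a⁻¹)) * c) * z := by
      rw [hwtc]
      have e2 : a * (t * c) * a⁻¹ = (a * t * a⁻¹) * (a * c * a⁻¹) := by group
      rw [e2, h5]
      group
    have hTm : w⁻¹ * (a * w * a⁻¹) ∈ T := by
      rw [e1]
      refine T.mul_mem ?_ hz.1
      rw [hct _ (T.mul_mem (T.inv_mem ht) hatT)]
      exact T.mul_mem (T.inv_mem ht) hatT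
    rw [hR]
    exact ⟨hTm, (pCore p G).mul_mem ((pCore p G).inv_mem hwQ) (Subgroup.Normal.conj_mem inferInstance w hwQ a)⟩
  -- conclude in `G/R`
  let f := QuotientGroup.mk' R
  have hf1 : f a * f q * (f a)⁻¹ = f q * f w := by
    rw [← map_inv, ← map_mul, ← map_mul, ← map_mul]
    congr 1
    rw [hw]
    group
  have hf2 : f a * f w * (f a)⁻¹ = f w := by
    have h5 : f (w⁻¹ * (a * w * a⁻¹)) = 1 := by
      rw [← MonoidHom.mem_ker, QuotientGroup.ker_mk']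
      exact hwa
    rw [map_mul, map_mul, map_mul, map_inv, map_inv, inv_mul_eq_one] at h5
    exact h5.symm
  have hfc : Nat.Coprime (orderOf (f a)) p := Nat.Coprime.coprime_dvd_left (orderOf_map_dvd f a) hcop
  have hfw : ∃ e : ℕ, f w ^ p ^ e = 1 := by
    obtain ⟨e, he⟩ := hOp ⟨w, hwQ⟩
    have he' : w ^ p ^ e = 1 := congrArg Subtype.val he
    exact ⟨e, by rw [← map_pow, he', map_one]⟩
  have hw1 := comm_step hf1 hf2 hfc hfw
  rw [← MonoidHom.mem_ker, QuotientGroup.ker_mk'] at hw1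
  exact hw1

/-- Existence of the normal subgroup. -/
theorem exists_subgroup (hG : Subgroup.centralizer ((pCore p G : Subgroup G) : Set G) ≤ pCore p G)
    (hE : E.IsNormalIn (groupFusionSystem (S : Subgroup G)) p) :
    ∃ (H : Subgroup G) (hTH : T ≤ H), H.Normal ∧ (∃ R₁ : Sylow p H, (R₁ : Subgroup H) = T.subgroupOf H) ∧
      ∀ P : Subgroup G, E.Hom P = (fusionSystemOfSubgroup H T hTH).Hom P := by
  classical
  have hsc := hE.1.2.2.2.1
  have hTS : T ≤ (S : Subgroup G) := hsc.1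
  have hES : E.IsSaturated p := hE.1.1
  have hTp : IsPGroup p T := isPGroup_of_le_sylow S hTS
  have hQS : pCore p G ≤ (S : Subgroup G) := Cfsg.Agent.Lib.Basic.PCore.pCore_le_sylow S
  obtain ⟨R, hR⟩ : ∃ R, R = T ⊓ pCore p G := ⟨_, rfl⟩
  haveI hRn : R.Normal := hR ▸ normal_inf_pCore S hsc
  have hRT : R ≤ T := hR ▸ inf_le_left
  have hRQ : R ≤ pCore p G := hR ▸ inf_le_right
  have hTstab := le_stabQuot S hsc hR
  have hconjR : ∀ (g : G) (r : R), g * (r : G) * g⁻¹ ∈ R :=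
    fun g r => Subgroup.Normal.conj_mem inferInstance _ r.2 g
  -- the subgroup `H_*`
  haveI hΓn : ((E.autGroup R).comap (MulAut.conjNormal (H := R))).Normal := by
    constructor
    intro x hx g
    rw [Subgroup.mem_comap, map_mul, map_mul, map_inv]
    exact rho_conj_mem hE hRT g hx
  obtain ⟨Hs, hHs⟩ : ∃ Hs, Hs = stabQuot (pCore p G) R ⊓ (E.autGroup R).comap (MulAut.conjNormal (H := R)) :=
    ⟨_, rfl⟩
  haveI hHsn : Hs.Normal := by
    rw [hHs]
    infer_instance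
  have hHsS : Hs ≤ stabQuot (pCore p G) R := hHs ▸ inf_le_left
  have hHsρ : ∀ x ∈ Hs, MulAut.conjNormal (H := R) x ∈ E.autGroup R := fun x hx => by
    rw [hHs] at hx
    exact hx.2
  have hHsmem : ∀ x, x ∈ stabQuot (pCore p G) R → MulAut.conjNormal (H := R) x ∈ E.autGroup R → x ∈ Hs :=
    fun x h1 h2 => by
      rw [hHs]
      exact ⟨h1, h2⟩
  have hρT : ∀ t ∈ T, MulAut.conjNormal (H := R) t ∈ E.autGroup R := by
    intro t ht
    apply mem_autGroup_of_mem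
    refine mem_of_eq_res (E.conj_mem hRT ht) le_rfl (fun x => ?_)
    show ((MulAut.conjNormal (H := R) t x : R) : G) = t * (x : G) * t⁻¹
    exact MulAut.conjNormal_apply t x
  have hTHs : T ≤ Hs := fun t ht => hHsmem t (hTstab ht) (hρT t ht)
  -- the subgroup `D`
  obtain ⟨D, hD⟩ : ∃ D, D = stabQuot (pCore p G) R ⊓ Subgroup.centralizer (R : Set G) := ⟨_, rfl⟩
  have hDQ : D ≤ pCore p G := hD ▸ stab_le_pCore hG hRQ
  have hDHs : D ≤ Hs := by
    intro d hd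
    rw [hD] at hd
    refine hHsmem d hd.1 ?_
    have e : MulAut.conjNormal (H := R) d = 1 := by
      ext x
      show ((MulAut.conjNormal (H := R) d x : R) : G) = x
      rw [MulAut.conjNormal_apply]
      have := Subgroup.mem_centralizer_iff.1 hd.2 x x.2
      rw [← this]
      group
    rw [e]
    exact (E.autGroup R).one_mem
  -- the Sylow subgroup
  have hWp : IsPGroup p ((S : Subgroup G) ⊓ Hs : Subgroup G) := isPGroup_of_le_sylow S inf_le_left
  have hRfn : E.IsFullyNormalized R := by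
    refine ⟨hRT, ?_⟩
    rintro R' ⟨φ, hφ, hr⟩
    have hR' : R' = R := by
      rw [← hr]
      obtain ⟨g, hg⟩ := hom_conj hE hφ
      ext y
      constructor
      · rintro ⟨x, rfl⟩
        rw [hg]
        exact hconjR g x
      · intro hy
        refine ⟨⟨g⁻¹ * y * g, ?_⟩, ?_⟩
        · have := hconjR g⁻¹ ⟨y, hy⟩
          simpa using this
        · rw [hg]
          show g * (g⁻¹ * y * g) * g⁻¹ = y
          group
    rw [hR']
  obtain ⟨-, R₀, hR₀⟩ := (fullyNormalized_props hTp hES hRfn).2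
  have hrec := fullyNormalized_receptive hTp hES hRfn
  have hfinΓ : Finite (E.autGroup R) := finite_autGroup hRT
  have hsplit1 : ∀ w ∈ ((S : Subgroup G) ⊓ Hs : Subgroup G), ∃ t ∈ T, ∀ r : R, w * (r : G) * w⁻¹ = t * r * t⁻¹ := by
    let Y : Subgroup (E.autGroup R) :=
      (((S : Subgroup G) ⊓ Hs : Subgroup G).map (MulAut.conjNormal (H := R))).subgroupOf (E.autGroup R)
    have hYp : IsPGroup p Y :=
      (hWp.map (MulAut.conjNormal (H := R))).comap_of_injective _ (Subgroup.subtype_injective _)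
    have hR₀Y : (R₀ : Subgroup (E.autGroup R)) ≤ Y := by
      rw [hR₀]
      intro a ha
      rw [Subgroup.mem_subgroupOf] at ha
      obtain ⟨t, ht, hte⟩ := Cfsg.Agent.Lib.Fusion.Basic.mem_autInducedBy_iff.1 ha
      refine Subgroup.mem_subgroupOf.2 ⟨t, ⟨hTS ht, hTHs ht⟩, ?_⟩
      ext x
      show ((MulAut.conjNormal (H := R) t x : R) : G) = _
      rw [MulAut.conjNormal_apply, hte]
    have hYeq := R₀.is_maximal' hYp hR₀Y
    intro w hw
    have hwY : (⟨MulAut.conjNormal (H := R) w, hHsρ w hw.2⟩ : E.autGroup R) ∈ Y :=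
      Subgroup.mem_subgroupOf.2 ⟨w, hw, rfl⟩
    rw [hYeq, hR₀] at hwY
    obtain ⟨t, ht, hte⟩ := Cfsg.Agent.Lib.Fusion.Basic.mem_autInducedBy_iff.1 (Subgroup.mem_subgroupOf.1 hwY)
    refine ⟨t, ht, fun r => ?_⟩
    rw [← hte r]
    exact (MulAut.conjNormal_apply w r).symm
  have hsplit2 : ∀ w ∈ ((S : Subgroup G) ⊓ Hs : Subgroup G), ∃ t ∈ T, ∃ d ∈ D, w = t * d := by
    intro w hw
    obtain ⟨t, ht, hte⟩ := hsplit1 w hw
    refine ⟨t, ht, t⁻¹ * w, ?_, by group⟩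
    rw [hD]
    refine ⟨(stabQuot (pCore p G) R).mul_mem ((stabQuot (pCore p G) R).inv_mem (hTstab ht)) (hHsS hw.2), ?_⟩
    refine Subgroup.mem_centralizer_iff.2 (fun r hr => ?_)
    have h1 := hte ⟨r, hr⟩
    have h2 : w * r * w⁻¹ = t * r * t⁻¹ := h1
    have h3 : (t⁻¹ * w) * r * (t⁻¹ * w)⁻¹ = r := by
      calc (t⁻¹ * w) * r * (t⁻¹ * w)⁻¹ = t⁻¹ * (w * r * w⁻¹) * t := by group
        _ = r := by rw [h2]; group
    calc r * (t⁻¹ * w) = ((t⁻¹ * w) * r * (t⁻¹ * w)⁻¹) * (t⁻¹ * w) := by rw [h3]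
      _ = (t⁻¹ * w) * r := by group
  -- the transfer
  obtain ⟨R', hR'⟩ := isSylowIn_inf S Hs
  let 𝒯 : Set Hs := {x | ∃ (g : G), ∃ t ∈ T, (x : G) = g * t * g⁻¹}
  obtain ⟨L, hLn, hL𝒯, hLW, hLD, hLc⟩ := exists_ker_transfer (p := p)
    (((S : Subgroup G) ⊓ Hs : Subgroup G).subgroupOf Hs) (T.subgroupOf Hs) (D.subgroupOf Hs) 𝒯
    (hWp.comap_of_injective _ (Subgroup.subtype_injective _))
    (by rw [← hR']; exact R'.not_dvd_index)
    (fun t ht => Subgroup.mem_subgroupOf.2 ⟨hTS (Subgroup.mem_subgroupOf.1 ht), t.2⟩)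
    (fun d hd => Subgroup.mem_subgroupOf.2 ⟨hQS (hDQ (Subgroup.mem_subgroupOf.1 hd)), d.2⟩)
    (by
      intro w hw
      obtain ⟨t, ht, d, hd, he⟩ := hsplit2 w (Subgroup.mem_subgroupOf.1 hw)
      exact ⟨⟨t, hTHs ht⟩, Subgroup.mem_subgroupOf.2 ht, ⟨d, hDHs hd⟩, Subgroup.mem_subgroupOf.2 hd, Subtype.ext he⟩)
    (fun t ht => ⟨1, t, Subgroup.mem_subgroupOf.1 ht, by simp⟩)
    (by
      rintro x ⟨g, t, ht, hx⟩ b
      refine ⟨(b : G) * g, t, ht, ?_⟩
      show (b : G) * x * (b : G)⁻¹ = _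
      rw [hx]
      group)
    (by
      rintro x ⟨g, t, ht, hx⟩ k
      refine ⟨g, t ^ k, T.pow_mem ht k, ?_⟩
      show (x : G) ^ k = _
      rw [hx, conj_pow])
    (by
      rintro x ⟨g, t, ht, hx⟩ hxW
      have h1 : g * t * g⁻¹ ∈ (S : Subgroup G) := by
        rw [← hx]
        exact (Subgroup.mem_subgroupOf.1 hxW).1
      refine Subgroup.mem_subgroupOf.2 ?_
      rw [hx]
      exact conj_mem_of_sc hsc ht h1)
    (by
      intro d hd b
      have h1 : (d : G) ∈ D := Subgroup.mem_subgroupOf.1 hd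
      refine Subgroup.mem_subgroupOf.2 (hRT ?_)
      exact hHsS b.2 _ (hDQ h1))
  -- the normal subgroup
  let H : Subgroup G := L.map Hs.subtype
  have hHmem : ∀ (x : G) (hx : x ∈ Hs), x ∈ H ↔ (⟨x, hx⟩ : Hs) ∈ L := by
    intro x hx
    constructor
    · rintro ⟨y, hy, rfl⟩
      exact hy
    · intro h
      exact ⟨_, h, rfl⟩
  have hHHs : H ≤ Hs := Subgroup.map_subtype_le _
  have hconjT : ∀ (g t : G), t ∈ T → g * t * g⁻¹ ∈ H := by
    intro g t ht
    have h1 : g * t * g⁻¹ ∈ Hs := hHsn.conj_mem t (hTHs ht) g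
    exact (hHmem _ h1).2 (hL𝒯 _ ⟨g, t, ht, rfl⟩)
  have hTH : T ≤ H := by
    intro t ht
    have := hconjT 1 t ht
    simpa using this
  have hcopH : ∀ x ∈ Hs, Nat.Coprime (orderOf x) p → x ∈ H := by
    intro x hx hc
    refine (hHmem x hx).2 (hLc _ ?_)
    rwa [Subgroup.orderOf_mk]
  have hHST : ∀ x ∈ H, x ∈ (S : Subgroup G) → x ∈ T := by
    intro x hx hxS
    have h1 := (hHmem x (hHHs hx)).1 hx
    exact Subgroup.mem_subgroupOf.1 (hLW _ (Subgroup.mem_subgroupOf.2 ⟨hxS, hHHs hx⟩) h1)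
  haveI hHn : H.Normal := by
    constructor
    intro x hx g
    have hxHs := hHHs hx
    have hxL := (hHmem x hxHs).1 hx
    obtain ⟨a, b, hab, -, ha, hb, ⟨k, hk⟩, hbc⟩ :=
      Cfsg.Agent.Lib.Transfer.Basic.exists_pPart_decomp (p := p) x
    have haH : a ∈ H := (Subgroup.zpowers_le.2 hx) ha
    have hbH : b ∈ H := (Subgroup.zpowers_le.2 hx) hb
    have hab' : g * x * g⁻¹ = (g * a * g⁻¹) * (g * b * g⁻¹) := by
      rw [← hab]
      group
    rw [hab']
    refine H.mul_mem ?_ ?_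
    · -- the `p`-part
      have hzp : IsPGroup p (Subgroup.zpowers a) := IsPGroup.of_card (n := k) (by rw [Nat.card_zpowers]; exact hk)
      have hzle : Subgroup.zpowers a ≤ Hs := Subgroup.zpowers_le.2 (hHHs haH)
      obtain ⟨n, hn, hnle⟩ := (isSylowIn_inf S Hs).exists_conj_le hzle hzp
      have h1 : n * a * n⁻¹ ∈ (S : Subgroup G) ⊓ Hs := cj_le_iff.1 hnle a (Subgroup.mem_zpowers a)
      have h2 : n * a * n⁻¹ ∈ H := by
        have hnL : (⟨n, hn⟩ : Hs) * ⟨a, hHHs haH⟩ * (⟨n, hn⟩ : Hs)⁻¹ ∈ L :=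
          hLn.conj_mem _ ((hHmem a (hHHs haH)).1 haH) _
        exact (hHmem _ h1.2).2 hnL
      have h3 : n * a * n⁻¹ ∈ T := hHST _ h2 h1.1
      have h4 := hconjT (g * n⁻¹) _ h3
      have e : g * n⁻¹ * (n * a * n⁻¹) * (g * n⁻¹)⁻¹ = g * a * g⁻¹ := by group
      rwa [e] at h4
    · refine hcopH _ (hHsn.conj_mem b (hHHs hbH) g) ?_
      rw [Cfsg.Agent.Lib.Transfer.Basic.orderOf_conj_eq]
      exact hbc
  -- `T` is Sylow in `H`
  have hST : (S : Subgroup G) ⊓ H = T := by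
    apply le_antisymm
    · rintro x ⟨h1, h2⟩
      exact hHST x h2 h1
    · exact le_inf hTS hTH
  have hTsyl : ∃ R₁ : Sylow p H, (R₁ : Subgroup H) = T.subgroupOf H := by
    have := isSylowIn_inf S H
    rwa [hST] at this
  -- automorphisms of `T`
  have htop : ∀ α ∈ E.autGroup T, ∃ h ∈ H, ∀ t : T, ((α t : T) : G) = h * t * h⁻¹ := by
    intro α hα
    obtain ⟨a, b, hab, -, ha, hb, ⟨k, hk⟩, hbc⟩ :=
      Cfsg.Agent.Lib.Transfer.Basic.exists_pPart_decomp (p := p) α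
    have haE : a ∈ E.autGroup T := (Subgroup.zpowers_le.2 hα) ha
    have hbE : b ∈ E.autGroup T := (Subgroup.zpowers_le.2 hα) hb
    obtain ⟨t, ht, hte⟩ := p_elt_mem_inn hE haE (e := k) (by rw [← hk]; exact pow_orderOf_eq_one _)
    obtain ⟨a₁, ha₁c, ha₁e, ha₁s⟩ := lift_coprime hE hR hbE hbc
    have ha₁H : a₁ ∈ H := by
      refine hcopH _ (hHsmem a₁ ha₁s ?_) ha₁c
      apply mem_autGroup_of_mem
      have hb₀ := autGroup_mem_hom le_rfl hbE
      refine mem_of_eq_res hb₀ hRT (fun x => ?_)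
      show ((MulAut.conjNormal (H := R) a₁ x : R) : G) = ((b (Subgroup.inclusion hRT x) : T) : G)
      rw [MulAut.conjNormal_apply, ha₁e]
      rfl
    refine ⟨t * a₁, H.mul_mem (hTH ht) ha₁H, fun x => ?_⟩
    rw [← hab]
    show ((a (b x) : T) : G) = _
    rw [hte, ha₁e]
    group
  have hEH : ∀ {P : Subgroup G} {φ : P →* G}, φ ∈ E.Hom P → ∃ h ∈ H, ∀ x : P, φ x = h * x * h⁻¹ :=
    fun hφ => hom_conj_of_aut_top hTp hES (fun P φ hφ => hom_conj hE hφ) H hTH htop hφ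
  refine ⟨H, hTH, hHn, hTsyl, fun P => ?_⟩
  ext φ
  constructor
  · intro hφ
    obtain ⟨h, hh, he⟩ := hEH hφ
    exact ⟨source_le hφ, map_mem_S hφ, h, hh, he⟩
  · rintro ⟨hPT, hv, h, hh, he⟩
    -- the direction `F_T(H) ≤ E`
    let ψR : R →* G := R.subtype.comp (MulAut.conjNormal (H := R) h).toMonoidHom
    have hψR : ψR ∈ E.Hom R := autGroup_mem_hom hRT (hHsρ h (hHHs hh))
    have hψRv : ∀ r : R, ψR r = h * r * h⁻¹ := fun r => MulAut.conjNormal_apply h r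
    have hψRr : ψR.range = R := by
      ext y
      constructor
      · rintro ⟨x, rfl⟩
        exact (MulAut.conjNormal (H := R) h x).2
      · intro hy
        exact ⟨(MulAut.conjNormal (H := R) h)⁻¹ ⟨y, hy⟩, by simp [ψR]⟩
    obtain ⟨ψh, hψh, hag⟩ := hrec.2 R ψR hψR hψRr
    have hU : P ⊔ R ≤ T := sup_le hPT hRT
    have hY : P ⊔ R ≤ T.comap (MulAut.conj h).toMonoidHom := by
      refine sup_le (fun x hx => ?_) (fun x hx => ?_)
      · show h * x * h⁻¹ ∈ T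
        rw [← he ⟨x, hx⟩]
        exact hv _
      · exact hRT (hconjR h ⟨x, hx⟩)
    have hUext : P ⊔ R ≤ extender T R ψR := by
      intro x hx
      refine extender_closure_mem (hU hx) ?_ (hY hx) (fun r hr => ?_)
      · exact (Subgroup.normalizer_eq_top (H := R)) ▸ Subgroup.mem_top x
      · rw [hψRv]
        simp only [hψRv]
        show h * (x * (r : G) * x⁻¹) * h⁻¹ = (MulAut.conj h).toMonoidHom x * _ * ((MulAut.conj h).toMonoidHom x)⁻¹
        simp [MulAut.conj_apply]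
        group
    let α : ↥(P ⊔ R) →* G := ψh.comp (Subgroup.inclusion hUext)
    have hα : α ∈ E.Hom (P ⊔ R) := res_mem hψh hUext
    obtain ⟨h₁, hh₁, hh₁e⟩ := hEH hα
    set z := h₁⁻¹ * h with hz
    have hzH : z ∈ H := H.mul_mem (H.inv_mem hh₁) hh
    have hzcent : z ∈ Subgroup.centralizer (R : Set G) := by
      refine Subgroup.mem_centralizer_iff.2 (fun r hr => ?_)
      have hrU : r ∈ P ⊔ R := Subgroup.mem_sup_right hr
      have e1 := hh₁e ⟨r, hrU⟩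
      have e2 : α ⟨r, hrU⟩ = ψR ⟨r, hr⟩ := hag r hr (hUext hrU)
      rw [e2, hψRv] at e1
      have e3 : h * r * h⁻¹ = h₁ * r * h₁⁻¹ := e1
      have e4 : z * r * z⁻¹ = r := by
        rw [hz]
        calc h₁⁻¹ * h * r * (h₁⁻¹ * h)⁻¹ = h₁⁻¹ * (h * r * h⁻¹) * h₁ := by group
          _ = r := by rw [e3]; group
      calc r * z = (z * r * z⁻¹) * z := by rw [e4]
        _ = z * r := by group
    have hzD : z ∈ D := by
      rw [hD]
      exact ⟨hHsS (hHHs hzH), hzcent⟩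
    have hzT : z ∈ T := hHST z hzH (hQS (hDQ hzD))
    have hval : ∀ x : P, conjHom P z x ∈ P ⊔ R := by
      intro x
      show z * (x : G) * z⁻¹ ∈ P ⊔ R
      have e1 : z * (x : G) * z⁻¹ = (z * (x : G) * z⁻¹ * (x : G)⁻¹) * x := by group
      rw [e1]
      refine (P ⊔ R).mul_mem (Subgroup.mem_sup_right ?_) (Subgroup.mem_sup_left x.2)
      have h1 := hTstab (hPT x.2) z⁻¹ ((pCore p G).inv_mem (hDQ hzD))
      have e2 : z * (x : G) * z⁻¹ * (x : G)⁻¹ = z⁻¹⁻¹ * (x * z⁻¹ * (x : G)⁻¹) := by group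
      rw [e2]
      exact h1
    refine comp_mem' (E.conj_mem hPT hzT) hα hval (fun x => ?_)
    rw [he, hh₁e]
    show h * (x : G) * h⁻¹ = h₁ * (z * (x : G) * z⁻¹) * h₁⁻¹
    rw [hz]
    group

/-- Two normal subgroups with the same fusion system on a common Sylow subgroup coincide (one inclusion). -/
theorem le_of_same_system (hG : Subgroup.centralizer ((pCore p G : Subgroup G) : Set G) ≤ pCore p G)
    (hsc : (groupFusionSystem (S : Subgroup G)).StronglyClosed T) {H₁ H₂ : Subgroup G} [hH₁ : H₁.Normal]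
    [hH₂ : H₂.Normal] (h₁ : T ≤ H₁) (h₂ : T ≤ H₂) (hS₁ : IsSylowIn p T H₁) (hS₂ : IsSylowIn p T H₂)
    (heq : ∀ P : Subgroup G, (fusionSystemOfSubgroup H₁ T h₁).Hom P = (fusionSystemOfSubgroup H₂ T h₂).Hom P) :
    H₁ ≤ H₂ := by
  classical
  have hTS : T ≤ (S : Subgroup G) := hsc.1
  have hQS : pCore p G ≤ (S : Subgroup G) := Cfsg.Agent.Lib.Basic.PCore.pCore_le_sylow S
  have hOp : IsPGroup p (pCore p G) := Cfsg.Agent.Lib.Basic.PCore.pCore_isPGroup p
  have hst : ∀ (H : Subgroup G), T ≤ H → IsSylowIn p T H → (S : Subgroup G) ⊓ H = T := by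
    intro H hTH hsyl
    symm
    apply Subgroup.eq_of_le_of_card_ge (le_inf hTS hTH)
    exact ((isSylowIn_iff_card hTH).1 hsyl).2 _ inf_le_right (isPGroup_of_le_sylow S inf_le_left)
  obtain ⟨R, hR⟩ : ∃ R, R = T ⊓ pCore p G := ⟨_, rfl⟩
  haveI hRn : R.Normal := hR ▸ normal_inf_pCore S hsc
  have hRT : R ≤ T := hR ▸ inf_le_left
  have hRQ : R ≤ pCore p G := hR ▸ inf_le_right
  have hconjR : ∀ (g : G) (r : R), g * (r : G) * g⁻¹ ∈ R :=
    fun g r => Subgroup.Normal.conj_mem inferInstance _ r.2 g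
  have hstab : ∀ (H : Subgroup G) [H.Normal], T ≤ H → IsSylowIn p T H → H ≤ stabQuot (pCore p G) R := by
    intro H hHn hTH hsyl h hh q hq
    have h1 : q⁻¹ * (h * q * h⁻¹) ∈ pCore p G :=
      (pCore p G).mul_mem ((pCore p G).inv_mem hq) (Subgroup.Normal.conj_mem inferInstance q hq h)
    have h2 : q⁻¹ * (h * q * h⁻¹) ∈ H := by
      have e : q⁻¹ * (h * q * h⁻¹) = (q⁻¹ * h * q⁻¹⁻¹) * h⁻¹ := by group
      rw [e]
      exact H.mul_mem (hHn.conj_mem h hh q⁻¹) (H.inv_mem hh)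
    have h3 : q⁻¹ * (h * q * h⁻¹) ∈ T := by
      rw [← hst H hTH hsyl]
      exact ⟨hQS h1, h2⟩
    rw [hR]
    exact ⟨h3, h1⟩
  intro h hh
  obtain ⟨a, b, hab, -, ha, hb, ⟨k, hk⟩, hbc⟩ := Cfsg.Agent.Lib.Transfer.Basic.exists_pPart_decomp (p := p) h
  rw [← hab]
  have haH : a ∈ H₁ := (Subgroup.zpowers_le.2 hh) ha
  have hbH : b ∈ H₁ := (Subgroup.zpowers_le.2 hh) hb
  refine H₂.mul_mem ?_ ?_
  · have hzp : IsPGroup p (Subgroup.zpowers a) := IsPGroup.of_card (n := k) (by rw [Nat.card_zpowers]; exact hk)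
    obtain ⟨n, -, hnle⟩ := hS₁.exists_conj_le (Subgroup.zpowers_le.2 haH) hzp
    have h1 : n * a * n⁻¹ ∈ T := cj_le_iff.1 hnle a (Subgroup.mem_zpowers a)
    have h2 := hH₂.conj_mem _ (h₂ h1) n⁻¹
    have e : n⁻¹ * (n * a * n⁻¹) * n⁻¹⁻¹ = a := by group
    rwa [e] at h2
  · have hφ : conjHom R b ∈ (fusionSystemOfSubgroup H₁ T h₁).Hom R :=
      ⟨hRT, fun x => hRT (hconjR b x), b, hbH, fun _ => rfl⟩
    rw [heq] at hφ
    obtain ⟨-, -, b₂, hb₂, he⟩ := hφ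
    have hn : b₂⁻¹ * b ∈ stabQuot (pCore p G) R ⊓ Subgroup.centralizer (R : Set G) := by
      refine ⟨(stabQuot (pCore p G) R).mul_mem ((stabQuot (pCore p G) R).inv_mem (hstab H₂ h₂ hS₂ hb₂))
        (hstab H₁ h₁ hS₁ hbH), Subgroup.mem_centralizer_iff.2 (fun r hr => ?_)⟩
      have e1 : b * r * b⁻¹ = b₂ * r * b₂⁻¹ := he ⟨r, hr⟩
      have e2 : (b₂⁻¹ * b) * r * (b₂⁻¹ * b)⁻¹ = r := by
        calc (b₂⁻¹ * b) * r * (b₂⁻¹ * b)⁻¹ = b₂⁻¹ * (b * r * b⁻¹) * b₂ := by group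
          _ = r := by rw [e1]; group
      calc r * (b₂⁻¹ * b) = ((b₂⁻¹ * b) * r * (b₂⁻¹ * b)⁻¹) * (b₂⁻¹ * b) := by rw [e2]
        _ = (b₂⁻¹ * b) * r := by group
    have hnQ := stab_le_pCore hG hRQ hn
    obtain ⟨e, he'⟩ := hOp ⟨_, hnQ⟩
    have he'' : (b₂⁻¹ * b) ^ p ^ e = 1 := congrArg Subtype.val he'
    let f := QuotientGroup.mk' H₂
    have hfb₂ : f b₂ = 1 := by
      rw [← MonoidHom.mem_ker, QuotientGroup.ker_mk']
      exact hb₂
    have hfb : f b ^ p ^ e = 1 := by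
      have := congrArg f he''
      rwa [map_pow, map_mul, map_inv, hfb₂, inv_one, one_mul, map_one] at this
    have h5 : orderOf (f b) ∣ p ^ e := orderOf_dvd_of_pow_eq_one hfb
    have h6 : orderOf (f b) ∣ orderOf b := orderOf_map_dvd f b
    have h7 : orderOf (f b) ∣ 1 := by
      rw [← (hbc.pow_right e).gcd_eq_one]
      exact Nat.dvd_gcd h6 h5
    have h8 : f b = 1 := orderOf_eq_one_iff.1 (Nat.dvd_one.1 h7)
    rw [← MonoidHom.mem_ker, QuotientGroup.ker_mk'] at h8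
    exact h8

/-- **Normal subsystems of the fusion system of a strictly `p`-constrained group.** -/
theorem existsUnique_subgroup (hG : Subgroup.centralizer ((pCore p G : Subgroup G) : Set G) ≤ pCore p G)
    (hE : E.IsNormalIn (groupFusionSystem (S : Subgroup G)) p) :
    ∃ H : Subgroup G, (∃ hTH : T ≤ H, H.Normal ∧ (∃ R : Sylow p H, (R : Subgroup H) = T.subgroupOf H) ∧
      ∀ P : Subgroup G, E.Hom P = (fusionSystemOfSubgroup H T hTH).Hom P) ∧
      ∀ H' : Subgroup G, (∃ hTH' : T ≤ H', H'.Normal ∧ (∃ R : Sylow p H', (R : Subgroup H') = T.subgroupOf H') ∧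
        ∀ P : Subgroup G, E.Hom P = (fusionSystemOfSubgroup H' T hTH').Hom P) → H' = H := by
  obtain ⟨H, hTH, hHn, hsyl, heq⟩ := exists_subgroup hG hE
  refine ⟨H, ⟨hTH, hHn, hsyl, heq⟩, ?_⟩
  rintro H' ⟨hTH', hH'n, hsyl', heq'⟩
  have hsc := hE.1.2.2.2.1
  haveI := hHn
  haveI := hH'n
  apply le_antisymm
  · exact le_of_same_system hG hsc hTH' hTH hsyl' hsyl (fun P => by rw [← heq, ← heq'])
  · exact le_of_same_system hG hsc hTH hTH' hsyl hsyl' (fun P => by rw [← heq, ← heq'])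

end Main

end Cfsg.Agent.Lib.Fusion.NormalModel
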