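/-
Lifting a normal subsystem along a central quotient: the local analysis.
-/
import Mathlib
import Cfsg.Agent.Lib.Fusion.CLift2
import Cfsg.Agent.Lib.Fusion.NormalModel
import Cfsg.Agent.Lib.Fusion.GroupNormal

set_option autoImplicit false
set_option linter.style.haveILetI false
set_option linter.unusedSectionVars false

namespace Cfsg.Agent.Lib.Fusion.CLift

open Cfsg Cfsg.FusionSystem Cfsg.Agent.Lib.Fusion.Basic Cfsg.Agent.Lib.Fusion.Saturated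
open Cfsg.Agent.Lib.Fusion.Saturated2 (autOfHom autOfHom_mem)
open Cfsg.Agent.Lib.Fusion.LocalSystems (map_mem_sup_of_ext)
open Cfsg.Agent.Lib.Fusion.Joins (exists_hom_of_eq)
open Cfsg.Agent.Lib.Fusion.NormalPair (stronglyClosed_apply)
open Cfsg.Agent.Lib.Fusion.NormalCR
open Cfsg.Agent.Lib.Fusion.GoodLift
open Cfsg.Agent.Lib.Fusion.CLiftG
open Cfsg.Agent.Lib.Fusion.FactorMorphism
open Cfsg.Agent.Lib.Fusion.Image (toImage toImage_surjective)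

variable {Ω : Type*} [Group Ω] {S Z T : Subgroup Ω} {Ω' : Type*} [Group Ω'] {S' T' : Subgroup Ω'}
variable {F : FusionSystem S} {θ : S →* Ω'} {Fb : FusionSystem S'} {Nb : FusionSystem T'} {p : ℕ}
variable [Finite S] [hp : Fact p.Prime] (c : Ctx p F Z T θ Fb Nb) {P P₁ : Subgroup Ω}

/-- The family `ℋ`. -/
def Hs (_c : Ctx p F Z T θ Fb Nb) (P : Subgroup Ω) : Prop := Z ≤ P ∧ P ≤ T ∧ Nb.IsCentric (imageAlong θ P)

include c

/-- A subgroup containing `Z` stays so under maps. -/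
theorem le_range (hZP : Z ≤ P) {χ : P →* Ω} (hχ : χ ∈ F.Hom P) : Z ≤ χ.range := fun z hz =>
  ⟨⟨z, hZP hz⟩, central_fix c.hZ hχ ⟨z, hZP hz⟩ hz⟩

theorem range_le_T (hPT : P ≤ T) {χ : P →* Ω} (hχ : χ ∈ F.Hom P) : χ.range ≤ T := by
  rintro _ ⟨x, rfl⟩
  exact c.hTsc.2 P hPT χ hχ x

theorem Hs.of_map (h : Hs c P) {χ : P →* Ω} (hχ : χ ∈ F.Hom P) (hr : χ.range = P₁) : Hs c P₁ := by
  subst hr
  refine ⟨le_range c h.1 hχ, range_le_T c h.2.1 hχ, ?_⟩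
  obtain ⟨χ', hχ', hind⟩ := c.hmor.2 P χ hχ
  haveI := c.finS'
  exact isCentric_transport c.hinvN h.2.2 hχ' (range_eq_image c hind)

theorem Hs.mono (h : Hs c P) {Q : Subgroup Ω} (hPQ : P ≤ Q) (hQT : Q ≤ T) : Hs c Q := by
  refine ⟨h.1.trans hPQ, hQT, ?_⟩
  refine Cfsg.Agent.Lib.Fusion.Centric.isCentric_of_le h.2.2 ?_ (c.image_le_T' hQT)
  rintro _ ⟨s, hs, rfl⟩
  exact ⟨s, hPQ hs, rfl⟩

theorem hs_top : Hs c T := by
  haveI := c.finT'
  have himg : imageAlong θ T = T' := by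
    rw [c.hT]
    apply Cfsg.Agent.Lib.Fusion.Image.image_preimage_eq
    rw [c.hrange]
    exact c.hT'S'
  refine ⟨c.hZT, le_rfl, ?_⟩
  rw [himg]
  refine ⟨le_rfl, fun Q hQ => ?_⟩
  have hQT := Basic.IsConj.le_right hQ
  have : Q = T' := Subgroup.eq_of_le_of_card_ge hQT (Basic.IsConj.card_eq hQ).le
  rw [this]
  exact inf_le_left

/-- `II(P) ≤ J`. -/
theorem IIset_le_J (hZP : Z ≤ P) (hPT : P ≤ T) {γ : MulAut P} (hγ : γ ∈ IIset F T P) : γ ∈ (JJ c).autGroup P := by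
  classical
  obtain ⟨χ, hχ, t, ht, htN, hv⟩ := hγ
  let e : P ≃* χ.range := isoOfRange (F.injective_of_mem hχ) rfl
  have he : ∀ x : P, ((e x : χ.range) : Ω) = χ x := fun _ => rfl
  have hrT := range_le_T c hPT hχ
  have h1 : normConj t htN ∈ (JJ c).autGroup χ.range :=
    autInducedBy_le_autGroup hrT (normConj_mem_autInducedBy ht htN)
  have h2 := congr_mem_J c (le_range c hZP hχ) hrT (symm_mem c hχ e he) e.symm (fun _ => rfl) h1
  have h3 : MulAut.congr e.symm (normConj t htN) = γ := by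
    ext x
    have h4 : e (γ x) = normConj t htN (e x) := Subtype.ext (hv x)
    have h5 : γ x = e.symm (normConj t htN (e x)) := by
      rw [← h4]
      simp
    rw [h5]
    rfl
  rw [h3] at h2
  exact h2

theorem MM_le_J (hZP : Z ≤ P) (hPT : P ≤ T) : MM c P ≤ (JJ c).autGroup P := by
  refine (Subgroup.closure_le _).2 ?_
  rintro a (⟨ha, -⟩ | ha)
  · exact ha
  · exact IIset_le_J c hZP hPT ha

/-- `Aut_T(P)` is in `M(P)`. -/
theorem autT_le_MM (hPT : P ≤ T) : autInducedBy T P ≤ MM c P := by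
  intro a ha
  obtain ⟨t, ht, hv⟩ := mem_autInducedBy_iff.1 ha
  refine Subgroup.subset_closure (Or.inr ⟨P.subtype, subtype_mem (hPT.trans c.hTS), t, ht, ?_, hv⟩)
  rw [Subgroup.range_subtype]
  exact mem_normalizer_of_aut hv

/-! ### Reductions -/

/-- Lift of a map of `Fb` on the image of `P`. -/
theorem exists_lift_Fb (hZP : Z ≤ P) (hPS : P ≤ S) {φ' : imageAlong θ P →* Ω'} (hφ' : φ' ∈ Fb.Hom (imageAlong θ P)) :
    ∃ φ ∈ F.Hom P, InducedAlong θ φ φ' := by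
  obtain ⟨-, φ₀, hφ₀, hP0, hv, hmem, he⟩ := (c.hiff _ _).1 hφ'
  have hpi := c.preimage_image_eq' hZP hPS
  obtain ⟨φ, hφ, hφe⟩ := exists_hom_of_eq F hpi φ₀ hφ₀
  have hx1 : ∀ x : P, (x : Ω) ∈ preimageAlong θ (imageAlong θ P) := fun x => hpi.ge x.2
  refine ⟨φ, hφ, hPS, map_mem_S hφ, fun x => ⟨⟨x, hPS x.2⟩, x.2, rfl⟩, fun x => ?_⟩
  have h1 := he ⟨x, hx1 x⟩
  have e1 : (⟨φ x, map_mem_S hφ x⟩ : S) = ⟨φ₀ ⟨x, hx1 x⟩, hv _⟩ := Subtype.ext (hφe x (hx1 x) x.2)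
  rw [e1]
  exact h1

/-- Lift of a map of `Nb` on the image of `P` to a map in `J`. -/
theorem exists_lift_Nb (hZP : Z ≤ P) (hPT : P ≤ T) {φ' : imageAlong θ P →* Ω'} (hφ' : φ' ∈ Nb.Hom (imageAlong θ P)) :
    ∃ φ ∈ (JJ c).Hom P, InducedAlong θ φ φ' := by
  have hPS : P ≤ S := hPT.trans c.hTS
  obtain ⟨φ, hφ, hind⟩ := exists_lift_Fb c hZP hPS (c.hinvN.1 _ hφ')
  refine ⟨φ, ⟨hφ, hPT, fun x => ?_, φ', hφ', hind⟩, hind⟩
  obtain ⟨hP0, hv, hmem, he⟩ := hind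
  refine c.mem_T.2 ⟨hv x, ?_⟩
  rw [← he x]
  exact (Nb.le_of_mem hφ').2 _

/-- `F`-fully normalized implies fully normalized downstairs. -/
theorem image_FN_Fb (hZP : Z ≤ P) (hFN : F.IsFullyNormalized P) : Fb.IsFullyNormalized (imageAlong θ P) := by
  classical
  have hPS := hFN.1
  have hI : imageAlong θ P ≤ S' := by
    rw [← c.hrange]
    rintro _ ⟨s, -, rfl⟩
    exact ⟨s, rfl⟩
  refine ⟨hI, ?_⟩
  rintro Q' ⟨φ', hφ', rfl⟩
  obtain ⟨φ, hφ, hind⟩ := exists_lift_Fb c hZP hPS hφ'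
  have h1 := hFN.2 φ.range ⟨φ, hφ, rfl⟩
  have hrS := range_le hφ
  rw [QdFreeFactor.card_normalizerIn_eq c.hZS c.hker c.hrange (le_range c hZP hφ) hrS,
    QdFreeFactor.card_normalizerIn_eq c.hZS c.hker c.hrange hZP hPS, ← range_eq_image c hind] at h1
  haveI : Finite Z := finite_of_le c.hZS
  have hZpos : 0 < Nat.card Z := Nat.card_pos
  exact Nat.le_of_mul_le_mul_left h1 hZpos

theorem image_FN_Nb (hZP : Z ≤ P) (hPT : P ≤ T) (hFN : F.IsFullyNormalized P) : Nb.IsFullyNormalized (imageAlong θ P) := by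
  haveI := c.finS'
  exact isFullyNormalized_sub c.hS' c.hFb c.hinvN (c.image_le_T' hPT) (image_FN_Fb c hZP hFN)

/-! ### Local structure at a fully normalized subgroup -/

/-- `K(P) ≤ Aut_S(P)`. -/
theorem IsK.mem_autInduced (hFN : F.IsFullyNormalized P) {k : MulAut P} (h : IsK F Z P k) : k ∈ autInducedBy S P := by
  have hPS := hFN.1
  exact mem_autInduced_of_normal c.hS c.hF hFN (DeltaK F Z P) (DeltaK_normal c.hZsc hPS) (isPGroup_DeltaK c.hS hPS)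
    ((isK_iff c hPS h.1).2 h)

/-- Splitting of `Aut_S(P) ∩ A(P)`. -/
theorem split_autS (hZP : Z ≤ P) (hPT : P ≤ T) (hFN : F.IsFullyNormalized P) {w : MulAut P} (hwJ : w ∈ (JJ c).autGroup P)
    (hwS : w ∈ autInducedBy S P) : ∃ t₀ ∈ autInducedBy T P, ∃ d, IsK F Z P d ∧ w = t₀ * d := by
  classical
  have hPS := hFN.1
  haveI := c.finS'
  haveI := c.finT'
  obtain ⟨s, hs, hsv⟩ := mem_autInducedBy_iff.1 hwS
  obtain ⟨b, hb, hbe⟩ := exists_red c hPT hwJ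
  have hIT := c.image_le_T' hPT
  haveI : Finite (Nb.autGroup (imageAlong θ P)) := finite_autGroup hIT
  haveI := finImage c hPS
  obtain ⟨-, R, hR⟩ := (fullyNormalized_props c.hT'p c.hNs (image_FN_Nb c hZP hPT hFN)).2
  -- `b` is induced by `θ s`
  have hsN : ∀ y : imageAlong θ P, ((b y : imageAlong θ P) : Ω') = θ ⟨s, hs⟩ * y * (θ ⟨s, hs⟩)⁻¹ := by
    intro y
    obtain ⟨x, rfl⟩ := toImage_surjective (α := θ) hPS y
    rw [hbe]
    show θ ⟨((w x : P) : Ω), _⟩ = θ ⟨s, hs⟩ * θ ⟨x, _⟩ * (θ ⟨s, hs⟩)⁻¹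
    rw [← map_inv, ← map_mul, ← map_mul]
    congr 1
    exact Subtype.ext (hsv x)
  have hQp : IsPGroup p ((autInducedBy S' (imageAlong θ P)).subgroupOf (Nb.autGroup (imageAlong θ P))) :=
    (isPGroup_autInducedBy c.hS' _).comap_of_injective _ (Subgroup.subtype_injective _)
  have hRQ : (R : Subgroup (Nb.autGroup (imageAlong θ P))) ≤
      (autInducedBy S' (imageAlong θ P)).subgroupOf (Nb.autGroup (imageAlong θ P)) := by
    rw [hR]
    intro x hx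
    obtain ⟨g, hg, hgv⟩ := mem_autInducedBy_iff.1 (Subgroup.mem_subgroupOf.1 hx)
    exact Subgroup.mem_subgroupOf.2 (mem_autInducedBy_iff.2 ⟨g, c.hT'S' hg, hgv⟩)
  have hmax := R.is_maximal' hQp hRQ
  have hbS : (⟨b, hb⟩ : Nb.autGroup (imageAlong θ P)) ∈
      (autInducedBy S' (imageAlong θ P)).subgroupOf (Nb.autGroup (imageAlong θ P)) := by
    refine Subgroup.mem_subgroupOf.2 (mem_autInducedBy_iff.2 ⟨θ ⟨s, hs⟩, ?_, hsN⟩)
    rw [← c.hrange]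
    exact ⟨_, rfl⟩
  rw [hmax, hR] at hbS
  obtain ⟨t', ht', ht'v⟩ := mem_autInducedBy_iff.1 (Subgroup.mem_subgroupOf.1 hbS)
  obtain ⟨t₁, ht₁⟩ : t' ∈ θ.range := by
    rw [c.hrange]
    exact c.hT'S' ht'
  have htT : (t₁ : Ω) ∈ T := c.mem_T.2 ⟨t₁.2, by simpa [ht₁] using ht'⟩
  have htN : (t₁ : Ω) ∈ Subgroup.normalizer (P : Set Ω) := by
    have h1 : θ t₁ ∈ Subgroup.normalizer ((imageAlong θ P : Subgroup Ω') : Set Ω') := by
      rw [ht₁]
      exact mem_normalizer_of_aut ht'v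
    have h2 := Cfsg.Agent.Lib.Fusion.Image.mem_normalizer_preimage h1
    rwa [c.preimage_image_eq' hZP hPS] at h2
  have hct : normConj (t₁ : Ω) htN ∈ autInducedBy T P := normConj_mem_autInducedBy htT htN
  have hctF : normConj (t₁ : Ω) htN ∈ F.autGroup P :=
    autInducedBy_le_autGroup hPS (normConj_mem_autInducedBy t₁.2 htN)
  have hwF := autJ_le c hPT hwJ
  have heqv : ∀ x : P, ((normConj (t₁ : Ω) htN x : P) : Ω)⁻¹ * ((w x : P) : Ω) ∈ Z := by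
    intro x
    apply c.mem_Z_of_eq (hPS (normConj (t₁ : Ω) htN x).2) (hPS (w x).2)
    have h3 := congrArg Subtype.val (hbe x)
    have h4 := ht'v (toImage θ hPS x)
    have h5 : ((b (toImage θ hPS x) : imageAlong θ P) : Ω') = θ ⟨((w x : P) : Ω), hPS (w x).2⟩ := h3
    rw [h5] at h4
    rw [h4, ← ht₁, ← map_inv]
    show θ ⟨(t₁ : Ω) * x * (t₁ : Ω)⁻¹, _⟩ = θ t₁ * θ ⟨x, hPS x.2⟩ * θ t₁⁻¹
    rw [← map_mul, ← map_mul]
    rfl
  have h6 := isK_of_eqv c hctF hwF heqv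
  have h7 := IsK.conj c hPS h6 (Subgroup.inv_mem _ hctF)
  refine ⟨_, hct, _, h7, ?_⟩
  group

/-- `Aut_T(P)` is strongly closed in `Aut_S(P)` with respect to `Aut_F(P)`. -/
theorem conj_autT (hPT : P ≤ T) (hFN : F.IsFullyNormalized P) {g : MulAut P} (hg : g ∈ F.autGroup P) {t s : Ω} (ht : t ∈ T)
    (htN : t ∈ Subgroup.normalizer (P : Set Ω)) (hs : s ∈ S)
    (h : ∀ x : P, ((g (normConj t htN (g⁻¹ x)) : P) : Ω) = s * x * s⁻¹) :
    ∃ t' ∈ T, ∀ x : P, s * (x : Ω) * s⁻¹ = t' * x * t'⁻¹ := by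
  classical
  have hPS := hFN.1
  have hrec := fullyNormalized_receptive c.hS c.hF hFN
  have hφ := autGroup_mem_hom hPS hg
  have hr : (P.subtype.comp g.toMonoidHom).range = P := by
    ext w
    constructor
    · rintro ⟨v, rfl⟩
      exact (g v).2
    · intro hw
      exact ⟨g⁻¹ ⟨w, hw⟩, by simp⟩
  obtain ⟨ψ, hψ, hψa⟩ := hrec.2 P _ hφ hr
  have htS := c.hTS ht
  have htE : t ∈ extender S P (P.subtype.comp g.toMonoidHom) := by
    refine extender_closure_mem htS htN hs (fun x hx => ?_)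
    have h1 := h (g x)
    have h2 : g⁻¹ (g x) = x := by simp
    rw [h2] at h1
    exact h1
  have hPE : P ≤ extender S P (P.subtype.comp g.toMonoidHom) := le_extender hPS (fun x => hPS (g x).2)
  refine ⟨ψ ⟨t, htE⟩, stronglyClosed_apply c.hTsc hψ _ ht, fun x => ?_⟩
  have hx' := h x
  set y := g⁻¹ x with hy
  have hgy : g y = x := by simp [hy]
  have hc : (⟨t * y * t⁻¹, (normConj t htN y).2⟩ : P) = normConj t htN y := rfl
  have hmem : t * (y : Ω) * t⁻¹ ∈ extender S P (P.subtype.comp g.toMonoidHom) := hPE (normConj t htN y).2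
  have h1 : ψ ⟨t * y * t⁻¹, hmem⟩ = ψ ⟨t, htE⟩ * ψ ⟨y, hPE y.2⟩ * (ψ ⟨t, htE⟩)⁻¹ := by
    rw [← map_inv, ← map_mul, ← map_mul]
    rfl
  have h2 : ψ ⟨t * y * t⁻¹, hmem⟩ = ((g (normConj t htN y) : P) : Ω) := hψa _ (normConj t htN y).2 hmem
  have h3 : ψ ⟨y, hPE y.2⟩ = ((g y : P) : Ω) := hψa y y.2 _
  rw [h2, h3, hgy, hx'] at h1
  exact h1

/-- The commutator of `A(P)` and `K(P)` is inner. -/
theorem comm_K (hP : Hs c P) (hFN : F.IsFullyNormalized P) {b d : MulAut P} (hb : b ∈ (JJ c).autGroup P)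
    (hd : IsK F Z P d) : ∃ u ∈ P, ∀ x : P, (((d⁻¹ * (b * d * b⁻¹)) x : P) : Ω) = u * x * u⁻¹ := by
  classical
  obtain ⟨hZP, hPT, hPc⟩ := hP
  have hPS := hFN.1
  haveI := c.finS'
  haveI : Finite P := finite_of_le hPS
  obtain ⟨b', hb', hb'e⟩ := exists_red c hPT hb
  obtain ⟨ρ, hρ⟩ := exists_good_all c.hS' c.hFb c.hN _ hPc b' hb'
  have hIT := c.image_le_T' hPT
  have hIS' : imageAlong θ P ≤ S' := hIT.trans c.hT'S'
  have hm := autGroup_mem_hom (hat_le hIS') hρ.mem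
  obtain ⟨-, φ, hφ, hP0, hv, hmem, he⟩ := (c.hiff _ _).1 hm
  obtain ⟨s, hs, hsv⟩ := mem_autInducedBy_iff.1 (IsK.mem_autInduced c hFN hd)
  have hbF := autJ_le c hPT hb
  -- `θ s` centralizes the image
  have hsC : θ ⟨s, hs⟩ ∈ centralizerIn S' (imageAlong θ P) := by
    refine ⟨by rw [← c.hrange]; exact ⟨_, rfl⟩, Subgroup.mem_centralizer_iff.2 ?_⟩
    rintro _ ⟨y, hy, rfl⟩
    have h1 := c.eq_of_mem_Z (hPS hy) (hPS (d ⟨y, hy⟩).2) (hd.2 ⟨y, hy⟩)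
    have e1 : (⟨((d ⟨y, hy⟩ : P) : Ω), hPS (d ⟨y, hy⟩).2⟩ : S) = ⟨s, hs⟩ * y * ⟨s, hs⟩⁻¹ := Subtype.ext (hsv ⟨y, hy⟩)
    rw [e1, map_mul, map_mul, map_inv] at h1
    have h2 : θ y = θ ⟨s, hs⟩ * θ y * (θ ⟨s, hs⟩)⁻¹ := h1
    calc θ y * θ ⟨s, hs⟩ = (θ ⟨s, hs⟩ * θ y * (θ ⟨s, hs⟩)⁻¹) * θ ⟨s, hs⟩ := by rw [← h2]
      _ = θ ⟨s, hs⟩ * θ y := by group
  have hsH : s ∈ preimageAlong θ (hat S' (imageAlong θ P)) := mem_preimage.2 ⟨hs, cen_le_hat _ hsC⟩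
  have hPH : P ≤ preimageAlong θ (hat S' (imageAlong θ P)) := fun x hx =>
    mem_preimage.2 ⟨hPS hx, le_hat _ ⟨⟨x, hPS hx⟩, hx, rfl⟩⟩
  -- the value on `P`
  have hφP : ∀ x : P, φ ⟨x, hPH x.2⟩ ∈ P ∧ ((b x : P) : Ω)⁻¹ * φ ⟨x, hPH x.2⟩ ∈ Z := by
    intro x
    have h1 := he ⟨x, hPH x.2⟩
    have h2 := hρ.res (toImage θ hPS x)
    have h3 := hb'e x
    have e1 : (⟨θ ⟨x, hP0 (hPH x.2)⟩, hmem ⟨x, hPH x.2⟩⟩ : ↥(hat S' (imageAlong θ P))) =
        Subgroup.inclusion (le_hat _) (toImage θ hPS x) := rfl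
    have h4 : θ ⟨φ ⟨x, hPH x.2⟩, hv _⟩ = θ ⟨((b x : P) : Ω), hPS (b x).2⟩ := by
      rw [← h1]
      show ((ρ _ : ↥(hat S' (imageAlong θ P))) : Ω') = _
      rw [e1, h2, h3]
      rfl
    have h5 := c.mem_Z_of_eq (hPS (b x).2) (hv _) h4.symm
    refine ⟨?_, h5⟩
    have e2 : φ ⟨x, hPH x.2⟩ = ((b x : P) : Ω) * (((b x : P) : Ω)⁻¹ * φ ⟨x, hPH x.2⟩) := by group
    rw [e2]
    exact P.mul_mem (b x).2 (hZP h5)
  have hres := res_mem hφ hPH
  have hresv : ∀ x, (φ.comp (Subgroup.inclusion hPH)) x ∈ P := fun x => (hφP x).1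
  let a : MulAut P := autOfHom _ (F.injective_of_mem hres) hresv
  have haF : a ∈ F.autGroup P := autOfHom_mem hres hresv
  have hav : ∀ x : P, ((a x : P) : Ω) = φ ⟨x, hPH x.2⟩ := fun _ => rfl
  -- `κ = a b⁻¹ ∈ K`
  have hκ := isK_of_eqv c hbF haF (fun x => by rw [hav]; exact (hφP x).2)
  have hbd := IsK.conj c hPS hd hbF
  have hacomm : a * d * a⁻¹ = b * d * b⁻¹ := by
    have e1 : a = (a * b⁻¹) * b := by group
    have h1 : (a * b⁻¹) * (b * d * b⁻¹) = (b * d * b⁻¹) * (a * b⁻¹) := IsK.comm c hZP hPS hκ hbd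
    calc a * d * a⁻¹ = (a * b⁻¹) * (b * d * b⁻¹) * (a * b⁻¹)⁻¹ := by group
      _ = b * d * b⁻¹ := by rw [h1]; group
  -- the action
  have hact : ∀ x : P, (((a * d * a⁻¹) x : P) : Ω) = φ ⟨s, hsH⟩ * x * (φ ⟨s, hsH⟩)⁻¹ := by
    intro x
    obtain ⟨y, rfl⟩ := a.surjective x
    have e0 : (a * d * a⁻¹) (a y) = a (d y) := by simp [MulAut.mul_apply]
    rw [e0, hav, hav]
    have e1 : (⟨((d y : P) : Ω), hPH (d y).2⟩ : ↥(preimageAlong θ (hat S' (imageAlong θ P)))) =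
        ⟨s, hsH⟩ * ⟨y, hPH y.2⟩ * ⟨s, hsH⟩⁻¹ := Subtype.ext (hsv y)
    rw [e1, map_mul, map_mul, map_inv]
  -- `s⁻¹ φ(s) ∈ P`
  have hu : s⁻¹ * φ ⟨s, hsH⟩ ∈ P := by
    have h1 := hρ.cen ⟨θ ⟨s, hs⟩, cen_le_hat _ hsC⟩ hsC
    have h2 := he ⟨s, hsH⟩
    have h3 : (⟨θ ⟨s, hP0 hsH⟩, hmem ⟨s, hsH⟩⟩ : ↥(hat S' (imageAlong θ P))) = ⟨θ ⟨s, hs⟩, cen_le_hat _ hsC⟩ := rfl
    have h4 : ((ρ ⟨θ ⟨s, hs⟩, cen_le_hat _ hsC⟩ : ↥(hat S' (imageAlong θ P))) : Ω') = θ ⟨φ ⟨s, hsH⟩, hv _⟩ := by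
      rw [← h2]
      rfl
    rw [h4] at h1
    have h5 : θ ⟨s⁻¹ * φ ⟨s, hsH⟩, S.mul_mem (S.inv_mem hs) (hv _)⟩ ∈ imageAlong θ P := by
      have e2 : (⟨s⁻¹ * φ ⟨s, hsH⟩, S.mul_mem (S.inv_mem hs) (hv _)⟩ : S) = ⟨s, hs⟩⁻¹ * ⟨φ ⟨s, hsH⟩, hv _⟩ := rfl
      rw [e2, map_mul, map_inv]
      exact Zc.left h1
    exact c.mem_of_image hZP hPS _ h5
  refine ⟨_, hu, fun x => ?_⟩
  have e3 : (d⁻¹ * (b * d * b⁻¹)) x = d⁻¹ ((a * d * a⁻¹) x) := by rw [hacomm]; rfl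
  rw [e3]
  have hdinv : ∀ y : P, ((d⁻¹ y : P) : Ω) = s⁻¹ * y * s := by
    intro y
    have h1 : d (d⁻¹ y) = y := by simp
    have h2 := congrArg (fun t : P => (t : Ω)) h1
    simp only [hsv] at h2
    rw [← h2]
    group
  rw [hdinv, hact]
  group

omit c in
theorem congr_self (g α : MulAut P) : MulAut.congr g α = g * α * g⁻¹ := by
  ext x
  rfl

theorem conj_mem_J (hZP : Z ≤ P) (hPT : P ≤ T) {g α : MulAut P} (hg : g ∈ F.autGroup P) (hα : α ∈ (JJ c).autGroup P) :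
    g * α * g⁻¹ ∈ (JJ c).autGroup P := by
  have h := congr_mem_J c hZP hPT (autGroup_mem_hom (hPT.trans c.hTS) hg) g (fun _ => rfl) hα
  rwa [congr_self] at h

theorem conj_mem_MM (hZP : Z ≤ P) (hPT : P ≤ T) {g α : MulAut P} (hg : g ∈ F.autGroup P) (hα : α ∈ MM c P) :
    g * α * g⁻¹ ∈ MM c P := by
  have h := MM_congr c hZP hPT (autGroup_mem_hom (hPT.trans c.hTS) hg) g (fun _ => rfl) hα
  rwa [congr_self] at h

omit c in
theorem autInduced_mono {U V : Subgroup Ω} (h : U ≤ V) : autInducedBy U P ≤ autInducedBy V P := by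
  intro a ha
  obtain ⟨g, hg, hv⟩ := mem_autInducedBy_iff.1 ha
  exact mem_autInducedBy_iff.2 ⟨g, h hg, hv⟩

/-- A `p`-element of `J` is conjugate in `J` into `Aut_S(P)`. -/
theorem exists_sylow_J (hZP : Z ≤ P) (hPT : P ≤ T) (hFN : F.IsFullyNormalized P) :
    ∃ V : Subgroup ((JJ c).autGroup P), (∀ b, b ∈ V ↔ (b : MulAut P) ∈ autInducedBy S P) ∧ IsPGroup p V ∧ ¬ p ∣ V.index := by
  classical
  have hPS := hFN.1
  haveI : Finite (F.autGroup P) := finite_autGroup hPS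
  obtain ⟨-, R, hR⟩ := (fullyNormalized_props c.hS c.hF hFN).2
  let A₁ : Subgroup (F.autGroup P) := ((JJ c).autGroup P).subgroupOf (F.autGroup P)
  haveI hA₁n : A₁.Normal := by
    constructor
    intro n hn g
    exact Subgroup.mem_subgroupOf.2 (conj_mem_J c hZP hPT g.2 (Subgroup.mem_subgroupOf.1 hn))
  obtain ⟨V, hV⟩ := Cfsg.Agent.Lib.Fusion.GroupNormal.isSylowIn_inf R A₁
  have hle : (JJ c).autGroup P ≤ F.autGroup P := autJ_le c hPT
  let f : ↥A₁ ≃* ↥((JJ c).autGroup P) :=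
    { toFun := fun a => ⟨((a : F.autGroup P) : MulAut P), Subgroup.mem_subgroupOf.1 a.2⟩
      invFun := fun b => ⟨⟨b, hle b.2⟩, Subgroup.mem_subgroupOf.2 b.2⟩
      left_inv := fun _ => rfl
      right_inv := fun _ => rfl
      map_mul' := fun _ _ => rfl }
  refine ⟨(V : Subgroup A₁).map f.toMonoidHom, fun b => ?_, ?_, ?_⟩
  · constructor
    · rintro ⟨a, ha, rfl⟩
      have ha' : a ∈ (V : Subgroup A₁) := ha
      rw [hV] at ha'
      have h1 := (Subgroup.mem_inf.1 (Subgroup.mem_subgroupOf.1 ha')).1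
      rw [hR] at h1
      exact Subgroup.mem_subgroupOf.1 h1
    · intro hb
      refine ⟨f.symm b, ?_, by simp⟩
      show f.symm b ∈ (V : Subgroup A₁)
      rw [hV]
      refine Subgroup.mem_subgroupOf.2 (Subgroup.mem_inf.2 ⟨?_, (f.symm b).2⟩)
      rw [hR]
      exact Subgroup.mem_subgroupOf.2 hb
  · exact V.isPGroup'.map f.toMonoidHom
  · have h1 := V.not_dvd_index
    have h2 : (Subgroup.map f.toMonoidHom (V : Subgroup A₁)).index = (V : Subgroup A₁).index :=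
      (V : Subgroup A₁).index_map_equiv f
    rwa [h2]

/-- A `p`-element of `J` is conjugate in `J` into `Aut_S(P)`. -/
theorem exists_conj_autS (hZP : Z ≤ P) (hPT : P ≤ T) (hFN : F.IsFullyNormalized P) {b : MulAut P}
    (hb : b ∈ (JJ c).autGroup P) (hk : ∃ n : ℕ, b ^ p ^ n = 1) :
    ∃ g ∈ (JJ c).autGroup P, g * b * g⁻¹ ∈ autInducedBy S P := by
  classical
  have hPS := hFN.1
  obtain ⟨V, hV, hVp, hVi⟩ := exists_sylow_J c hZP hPT hFN
  haveI : Finite T := finite_of_le c.hTS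
  haveI : Finite ((JJ c).autGroup P) := finite_autGroup hPT
  let VV : Sylow p ((JJ c).autGroup P) := hVp.toSylow hVi
  have hVV : (VV : Subgroup ((JJ c).autGroup P)) = V := IsPGroup.toSylow_coe hVp hVi
  obtain ⟨n, hn⟩ := hk
  let b' : (JJ c).autGroup P := ⟨b, hb⟩
  have hzp : IsPGroup p (Subgroup.zpowers b') :=
    Cfsg.Agent.Lib.Fusion.Saturated2.isPGroup_zpowers_of_pow (Subtype.ext hn)
  obtain ⟨g, hg⟩ := exists_conj_le_sylow VV hzp
  have h1 := hg b' (Subgroup.mem_zpowers b')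
  rw [hVV, hV] at h1
  exact ⟨g, g.2, h1⟩

/-- **The transfer argument**: `M(P) ∩ Aut_S(P) ≤ Aut_T(P)`. -/
theorem MM_inter (hP : Hs c P) (hFN : F.IsFullyNormalized P) {x : MulAut P} (hx : x ∈ MM c P)
    (hs : x ∈ autInducedBy S P) : x ∈ autInducedBy T P := by
  classical
  have hPc := hP
  obtain ⟨hZP, hPT, hPi⟩ := hP
  have hPS := hFN.1
  obtain ⟨V, hV, hVp, hVi⟩ := exists_sylow_J c hZP hPT hFN
  haveI : Finite T := finite_of_le c.hTS
  haveI : Finite ((JJ c).autGroup P) := finite_autGroup hPT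
  let B := (JJ c).autGroup P
  let ι : B →* MulAut P := B.subtype
  have hBF : ∀ b : B, ι b ∈ F.autGroup P := fun b => autJ_le c hPT b.2
  let T₀ : Subgroup B := (autInducedBy T P).comap ι
  let D₀ : Subgroup B :=
    { carrier := {b | IsK F Z P (ι b)}
      one_mem' := ⟨Subgroup.one_mem _, fun x => by simp⟩
      mul_mem' := fun ha hb => by
        show IsK F Z P (ι _)
        rw [map_mul]
        exact IsK.mul c ha hb
      inv_mem' := fun ha => by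
        show IsK F Z P (ι _)
        rw [map_inv]
        exact IsK.inv c ha }
  let 𝒯 : Set B := {y | ∃ g : B, ∃ t ∈ T₀, y = g * t * g⁻¹}
  have h𝒯W : ∀ y ∈ 𝒯, y ∈ V → y ∈ T₀ := by
    rintro _ ⟨g, t, ht, rfl⟩ hy
    obtain ⟨t₁, ht₁, ht₁v⟩ := mem_autInducedBy_iff.1 (show ι t ∈ autInducedBy T P from ht)
    obtain ⟨s, hs, hsv⟩ := mem_autInducedBy_iff.1 ((hV _).1 hy)
    have htN := mem_normalizer_of_aut ht₁v
    have ht₁e : ι t = normConj t₁ htN := by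
      ext z
      exact ht₁v z
    obtain ⟨t', ht', ht'v⟩ := conj_autT c hPT hFN (hBF g) ht₁ htN hs (fun z => by
      rw [← ht₁e]
      exact hsv z)
    exact mem_autInducedBy_iff.2 ⟨t', ht', fun z => (hsv z).trans (ht'v z)⟩
  have hT₀W : T₀ ≤ V := fun t ht => (hV t).2 (autInduced_mono c.hTS ht)
  have hD₀W : D₀ ≤ V := fun d hd => (hV d).2 (IsK.mem_autInduced c hFN hd)
  have hsplit : ∀ w ∈ V, ∃ t ∈ T₀, ∃ d ∈ D₀, w = t * d := by
    intro w hw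
    obtain ⟨t₀, ht₀, d, hd, he⟩ := split_autS c hZP hPT hFN w.2 ((hV w).1 hw)
    refine ⟨⟨t₀, MM_le_J c hZP hPT (autT_le_MM c hPT ht₀)⟩, ht₀, ⟨d, IsK.le_J c hZP hPT hd⟩, hd, ?_⟩
    exact Subtype.ext he
  have hD : ∀ d ∈ D₀, ∀ b : B, d⁻¹ * (b * d * b⁻¹) ∈ T₀ := by
    intro d hd b
    obtain ⟨u, hu, huv⟩ := comm_K c hPc hFN b.2 hd
    exact mem_autInducedBy_iff.2 ⟨u, hPT hu, huv⟩
  obtain ⟨L, -, hL𝒯, hLW, -, hLp⟩ := Cfsg.Agent.Lib.Fusion.NormalModel.exists_ker_transfer V T₀ D₀ 𝒯 hVp hVi hT₀W hD₀W hsplit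
    (fun t ht => ⟨1, t, ht, by simp⟩)
    (by
      rintro _ ⟨g, t, ht, rfl⟩ b
      exact ⟨b * g, t, ht, by group⟩)
    (by
      rintro _ ⟨g, t, ht, rfl⟩ k
      exact ⟨g, t ^ k, Subgroup.pow_mem _ ht k, by rw [conj_pow]⟩)
    h𝒯W hD
  -- `M(P) ≤ L`
  have hML : MM c P ≤ L.map ι := by
    refine (Subgroup.closure_le _).2 ?_
    rintro a (⟨ha, hco⟩ | ha)
    · refine ⟨⟨a, ha⟩, hLp _ ?_, rfl⟩
      rwa [Subgroup.orderOf_mk]
    · have hJ := IIset_le_J c hZP hPT ha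
      refine ⟨⟨a, hJ⟩, hL𝒯 _ ?_, rfl⟩
      -- `a` is a conjugate of an element of `Aut_T(P)`
      obtain ⟨χ, hχ, t, ht, htN, hv⟩ := ha
      have hPr : F.IsConj χ.range P := Basic.IsConj.symm ⟨χ, hχ, rfl⟩
      obtain ⟨ξ, hξ, hξv, hξm⟩ := exists_map_to_fullyNormalized c.hS c.hF hFN hPr
      have htS := c.hTS ht
      have hrS := range_le hχ
      have htNS : t ∈ normalizerIn S χ.range := ⟨htS, htN⟩
      have hrN : ∀ z : P, χ z ∈ normalizerIn S χ.range := fun z => le_normalizerIn hrS ⟨z, rfl⟩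
      have hfF := comp_mem' (χ := ξ.comp (χ.codRestrict _ hrN)) hχ hξ hrN (fun _ => rfl)
      have hfv : ∀ z, (ξ.comp (χ.codRestrict _ hrN)) z ∈ P := fun z => hξm.le ⟨⟨χ z, hrN z⟩, ⟨z, rfl⟩, rfl⟩
      haveI : Finite P := finite_of_le hPS
      let g₁ : MulAut P := autOfHom _ (F.injective_of_mem hfF) hfv
      have hg₁F : g₁ ∈ F.autGroup P := autOfHom_mem hfF hfv
      have hg₁v : ∀ z : P, ((g₁ z : P) : Ω) = ξ ⟨χ z, hrN z⟩ := fun _ => rfl
      have ht'T : ξ ⟨t, htNS⟩ ∈ T := stronglyClosed_apply c.hTsc hξ _ ht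
      have ht'N : ξ ⟨t, htNS⟩ ∈ Subgroup.normalizer (P : Set Ω) := (hξv _).2
      have hrel : ∀ z : P, g₁ (a z) = normConj _ ht'N (g₁ z) := by
        intro z
        apply Subtype.ext
        show ((g₁ (a z) : P) : Ω) = ξ ⟨t, htNS⟩ * ((g₁ z : P) : Ω) * (ξ ⟨t, htNS⟩)⁻¹
        rw [hg₁v, hg₁v]
        have e1 : (⟨χ (a z), hrN (a z)⟩ : ↥(normalizerIn S χ.range)) = ⟨t, htNS⟩ * ⟨χ z, hrN z⟩ * ⟨t, htNS⟩⁻¹ :=
          Subtype.ext (hv z)
        rw [e1, map_mul, map_mul, map_inv]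
      have hae : a = g₁⁻¹ * normConj _ ht'N * g₁ := by
        ext z
        have h1 : g₁⁻¹ (normConj _ ht'N (g₁ z)) = a z := by
          rw [← hrel]
          simp
        exact congrArg (fun y : P => (y : Ω)) h1.symm
      -- `a` is a `p`-element
      have hct : normConj _ ht'N ∈ autInducedBy S P := normConj_mem_autInducedBy (c.hTS ht'T) ht'N
      have hap : ∃ n : ℕ, a ^ p ^ n = 1 := by
        obtain ⟨n, hn⟩ := (isPGroup_autInducedBy c.hS P) ⟨_, hct⟩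
        refine ⟨n, ?_⟩
        have h2 : (normConj _ ht'N) ^ p ^ n = 1 := congrArg Subtype.val hn
        rw [hae]
        have e2 : g₁⁻¹ * normConj _ ht'N * g₁ = g₁⁻¹ * normConj _ ht'N * g₁⁻¹⁻¹ := by simp
        rw [e2, conj_pow, h2]
        group
      obtain ⟨g, hgJ, hg⟩ := exists_conj_autS c hZP hPT hFN hJ hap
      obtain ⟨s, hs, hsv⟩ := mem_autInducedBy_iff.1 hg
      have hgF := autJ_le c hPT hgJ
      obtain ⟨t', ht', ht'v⟩ := conj_autT c hPT hFN (Subgroup.mul_mem _ hgF (Subgroup.inv_mem _ hg₁F)) ht'T ht'N hs (fun z => by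
        rw [← hsv z, hae]
        congr 1)
      refine ⟨⟨g, hgJ⟩⁻¹, ⟨g, hgJ⟩ * ⟨a, hJ⟩ * ⟨g, hgJ⟩⁻¹, ?_, by group⟩
      exact mem_autInducedBy_iff.2 ⟨t', ht', fun z => (hsv z).trans (ht'v z)⟩
  obtain ⟨b, hbL, rfl⟩ := hML hx
  exact hLW b ((hV b).2 hs) hbL

/-- `A(P) = M(P) K(P)`. -/
theorem exists_MM_mul_K (hZP : Z ≤ P) (hPT : P ≤ T) (hFN : F.IsFullyNormalized P) {a : MulAut P}
    (ha : a ∈ (JJ c).autGroup P) : ∃ μ ∈ MM c P, ∃ d, IsK F Z P d ∧ a = μ * d := by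
  classical
  have hPS := hFN.1
  haveI : Finite (MulAut P) := finite_mulAut hPS
  obtain ⟨u, v, he, hu, hv⟩ := exists_decomp (p := p) a (orderOf_pos a)
  have hauJ : a ^ u ∈ (JJ c).autGroup P := Subgroup.pow_mem _ ha u
  have hau : a ^ u ∈ MM c P := Subgroup.subset_closure (Or.inl ⟨hauJ, hu⟩)
  have havJ : a ^ v ∈ (JJ c).autGroup P := Subgroup.pow_mem _ ha v
  obtain ⟨k, hk⟩ := hv
  have hkk : (a ^ v) ^ p ^ k = 1 := by
    rw [← hk]
    exact pow_orderOf_eq_one _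
  obtain ⟨g, hgJ, hg⟩ := exists_conj_autS c hZP hPT hFN havJ ⟨k, hkk⟩
  have hgF := autJ_le c hPT hgJ
  obtain ⟨t₀, ht₀, d, hd, hw⟩ := split_autS c hZP hPT hFN (Subgroup.mul_mem _ (Subgroup.mul_mem _ hgJ havJ)
    (Subgroup.inv_mem _ hgJ)) hg
  have h1 := conj_mem_MM c hZP hPT (Subgroup.inv_mem _ hgF) (autT_le_MM c hPT ht₀)
  have h2 := IsK.conj c hPS hd (Subgroup.inv_mem _ hgF)
  refine ⟨a ^ u * (g⁻¹ * t₀ * g⁻¹⁻¹), Subgroup.mul_mem _ hau h1, _, h2, ?_⟩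
  have h3 : a ^ v = g⁻¹ * (t₀ * d) * g := by
    rw [← hw]
    group
  calc a = a ^ u * a ^ v := he
    _ = _ := by rw [h3]; group

/-- `Aut_T(P)` is Sylow in `M(P)`, in normalizer form. -/
theorem mem_autT_of_normalizing (hP : Hs c P) (hFN : F.IsFullyNormalized P) {α : MulAut P} (hα : α ∈ MM c P)
    (hk : ∃ n : ℕ, α ^ p ^ n = 1) (hN : α ∈ Subgroup.normalizer ((autInducedBy T P : Subgroup (MulAut P)) : Set (MulAut P))) :
    α ∈ autInducedBy T P := by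
  classical
  have hPc := hP
  obtain ⟨hZP, hPT, -⟩ := hP
  have hPS := hFN.1
  haveI : Finite (MulAut P) := finite_mulAut hPS
  haveI : Finite (F.autGroup P) := finite_autGroup hPS
  obtain ⟨n, hn⟩ := hk
  have hTp : IsPGroup p (autInducedBy T P) := isPGroup_autInducedBy (c.hS.to_le c.hTS) P
  have hzp : IsPGroup p (Subgroup.zpowers α) := Cfsg.Agent.Lib.Fusion.Saturated2.isPGroup_zpowers_of_pow hn
  let X : Subgroup (MulAut P) := Subgroup.zpowers α ⊔ autInducedBy T P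
  have hXp : IsPGroup p X := hzp.to_sup_of_normal_right' hTp ((Subgroup.zpowers_le).2 hN)
  have hXM : X ≤ MM c P := sup_le ((Subgroup.zpowers_le).2 hα) (autT_le_MM c hPT)
  have hMF : MM c P ≤ F.autGroup P := (MM_le_J c hZP hPT).trans (autJ_le c hPT)
  obtain ⟨-, R, hR⟩ := (fullyNormalized_props c.hS c.hF hFN).2
  have hX'p : IsPGroup p (X.subgroupOf (F.autGroup P)) := hXp.comap_of_injective _ (Subgroup.subtype_injective _)
  obtain ⟨g, hg⟩ := exists_conj_le_sylow R hX'p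
  have hmap : ∀ t ∈ X, (g : MulAut P) * t * (g : MulAut P)⁻¹ ∈ autInducedBy T P := by
    intro t ht
    have h1 := hg ⟨t, hMF (hXM ht)⟩ (Subgroup.mem_subgroupOf.2 ht)
    rw [hR] at h1
    exact MM_inter c hPc hFN (conj_mem_MM c hZP hPT g.2 (hXM ht)) (Subgroup.mem_subgroupOf.1 h1)
  have hcard : Nat.card X ≤ Nat.card (autInducedBy T P) := by
    refine Nat.card_le_card_of_injective (fun t : X => (⟨_, hmap t t.2⟩ : autInducedBy T P)) ?_
    intro a b hab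
    have h1 := congrArg Subtype.val hab
    exact Subtype.ext (mul_left_cancel (mul_right_cancel h1))
  have hle : autInducedBy T P ≤ X := le_sup_right
  have heq := Subgroup.eq_of_le_of_card_ge hle hcard
  rw [heq]
  exact Subgroup.mem_sup_left (Subgroup.mem_zpowers α)

end Cfsg.Agent.Lib.Fusion.CLift
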