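/-
Lifting a normal subsystem along a central quotient: the generated system and the lifting lemma.
-/
import Mathlib
import Cfsg.Agent.Lib.Fusion.CLift3
import Cfsg.Agent.Lib.Fusion.PPrime1

set_option autoImplicit false
set_option linter.style.haveILetI false
set_option linter.unusedSectionVars false

namespace Cfsg.Agent.Lib.Fusion.CLift

open Cfsg Cfsg.FusionSystem Cfsg.Agent.Lib.Fusion.Basic Cfsg.Agent.Lib.Fusion.Saturated
open Cfsg.Agent.Lib.Fusion.Saturated2 (autOfHom autOfHom_mem)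
open Cfsg.Agent.Lib.Fusion.LocalSystems (map_mem_sup_of_ext)
open Cfsg.Agent.Lib.Fusion.Joins (exists_hom_of_eq)
open Cfsg.Agent.Lib.Fusion.NormalPair (stronglyClosed_apply)
open Cfsg.Agent.Lib.Fusion.NormalCR
open Cfsg.Agent.Lib.Fusion.GoodLift
open Cfsg.Agent.Lib.Fusion.CLiftG
open Cfsg.Agent.Lib.Fusion.FactorMorphism
open Cfsg.Agent.Lib.Fusion.Image (toImage toImage_surjective)
open Cfsg.Agent.Lib.Fusion.AlperinInduct (alperin_induction)

variable {Ω : Type*} [Group Ω] {S Z T : Subgroup Ω} {Ω' : Type*} [Group Ω'] {S' T' : Subgroup Ω'}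
variable {F : FusionSystem S} {θ : S →* Ω'} {Fb : FusionSystem S'} {Nb : FusionSystem T'} {p : ℕ}
variable [Finite S] [hp : Fact p.Prime] (c : Ctx p F Z T θ Fb Nb) {P P₁ Q : Subgroup Ω}

omit [Finite S] hp in
theorem mem_normalizer_range {γ : MulAut P} {χ : P →* Ω} {t : Ω} (hv : ∀ x : P, χ (γ x) = t * χ x * t⁻¹) :
    t ∈ Subgroup.normalizer ((χ.range : Subgroup Ω) : Set Ω) := by
  rw [Subgroup.mem_normalizer_iff]
  intro y
  constructor
  · rintro ⟨x, rfl⟩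
    exact ⟨γ x, hv x⟩
  · rintro ⟨x, hx⟩
    refine ⟨γ⁻¹ x, ?_⟩
    have h1 := hv (γ⁻¹ x)
    have h2 : γ (γ⁻¹ x) = x := by simp
    rw [h2, hx] at h1
    exact (mul_left_cancel (mul_right_cancel h1)).symm

omit [Finite S] hp in
theorem IIset_res (hPQ : P ≤ Q) {γ : MulAut Q} (hγ : γ ∈ IIset F T Q) {γ₀ : MulAut P}
    (h : ∀ x : P, ((γ₀ x : P) : Ω) = γ (Subgroup.inclusion hPQ x)) : γ₀ ∈ IIset F T P := by
  obtain ⟨χ, hχ, t, ht, -, hv⟩ := hγ
  have hval : ∀ x : P, (χ.comp (Subgroup.inclusion hPQ)) (γ₀ x) = t * (χ.comp (Subgroup.inclusion hPQ)) x * t⁻¹ := by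
    intro x
    show χ (Subgroup.inclusion hPQ (γ₀ x)) = t * χ (Subgroup.inclusion hPQ x) * t⁻¹
    rw [← hv]
    congr 1
    exact Subtype.ext (h x)
  exact ⟨χ.comp (Subgroup.inclusion hPQ), res_mem hχ hPQ, t, ht, mem_normalizer_range hval, hval⟩

include c

/-- The `p`-elements of `M(Q)` are in `II(Q)`. -/
theorem pelt_mem_IIset (hQ : Hs c Q) {β : MulAut Q} (hβ : β ∈ MM c Q) (hk : ∃ n : ℕ, β ^ p ^ n = 1) :
    β ∈ IIset F T Q := by
  classical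
  have hQS := hQ.2.1.trans c.hTS
  obtain ⟨Q₁, ⟨χ, hχ, hr⟩, hFN⟩ := exists_fullyNormalized (F := F) hQS
  let e : Q ≃* Q₁ := isoOfRange (F.injective_of_mem hχ) hr
  have he : ∀ x, ((e x : Q₁) : Ω) = χ x := fun _ => rfl
  have hQ₁ : Hs c Q₁ := Hs.of_map c hQ hχ hr
  have hβ₁ := MM_congr c hQ.1 hQ.2.1 hχ e he hβ
  obtain ⟨n, hn⟩ := hk
  have hn₁ : (MulAut.congr e β) ^ p ^ n = 1 := by
    rw [← map_pow, hn, map_one]
  have hQ₁S := hFN.1
  haveI : Finite (F.autGroup Q₁) := finite_autGroup hQ₁S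
  obtain ⟨-, R, hR⟩ := (fullyNormalized_props c.hS c.hF hFN).2
  have hMF : MM c Q₁ ≤ F.autGroup Q₁ := (MM_le_J c hQ₁.1 hQ₁.2.1).trans (autJ_le c hQ₁.2.1)
  let b : F.autGroup Q₁ := ⟨_, hMF hβ₁⟩
  have hzp : IsPGroup p (Subgroup.zpowers b) :=
    Cfsg.Agent.Lib.Fusion.Saturated2.isPGroup_zpowers_of_pow (Subtype.ext hn₁)
  obtain ⟨g, hg⟩ := exists_conj_le_sylow R hzp
  have h1 := hg b (Subgroup.mem_zpowers b)
  rw [hR] at h1
  have h2 : (g : MulAut Q₁) * MulAut.congr e β * (g : MulAut Q₁)⁻¹ ∈ autInducedBy S Q₁ := Subgroup.mem_subgroupOf.1 h1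
  have h3 := MM_inter c hQ₁ hFN (conj_mem_MM c hQ₁.1 hQ₁.2.1 g.2 hβ₁) h2
  obtain ⟨t, ht, htv⟩ := mem_autInducedBy_iff.1 h3
  let χ' : Q →* Ω := Q₁.subtype.comp ((g : MulAut Q₁).toMonoidHom.comp e.toMonoidHom)
  have hχ' : χ' ∈ F.Hom Q := comp_mem' hχ (autGroup_mem_hom hFN.1 g.2) (h := fun x => (e x).2) (fun x => rfl)
  have hval : ∀ x : Q, χ' (β x) = t * χ' x * t⁻¹ := by
    intro x
    have h4 := htv ((g : MulAut Q₁) (e x))
    rw [← show ((g : MulAut Q₁) (e (β x)) : Q₁) = ((g : MulAut Q₁) * MulAut.congr e β * (g : MulAut Q₁)⁻¹) ((g : MulAut Q₁) (e x)) by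
      simp [MulAut.mul_apply, MulAut.congr_apply]] at h4
    exact h4
  exact ⟨χ', hχ', t, ht, mem_normalizer_range hval, hval⟩

/-- **Restriction**: `M(Q)` restricts into `M(P)`. -/
theorem MM_res (hQ : Hs c Q) (hPQ : P ≤ Q) (hZP : Z ≤ P) {α : MulAut Q} (hα : α ∈ MM c Q) {α₀ : MulAut P}
    (h : ∀ x : P, ((α₀ x : P) : Ω) = α (Subgroup.inclusion hPQ x)) : α₀ ∈ MM c P := by
  classical
  have hQS := hQ.2.1.trans c.hTS
  haveI : Finite (MulAut Q) := finite_mulAut hQS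
  have hPT := hPQ.trans hQ.2.1
  haveI : Finite (MulAut P) := finite_mulAut (hPT.trans c.hTS)
  obtain ⟨u, v, he, hu, k, hk⟩ := exists_decomp (p := p) α (orderOf_pos α)
  have hres : ∀ (n : ℕ) (x : P), (((α₀ ^ n) x : P) : Ω) = (((α ^ n) (Subgroup.inclusion hPQ x) : Q) : Ω) := by
    intro n
    induction n with
    | zero => intro x; simp
    | succ n ih =>
      intro x
      rw [pow_succ', pow_succ', MulAut.mul_apply, MulAut.mul_apply, h]
      congr 2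
      exact Subtype.ext (ih x)
  have hα₀ : α₀ = α₀ ^ u * α₀ ^ v := by
    ext x
    rw [h, he]
    show _ = (((α₀ ^ u) ((α₀ ^ v) x) : P) : Ω)
    rw [hres]
    show (((α ^ u) ((α ^ v) (Subgroup.inclusion hPQ x)) : Q) : Ω) = _
    congr 2
    exact Subtype.ext (hres v x).symm
  have hJ : α ^ u ∈ (JJ c).autGroup Q := MM_le_J c hQ.1 hQ.2.1 (Subgroup.pow_mem _ hα u)
  have h1 : α₀ ^ u ∈ (JJ c).autGroup P :=
    mem_autGroup_of_mem (mem_of_eq_res (autGroup_mem_hom hQ.2.1 hJ) hPQ (fun x => hres u x))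
  have hord : orderOf (α₀ ^ u) ∣ orderOf (α ^ u) := by
    apply orderOf_dvd_of_pow_eq_one
    ext x
    rw [← pow_mul, hres, pow_mul, pow_orderOf_eq_one]
    rfl
  have h2 : α₀ ^ u ∈ MM c P := Subgroup.subset_closure (Or.inl ⟨h1, Nat.Coprime.coprime_dvd_left hord hu⟩)
  have h3 : α ^ v ∈ IIset F T Q := pelt_mem_IIset c hQ (Subgroup.pow_mem _ hα v) ⟨k, by
    rw [← hk]
    exact pow_orderOf_eq_one _⟩
  have h4 : α₀ ^ v ∈ MM c P := Subgroup.subset_closure (Or.inr (IIset_res hPQ h3 (hres v)))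
  rw [hα₀]
  exact Subgroup.mul_mem _ h2 h4

/-- Every element of `Aut_J(P)` agrees modulo `Z` with an element of `M(P)`. -/
theorem exists_MM_eqv (hZP : Z ≤ P) (hPT : P ≤ T) {a : MulAut P} (ha : a ∈ (JJ c).autGroup P) :
    ∃ μ ∈ MM c P, ∀ x : P, ((a x : P) : Ω)⁻¹ * ((μ x : P) : Ω) ∈ Z := by
  classical
  have hPS := hPT.trans c.hTS
  obtain ⟨P₁, ⟨χ, hχ, hr⟩, hFN⟩ := exists_fullyNormalized (F := F) hPS
  let e : P ≃* P₁ := isoOfRange (F.injective_of_mem hχ) hr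
  have he : ∀ x, ((e x : P₁) : Ω) = χ x := fun _ => rfl
  have hZP₁ : Z ≤ P₁ := hr ▸ le_range c hZP hχ
  have hP₁T : P₁ ≤ T := hr ▸ range_le_T c hPT hχ
  obtain ⟨μ₁, hμ₁, d₁, hd₁, hae⟩ := exists_MM_mul_K c hZP₁ hP₁T hFN (congr_mem_J c hZP hPT hχ e he ha)
  have hsym := symm_mem c hχ e he
  have hμ := MM_congr c hZP₁ hP₁T hsym e.symm (fun _ => rfl) hμ₁
  have hd := IsK.congr c hZP₁ hsym e.symm (fun _ => rfl) hd₁
  have ha' : a = MulAut.congr e.symm μ₁ * MulAut.congr e.symm d₁ := by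
    have h0 : MulAut.congr e.symm (MulAut.congr e a) = a := by
      ext x
      simp [MulAut.congr_apply]
    rw [← map_mul, ← hae, h0]
  refine ⟨_, hμ, fun x => ?_⟩
  generalize MulAut.congr e.symm μ₁ = μ at *
  generalize MulAut.congr e.symm d₁ = d at *
  have hμF : μ ∈ F.autGroup P := (MM_le_J c hZP hPT).trans (autJ_le c hPT) hμ
  have h2 := IsK.conj c hPS hd hμF
  have h3 := h2.2 (μ x)
  have h4 : (μ * d * μ⁻¹) (μ x) = a x := by
    rw [ha']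
    simp [MulAut.mul_apply]
  rw [h4] at h3
  have h5 := Z.inv_mem h3
  simpa using h5

/-- A reduction with full range is that of an element of `M(P)`. -/
theorem exists_MM_red (hZP : Z ≤ P) (hPT : P ≤ T) {V' : Subgroup Ω'} (himg : imageAlong θ P = V') {β : V' →* Ω'}
    (hβ : β ∈ Nb.Hom V') (hr : β.range = V') : ∃ μ ∈ MM c P, InducedAlong θ (P.subtype.comp μ.toMonoidHom) β := by
  classical
  subst himg
  have hPS := hPT.trans c.hTS
  haveI : Finite P := finite_of_le hPS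
  obtain ⟨φ, hφ, hind⟩ := exists_lift_Nb c hZP hPT hβ
  have hind' := hind
  obtain ⟨hP0, hv, hmem, he⟩ := hind'
  have hval : ∀ x, φ x ∈ P := by
    intro x
    refine c.mem_of_image hZP hPS (hv x) ?_
    rw [← he x]
    exact hr.le ⟨_, rfl⟩
  let a : MulAut P := autOfHom φ ((JJ c).injective_of_mem hφ) hval
  have ha : a ∈ (JJ c).autGroup P := autOfHom_mem hφ hval
  have hae : ∀ x : P, ((a x : P) : Ω) = φ x := fun _ => rfl
  obtain ⟨μ, hμ, hμe⟩ := exists_MM_eqv c hZP hPT ha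
  refine ⟨μ, hμ, InducedAlong.of_eqv (P' := P) hind (fun x => hPS (μ x).2) (fun x hx => ?_)⟩
  have h1 := hμe x
  rw [hae] at h1
  exact (c.eq_of_mem_Z hx (hPS (μ x).2) h1).symm

omit c in
/-- Fusion systems containing `M`. -/
def gens (c : Ctx p F Z T θ Fb Nb) : Set (FusionSystem T) :=
  {D | ∀ Q, Hs c Q → ∀ α ∈ MM c Q, Q.subtype.comp α.toMonoidHom ∈ D.Hom Q}

theorem JJ_mem_gens : JJ c ∈ gens c := fun _ hQ _ hα => autGroup_mem_hom hQ.2.1 (MM_le_J c hQ.1 hQ.2.1 hα)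

omit c in
/-- The generated system. -/
def MS (c : Ctx p F Z T θ Fb Nb) : FusionSystem T :=
  Cfsg.Agent.Lib.Fusion.PPrime.sInfSys (gens c) (JJ c) (JJ_mem_gens c)

theorem MS_le_J {φ : P →* Ω} (h : φ ∈ (MS c).Hom P) : φ ∈ (JJ c).Hom P := h _ (JJ_mem_gens c)

theorem MS_le_F {φ : P →* Ω} (h : φ ∈ (MS c).Hom P) : φ ∈ F.Hom P := (MS_le_J c h).1

theorem MS_gen (hQ : Hs c Q) {α : MulAut Q} (hα : α ∈ MM c Q) : Q.subtype.comp α.toMonoidHom ∈ (MS c).Hom Q :=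
  fun _ hE => hE Q hQ α hα

theorem MS_min {D : FusionSystem T} (hD : D ∈ gens c) {φ : P →* Ω} (h : φ ∈ (MS c).Hom P) : φ ∈ D.Hom P := h D hD

/-- Induction on the maps of `MS`. -/
theorem MS_induction (Pi : ∀ P : Subgroup Ω, (P →* Ω) → Prop)
    (hgen : ∀ Q, Hs c Q → ∀ α ∈ MM c Q, Pi Q (Q.subtype.comp α.toMonoidHom))
    (hres : ∀ {P R : Subgroup Ω} {φ : P →* Ω}, φ ∈ (MS c).Hom P → Pi P φ → ∀ h : R ≤ P,
      Pi R (φ.comp (Subgroup.inclusion h)))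
    (hcomp : ∀ {P Q : Subgroup Ω} {φ : P →* Ω} {ψ : Q →* Ω}, φ ∈ (MS c).Hom P → ψ ∈ (MS c).Hom Q →
      Pi P φ → Pi Q ψ → ∀ h : (∀ x, φ x ∈ Q), Pi P (ψ.comp (φ.codRestrict Q h)))
    (hinv : ∀ {P Q : Subgroup Ω} {φ : P →* Ω} {ψ : Q →* Ω}, φ ∈ (MS c).Hom P → ψ ∈ (MS c).Hom Q →
      φ.range = Q → (∀ (x : P) (h : φ x ∈ Q), ψ ⟨φ x, h⟩ = x) → Pi P φ → Pi Q ψ) :
    ∀ {P : Subgroup Ω} {φ : P →* Ω}, φ ∈ (MS c).Hom P → Pi P φ := by
  let D : FusionSystem T :=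
    { Hom := fun P => {φ | φ ∈ (MS c).Hom P ∧ Pi P φ}
      le_of_mem := fun h => (MS c).le_of_mem h.1
      injective_of_mem := fun h => (MS c).injective_of_mem h.1
      conj_mem := by
        intro P g hP hg
        refine ⟨(MS c).conj_mem hP hg, ?_⟩
        have hgN : g ∈ Subgroup.normalizer ((T : Subgroup Ω) : Set Ω) := by
          rw [Subgroup.mem_normalizer_iff]
          intro x
          exact ⟨fun hx => T.mul_mem (T.mul_mem hg hx) (T.inv_mem hg), fun hx => by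
            have := T.mul_mem (T.mul_mem (T.inv_mem hg) hx) hg
            simpa [mul_assoc] using this⟩
        have h1 := autT_le_MM c le_rfl (normConj_mem_autInducedBy hg hgN)
        have h2 := hres (MS_gen c (hs_top c) h1) (hgen T (hs_top c) _ h1) hP
        exact h2
      comp_mem := fun h1 h2 h => ⟨(MS c).comp_mem h1.1 h2.1 h, hcomp h1.1 h2.1 h1.2 h2.2 h⟩
      inv_mem := by
        intro P φ h
        obtain ⟨ψ, hψ, hx⟩ := (MS c).inv_mem h.1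
        exact ⟨ψ, ⟨hψ, hinv h.1 hψ rfl (fun x _ => hx x) h.2⟩, hx⟩ }
  have hD : D ∈ gens c := fun Q hQ α hα => ⟨MS_gen c hQ hα, hgen Q hQ α hα⟩
  intro P φ hφ
  exact (MS_min c hD hφ).2

/-! ### Preimages -/

theorem image_preimage {V' : Subgroup Ω'} (hV : V' ≤ S') : imageAlong θ (preimageAlong θ V') = V' :=
  Cfsg.Agent.Lib.Fusion.Image.image_preimage_eq (by rw [c.hrange]; exact hV)

theorem Z_le_preimage (V' : Subgroup Ω') : Z ≤ preimageAlong θ V' := le_preimage c.hZS c.hker V'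

theorem preimage_le_T {V' : Subgroup Ω'} (hV : V' ≤ T') : preimageAlong θ V' ≤ T := by
  intro x hx
  obtain ⟨h, h2⟩ := mem_preimage.1 hx
  exact c.mem_T.2 ⟨h, hV h2⟩

omit c in
theorem preimage_mono {U' V' : Subgroup Ω'} (h : U' ≤ V') : preimageAlong θ U' ≤ preimageAlong θ V' := by
  intro x hx
  obtain ⟨h1, h2⟩ := mem_preimage.1 hx
  exact mem_preimage.2 ⟨h1, h h2⟩

theorem isCentric_top : Nb.IsCentric T' := by
  haveI := c.finT'
  refine ⟨le_rfl, fun Q hQ => ?_⟩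
  have hQT := Basic.IsConj.le_right hQ
  have : Q = T' := Subgroup.eq_of_le_of_card_ge hQT (Basic.IsConj.card_eq hQ).le
  rw [this]
  exact inf_le_left

/-- The image of the range of a lift. -/
theorem range_of_lift {P' Q' : Subgroup Ω'} (hP' : P' ≤ S') {ξ : preimageAlong θ P' →* Ω}
    (hξ : ξ ∈ F.Hom (preimageAlong θ P')) {φ : P' →* Ω'} (hind : InducedAlong θ ξ φ) (hr : φ.range = Q') :
    ξ.range = preimageAlong θ Q' := by
  obtain ⟨hP0, hv, hmem, he⟩ := hind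
  have h1 : imageAlong θ ξ.range = Q' := by
    apply le_antisymm
    · rintro _ ⟨s, ⟨x, hx⟩, rfl⟩
      have e1 : s = ⟨ξ x, hv x⟩ := Subtype.ext hx.symm
      show θ s ∈ Q'
      rw [e1, ← he x, ← hr]
      exact ⟨_, rfl⟩
    · intro y hy
      rw [← hr] at hy
      obtain ⟨w, rfl⟩ := hy
      obtain ⟨s, hs⟩ : (w : Ω') ∈ θ.range := by
        rw [c.hrange]
        exact hP' w.2
      have hsP : (s : Ω) ∈ preimageAlong θ P' := mem_preimage.2 ⟨s.2, by simp [hs]⟩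
      refine ⟨⟨ξ ⟨s, hsP⟩, hv _⟩, ⟨⟨s, hsP⟩, rfl⟩, ?_⟩
      rw [← he ⟨s, hsP⟩]
      congr 1
      exact Subtype.ext hs
  rw [← h1]
  exact (c.preimage_image_eq' (le_range c (Z_le_preimage c P') hξ) (range_le hξ)).symm

/-- **The lifting lemma**. -/
theorem exists_lift_MS {V' : Subgroup Ω'} {β : V' →* Ω'} (hβ : β ∈ Nb.Hom V') :
    ∃ ξ ∈ (MS c).Hom (preimageAlong θ V'), InducedAlong θ ξ β := by
  classical
  haveI := c.finT'
  refine alperin_induction c.hT'p c.hNs (fun V' β => ∃ ξ ∈ (MS c).Hom (preimageAlong θ V'), InducedAlong θ ξ β) ?_ ?_ ?_ ?_ hβ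
  · rintro P R φ hφ ⟨ξ, hξ, hP0, hv, hmem, he⟩ h
    have hle : preimageAlong θ R ≤ preimageAlong θ P := preimage_mono h
    refine ⟨ξ.comp (Subgroup.inclusion hle), res_mem hξ hle, preimage_le _ _, fun x => hv _,
      fun x => (mem_preimage.1 x.2).2, fun x => ?_⟩
    exact he ⟨x, hle x.2⟩
  · rintro P Q φ ψ hφ hψ ⟨ξ, hξ, hP0, hv, hmem, he⟩ ⟨ξ', hξ', hQ0, hv', hmem', he'⟩ h
    have hval : ∀ x, ξ x ∈ preimageAlong θ Q := fun x => mem_preimage.2 ⟨hv x, by rw [← he x]; exact h _⟩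
    refine ⟨ξ'.comp (ξ.codRestrict _ hval), (MS c).comp_mem hξ hξ' hval, hP0, fun x => hv' _, hmem, fun x => ?_⟩
    show ψ ⟨φ ⟨θ _, hmem x⟩, h _⟩ = _
    have e : (⟨φ ⟨θ _, hmem x⟩, h _⟩ : Q) = ⟨θ ⟨ξ x, hv x⟩, hmem' ⟨ξ x, hval x⟩⟩ := Subtype.ext (he x)
    rw [e]
    exact he' ⟨ξ x, hval x⟩
  · rintro P Q φ ψ hφ hψ hr h1 ⟨ξ, hξ, hind⟩
    have hP' : P ≤ S' := (Nb.le_of_mem hφ).1.trans c.hT'S'
    have hrr : ξ.range = preimageAlong θ Q := range_of_lift c hP' (MS_le_F c hξ) hind hr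
    obtain ⟨ξ', hξ', hr', h2, h3⟩ := exists_inv hξ hrr
    obtain ⟨hP0, hv, hmem, he⟩ := hind
    have hv' : ∀ y, ξ' y ∈ S := fun y => hP0 (by rw [← hr']; exact ⟨_, rfl⟩)
    refine ⟨ξ', hξ', preimage_le _ _, hv', fun x => (mem_preimage.1 x.2).2, ?_⟩
    intro y
    have hy' : ξ' y ∈ preimageAlong θ P := by
      rw [← hr']
      exact ⟨_, rfl⟩
    have h4 := h3 y hy'
    have h5 := he ⟨_, hy'⟩
    have hmemQ : φ ⟨θ ⟨ξ' y, hP0 hy'⟩, hmem ⟨_, hy'⟩⟩ ∈ Q := hr.le ⟨_, rfl⟩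
    have h6 := h1 _ hmemQ
    have e7 : (⟨θ ⟨(y : Ω), preimage_le _ _ y.2⟩, (mem_preimage.1 y.2).2⟩ : Q) = ⟨φ ⟨θ ⟨ξ' y, hP0 hy'⟩, hmem ⟨_, hy'⟩⟩, hmemQ⟩ := by
      apply Subtype.ext
      show _ = φ _
      rw [h5]
      exact congrArg θ (Subtype.ext h4.symm)
    rw [e7]
    exact h6
  · rintro V' β hV hβ hr
    have hV'T : V' ≤ T' := (Nb.le_of_mem hβ).1
    have himg := image_preimage c (hV'T.trans c.hT'S')
    have hc : Nb.IsCentric V' := by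
      rcases hV with rfl | hV
      · exact isCentric_top c
      · exact hV.2.1
    have hs : Hs c (preimageAlong θ V') := ⟨Z_le_preimage c V', preimage_le_T c hV'T, by rwa [himg]⟩
    obtain ⟨μ, hμ, hind⟩ := exists_MM_red c hs.1 hs.2.1 himg hβ hr
    exact ⟨_, MS_gen c hs hμ, hind⟩

end Cfsg.Agent.Lib.Fusion.CLift
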