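/-
Lifting a normal subsystem along a central quotient: coherence, first part.
-/
import Mathlib
import Cfsg.Agent.Lib.Fusion.CLift4
import Cfsg.Agent.Lib.Fusion.KNormalizer

set_option autoImplicit false
set_option linter.style.haveILetI false
set_option linter.unusedSectionVars false

namespace Cfsg.Agent.Lib.Fusion.CLift

open Cfsg Cfsg.FusionSystem Cfsg.Agent.Lib.Fusion.Basic Cfsg.Agent.Lib.Fusion.Saturated
open Cfsg.Agent.Lib.Fusion.Saturated2 (autOfHom autOfHom_mem)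
open Cfsg.Agent.Lib.Fusion.LocalSystems (map_mem_sup_of_ext)
open Cfsg.Agent.Lib.Fusion.Joins (exists_hom_of_eq)
open Cfsg.Agent.Lib.Fusion.NormalPair (stronglyClosed_apply)
open Cfsg.Agent.Lib.Fusion.NormalCR
open Cfsg.Agent.Lib.Fusion.GoodLift
open Cfsg.Agent.Lib.Fusion.CLiftG
open Cfsg.Agent.Lib.Fusion.FactorMorphism
open Cfsg.Agent.Lib.Fusion.Image (toImage toImage_surjective)
open Cfsg.Agent.Lib.Fusion.AlperinInduct (alperin_induction)

variable {Ω : Type*} [Group Ω] {S Z T : Subgroup Ω} {Ω' : Type*} [Group Ω'] {S' T' : Subgroup Ω'}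
variable {F : FusionSystem S} {θ : S →* Ω'} {Fb : FusionSystem S'} {Nb : FusionSystem T'} {p : ℕ}
variable [Finite S] [hp : Fact p.Prime] (c : Ctx p F Z T θ Fb Nb) {P P₁ Q B U : Subgroup Ω}

include c

/-- Two lifts of one map agree modulo `Z`. -/
theorem lift_eqv {V' : Subgroup Ω'} {β : V' →* Ω'} {ξ ξ' : U →* Ω} (h : InducedAlong θ ξ β) (h' : InducedAlong θ ξ' β)
    (x : U) : (ξ' x)⁻¹ * ξ x ∈ Z := by
  obtain ⟨hU, hv, hm, he⟩ := h
  obtain ⟨hU', hv', hm', he'⟩ := h'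
  exact c.mem_Z_of_eq (hv' x) (hv x) ((he' x).symm.trans (he x))

omit c in
theorem InducedAlong.res_pre {P' R' : Subgroup Ω'} {φ : P' →* Ω'} {ξ : preimageAlong θ P' →* Ω} (hind : InducedAlong θ ξ φ)
    (h : R' ≤ P') : InducedAlong θ (ξ.comp (Subgroup.inclusion (preimage_mono h))) (φ.comp (Subgroup.inclusion h)) := by
  obtain ⟨hP0, hv, hmem, he⟩ := hind
  exact ⟨preimage_le _ _, fun x => hv _, fun x => (mem_preimage.1 x.2).2, fun x => he ⟨x, preimage_mono h x.2⟩⟩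

omit c in
theorem lift_val {P' Q' : Subgroup Ω'} {φ : P' →* Ω'} {ξ : preimageAlong θ P' →* Ω} (hind : InducedAlong θ ξ φ)
    (h : ∀ x, φ x ∈ Q') (x : preimageAlong θ P') : ξ x ∈ preimageAlong θ Q' := by
  obtain ⟨hP0, hv, hmem, he⟩ := hind
  exact mem_preimage.2 ⟨hv x, by rw [← he x]; exact h _⟩

omit c in
theorem InducedAlong.comp_pre {P' Q' : Subgroup Ω'} {φ : P' →* Ω'} {ψ : Q' →* Ω'} {ξ : preimageAlong θ P' →* Ω}
    {ξ' : preimageAlong θ Q' →* Ω} (hind : InducedAlong θ ξ φ) (hind' : InducedAlong θ ξ' ψ) (h : ∀ x, φ x ∈ Q') :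
    InducedAlong θ (ξ'.comp (ξ.codRestrict _ (lift_val hind h))) (ψ.comp (φ.codRestrict Q' h)) := by
  have hval := lift_val hind h
  obtain ⟨hP0, hv, hmem, he⟩ := hind
  obtain ⟨hQ0, hv', hmem', he'⟩ := hind'
  refine ⟨hP0, fun x => hv' _, hmem, fun x => ?_⟩
  show ψ ⟨φ ⟨θ _, hmem x⟩, h _⟩ = _
  have e : (⟨φ ⟨θ _, hmem x⟩, h _⟩ : Q') = ⟨θ ⟨ξ x, hv x⟩, hmem' ⟨ξ x, hval x⟩⟩ := Subtype.ext (he x)
  rw [e]
  exact he' ⟨ξ x, hval x⟩

/-- Two maps of `MS` with the same reduction differ by a `K`-automorphism in `MS`. -/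
theorem exists_cmp (hZU : Z ≤ U) {ξ ξ' : U →* Ω} (hξ : ξ ∈ (MS c).Hom U) (hξ' : ξ' ∈ (MS c).Hom U)
    (hred : ∀ x, (ξ' x)⁻¹ * ξ x ∈ Z) :
    ∃ k : MulAut ξ'.range, k ∈ (MS c).autGroup ξ'.range ∧ IsK F Z ξ'.range k ∧
      ∀ x : U, ((k ⟨ξ' x, ⟨x, rfl⟩⟩ : ξ'.range) : Ω) = ξ x := by
  classical
  haveI : Finite ξ'.range := finite_of_le (range_le (MS_le_F c hξ'))
  obtain ⟨ψ, hψ, hψr, h1, h2⟩ := exists_inv hξ' rfl
  have hψv : ∀ y, ψ y ∈ U := fun y => hψr.le ⟨y, rfl⟩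
  let k0 : ξ'.range →* Ω := ξ.comp (ψ.codRestrict U hψv)
  have hk0 : k0 ∈ (MS c).Hom ξ'.range := (MS c).comp_mem hψ hξ hψv
  have hk0e : ∀ x : U, k0 ⟨ξ' x, ⟨x, rfl⟩⟩ = ξ x := by
    intro x
    show ξ (ψ.codRestrict U hψv ⟨ξ' x, _⟩) = ξ x
    congr 1
    exact Subtype.ext (h1 x ⟨x, rfl⟩)
  have hZr := le_range c hZU (MS_le_F c hξ')
  have hval : ∀ y, k0 y ∈ ξ'.range := by
    rintro ⟨_, x, rfl⟩
    rw [hk0e]
    have e : ξ x = ξ' x * ((ξ' x)⁻¹ * ξ x) := by group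
    rw [e]
    exact Subgroup.mul_mem _ ⟨x, rfl⟩ (hZr (hred x))
  let k : MulAut ξ'.range := autOfHom k0 ((MS c).injective_of_mem hk0) hval
  have hk1 : k ∈ (MS c).autGroup ξ'.range := autOfHom_mem hk0 hval
  have hrT : ξ'.range ≤ T := range_le hξ'
  have hk2 : k ∈ F.autGroup ξ'.range := mem_autGroup_of_mem (MS_le_F c (autGroup_mem_hom hrT hk1))
  refine ⟨k, hk1, ⟨hk2, ?_⟩, fun x => hk0e x⟩
  rintro ⟨_, x, rfl⟩
  show (ξ' x)⁻¹ * k0 ⟨ξ' x, _⟩ ∈ Z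
  rw [hk0e]
  exact hred x

/-- Comparing two maps with the same reduction, preserving `B`. -/
theorem cmp_res (hB : Hs c B) (hBU : B ≤ U) (hUT : U ≤ T)
    (IH : ∀ P, Hs c P → Nat.card B < Nat.card P → (MS c).autGroup P ≤ MM c P)
    (hcard : Nat.card B < Nat.card U) {ξ ξ' : U →* Ω} (hξ : ξ ∈ (MS c).Hom U) (hξ' : ξ' ∈ (MS c).Hom U)
    (hred : ∀ x : U, (ξ' x)⁻¹ * ξ x ∈ Z) {μ μ' : MulAut B}
    (hμ : ∀ x : B, ((μ x : B) : Ω) = ξ (Subgroup.inclusion hBU x))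
    (hμ' : ∀ x : B, ((μ' x : B) : Ω) = ξ' (Subgroup.inclusion hBU x)) : μ * μ'⁻¹ ∈ MM c B := by
  classical
  have hU : Hs c U := Hs.mono c hB hBU hUT
  have hU₂ : Hs c ξ'.range := Hs.of_map c hU (MS_le_F c hξ') rfl
  obtain ⟨k, hk, -, hke⟩ := exists_cmp c hU.1 hξ hξ' hred
  have hc₂ : Nat.card ξ'.range = Nat.card U := by
    rw [Nat.card_congr (MonoidHom.ofInjective ((MS c).injective_of_mem hξ')).toEquiv.symm]
  have hkM : k ∈ MM c ξ'.range := IH _ hU₂ (by rw [hc₂]; exact hcard) hk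
  have hBU₂ : B ≤ ξ'.range := by
    intro b hb
    refine ⟨Subgroup.inclusion hBU (μ'⁻¹ ⟨b, hb⟩), ?_⟩
    rw [← hμ']
    simp
  refine MM_res c hU₂ hBU₂ hB.1 hkM (fun b => ?_)
  have e1 : (Subgroup.inclusion hBU₂ b : ξ'.range) = ⟨ξ' (Subgroup.inclusion hBU (μ'⁻¹ b)), ⟨_, rfl⟩⟩ := by
    apply Subtype.ext
    show (b : Ω) = ξ' _
    rw [← hμ']
    simp
  rw [e1, hke, ← hμ]
  simp [MulAut.mul_apply]

/-! ### The normalizer of `B'` -/

variable {B' V' : Subgroup Ω'} {E : FusionSystem (normalizerIn T' B')}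

theorem le_of_preimage (hB' : B' ≤ S') (h : preimageAlong θ B' ≤ preimageAlong θ V') : B' ≤ V' := by
  intro y hy
  obtain ⟨s, rfl⟩ : y ∈ θ.range := by
    rw [c.hrange]
    exact hB' hy
  exact (mem_preimage.1 (h (mem_preimage.2 ⟨s.2, hy⟩))).2

omit [Finite S] hp c in
theorem E_le_Nb (hE : Nb.IsNormalizerSystem B' E) {β : V' →* Ω'} (hβ : β ∈ E.Hom V') : β ∈ Nb.Hom V' := by
  rw [hE V'] at hβ
  exact hβ.1

omit [Finite S] hp c in
theorem E_val (hB'T : B' ≤ T') (hE : Nb.IsNormalizerSystem B' E) {β : V' →* Ω'} (hβ : β ∈ E.Hom V') (hBV : B' ≤ V') (x : B') :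
    β (Subgroup.inclusion hBV x) ∈ B' :=
  (stronglyClosed_of_normalizerSystem hB'T hE).2 B' le_rfl (β.comp (Subgroup.inclusion hBV)) (res_mem hβ hBV) x

theorem E_surj (hB'T : B' ≤ T') (hE : Nb.IsNormalizerSystem B' E) {β : V' →* Ω'} (hβ : β ∈ E.Hom V') (hBV : B' ≤ V') :
    ∀ y ∈ B', ∃ x : B', β (Subgroup.inclusion hBV x) = y := by
  classical
  haveI := c.finT'
  haveI : Finite B' := finite_of_le hB'T
  have hf := res_mem hβ hBV
  intro y hy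
  have hv : ∀ x : B', (β.comp (Subgroup.inclusion hBV)) x ∈ B' := E_val hB'T hE hβ hBV
  let a : MulAut B' := autOfHom _ (E.injective_of_mem hf) hv
  refine ⟨a⁻¹ ⟨y, hy⟩, ?_⟩
  have h1 : a (a⁻¹ ⟨y, hy⟩) = ⟨y, hy⟩ := by simp
  exact congrArg Subtype.val h1

/-- The restriction to `B`. -/
theorem exists_resB (hB'T : B' ≤ T') (hE : Nb.IsNormalizerSystem B' E) {β : V' →* Ω'} (hβ : β ∈ E.Hom V')
    {ξ : preimageAlong θ V' →* Ω} (hξ : ξ ∈ (MS c).Hom (preimageAlong θ V')) (hind : InducedAlong θ ξ β)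
    (hB : preimageAlong θ B' ≤ preimageAlong θ V') :
    ∃ μ : MulAut (preimageAlong θ B'), ∀ x, ((μ x : preimageAlong θ B') : Ω) = ξ (Subgroup.inclusion hB x) := by
  classical
  have hBV := le_of_preimage c (hB'T.trans c.hT'S') hB
  haveI : Finite (preimageAlong θ B') := finite_of_le (preimage_le _ _)
  have hf := res_mem hξ hB
  have hv : ∀ x, (ξ.comp (Subgroup.inclusion hB)) x ∈ preimageAlong θ B' := by
    intro x
    obtain ⟨hP0, hv, hmem, he⟩ := hind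
    refine mem_preimage.2 ⟨hv _, ?_⟩
    show θ ⟨ξ (Subgroup.inclusion hB x), _⟩ ∈ B'
    rw [← he]
    exact E_val hB'T hE hβ hBV ⟨θ ⟨x, preimage_le _ _ x.2⟩, (mem_preimage.1 x.2).2⟩
  exact ⟨autOfHom _ ((MS c).injective_of_mem hf) hv, fun _ => rfl⟩

omit c in
/-- The statement proved by induction over `N_N̄(B̄)`. -/
def PiB (c : Ctx p F Z T θ Fb Nb) (B' V' : Subgroup Ω') (β : V' →* Ω') : Prop :=
  ∀ (hB : preimageAlong θ B' ≤ preimageAlong θ V'), Nat.card (preimageAlong θ B') < Nat.card (preimageAlong θ V') →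
    ∀ ξ ∈ (MS c).Hom (preimageAlong θ V'), InducedAlong θ ξ β → ∀ μ : MulAut (preimageAlong θ B'),
      (∀ x, ((μ x : preimageAlong θ B') : Ω) = ξ (Subgroup.inclusion hB x)) → μ ∈ MM c (preimageAlong θ B')

theorem hs_preimage (hB'T : B' ≤ T') (hc : Nb.IsCentric B') : Hs c (preimageAlong θ B') :=
  ⟨Z_le_preimage c B', preimage_le_T c hB'T, by rwa [image_preimage c (hB'T.trans c.hT'S')]⟩

/-- The statement, for all maps of `N_N̄(B̄)`. -/
theorem piB_all (hFN : Nb.IsFullyNormalized B') (hE : Nb.IsNormalizerSystem B' E) (hBc : Nb.IsCentric B')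
    (IH : ∀ P, Hs c P → Nat.card (preimageAlong θ B') < Nat.card P → (MS c).autGroup P ≤ MM c P)
    {β : V' →* Ω'} (hβ : β ∈ E.Hom V') : PiB c B' V' β := by
  classical
  haveI := c.finT'
  have hB'T : B' ≤ T' := hFN.1
  have hHB := hs_preimage c hB'T hBc
  have hES : E.IsSaturated p :=
    Cfsg.Agent.Lib.Fusion.KNormalizer.isSaturated_normalizerSystem c.hT'p c.hNs hFN hE
  haveI : Finite (normalizerIn T' B') := finite_of_le normalizerIn_le
  have hVT : ∀ {V' : Subgroup Ω'} {β : V' →* Ω'}, β ∈ E.Hom V' → V' ≤ T' := fun h => (Nb.le_of_mem (E_le_Nb hE h)).1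
  have hcmul : ∀ {a b : MulAut (preimageAlong θ B')}, a * b⁻¹ ∈ MM c (preimageAlong θ B') → b ∈ MM c (preimageAlong θ B') →
      a ∈ MM c (preimageAlong θ B') := by
    intro a b h1 h2
    have e : a = a * b⁻¹ * b := by group
    rw [e]
    exact Subgroup.mul_mem _ h1 h2
  refine alperin_induction (c.hT'p.to_le normalizerIn_le) hES (PiB c B') ?_ ?_ ?_ ?_ hβ
  · -- restriction
    intro P R φ hφ H h hB hcard ξ hξ hind μ hμ
    have hle : preimageAlong θ R ≤ preimageAlong θ P := preimage_mono h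
    obtain ⟨ξ₁, hξ₁, hind₁⟩ := exists_lift_MS c (E_le_Nb hE hφ)
    have hB₁ : preimageAlong θ B' ≤ preimageAlong θ P := hB.trans hle
    obtain ⟨μ₁, hμ₁⟩ := exists_resB c hB'T hE hφ hξ₁ hind₁ hB₁
    have hP₁ := preimage_le_T c (hVT hφ)
    haveI : Finite (preimageAlong θ P) := finite_of_le (preimage_le _ _)
    have hcard₁ : Nat.card (preimageAlong θ B') < Nat.card (preimageAlong θ P) :=
      hcard.trans_le (Nat.card_le_card_of_injective (Subgroup.inclusion hle) (Subgroup.inclusion_injective hle))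
    have h₁ := H hB₁ hcard₁ ξ₁ hξ₁ hind₁ μ₁ hμ₁
    refine hcmul (cmp_res c hHB hB (hle.trans hP₁) IH hcard hξ (res_mem hξ₁ hle)
      (lift_eqv c hind (InducedAlong.res_pre hind₁ h)) hμ (fun x => hμ₁ x)) h₁
  · -- composition
    intro P Q φ ψ hφ hψ H1 H2 h hB hcard ξ hξ hind μ hμ
    have hBP : B' ≤ P := le_of_preimage c (hB'T.trans c.hT'S') hB
    have hBQ : B' ≤ Q := by
      intro y hy
      obtain ⟨x, hx⟩ := E_surj c hB'T hE hφ hBP y hy
      rw [← hx]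
      exact h _
    have hB₂ : preimageAlong θ B' ≤ preimageAlong θ Q := preimage_mono hBQ
    obtain ⟨ξ₁, hξ₁, hind₁⟩ := exists_lift_MS c (E_le_Nb hE hφ)
    obtain ⟨ξ₂, hξ₂, hind₂⟩ := exists_lift_MS c (E_le_Nb hE hψ)
    obtain ⟨μ₁, hμ₁⟩ := exists_resB c hB'T hE hφ hξ₁ hind₁ hB
    obtain ⟨μ₂, hμ₂⟩ := exists_resB c hB'T hE hψ hξ₂ hind₂ hB₂
    have hm₁ := H1 hB hcard ξ₁ hξ₁ hind₁ μ₁ hμ₁
    have hval := lift_val hind₁ h
    haveI : Finite (preimageAlong θ Q) := finite_of_le (preimage_le _ _)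
    have hinj := (MS c).injective_of_mem hξ₁
    have hcard₂ : Nat.card (preimageAlong θ P) ≤ Nat.card (preimageAlong θ Q) :=
      Nat.card_le_card_of_injective (ξ₁.codRestrict _ hval) (fun a b hab => hinj (congrArg Subtype.val hab))
    have hm₂ := H2 hB₂ (hcard.trans_le hcard₂) ξ₂ hξ₂ hind₂ μ₂ hμ₂
    have hξ₃ := (MS c).comp_mem hξ₁ hξ₂ hval
    have hc := cmp_res c hHB hB (preimage_le_T c (hVT hφ)) IH hcard hξ hξ₃
      (lift_eqv c hind (InducedAlong.comp_pre hind₁ hind₂ h)) hμ (μ' := μ₂ * μ₁) (fun x => by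
        show ((μ₂ (μ₁ x) : preimageAlong θ B') : Ω) = ξ₂ _
        rw [hμ₂]
        congr 1
        exact Subtype.ext (hμ₁ x))
    exact hcmul hc (Subgroup.mul_mem _ hm₂ hm₁)
  · -- inverses
    intro P Q φ ψ hφ hψ hr h1 H hB hcard ξ hξ hind μ hμ
    have hBQ : B' ≤ Q := le_of_preimage c (hB'T.trans c.hT'S') hB
    have hψv : ∀ y : Q, ψ y ∈ P := by
      rintro ⟨y, hy⟩
      have hy' := hy
      rw [← hr] at hy'
      obtain ⟨x, rfl⟩ := hy'
      rw [h1]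
      exact x.2
    have hBP : B' ≤ P := by
      intro y hy
      obtain ⟨x, hx⟩ := E_surj c hB'T hE hψ hBQ y hy
      rw [← hx]
      exact hψv _
    have hB₁ : preimageAlong θ B' ≤ preimageAlong θ P := preimage_mono hBP
    obtain ⟨ξ₁, hξ₁, hind₁⟩ := exists_lift_MS c (E_le_Nb hE hφ)
    have hrr := range_of_lift c ((hVT hφ).trans c.hT'S') (MS_le_F c hξ₁) hind₁ hr
    have hcard₁ : Nat.card (preimageAlong θ P) = Nat.card (preimageAlong θ Q) := by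
      rw [← hrr, Nat.card_congr (MonoidHom.ofInjective ((MS c).injective_of_mem hξ₁)).toEquiv.symm]
    obtain ⟨μ₁, hμ₁⟩ := exists_resB c hB'T hE hφ hξ₁ hind₁ hB₁
    have hm₁ := H hB₁ (by rw [hcard₁]; exact hcard) ξ₁ hξ₁ hind₁ μ₁ hμ₁
    have hval := lift_val hind hψv
    have hξ₃ := (MS c).comp_mem hξ hξ₁ hval
    have hQT := preimage_le_T c (hVT hψ)
    have hred : ∀ x : preimageAlong θ Q, ((preimageAlong θ Q).subtype x)⁻¹ * (ξ₁.comp (ξ.codRestrict _ hval)) x ∈ Z := by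
      intro x
      obtain ⟨hx1, hx2⟩ := mem_preimage.1 x.2
      obtain ⟨hP0, hv, hmem, he⟩ := hind₁
      obtain ⟨hQ0, hw, hmem', he'⟩ := hind
      refine c.mem_Z_of_eq hx1 (hv _) ?_
      show θ ⟨x, hx1⟩ = θ ⟨ξ₁ ⟨ξ x, hval x⟩, hv _⟩
      rw [← he ⟨ξ x, hval x⟩]
      have h2 := he' x
      have h3 : (⟨θ ⟨ξ x, hP0 (hval x)⟩, hmem ⟨ξ x, hval x⟩⟩ : P) = ⟨ψ ⟨θ ⟨x, hQ0 x.2⟩, hmem' x⟩, hψv _⟩ :=
        Subtype.ext h2.symm
      rw [h3]
      -- `φ ψ = 1` on `Q`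
      have h4 : φ ⟨ψ ⟨θ ⟨x, hQ0 x.2⟩, hmem' x⟩, hψv _⟩ = θ ⟨x, hQ0 x.2⟩ := by
        have h5 : θ ⟨x, hQ0 x.2⟩ ∈ φ.range := by
          rw [hr]
          exact hmem' x
        obtain ⟨w, hw⟩ := h5
        have h6 : (⟨θ ⟨x, hQ0 x.2⟩, hmem' x⟩ : Q) = ⟨φ w, hr.le ⟨w, rfl⟩⟩ := Subtype.ext hw.symm
        rw [h6]
        have h7 : (⟨ψ ⟨φ w, hr.le ⟨w, rfl⟩⟩, hψv _⟩ : P) = w := Subtype.ext (h1 w _)
        rw [h7, hw]
      exact h4.symm
    have hc := cmp_res c hHB hB hQT IH hcard hξ₃ (subtype_mem hQT) hred (μ := μ₁ * μ) (μ' := 1) (fun x => by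
        show ((μ₁ (μ x) : preimageAlong θ B') : Ω) = ξ₁ _
        rw [hμ₁]
        congr 1
        exact Subtype.ext (hμ x)) (fun x => rfl)
    have e : μ = μ₁⁻¹ * (μ₁ * μ * 1⁻¹) := by group
    rw [e]
    exact Subgroup.mul_mem _ (Subgroup.inv_mem _ hm₁) hc
  · -- automorphisms
    rintro V φ - hφ hr hB hcard ξ hξ hind μ hμ
    have hVH : Hs c (preimageAlong θ V) := Hs.mono c hHB hB (preimage_le_T c (hVT hφ))
    have hrr := range_of_lift c ((hVT hφ).trans c.hT'S') (MS_le_F c hξ) hind hr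
    have hval : ∀ x, ξ x ∈ preimageAlong θ V := fun x => hrr.le ⟨x, rfl⟩
    haveI : Finite (preimageAlong θ V) := finite_of_le (preimage_le _ _)
    have ha := autOfHom_mem hξ hval
    exact MM_res c hVH hB hHB.1 (IH _ hVH hcard ha) hμ

end Cfsg.Agent.Lib.Fusion.CLift
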