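/-
Lifting a normal subsystem along a central quotient: coherence.
-/
import Mathlib
import Cfsg.Agent.Lib.Fusion.CLift5
import Cfsg.Agent.Lib.Fusion.LocalSystems

set_option autoImplicit false
set_option linter.style.haveILetI false
set_option linter.unusedSectionVars false

namespace Cfsg.Agent.Lib.Fusion.CLift

open Cfsg Cfsg.FusionSystem Cfsg.Agent.Lib.Fusion.Basic Cfsg.Agent.Lib.Fusion.Saturated
open Cfsg.Agent.Lib.Fusion.Saturated2 (autOfHom autOfHom_mem)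
open Cfsg.Agent.Lib.Fusion.LocalSystems (map_mem_sup_of_ext)
open Cfsg.Agent.Lib.Fusion.Joins (exists_hom_of_eq)
open Cfsg.Agent.Lib.Fusion.NormalPair (stronglyClosed_apply)
open Cfsg.Agent.Lib.Fusion.NormalCR
open Cfsg.Agent.Lib.Fusion.GoodLift
open Cfsg.Agent.Lib.Fusion.CLiftG
open Cfsg.Agent.Lib.Fusion.FactorMorphism
open Cfsg.Agent.Lib.Fusion.Image (toImage toImage_surjective)
open Cfsg.Agent.Lib.Fusion.AlperinInduct (alperin_induction)
open Cfsg.Agent.Lib.Fusion.QdFreeFactor (mem_normalizer_preimage_iff)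

variable {Ω : Type*} [Group Ω] {S Z T : Subgroup Ω} {Ω' : Type*} [Group Ω'] {S' T' : Subgroup Ω'}
variable {F : FusionSystem S} {θ : S →* Ω'} {Fb : FusionSystem S'} {Nb : FusionSystem T'} {p : ℕ}
variable [Finite S] [hp : Fact p.Prime] (c : Ctx p F Z T θ Fb Nb) {P P₁ Q U : Subgroup Ω}
variable {B' V' : Subgroup Ω'} {E : FusionSystem (normalizerIn T' B')}

include c

/-- The element `x` of `T` normalizing `P ≥ Z`: its image normalizes the image of `P`. -/
theorem image_mem_normalizer (hZP : Z ≤ P) (hPT : P ≤ T) {x : Ω} (hx : x ∈ normalizerIn T P) (hxS : x ∈ S) :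
    θ ⟨x, hxS⟩ ∈ normalizerIn T' (imageAlong θ P) := by
  have hPS := hPT.trans c.hTS
  have hI : imageAlong θ P ≤ θ.range := by
    rintro _ ⟨s, -, rfl⟩
    exact ⟨s, rfl⟩
  refine ⟨(c.mem_T.1 hx.1).2, (mem_normalizer_preimage_iff hI).1 ?_⟩
  rw [c.preimage_image_eq' hZP hPS]
  exact hx.2

/-- **Claim**: maps on overgroups of `B` in `N_T(B)` restrict to `M(B)`. -/
theorem claim3 (hFN : Nb.IsFullyNormalized B') (hBc : Nb.IsCentric B')
    (IH : ∀ P, Hs c P → Nat.card (preimageAlong θ B') < Nat.card P → (MS c).autGroup P ≤ MM c P)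
    (hBU : preimageAlong θ B' ≤ U) (hUN : U ≤ normalizerIn T (preimageAlong θ B'))
    (hcard : Nat.card (preimageAlong θ B') < Nat.card U) {ξ : U →* Ω} (hξ : ξ ∈ (MS c).Hom U)
    {μ : MulAut (preimageAlong θ B')} (hμ : ∀ x, ((μ x : preimageAlong θ B') : Ω) = ξ (Subgroup.inclusion hBU x)) :
    μ ∈ MM c (preimageAlong θ B') := by
  classical
  have hB'T : B' ≤ T' := hFN.1
  have hB'S : B' ≤ S' := hB'T.trans c.hT'S'
  have hHB := hs_preimage c hB'T hBc
  have hZU : Z ≤ U := hHB.1.trans hBU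
  have hUT : U ≤ T := hUN.trans normalizerIn_le
  have hUS : U ≤ S := hUT.trans c.hTS
  obtain ⟨E, hE⟩ : ∃ E : FusionSystem (normalizerIn T' B'), Nb.IsNormalizerSystem B' E :=
    ⟨Cfsg.Agent.Lib.Fusion.LocalSystems.normalizerSystem Nb B' hB'T,
      Cfsg.Agent.Lib.Fusion.LocalSystems.normalizerSystem_isNormalizerSystem Nb B' hB'T⟩
  obtain ⟨-, -, -, β, hβ, hind⟩ := MS_le_J c hξ
  obtain ⟨hP0, hv, hmem, he⟩ := id hind
  have hpre := c.preimage_image_eq' hZU hUS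
  have himgB : imageAlong θ (preimageAlong θ B') = B' := image_preimage c hB'S
  have hB'V : B' ≤ imageAlong θ U := by
    intro y hy
    obtain ⟨s, rfl⟩ : y ∈ θ.range := by
      rw [c.hrange]
      exact hB'S hy
    exact ⟨s, hBU (mem_preimage.2 ⟨s.2, hy⟩), rfl⟩
  have hVN : imageAlong θ U ≤ normalizerIn T' B' := by
    rintro _ ⟨s, hs, rfl⟩
    have hs' : (s : Ω) ∈ normalizerIn T (preimageAlong θ B') := hUN hs
    have h1 := image_mem_normalizer c hHB.1 hHB.2.1 hs' s.2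
    rwa [himgB] at h1
  -- `ξ` normalizes `B`
  have hsurj : ∀ b : preimageAlong θ B', ∃ b₀ : preimageAlong θ B', ξ (Subgroup.inclusion hBU b₀) = b := by
    intro b
    refine ⟨μ⁻¹ b, ?_⟩
    rw [← hμ]
    simp
  have hkey : ∀ (x : U) (b : Ω), b ∈ preimageAlong θ B' → ξ x * b * (ξ x)⁻¹ ∈ preimageAlong θ B' := by
    intro x b hb
    obtain ⟨b₀, hb₀⟩ := hsurj ⟨b, hb⟩
    have hxN : (x : Ω) * b₀ * (x : Ω)⁻¹ ∈ preimageAlong θ B' :=
      (Subgroup.mem_normalizer_iff.1 (hUN x.2).2 _).1 b₀.2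
    have h1 : ξ (Subgroup.inclusion hBU ⟨_, hxN⟩) = ξ x * ξ (Subgroup.inclusion hBU b₀) * (ξ x)⁻¹ := by
      rw [← map_inv, ← map_mul, ← map_mul]
      rfl
    rw [hb₀] at h1
    rw [show ξ x * b * (ξ x)⁻¹ = _ from h1.symm, ← hμ]
    exact (μ _).2
  have hξN : ∀ x : U, ξ x ∈ normalizerIn T (preimageAlong θ B') := by
    intro x
    refine ⟨map_mem_S hξ x, Subgroup.mem_normalizer_iff.2 ?_⟩
    intro b
    refine ⟨hkey x b, fun hb => ?_⟩
    have h1 := hkey x⁻¹ _ hb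
    rw [map_inv] at h1
    simpa [mul_assoc] using h1
  have hrep : ∀ (s : U), (⟨θ ⟨s, hUS s.2⟩, hmem s⟩ : imageAlong θ U) ∈ (⊤ : Subgroup (imageAlong θ U)) := fun _ => trivial
  have hφE : β ∈ E.Hom (imageAlong θ U) := by
    rw [hE _]
    refine normalizerHom_of_le hβ hB'V hVN ?_ ?_ ?_
    · rintro ⟨_, s, hs, rfl⟩
      have e : (⟨θ s, s, hs, rfl⟩ : imageAlong θ U) = ⟨θ ⟨(⟨s, hs⟩ : U), hUS hs⟩, hmem ⟨s, hs⟩⟩ := rfl
      rw [e, he]
      have h1 := image_mem_normalizer c hHB.1 hHB.2.1 (hξN ⟨s, hs⟩) (hv _)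
      rwa [himgB] at h1
    · rintro ⟨y, hy⟩
      obtain ⟨s, rfl⟩ : y ∈ θ.range := by
        rw [c.hrange]
        exact hB'S hy
      have hsB : (s : Ω) ∈ preimageAlong θ B' := mem_preimage.2 ⟨s.2, hy⟩
      have e : Subgroup.inclusion hB'V ⟨θ s, hy⟩ = ⟨θ ⟨(⟨s, hBU hsB⟩ : U), hUS (hBU hsB)⟩, hmem ⟨s, hBU hsB⟩⟩ := rfl
      rw [e, he]
      have e2 : ξ ⟨s, hBU hsB⟩ = ((μ ⟨s, hsB⟩ : preimageAlong θ B') : Ω) := (hμ ⟨s, hsB⟩).symm
      have e3 : (⟨ξ ⟨s, hBU hsB⟩, hv _⟩ : S) = ⟨((μ ⟨s, hsB⟩ : preimageAlong θ B') : Ω), preimage_le _ _ (μ _).2⟩ := Subtype.ext e2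
      rw [e3]
      exact (mem_preimage.1 (μ ⟨s, hsB⟩).2).2
    · intro y hy
      obtain ⟨s, rfl⟩ : y ∈ θ.range := by
        rw [c.hrange]
        exact hB'S hy
      have hsB : (s : Ω) ∈ preimageAlong θ B' := mem_preimage.2 ⟨s.2, hy⟩
      obtain ⟨b₀, hb₀⟩ := hsurj ⟨s, hsB⟩
      obtain ⟨hb1, hb2⟩ := mem_preimage.1 b₀.2
      refine ⟨⟨_, hb2⟩, ?_⟩
      have e : Subgroup.inclusion hB'V ⟨θ ⟨b₀, hb1⟩, hb2⟩ = ⟨θ ⟨(Subgroup.inclusion hBU b₀ : U), hUS (hBU b₀.2)⟩, hmem (Subgroup.inclusion hBU b₀)⟩ := rfl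
      rw [e, he]
      exact congrArg θ (Subtype.ext hb₀)
  obtain ⟨ξ', hξ', hξ'e⟩ := exists_hom_of_eq (MS c) hpre.symm ξ hξ
  have hxU : ∀ x : preimageAlong θ (imageAlong θ U), (x : Ω) ∈ U := fun x => hpre.le x.2
  have hξ'e' : ∀ x : preimageAlong θ (imageAlong θ U), ξ' x = ξ ⟨x, hxU x⟩ := fun x => hξ'e x (hxU x) x.2
  have hind' : InducedAlong θ ξ' β := by
    refine ⟨preimage_le _ _, fun x => ?_, fun x => (mem_preimage.1 x.2).2, fun x => ?_⟩
    · rw [hξ'e']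
      exact hv _
    · have h1 := he ⟨x, hxU x⟩
      have e3 : (⟨ξ' x, by rw [hξ'e']; exact hv _⟩ : S) = ⟨ξ ⟨x, hxU x⟩, hv _⟩ := Subtype.ext (hξ'e' x)
      rw [e3]
      exact h1
  have hB : preimageAlong θ B' ≤ preimageAlong θ (imageAlong θ U) := preimage_mono hB'V
  refine piB_all c hFN hE hBc IH hφE hB (by rw [hpre]; exact hcard) ξ' hξ' hind' μ (fun x => ?_)
  rw [hμ, hξ'e']
  rfl

omit [Finite S] hp c in
/-- The class of `B`. -/
def Cl (_c : Ctx p F Z T θ Fb Nb) (B' : Subgroup Ω') (P : Subgroup Ω) : Prop :=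
  Z ≤ P ∧ P ≤ T ∧ Nb.IsConj (imageAlong θ P) B'

omit c in
/-- Transport maps. -/
def IsTr (c : Ctx p F Z T θ Fb Nb) (B' : Subgroup Ω') {P : Subgroup Ω} (e : P ≃* preimageAlong θ B') : Prop :=
  ∃ τ ∈ (MS c).Hom (normalizerIn T P), (∀ x, τ x ∈ normalizerIn T (preimageAlong θ B')) ∧
    ∀ (x : P) (hx : (x : Ω) ∈ normalizerIn T P), τ ⟨x, hx⟩ = e x

theorem IsTr.hom {e : P ≃* preimageAlong θ B'} (h : IsTr c B' e) (hPT : P ≤ T) :
    (preimageAlong θ B').subtype.comp e.toMonoidHom ∈ (MS c).Hom P := by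
  obtain ⟨τ, hτ, -, hτe⟩ := h
  exact mem_of_eq_res hτ (le_normalizerIn hPT) (fun x => (hτe x _).symm)

theorem Cl.map (h : Cl c B' P) {χ : P →* Ω} (hχ : χ ∈ (JJ c).Hom P) (hr : χ.range = P₁) : Cl c B' P₁ := by
  subst hr
  refine ⟨le_range c h.1 hχ.1, range_le_T c h.2.1 hχ.1, ?_⟩
  obtain ⟨-, -, -, β, hβ, hind⟩ := hχ
  haveI := c.finT'
  exact Basic.IsConj.trans (Basic.IsConj.symm ⟨β, hβ, range_eq_image c hind⟩) h.2.2

/-- Transports exist. -/
theorem exists_tr (hFN : Nb.IsFullyNormalized B') (hP : Cl c B' P) : ∃ e : P ≃* preimageAlong θ B', IsTr c B' e := by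
  classical
  obtain ⟨hZP, hPT, hconj⟩ := hP
  have hPS := hPT.trans c.hTS
  have hB'S := hFN.1.trans c.hT'S'
  have hIT := c.image_le_T' hPT
  haveI := c.finT'
  obtain ⟨φ, hφ, hv, hm⟩ := exists_map_to_fullyNormalized c.hT'p c.hNs hFN hconj
  obtain ⟨ξ, hξ, hind⟩ := exists_lift_MS c hφ
  have hle : normalizerIn T P ≤ preimageAlong θ (normalizerIn T' (imageAlong θ P)) := by
    intro x hx
    exact mem_preimage.2 ⟨c.hTS hx.1, image_mem_normalizer c hZP hPT hx _⟩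
  let τ := ξ.comp (Subgroup.inclusion hle)
  have hτ : τ ∈ (MS c).Hom (normalizerIn T P) := res_mem hξ hle
  have hPN : P ≤ normalizerIn T P := le_normalizerIn hPT
  let τ₀ := τ.comp (Subgroup.inclusion hPN)
  have hτ₀ : τ₀ ∈ (MS c).Hom P := res_mem hτ hPN
  obtain ⟨hP0, hvv, hmem, he⟩ := hind
  have hτv : ∀ x, τ x ∈ normalizerIn T (preimageAlong θ B') := by
    intro x
    refine ⟨map_mem_S hτ x, ?_⟩
    have h1 : θ ⟨τ x, hvv _⟩ ∈ Subgroup.normalizer ((B' : Subgroup Ω') : Set Ω') := by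
      show θ ⟨ξ (Subgroup.inclusion hle x), hvv _⟩ ∈ _
      rw [← he _]
      exact (hv _).2
    exact Cfsg.Agent.Lib.Fusion.Image.mem_normalizer_preimage h1
  have hr : τ₀.range = preimageAlong θ B' := by
    have h1 : imageAlong θ τ₀.range = B' := by
      apply le_antisymm
      · rintro _ ⟨s, ⟨x, hx⟩, rfl⟩
        have e1 : s = ⟨ξ ⟨x, hle (hPN x.2)⟩, hvv _⟩ := Subtype.ext hx.symm
        show θ s ∈ B'
        rw [e1, ← he ⟨x, hle (hPN x.2)⟩]
        refine hm.le ⟨_, ?_, rfl⟩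
        exact ⟨⟨x, hPS x.2⟩, x.2, rfl⟩
      · intro y hy
        rw [← hm] at hy
        obtain ⟨w, hw, rfl⟩ := hy
        obtain ⟨s, hs, hsw⟩ := Subgroup.mem_subgroupOf.1 hw
        have hs' : (s : Ω) ∈ P := hs
        refine ⟨⟨ξ ⟨s, hle (hPN hs')⟩, hvv _⟩, ⟨⟨s, hs'⟩, rfl⟩, ?_⟩
        rw [← he ⟨s, hle (hPN hs')⟩]
        congr 1
        exact Subtype.ext hsw
    rw [← h1]
    exact (c.preimage_image_eq' (le_range c hZP (MS_le_F c hτ₀)) (range_le (MS_le_F c hτ₀))).symm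
  exact ⟨isoOfRange ((MS c).injective_of_mem hτ₀) hr, τ, hτ, hτv, fun x hx => rfl⟩

omit c in
/-- The statement proved by induction over `MS`. -/
def PiCoh (c : Ctx p F Z T θ Fb Nb) (B' : Subgroup Ω') (tr : ∀ P', Cl c B' P' → (P' ≃* preimageAlong θ B')) (Q : Subgroup Ω)
    (φ : Q →* Ω) : Prop :=
  ∀ (P' P'' : Subgroup Ω) (hP' : Cl c B' P') (hP'' : Cl c B' P'') (hPQ : P' ≤ Q) (f : P' ≃* P''),
    (∀ x : P', ((f x : P'') : Ω) = φ (Subgroup.inclusion hPQ x)) →
      ((tr P' hP').symm.trans (f.trans (tr P'' hP'')) : MulAut (preimageAlong θ B')) ∈ MM c (preimageAlong θ B')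

/-- The statement, for all maps of `MS`. -/
theorem coh_all (hFN : Nb.IsFullyNormalized B') (hBc : Nb.IsCentric B')
    (IH : ∀ P, Hs c P → Nat.card (preimageAlong θ B') < Nat.card P → (MS c).autGroup P ≤ MM c P)
    (tr : ∀ P', Cl c B' P' → (P' ≃* preimageAlong θ B')) (htr : ∀ P' h, IsTr c B' (tr P' h)) :
    ∀ {Q : Subgroup Ω} {φ : Q →* Ω}, φ ∈ (MS c).Hom Q → PiCoh c B' tr Q φ := by
  classical
  refine MS_induction c (PiCoh c B' tr) ?_ ?_ ?_ ?_
  · -- generators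
    intro Q hQ α hα P' P'' hP' hP'' hPQ f hf
    have hQT := hQ.2.1
    have hQS := hQT.trans c.hTS
    by_cases hne : P' = Q
    · subst hne
      have hP''e : P'' = P' := by
        ext y
        constructor
        · intro hy
          have h1 := hf (f.symm ⟨y, hy⟩)
          simp only [MulEquiv.apply_symm_apply] at h1
          rw [show y = _ from h1]
          exact (α _).2
        · intro hy
          have h1 := hf (α⁻¹ ⟨y, hy⟩)
          have h2 : (Subgroup.inclusion hPQ (α⁻¹ ⟨y, hy⟩) : P') = α⁻¹ ⟨y, hy⟩ := rfl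
          have h3 : P'.subtype.comp α.toMonoidHom (Subgroup.inclusion hPQ (α⁻¹ ⟨y, hy⟩)) = y := by
            rw [h2]
            simp
          rw [h3] at h1
          rw [← h1]
          exact (f _).2
      subst hP''e
      have hfα : f = α := by
        ext x
        exact hf x
      subst hfα
      exact MM_congr c hP'.1 hP'.2.1 (MS_le_F c (IsTr.hom c (htr _ hP') hQT)) (tr _ hP') (fun _ => rfl) hα
    · have hlt : P' < Q := lt_of_le_of_ne hPQ hne
      have hPp : IsPGroup p Q := c.hS.to_le hQS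
      haveI : Finite Q := finite_of_le hQS
      have hU := Cfsg.Agent.Lib.Fusion.Saturated2.lt_normalizerIn hPp hlt
      have hUQ : normalizerIn Q P' ≤ Q := normalizerIn_le
      have hUN' : normalizerIn Q P' ≤ normalizerIn T P' := fun x hx => ⟨hQT hx.1, hx.2⟩
      obtain ⟨τ', hτ', hτ'v, hτ'e⟩ := htr P' hP'
      obtain ⟨τ'', hτ'', hτ''v, hτ''e⟩ := htr P'' hP''
      have hτ₀ : τ'.comp (Subgroup.inclusion hUN') ∈ (MS c).Hom (normalizerIn Q P') := res_mem hτ' hUN'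
      obtain ⟨ψ, hψ, hψr, h1, h2⟩ := exists_inv hτ₀ rfl
      have hψv : ∀ y, ψ y ∈ normalizerIn Q P' := fun y => hψr.le ⟨y, rfl⟩
      obtain ⟨α₀, hα₀, hα₀e⟩ : ∃ α₀ ∈ (MS c).Hom (normalizerIn Q P'), ∀ x, α₀ x = ((α (Subgroup.inclusion hUQ x) : Q) : Ω) :=
        ⟨_, res_mem (MS_gen c hQ hα) hUQ, fun _ => rfl⟩
      have hP''Q : P'' ≤ Q := by
        intro y hy
        have h3 := hf (f.symm ⟨y, hy⟩)
        simp only [MulEquiv.apply_symm_apply] at h3
        rw [show y = _ from h3]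
        exact (α _).2
      have hi : ∀ y : Q, (y : Ω) ∈ P' → ((α y : Q) : Ω) ∈ P'' := by
        intro y hy
        have h3 := hf ⟨y, hy⟩
        have e3 : ((Q.subtype.comp α.toMonoidHom) (Subgroup.inclusion hPQ ⟨y, hy⟩)) = ((α y : Q) : Ω) := rfl
        rw [e3] at h3
        rw [← h3]
        exact (f _).2
      have hii : ∀ y : Q, ((α y : Q) : Ω) ∈ P'' → (y : Ω) ∈ P' := by
        intro y hy
        have h3 := hf (f.symm ⟨_, hy⟩)
        simp only [MulEquiv.apply_symm_apply] at h3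
        have h4 : y = Subgroup.inclusion hPQ (f.symm ⟨_, hy⟩) := α.injective (Subtype.ext h3)
        rw [h4]
        exact (f.symm _).2
      have hα₀v : ∀ x, α₀ x ∈ normalizerIn T P'' := by
        intro x
        rw [hα₀e]
        refine ⟨hQT (α _).2, ?_⟩
        have hxN : (x : Ω) ∈ Subgroup.normalizer ((P' : Subgroup Ω) : Set Ω) := x.2.2
        have hval : ∀ y : Q, ((α (Subgroup.inclusion hUQ x) : Q) : Ω) * ((α y : Q) : Ω) * ((α (Subgroup.inclusion hUQ x) : Q) : Ω)⁻¹ =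
            ((α (Subgroup.inclusion hUQ x * y * (Subgroup.inclusion hUQ x)⁻¹) : Q) : Ω) := by
          intro y
          rw [map_mul, map_mul, map_inv]
          rfl
        refine Subgroup.mem_normalizer_iff.2 ?_
        intro h
        constructor
        · intro hh
          have e0 : h = ((α (α⁻¹ ⟨h, hP''Q hh⟩) : Q) : Ω) := by simp
          have hy := hii (α⁻¹ ⟨h, hP''Q hh⟩) (by rw [← e0]; exact hh)
          rw [e0, hval]
          exact hi _ ((Subgroup.mem_normalizer_iff.1 hxN _).1 hy)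
        · intro hh
          have hhQ : h ∈ Q := by
            have h5 := hP''Q hh
            have h6 : ((α (Subgroup.inclusion hUQ x) : Q) : Ω) ∈ Q := (α _).2
            have e5 : h = ((α (Subgroup.inclusion hUQ x) : Q) : Ω)⁻¹ * (((α (Subgroup.inclusion hUQ x) : Q) : Ω) * h * ((α (Subgroup.inclusion hUQ x) : Q) : Ω)⁻¹) * ((α (Subgroup.inclusion hUQ x) : Q) : Ω) := by group
            rw [e5]
            exact Q.mul_mem (Q.mul_mem (Q.inv_mem h6) h5) h6
          have e0 : h = ((α (α⁻¹ ⟨h, hhQ⟩) : Q) : Ω) := by simp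
          rw [e0, hval] at hh
          have hy := hii _ hh
          have hy' : ((α⁻¹ ⟨h, hhQ⟩ : Q) : Ω) ∈ P' := (Subgroup.mem_normalizer_iff.1 hxN _).2 hy
          rw [e0]
          exact hi _ hy'
      have hα₁ := (MS c).comp_mem hψ hα₀ hψv
      have hα₁v : ∀ x, (α₀.comp (ψ.codRestrict _ hψv)) x ∈ normalizerIn T P'' := fun x => hα₀v _
      have hξ := (MS c).comp_mem hα₁ hτ'' hα₁v
      have hP'U : P' ≤ normalizerIn Q P' := hU.le
      have hBU : preimageAlong θ B' ≤ (τ'.comp (Subgroup.inclusion hUN')).range := by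
        intro b hb
        refine ⟨⟨(tr P' hP').symm ⟨b, hb⟩, hP'U ((tr P' hP').symm ⟨b, hb⟩).2⟩, ?_⟩
        show τ' ⟨_, _⟩ = b
        rw [hτ'e]
        simp
      have hUN : (τ'.comp (Subgroup.inclusion hUN')).range ≤ normalizerIn T (preimageAlong θ B') := by
        rintro _ ⟨x, rfl⟩
        exact hτ'v _
      have hcard : Nat.card (preimageAlong θ B') < Nat.card (τ'.comp (Subgroup.inclusion hUN')).range := by
        rw [Nat.card_congr (MonoidHom.ofInjective ((MS c).injective_of_mem hτ₀)).toEquiv.symm,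
          ← Nat.card_congr (tr P' hP').toEquiv]
        haveI : Finite (normalizerIn Q P') := finite_of_le normalizerIn_le
        exact Cfsg.Agent.Lib.Fusion.Saturated2.card_lt_of_lt hU
      refine claim3 c hFN hBc IH hBU hUN hcard hξ (fun b => ?_)
      -- computing
      set x₀ : P' := (tr P' hP').symm b with hx₀
      have hb : (b : Ω) = τ' ⟨x₀, hUN' (hP'U x₀.2)⟩ := by
        rw [hτ'e]
        simp [hx₀]
      have e1 : (Subgroup.inclusion hBU b : (τ'.comp (Subgroup.inclusion hUN')).range) =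
          ⟨(τ'.comp (Subgroup.inclusion hUN')) ⟨x₀, hP'U x₀.2⟩, ⟨_, rfl⟩⟩ := Subtype.ext hb
      rw [e1]
      have e2 : ((τ''.comp ((α₀.comp (ψ.codRestrict _ hψv)).codRestrict _ hα₁v)) ⟨(τ'.comp (Subgroup.inclusion hUN')) ⟨x₀, hP'U x₀.2⟩, ⟨_, rfl⟩⟩) =
          τ'' ⟨f x₀, le_normalizerIn hP''.2.1 (f x₀).2⟩ := by
        show τ'' ⟨α₀ ⟨ψ ⟨(τ'.comp (Subgroup.inclusion hUN')) ⟨x₀, hP'U x₀.2⟩, ⟨_, rfl⟩⟩, hψv _⟩, hα₁v _⟩ = _
        congr 1
        apply Subtype.ext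
        show α₀ ⟨ψ ⟨(τ'.comp (Subgroup.inclusion hUN')) ⟨x₀, hP'U x₀.2⟩, ⟨_, rfl⟩⟩, hψv _⟩ = _
        have e3 : (⟨ψ ⟨(τ'.comp (Subgroup.inclusion hUN')) ⟨x₀, hP'U x₀.2⟩, ⟨_, rfl⟩⟩, hψv _⟩ : normalizerIn Q P') = ⟨x₀, hP'U x₀.2⟩ :=
          Subtype.ext (h1 ⟨x₀, hP'U x₀.2⟩ _)
        rw [e3, hα₀e]
        exact (hf x₀).symm
      rw [e2, hτ''e]
      rfl
  · -- restriction
    intro P R φ hφ H h P' P'' hP' hP'' hPQ f hf
    exact H P' P'' hP' hP'' (hPQ.trans h) f hf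
  · -- composition
    intro P Q φ ψ hφ hψ H1 H2 h P' P'' hP' hP'' hPQ f hf
    have hφ₀ := res_mem hφ hPQ
    have hPm : Cl c B' (φ.comp (Subgroup.inclusion hPQ)).range := Cl.map c hP' (MS_le_J c hφ₀) rfl
    have hPmQ : (φ.comp (Subgroup.inclusion hPQ)).range ≤ Q := by
      rintro _ ⟨x, rfl⟩
      exact h _
    let f₁ : P' ≃* (φ.comp (Subgroup.inclusion hPQ)).range := isoOfRange ((MS c).injective_of_mem hφ₀) rfl
    let f₂ : (φ.comp (Subgroup.inclusion hPQ)).range ≃* P'' := f₁.symm.trans f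
    have m₁ := H1 P' _ hP' hPm hPQ f₁ (fun _ => rfl)
    have m₂ := H2 _ P'' hPm hP'' hPmQ f₂ (fun y => by
      obtain ⟨x, rfl⟩ := f₁.surjective y
      have e1 : f₂ (f₁ x) = f x := by
        show f (f₁.symm (f₁ x)) = f x
        rw [f₁.symm_apply_apply]
      rw [e1, hf x]
      rfl)
    have e : ((tr P' hP').symm.trans (f.trans (tr P'' hP'')) : MulAut (preimageAlong θ B')) =
        ((tr _ hPm).symm.trans (f₂.trans (tr P'' hP'')) : MulAut (preimageAlong θ B')) *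
        ((tr P' hP').symm.trans (f₁.trans (tr _ hPm)) : MulAut (preimageAlong θ B')) := by
      ext b
      show (((tr P'' hP'') (f ((tr P' hP').symm b)) : preimageAlong θ B') : Ω) =
        (((tr P'' hP'') (f₂ ((tr _ hPm).symm ((tr _ hPm) (f₁ ((tr P' hP').symm b))))) : preimageAlong θ B') : Ω)
      rw [MulEquiv.symm_apply_apply]
      show _ = (((tr P'' hP'') (f (f₁.symm (f₁ ((tr P' hP').symm b)))) : preimageAlong θ B') : Ω)
      rw [MulEquiv.symm_apply_apply]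
    rw [e]
    exact Subgroup.mul_mem _ m₂ m₁
  · -- inverse
    intro P Q φ ψ hφ hψ hr h1 H P' P'' hP' hP'' hPQ f hf
    have hrep : ∀ x : P', ∃ w : P, φ w = x ∧ ((f x : P'') : Ω) = w := by
      intro x
      have hx : (x : Ω) ∈ φ.range := by
        rw [hr]
        exact hPQ x.2
      obtain ⟨w, hw⟩ := hx
      refine ⟨w, hw, ?_⟩
      rw [hf x]
      have e1 : Subgroup.inclusion hPQ x = ⟨φ w, hr.le ⟨w, rfl⟩⟩ := Subtype.ext hw.symm
      rw [e1]
      exact h1 w _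
    have hP''P : P'' ≤ P := by
      intro y hy
      obtain ⟨w, -, hw⟩ := hrep (f.symm ⟨y, hy⟩)
      simp only [MulEquiv.apply_symm_apply] at hw
      rw [show y = _ from hw]
      exact w.2
    have m := H P'' P' hP'' hP' hP''P f.symm (fun y => by
      obtain ⟨w, hw1, hw2⟩ := hrep (f.symm y)
      simp only [MulEquiv.apply_symm_apply] at hw2
      have e1 : Subgroup.inclusion hP''P y = w := Subtype.ext hw2
      rw [e1, hw1])
    have e : ((tr P' hP').symm.trans (f.trans (tr P'' hP'')) : MulAut (preimageAlong θ B')) =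
        ((tr P'' hP'').symm.trans (f.symm.trans (tr P' hP')) : MulAut (preimageAlong θ B'))⁻¹ := by
      rfl
    rw [e]
    exact Subgroup.inv_mem _ m

/-- One step of the downward induction. -/
theorem coh_step {P₀ : Subgroup Ω} (hP₀ : Hs c P₀)
    (IH : ∀ P, Hs c P → Nat.card P₀ < Nat.card P → (MS c).autGroup P ≤ MM c P) : (MS c).autGroup P₀ ≤ MM c P₀ := by
  classical
  haveI := c.finT'
  obtain ⟨hZP, hPT, hPc⟩ := id hP₀
  obtain ⟨B', hconj, hFN⟩ := exists_fullyNormalized (F := Nb) (c.image_le_T' hPT)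
  have hBc : Nb.IsCentric B' := Cfsg.Agent.Lib.Fusion.Subsystem.isCentric_of_isConj hPc hconj
  have hex : ∀ P', Cl c B' P' → ∃ e : P' ≃* preimageAlong θ B', IsTr c B' e := fun P' h => exists_tr c hFN h
  choose tr htr using hex
  have hP₀c : Cl c B' P₀ := ⟨hZP, hPT, hconj⟩
  have hcardB : Nat.card (preimageAlong θ B') = Nat.card P₀ := (Nat.card_congr (tr P₀ hP₀c).toEquiv).symm
  have IH' : ∀ P, Hs c P → Nat.card (preimageAlong θ B') < Nat.card P → (MS c).autGroup P ≤ MM c P := by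
    intro P hP h
    rw [hcardB] at h
    exact IH P hP h
  intro α hα
  have H := coh_all c hFN hBc IH' tr htr (autGroup_mem_hom hPT hα) P₀ P₀ hP₀c hP₀c le_rfl α (fun _ => rfl)
  have hHB := hs_preimage c hFN.1 hBc
  have hsym := symm_mem c (MS_le_F c (IsTr.hom c (htr P₀ hP₀c) hPT)) (tr P₀ hP₀c) (fun _ => rfl)
  have h1 := MM_congr c hHB.1 hHB.2.1 hsym (tr P₀ hP₀c).symm (fun _ => rfl) H
  have e : MulAut.congr (tr P₀ hP₀c).symm ((tr P₀ hP₀c).symm.trans (α.trans (tr P₀ hP₀c)) : MulAut (preimageAlong θ B')) = α := by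
    ext x
    simp [MulAut.congr_apply]
  rwa [e] at h1

/-- **Coherence**: `Aut_MS(P) = M(P)` on `ℋ`. -/
theorem coherence {P₀ : Subgroup Ω} (hP₀ : Hs c P₀) : (MS c).autGroup P₀ ≤ MM c P₀ := by
  haveI : Finite T := finite_of_le c.hTS
  suffices H : ∀ (n : ℕ) (P : Subgroup Ω), Hs c P → Nat.card T - Nat.card P = n → (MS c).autGroup P ≤ MM c P from
    H _ P₀ hP₀ rfl
  intro n
  induction n using Nat.strong_induction_on with
  | _ n ih =>
    intro P hP hn
    refine coh_step c hP (fun Q hQ hlt => ih _ ?_ Q hQ rfl)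
    have h1 : Nat.card Q ≤ Nat.card T :=
      Nat.card_le_card_of_injective (Subgroup.inclusion hQ.2.1) (Subgroup.inclusion_injective hQ.2.1)
    omega

theorem MM_le_MS (hQ : Hs c Q) : MM c Q ≤ (MS c).autGroup Q := fun _ hα => mem_autGroup_of_mem (MS_gen c hQ hα)

end Cfsg.Agent.Lib.Fusion.CLift
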