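/-
Lifting a normal subsystem along a central quotient: invariance under `Aut_F(T)`, transport, local properties.
-/
import Mathlib
import Cfsg.Agent.Lib.Fusion.CLift6
import Cfsg.Agent.Lib.Fusion.SatCrit8

set_option autoImplicit false
set_option linter.style.haveILetI false
set_option linter.unusedSectionVars false

namespace Cfsg.Agent.Lib.Fusion.CLift

open Cfsg Cfsg.FusionSystem Cfsg.Agent.Lib.Fusion.Basic Cfsg.Agent.Lib.Fusion.Saturated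
open Cfsg.Agent.Lib.Fusion.Saturated2 (autOfHom autOfHom_mem)
open Cfsg.Agent.Lib.Fusion.LocalSystems (map_mem_sup_of_ext)
open Cfsg.Agent.Lib.Fusion.Joins (exists_hom_of_eq)
open Cfsg.Agent.Lib.Fusion.NormalPair (stronglyClosed_apply)
open Cfsg.Agent.Lib.Fusion.NormalCR
open Cfsg.Agent.Lib.Fusion.GoodLift
open Cfsg.Agent.Lib.Fusion.CLiftG
open Cfsg.Agent.Lib.Fusion.FactorMorphism
open Cfsg.Agent.Lib.Fusion.Image (toImage toImage_surjective)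
open Cfsg.Agent.Lib.Fusion.AlperinInduct (alperin_induction)
open Cfsg.Agent.Lib.Fusion.QdFreeFactor (mem_normalizer_preimage_iff)
open Cfsg.Agent.Lib.Fusion.PPrime
open Cfsg.Agent.Lib.Fusion.SatCrit (imgOf mem_imgOf imgOf_le)

variable {Ω : Type*} [Group Ω] {S Z T : Subgroup Ω} {Ω' : Type*} [Group Ω'] {S' T' : Subgroup Ω'}

/-! ### Transport along an automorphism of `T` -/

section Transport

variable {P Q : Subgroup Ω}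

theorem range_resA (β : MulAut T) (hP : P ≤ T) : (resA β hP).range = imgOf β P := by
  ext y
  constructor
  · rintro ⟨x, rfl⟩
    exact (apply_mem_imgOf β _).2 x.2
  · rintro ⟨_, ⟨x, hx, rfl⟩, rfl⟩
    exact ⟨⟨x, hx⟩, rfl⟩

theorem resA_injective (β : MulAut T) (hP : P ≤ T) : Function.Injective (resA β hP) := by
  intro a b hab
  have h1 : β ⟨a, hP a.2⟩ = β ⟨b, hP b.2⟩ := Subtype.ext hab
  have h2 := β.injective h1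
  exact Subtype.ext (congrArg (fun t : T => (t : Ω)) h2)

/-- The isomorphism onto the image. -/
noncomputable def imgIso (β : MulAut T) (hP : P ≤ T) : P ≃* imgOf β P :=
  isoOfRange (resA_injective β hP) (range_resA β hP)

theorem imgIso_apply (β : MulAut T) (hP : P ≤ T) (x : P) : ((imgIso β hP x : imgOf β P) : Ω) = ((β ⟨x, hP x.2⟩ : T) : Ω) := rfl

theorem imgOf_inv_imgOf (β : MulAut T) (hP : P ≤ T) : imgOf β⁻¹ (imgOf β P) = P := by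
  ext y
  constructor
  · intro hy
    have hyT := imgOf_le β⁻¹ _ hy
    have h1 := (mem_imgOf (γ := β⁻¹) (R := imgOf β P) ⟨y, hyT⟩).1 hy
    have h2 := (mem_imgOf (γ := β) (R := P) ((β⁻¹)⁻¹ ⟨y, hyT⟩)).1 h1
    simpa using h2
  · intro hy
    refine (mem_imgOf (γ := β⁻¹) (R := imgOf β P) ⟨y, hP hy⟩).2 ?_
    refine (mem_imgOf (γ := β) (R := P) ((β⁻¹)⁻¹ ⟨y, hP hy⟩)).2 ?_
    simpa using hy

theorem imgOf_imgOf_inv (β : MulAut T) (hP : P ≤ T) : imgOf β (imgOf β⁻¹ P) = P := by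
  have h := imgOf_inv_imgOf β⁻¹ hP
  rwa [inv_inv] at h

theorem congr_mem_autT (β : MulAut T) (e : P ≃* Q) (he : ∀ (x : P) (hx : (x : Ω) ∈ T), ((e x : Q) : Ω) = ((β ⟨x, hx⟩ : T) : Ω))
    (hP : P ≤ T) {a : MulAut P} (ha : a ∈ autInducedBy T P) : MulAut.congr e a ∈ autInducedBy T Q := by
  obtain ⟨t, ht, htv⟩ := mem_autInducedBy_iff.1 ha
  refine mem_autInducedBy_iff.2 ⟨β ⟨t, ht⟩, (β ⟨t, ht⟩).2, fun y => ?_⟩
  obtain ⟨x, rfl⟩ := e.surjective y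
  have e2 : (MulAut.congr e a) (e x) = e (a x) := by simp [MulAut.congr_apply]
  rw [e2, he _ (hP (a x).2), he _ (hP x.2)]
  have e3 : (⟨((a x : P) : Ω), hP (a x).2⟩ : T) = ⟨t, ht⟩ * ⟨x, hP x.2⟩ * ⟨t, ht⟩⁻¹ := Subtype.ext (htv x)
  rw [e3, map_mul, map_mul, map_inv]
  rfl

variable {E : FusionSystem T}

theorem congr_mem_aut {β : MulAut T} (hinv : ∀ {R : Subgroup Ω} {φ : R →* Ω} (hφ : φ ∈ E.Hom R), conjMap β φ (map_mem_S hφ) ∈ E.Hom (imgOf β R))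
    (hPQ : imgOf β P = Q) (hP : P ≤ T) (e : P ≃* Q) (he : ∀ (x : P) (hx : (x : Ω) ∈ T), ((e x : Q) : Ω) = ((β ⟨x, hx⟩ : T) : Ω))
    {a : MulAut P} (ha : a ∈ E.autGroup P) : MulAut.congr e a ∈ E.autGroup Q := by
  subst hPQ
  have h1 := hinv (autGroup_mem_hom hP ha)
  apply mem_autGroup_of_mem
  have e1 : (imgOf β P).subtype.comp (MulAut.congr e a).toMonoidHom = conjMap β (P.subtype.comp a.toMonoidHom) (map_mem_S (autGroup_mem_hom hP ha)) := by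
    ext y
    obtain ⟨x, rfl⟩ := e.surjective y
    have e2 : (MulAut.congr e a) (e x) = e (a x) := by simp [MulAut.congr_apply]
    show ((MulAut.congr e a (e x) : imgOf β P) : Ω) = _
    rw [e2, he _ (hP (a x).2)]
    have hb : ((β ⟨x, hP x.2⟩ : T) : Ω) ∈ imgOf β P := (apply_mem_imgOf β _).2 x.2
    have e4 : e x = ⟨β ⟨x, hP x.2⟩, hb⟩ := Subtype.ext (he x (hP x.2))
    rw [e4]
    exact (isConjBy_conjMap β (P.subtype.comp a.toMonoidHom) (map_mem_S (autGroup_mem_hom hP ha)) ⟨x, hP x.2⟩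
      ⟨a x, hP (a x).2⟩ x.2 hb rfl).symm
  rw [e1]
  exact h1

theorem transport_FA {p : ℕ} [Fact p.Prime] [Finite T] {β : MulAut T}
    (hinv : ∀ {R : Subgroup Ω} {φ : R →* Ω} (hφ : φ ∈ E.Hom R), conjMap β φ (map_mem_S hφ) ∈ E.Hom (imgOf β R))
    (hinv' : ∀ {R : Subgroup Ω} {φ : R →* Ω} (hφ : φ ∈ E.Hom R), conjMap β⁻¹ φ (map_mem_S hφ) ∈ E.Hom (imgOf β⁻¹ R))
    (hS : IsPGroup p T) (hP : P ≤ T) (h : E.IsFullyAutomized p P) : E.IsFullyAutomized p (imgOf β P) := by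
  classical
  have hQ : imgOf β P ≤ T := imgOf_le β P
  rw [isFullyAutomized_iff hS hP] at h
  rw [isFullyAutomized_iff hS hQ]
  let e := imgIso β hP
  have he : ∀ (x : P) (hx : (x : Ω) ∈ T), ((e x : imgOf β P) : Ω) = ((β ⟨x, hx⟩ : T) : Ω) := fun _ _ => rfl
  have he' : ∀ (y : imgOf β P) (hy : (y : Ω) ∈ T), ((e.symm y : P) : Ω) = ((β⁻¹ ⟨y, hy⟩ : T) : Ω) := by
    intro y hy
    obtain ⟨x, rfl⟩ := e.surjective y
    have e1 : (⟨((e x : imgOf β P) : Ω), hy⟩ : T) = β ⟨x, hP x.2⟩ := Subtype.ext rfl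
    rw [e1]
    simp
  let f := (MulAut.congr e).toMonoidHom
  have hf : Function.Injective f := (MulAut.congr e).injective
  have hback : ∀ b : MulAut (imgOf β P), f (MulAut.congr e.symm b) = b := by
    intro b
    ext y
    simp [f, MulAut.congr_apply]
  have hA : (autInducedBy T P).map f = autInducedBy T (imgOf β P) := by
    apply le_antisymm
    · rintro _ ⟨a, ha, rfl⟩
      exact congr_mem_autT β e he hP ha
    · intro b hb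
      exact ⟨_, congr_mem_autT β⁻¹ e.symm he' hQ hb, hback b⟩
  have hE : (E.autGroup P).map f = E.autGroup (imgOf β P) := by
    apply le_antisymm
    · rintro _ ⟨a, ha, rfl⟩
      exact congr_mem_aut hinv rfl hP e he ha
    · intro b hb
      exact ⟨_, congr_mem_aut hinv' (imgOf_inv_imgOf β hP) hQ e.symm he' hb, hback b⟩
  rw [← hA, ← hE, Subgroup.relIndex_map_map_of_injective _ _ hf]
  exact h

omit [Group Ω'] in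
theorem conjMap_apply' (β : MulAut T) {R : Subgroup Ω} (φ : R →* Ω) (hv : ∀ x : R, φ x ∈ T) (a : T) (ha : (a : Ω) ∈ R)
    (y : Ω) (hy : y ∈ imgOf β R) (hya : y = ((β a : T) : Ω)) : conjMap β φ hv ⟨y, hy⟩ = ((β ⟨φ ⟨a, ha⟩, hv _⟩ : T) : Ω) := by
  subst hya
  exact isConjBy_conjMap β φ hv a ⟨φ ⟨a, ha⟩, hv _⟩ ha hy rfl

omit [Group Ω'] in
theorem normalizer_imgOf (γ : MulAut T) {R : Subgroup Ω} (g : T) (hg : (g : Ω) ∈ Subgroup.normalizer (R : Set Ω)) :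
    ((γ g : T) : Ω) ∈ Subgroup.normalizer ((imgOf γ R : Subgroup Ω) : Set Ω) := by
  refine Subgroup.mem_normalizer_iff.2 (fun w => ?_)
  by_cases hw : w ∈ T
  · have e : ((γ g : T) : Ω) * w * ((γ g : T) : Ω)⁻¹ = ((γ g * ⟨w, hw⟩ * (γ g)⁻¹ : T) : Ω) := rfl
    rw [e]
    have h1 := mem_imgOf (γ := γ) (R := R) ⟨w, hw⟩
    have h2 := mem_imgOf (γ := γ) (R := R) (γ g * ⟨w, hw⟩ * (γ g)⁻¹)
    have e2 : γ⁻¹ (γ g * ⟨w, hw⟩ * (γ g)⁻¹) = g * γ⁻¹ ⟨w, hw⟩ * g⁻¹ := by simp [map_mul]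
    rw [e2] at h2
    refine h1.trans (Iff.trans ?_ h2.symm)
    exact Subgroup.mem_normalizer_iff.1 hg _
  · constructor
    · intro h
      exact absurd (imgOf_le γ R h) hw
    · intro h
      exfalso
      apply hw
      have h3 := imgOf_le γ R h
      have e : w = ((γ g : T) : Ω)⁻¹ * (((γ g : T) : Ω) * w * ((γ g : T) : Ω)⁻¹) * ((γ g : T) : Ω) := by group
      rw [e]
      exact T.mul_mem (T.mul_mem (T.inv_mem (γ g).2) h3) (γ g).2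

theorem transport_R {β : MulAut T}
    (hinv : ∀ {R : Subgroup Ω} {φ : R →* Ω} (hφ : φ ∈ E.Hom R), conjMap β φ (map_mem_S hφ) ∈ E.Hom (imgOf β R))
    (hinv' : ∀ {R : Subgroup Ω} {φ : R →* Ω} (hφ : φ ∈ E.Hom R), conjMap β⁻¹ φ (map_mem_S hφ) ∈ E.Hom (imgOf β⁻¹ R))
    (hP : P ≤ T) (h : E.IsReceptive P) : E.IsReceptive (imgOf β P) := by
  classical
  refine ⟨imgOf_le β P, fun R φ hφ hr => ?_⟩
  have hRT : R ≤ T := source_le hφ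
  have hφ₁ := hinv' hφ
  have hv := map_mem_S hφ
  -- value of the transport
  have hval : ∀ (t : T) (ht : (t : Ω) ∈ imgOf β⁻¹ R) (hx₀ : ((β t : T) : Ω) ∈ R),
      conjMap β⁻¹ φ hv ⟨t, ht⟩ = ((β⁻¹ ⟨φ ⟨β t, hx₀⟩, hv _⟩ : T) : Ω) :=
    fun t ht hx₀ => conjMap_apply' β⁻¹ φ hv (β t) hx₀ t ht (by simp)
  have hmem : ∀ (t : T), (t : Ω) ∈ imgOf β⁻¹ R → ((β t : T) : Ω) ∈ R := by
    intro t ht
    have := (mem_imgOf (γ := β⁻¹) (R := R) t).1 ht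
    simpa using this
  have hr₁ : (conjMap β⁻¹ φ hv).range = P := by
    ext y
    constructor
    · rintro ⟨⟨w, hw⟩, rfl⟩
      have hwT := imgOf_le β⁻¹ R hw
      have hx := hmem ⟨w, hwT⟩ hw
      rw [hval ⟨w, hwT⟩ hw hx]
      have hφx : φ ⟨_, hx⟩ ∈ imgOf β P := hr.le ⟨_, rfl⟩
      exact (mem_imgOf (γ := β) (R := P) ⟨_, hv _⟩).1 hφx
    · intro hy
      have hb : ((β ⟨y, hP hy⟩ : T) : Ω) ∈ imgOf β P := (apply_mem_imgOf β _).2 hy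
      rw [← hr] at hb
      obtain ⟨x, hx⟩ := hb
      have hw : ((β⁻¹ ⟨x, hRT x.2⟩ : T) : Ω) ∈ imgOf β⁻¹ R := (apply_mem_imgOf β⁻¹ _).2 x.2
      refine ⟨⟨_, hw⟩, ?_⟩
      rw [conjMap_apply' β⁻¹ φ hv ⟨x, hRT x.2⟩ x.2 _ hw rfl]
      have e1 : (⟨φ ⟨x, x.2⟩, hv _⟩ : T) = β ⟨y, hP hy⟩ := Subtype.ext hx
      rw [e1]
      simp
  obtain ⟨Φ₁, hΦ₁, hΦ₁e⟩ := h.2 _ _ hφ₁ hr₁
  have hΦ₂ := hinv hΦ₁
  have hle : extender T R φ ≤ imgOf β (extender T (imgOf β⁻¹ R) (conjMap β⁻¹ φ hv)) := by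
    refine (Subgroup.closure_le _).2 ?_
    rintro g ⟨hgT, hgN, u, hu, huv⟩
    refine (mem_imgOf (γ := β) ⟨g, hgT⟩).2 ?_
    refine extender_closure_mem (β⁻¹ ⟨g, hgT⟩).2 (normalizer_imgOf β⁻¹ ⟨g, hgT⟩ hgN) (β⁻¹ ⟨u, hu⟩).2 ?_
    rintro ⟨w, hw⟩ hx
    have hwT := imgOf_le β⁻¹ R hw
    have hw₀ := hmem ⟨w, hwT⟩ hw
    have hgw : g * ((β ⟨w, hwT⟩ : T) : Ω) * g⁻¹ ∈ R := (Subgroup.mem_normalizer_iff.1 hgN _).1 hw₀
    have e1 := hval ⟨w, hwT⟩ hw hw₀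
    have e0 : ((β⁻¹ ⟨g, hgT⟩ : T) : Ω) * w * ((β⁻¹ ⟨g, hgT⟩ : T) : Ω)⁻¹ = ((β⁻¹ ⟨g, hgT⟩ * ⟨w, hwT⟩ * (β⁻¹ ⟨g, hgT⟩)⁻¹ : T) : Ω) := rfl
    have hbe : ((β (β⁻¹ ⟨g, hgT⟩ * ⟨w, hwT⟩ * (β⁻¹ ⟨g, hgT⟩)⁻¹) : T) : Ω) = g * ((β ⟨w, hwT⟩ : T) : Ω) * g⁻¹ := by
      simp [map_mul]
    have e2 := hval (β⁻¹ ⟨g, hgT⟩ * ⟨w, hwT⟩ * (β⁻¹ ⟨g, hgT⟩)⁻¹) hx (by rw [hbe]; exact hgw)
    show conjMap β⁻¹ φ hv ⟨((β⁻¹ ⟨g, hgT⟩ * ⟨w, hwT⟩ * (β⁻¹ ⟨g, hgT⟩)⁻¹ : T) : Ω), hx⟩ = _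
    rw [e2]
    show _ = ((β⁻¹ ⟨u, hu⟩ : T) : Ω) * conjMap β⁻¹ φ hv ⟨w, hw⟩ * ((β⁻¹ ⟨u, hu⟩ : T) : Ω)⁻¹
    rw [e1]
    have e3 : (⟨φ ⟨((β (β⁻¹ ⟨g, hgT⟩ * ⟨w, hwT⟩ * (β⁻¹ ⟨g, hgT⟩)⁻¹) : T) : Ω), by rw [hbe]; exact hgw⟩, hv _⟩ : T) =
        ⟨u, hu⟩ * ⟨φ ⟨((β ⟨w, hwT⟩ : T) : Ω), hw₀⟩, hv _⟩ * ⟨u, hu⟩⁻¹ := by
      apply Subtype.ext
      have h5 := huv ⟨_, hw₀⟩ hgw
      show φ _ = u * φ _ * u⁻¹
      rw [← h5]
      congr 1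
      exact Subtype.ext hbe
    rw [e3, map_mul, map_mul, map_inv]
    rfl
  refine ⟨_, res_mem hΦ₂ hle, fun x hxP hN => ?_⟩
  have hxT := hRT hxP
  have hb₁ : ((β⁻¹ ⟨x, hxT⟩ : T) : Ω) ∈ imgOf β⁻¹ R := (apply_mem_imgOf β⁻¹ _).2 hxP
  have hleR : imgOf β⁻¹ R ≤ extender T (imgOf β⁻¹ R) (conjMap β⁻¹ φ hv) := le_extender (imgOf_le _ _) (map_mem_S hφ₁)
  have e1 := hΦ₁e _ hb₁ (hleR hb₁)
  have e2 := conjMap_apply' β Φ₁ (map_mem_S hΦ₁) (β⁻¹ ⟨x, hxT⟩) (hleR hb₁) x (hle hN) (by simp)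
  show conjMap β Φ₁ (map_mem_S hΦ₁) ⟨x, hle hN⟩ = _
  rw [e2]
  have hx₀ : ((β (β⁻¹ ⟨x, hxT⟩) : T) : Ω) ∈ R := hmem _ hb₁
  have e3 : (⟨Φ₁ ⟨_, hleR hb₁⟩, map_mem_S hΦ₁ _⟩ : T) = β⁻¹ ⟨φ ⟨x, hxP⟩, hv _⟩ := by
    apply Subtype.ext
    show Φ₁ ⟨_, hleR hb₁⟩ = _
    rw [e1]
    exact conjMap_apply' β⁻¹ φ hv ⟨x, hxT⟩ hxP _ hb₁ rfl
  rw [e3]
  simp

end Transport

end Cfsg.Agent.Lib.Fusion.CLift
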