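/-
Lifting a normal subsystem along a central quotient: saturation of the lifted system.
-/
import Mathlib
import Cfsg.Agent.Lib.Fusion.CLift7

set_option autoImplicit false
set_option linter.style.haveILetI false
set_option linter.unusedSectionVars false

namespace Cfsg.Agent.Lib.Fusion.CLift

open Cfsg Cfsg.FusionSystem Cfsg.Agent.Lib.Fusion.Basic Cfsg.Agent.Lib.Fusion.Saturated
open Cfsg.Agent.Lib.Fusion.Saturated2 (autOfHom autOfHom_mem)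
open Cfsg.Agent.Lib.Fusion.LocalSystems (map_mem_sup_of_ext)
open Cfsg.Agent.Lib.Fusion.Joins (exists_hom_of_eq)
open Cfsg.Agent.Lib.Fusion.NormalPair (stronglyClosed_apply)
open Cfsg.Agent.Lib.Fusion.NormalCR
open Cfsg.Agent.Lib.Fusion.GoodLift
open Cfsg.Agent.Lib.Fusion.CLiftG
open Cfsg.Agent.Lib.Fusion.FactorMorphism
open Cfsg.Agent.Lib.Fusion.Image (toImage toImage_surjective)
open Cfsg.Agent.Lib.Fusion.AlperinInduct (alperin_induction)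
open Cfsg.Agent.Lib.Fusion.QdFreeFactor (mem_normalizer_preimage_iff)
open Cfsg.Agent.Lib.Fusion.PPrime
open Cfsg.Agent.Lib.Fusion.SatCrit (imgOf mem_imgOf imgOf_le)

variable {Ω : Type*} [Group Ω] {S Z T : Subgroup Ω} {Ω' : Type*} [Group Ω'] {S' T' : Subgroup Ω'}

theorem mem_normalizer_of_conj_mem {G : Type*} [Group G] [Finite G] {B : Subgroup G} {a : G} (h : ∀ b ∈ B, a * b * a⁻¹ ∈ B) :
    a ∈ Subgroup.normalizer (B : Set G) := by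
  classical
  refine Subgroup.mem_normalizer_iff.2 (fun x => ⟨h x, fun hx => ?_⟩)
  let f : B → B := fun b => ⟨a * b * a⁻¹, h b b.2⟩
  have hf : Function.Injective f := fun u v huv => Subtype.ext (by
    have := congrArg Subtype.val huv
    exact mul_left_cancel (mul_right_cancel this))
  obtain ⟨b, hb⟩ := (Finite.injective_iff_surjective.1 hf) ⟨_, hx⟩
  have h1 : a * b * a⁻¹ = a * x * a⁻¹ := congrArg Subtype.val hb
  have h2 : (b : G) = x := mul_left_cancel (mul_right_cancel h1)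
  rw [← h2]
  exact b.2

variable {F : FusionSystem S} {θ : S →* Ω'} {Fb : FusionSystem S'} {Nb : FusionSystem T'} {p : ℕ}
variable [Finite S] [hp : Fact p.Prime] (c : Ctx p F Z T θ Fb Nb) {P P₁ Q U : Subgroup Ω}

include c

theorem hTp : IsPGroup p T := c.hS.to_le c.hTS

theorem finT : Finite T := finite_of_le c.hTS

theorem resA_mem_F {β : MulAut T} (hβ : β ∈ F.autGroup T) (hQT : Q ≤ T) : resA β hQT ∈ F.Hom Q :=
  mem_of_eq_res (autGroup_mem_hom c.hTS hβ) hQT (fun _ => rfl)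

/-- `MS` is invariant under `Aut_F(T)`. -/
theorem MS_conjSys {β : MulAut T} (hβ : β ∈ F.autGroup T) : conjSys (MS c) β ∈ gens c := by
  intro Q hQ α hα
  have hQT := hQ.2.1
  have hχ := resA_mem_F c hβ hQT
  have hQ' : Hs c (imgOf β Q) := Hs.of_map c hQ hχ (range_resA β hQT)
  have hα' := MM_congr c hQ.1 hQT hχ (imgIso β hQT) (fun _ => rfl) hα
  refine ⟨hQT, fun x => hQT (α x).2, _, MS_gen c hQ' hα', ?_⟩
  intro a b ha hb hab
  have e1 : (⟨((β a : T) : Ω), hb⟩ : imgOf β Q) = imgIso β hQT ⟨a, ha⟩ := Subtype.ext rfl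
  show ((MulAut.congr (imgIso β hQT) α ⟨((β a : T) : Ω), hb⟩ : imgOf β Q) : Ω) = _
  rw [e1]
  have e2 : (MulAut.congr (imgIso β hQT) α) (imgIso β hQT ⟨a, ha⟩) = imgIso β hQT (α ⟨a, ha⟩) := by
    simp [MulAut.congr_apply]
  rw [e2, imgIso_apply]
  congr 2
  exact Subtype.ext hab

theorem MS_inv {β : MulAut T} (hβ : β ∈ F.autGroup T) {R : Subgroup Ω} {φ : R →* Ω} (hφ : φ ∈ (MS c).Hom R) :
    conjMap β φ (map_mem_S hφ) ∈ (MS c).Hom (imgOf β R) := by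
  obtain ⟨hR, hv, χ, hχ, hcb⟩ := MS_min c (MS_conjSys c hβ) hφ
  have h := hcb.eq_conjMap hR (map_mem_S hφ)
  rwa [← h]

/-- The lifting lemma, on a subgroup containing `Z`. -/
theorem exists_lift_MS' (hZP : Z ≤ P) (hPT : P ≤ T) {β : imageAlong θ P →* Ω'} (hβ : β ∈ Nb.Hom (imageAlong θ P)) :
    ∃ ξ ∈ (MS c).Hom P, InducedAlong θ ξ β := by
  have hPS := hPT.trans c.hTS
  obtain ⟨ξ₀, hξ₀, hP0, hv, hmem, he⟩ := exists_lift_MS c hβ
  have hpre := c.preimage_image_eq' hZP hPS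
  obtain ⟨ξ, hξ, hξe⟩ := exists_hom_of_eq (MS c) hpre ξ₀ hξ₀
  have hx1 : ∀ x : P, (x : Ω) ∈ preimageAlong θ (imageAlong θ P) := fun x => hpre.ge x.2
  have hξe' : ∀ x : P, ξ x = ξ₀ ⟨x, hx1 x⟩ := fun x => hξe x (hx1 x) x.2
  refine ⟨ξ, hξ, hPS, fun x => ?_, fun x => (toImage θ hPS x).2, fun x => ?_⟩
  · rw [hξe']
    exact hv _
  · have e1 : (⟨ξ x, by rw [hξe']; exact hv _⟩ : S) = ⟨ξ₀ ⟨x, hx1 x⟩, hv _⟩ := Subtype.ext (hξe' x)
    rw [e1]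
    exact he ⟨x, hx1 x⟩

/-- Fully automized at `F`-fully normalized subgroups. -/
theorem fullyAutomized_FN (hP : Hs c P) (hFN : F.IsFullyNormalized P) : (MS c).IsFullyAutomized p P := by
  classical
  haveI := finT c
  have hPT := hP.2.1
  rw [isFullyAutomized_iff (hTp c) hPT]
  intro hd
  haveI : Finite ((MS c).autGroup P) := finite_autGroup hPT
  haveI : Finite (MulAut P) := finite_mulAut hPT
  have hB : IsPGroup p ((autInducedBy T P).subgroupOf ((MS c).autGroup P)) :=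
    (isPGroup_autInducedBy (hTp c) P).comap_of_injective _ (Subgroup.subtype_injective _)
  obtain ⟨α, hαB, hαN, n, hn⟩ := Cfsg.Agent.Lib.Fusion.Saturated2.exists_pelement_normalizing hB hd
  have h1 : (α : MulAut P) ∈ MM c P := coherence c hP α.2
  have hN : (α : MulAut P) ∈ Subgroup.normalizer ((autInducedBy T P : Subgroup (MulAut P)) : Set (MulAut P)) := by
    refine mem_normalizer_of_conj_mem (fun b hb => ?_)
    have hbA : b ∈ (MS c).autGroup P := autInducedBy_le_autGroup hPT hb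
    exact Subgroup.mem_subgroupOf.1 (hαN ⟨b, hbA⟩ (Subgroup.mem_subgroupOf.2 hb))
  have h2 := mem_autT_of_normalizing c hP hFN h1 ⟨n, congrArg Subtype.val hn⟩ hN
  exact hαB (Subgroup.mem_subgroupOf.2 h2)

/-- Receptive at `F`-fully normalized subgroups. -/
theorem receptive_FN (hP : Hs c P) (hFN : F.IsFullyNormalized P) : (MS c).IsReceptive P := by
  classical
  haveI := finT c
  haveI := c.finT'
  refine ⟨hP.2.1, fun R φ hφ hr => ?_⟩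
  subst hr
  have hRT : R ≤ T := source_le hφ
  have hRS : R ≤ S := hRT.trans c.hTS
  obtain ⟨ψ, hψ, hψr, h1, h2⟩ := exists_inv hφ rfl
  have hZR : Z ≤ R := by
    have := le_range c hP.1 (MS_le_F c hψ)
    rwa [hψr] at this
  obtain ⟨-, -, -, φ', hφ', hind⟩ := MS_le_J c hφ
  have hr' : φ'.range = imageAlong θ φ.range := range_eq_image c hind
  have hFN' : Nb.IsFullyNormalized (imageAlong θ φ.range) := image_FN_Nb c hP.1 hP.2.1 hFN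
  obtain ⟨-, hrec⟩ := fullyNormalized_receptive c.hT'p c.hNs hFN'
  obtain ⟨ψ', hψ', hψ'e⟩ := hrec _ φ' hφ' hr'
  obtain ⟨hP0, hv, hmem, he⟩ := id hind
  have hN₀le : extender T R φ ≤ preimageAlong θ (extender T' (imageAlong θ R) φ') := by
    refine (Subgroup.closure_le _).2 ?_
    rintro g ⟨hgT, hgN, u, hu, huv⟩
    refine mem_preimage.2 ⟨c.hTS hgT, ?_⟩
    refine extender_closure_mem (c.mem_T.1 hgT).2 (image_mem_normalizer c hZR hRT ⟨hgT, hgN⟩ _).2 (c.mem_T.1 hu).2 ?_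
    rintro ⟨_, s, hs, rfl⟩ hx
    have hs' : (s : Ω) ∈ R := hs
    have hgs : g * (s : Ω) * g⁻¹ ∈ R := (Subgroup.mem_normalizer_iff.1 hgN _).1 hs'
    have e1 : (⟨θ ⟨g, c.hTS hgT⟩ * θ s * (θ ⟨g, c.hTS hgT⟩)⁻¹, hx⟩ : imageAlong θ R) =
        ⟨θ ⟨g * (s : Ω) * g⁻¹, hRS hgs⟩, hmem ⟨_, hgs⟩⟩ := by
      apply Subtype.ext
      show _ = θ (⟨g, c.hTS hgT⟩ * s * ⟨g, c.hTS hgT⟩⁻¹)
      rw [map_mul, map_mul, map_inv]
    have e2 : (⟨θ s, s, hs, rfl⟩ : imageAlong θ R) = ⟨θ ⟨(⟨s, hs'⟩ : R), hRS hs'⟩, hmem ⟨s, hs'⟩⟩ := rfl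
    show φ' _ = _ * φ' (⟨θ s, s, hs, rfl⟩ : imageAlong θ R) * _
    rw [e1, e2, he ⟨s, hs'⟩, he ⟨_, hgs⟩]
    have e3 : (⟨φ ⟨g * (s : Ω) * g⁻¹, hgs⟩, hv _⟩ : S) = ⟨u, c.hTS hu⟩ * ⟨φ ⟨s, hs'⟩, hv _⟩ * ⟨u, c.hTS hu⟩⁻¹ :=
      Subtype.ext (huv ⟨s, hs'⟩ hgs)
    rw [e3, map_mul, map_mul, map_inv]
  obtain ⟨ξ₀, hξ₀, hind₀⟩ := exists_lift_MS c hψ'
  have hξ := res_mem hξ₀ hN₀le
  have hRN : R ≤ extender T R φ := le_extender hRT (map_mem_S hφ)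
  have hξR := res_mem hξ hRN
  obtain ⟨hQ0, hv₀, hmem₀, he₀⟩ := hind₀
  have hred : ∀ x : R, (φ x)⁻¹ * ((ξ₀.comp (Subgroup.inclusion hN₀le)).comp (Subgroup.inclusion hRN)) x ∈ Z := by
    intro x
    refine c.mem_Z_of_eq (hv x) (hv₀ _) ?_
    have h3 := he₀ ⟨x, hN₀le (hRN x.2)⟩
    have h4 := hψ'e _ ⟨⟨x, hRS x.2⟩, x.2, rfl⟩ (mem_preimage.1 (hN₀le (hRN x.2))).2
    rw [← he x]
    exact (h4.symm.trans h3)
  obtain ⟨k, hk, hkK, hke⟩ := exists_cmp c hZR hξR hφ hred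
  have hkM := coherence c hP hk
  have hkT := MM_inter c hP hFN hkM (IsK.mem_autInduced c hFN hkK)
  obtain ⟨u, hu, huv⟩ := mem_autInducedBy_iff.1 hkT
  have hΦ := (MS c).comp_mem hξ ((MS c).conj_mem (le_rfl : T ≤ T) (T.inv_mem hu)) (map_mem_S hξ)
  refine ⟨_, hΦ, fun x hxP hN => ?_⟩
  show u⁻¹ * ξ₀ ⟨x, hN₀le hN⟩ * u⁻¹⁻¹ = _
  have h3 := huv ⟨φ ⟨x, hxP⟩, ⟨_, rfl⟩⟩
  have h4 := hke ⟨x, hxP⟩
  rw [h4] at h3
  have e5 : ξ₀ ⟨x, hN₀le hN⟩ = u * φ ⟨x, hxP⟩ * u⁻¹ := h3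
  rw [e5]
  group

/-- Lifting an automorphism of `T'`. -/
theorem exists_lift_aut {a : MulAut T'} (ha : a ∈ Fb.autGroup T') : ∃ b ∈ F.autGroup T, ∀ x : T,
    θ ⟨b x, c.hTS (b x).2⟩ = ((a ⟨θ ⟨x, c.hTS x.2⟩, (c.mem_T.1 x.2).2⟩ : T') : Ω') := by
  classical
  haveI := finT c
  have hm := autGroup_mem_hom c.hT'S' ha
  obtain ⟨-, φ₀, hφ₀, hP0, hv, hmem, he⟩ := (c.hiff _ _).1 hm
  obtain ⟨φ, hφ, hφe⟩ := exists_hom_of_eq F c.hT.symm φ₀ hφ₀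
  have hx1 : ∀ x : T, (x : Ω) ∈ preimageAlong θ T' := fun x => c.hT.le x.2
  have hφe' : ∀ x : T, φ x = φ₀ ⟨x, hx1 x⟩ := fun x => hφe x (hx1 x) x.2
  have hval : ∀ x, φ x ∈ T := c.hTsc.2 T le_rfl φ hφ
  refine ⟨autOfHom φ (F.injective_of_mem hφ) hval, autOfHom_mem hφ hval, fun x => ?_⟩
  have h1 := he ⟨x, hx1 x⟩
  have e1 : (⟨φ x, c.hTS (hval x)⟩ : S) = ⟨φ₀ ⟨x, hx1 x⟩, hv _⟩ := Subtype.ext (hφe' x)
  show θ ⟨φ x, c.hTS (hval x)⟩ = _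
  rw [e1, ← h1]
  rfl

/-- The `hsat` clause. -/
theorem sat_aux (hP : Hs c P) : ∃ Q, (MS c).IsConj P Q ∧ (MS c).IsFullyAutomized p Q ∧ (MS c).IsReceptive Q := by
  classical
  haveI := finT c
  haveI := c.finT'
  obtain ⟨hZP, hPT, -⟩ := id hP
  have hPS := hPT.trans c.hTS
  obtain ⟨P₁, ⟨χ, hχ, hr⟩, hFN⟩ := exists_fullyNormalized (F := F) hPS
  have hP₁ : Hs c P₁ := Hs.of_map c hP hχ hr
  have hP₁T := hP₁.2.1
  have hP₁S := hFN.1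
  obtain ⟨χ', hχ', hind⟩ := c.hmor.2 P χ hχ
  obtain ⟨a, ha, c', hc', hac⟩ := c.hinvN.2.2.2 _ (c.image_le_T' hPT) χ' hχ'
  obtain ⟨b, hb, hbe⟩ := exists_lift_aut c ha
  have hβ : b⁻¹ ∈ F.autGroup T := Subgroup.inv_mem _ hb
  obtain ⟨ξ, hξ, hind₂⟩ := exists_lift_MS' c hZP hPT hc'
  obtain ⟨hP0, hv, hmem, he⟩ := hind
  obtain ⟨hP0', hv', hmem', he'⟩ := hind₂
  have hval : ∀ x, ξ x ∈ imgOf b⁻¹ P₁ := by
    intro x
    have hξT : ξ x ∈ T := map_mem_S hξ x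
    refine (mem_imgOf (γ := b⁻¹) (R := P₁) ⟨ξ x, hξT⟩).2 ?_
    rw [inv_inv]
    refine c.mem_of_image hP₁.1 hP₁S (c.hTS (b _).2) ?_
    rw [hbe]
    have h1 := hac ⟨_, hmem x⟩ (c.image_le_T' hPT |> fun _ => (Nb.le_of_mem hc').2 _)
    have h2 := he x
    have h3 : (⟨((c' ⟨_, hmem x⟩ : Ω')), (Nb.le_of_mem hc').2 _⟩ : T') = ⟨θ ⟨ξ x, c.hTS hξT⟩, (c.mem_T.1 hξT).2⟩ :=
      Subtype.ext (he' x)
    rw [h3] at h1
    rw [← h1, h2]
    have hχx : χ x ∈ P₁ := hr.le ⟨x, rfl⟩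
    exact ⟨⟨χ x, hv x⟩, hχx, rfl⟩
  have hc1 : Nat.card (imgOf b⁻¹ P₁) = Nat.card P := by
    rw [← Nat.card_congr (imgIso b⁻¹ hP₁T).toEquiv, ← hr,
      Nat.card_congr (MonoidHom.ofInjective (F.injective_of_mem hχ)).toEquiv.symm]
  haveI : Finite (imgOf b⁻¹ P₁) := finite_of_le (imgOf_le _ _)
  have hrange : ξ.range = imgOf b⁻¹ P₁ := range_eq_of_card hξ hval hc1.le
  refine ⟨_, ⟨ξ, hξ, hrange⟩, ?_, ?_⟩
  · exact transport_FA (fun {R φ} h => MS_inv c hβ h) (fun {R φ} h => MS_inv c (Subgroup.inv_mem _ hβ) h) (hTp c) hP₁T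
      (fullyAutomized_FN c hP₁ hFN)
  · exact transport_R (fun {R φ} h => MS_inv c hβ h) (fun {R φ} h => MS_inv c (Subgroup.inv_mem _ hβ) h) hP₁T
      (receptive_FN c hP₁ hFN)

/-- Automorphisms in `MS` trivial modulo `Z`: a normal `p`-subgroup. -/
def KMS (c : Ctx p F Z T θ Fb Nb) (Q : Subgroup Ω) : Subgroup ((MS c).autGroup Q) where
  carrier := {a | TrivMod Z Q (a : MulAut Q)}
  one_mem' := fun x => by simp
  mul_mem' := fun ha hb => TrivMod.mul ha hb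
  inv_mem' := fun ha => TrivMod.inv ha

theorem MSaut_le_F (hQT : Q ≤ T) : (MS c).autGroup Q ≤ F.autGroup Q := fun a ha =>
  mem_autGroup_of_mem (MS_le_F c (autGroup_mem_hom hQT ha))

theorem KMS_normal (hQT : Q ≤ T) : (KMS c Q).Normal := by
  constructor
  intro n hn g
  have hF := MSaut_le_F c hQT
  exact (IsK.conj c (hQT.trans c.hTS) (k := (n : MulAut Q)) ⟨hF n.2, hn⟩ (hF g.2)).2

theorem KMS_isPGroup (hQT : Q ≤ T) : IsPGroup p (KMS c Q) := by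
  have hQS := hQT.trans c.hTS
  have hF := MSaut_le_F c hQT
  intro d
  have hd : (⟨((d : (MS c).autGroup Q) : MulAut Q), hF d.1.2⟩ : F.autGroup Q) ∈ DeltaK F Z Q :=
    (isK_iff c hQS (hF d.1.2)).2 ⟨hF d.1.2, d.2⟩
  obtain ⟨n, hn⟩ := isPGroup_DeltaK (F := F) (T := Z) c.hS hQS ⟨_, hd⟩
  refine ⟨n, ?_⟩
  apply Subtype.ext
  apply Subtype.ext
  have h1 := congrArg (fun t : DeltaK F Z Q => ((t : F.autGroup Q) : MulAut Q)) hn
  exact h1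

/-- The `hstar` clause. -/
theorem star_aux (hPc : (MS c).IsCentric P) (hnot : ¬ Hs c P) : ∃ Q, (MS c).IsConj P Q ∧
    ¬ (autInducedBy T Q ⊓ (pCore p ↥((MS c).autGroup Q)).map ((MS c).autGroup Q).subtype ≤ Inn Q) := by
  classical
  haveI := finT c
  haveI := c.finT'
  haveI := c.finS'
  have hPT : P ≤ T := hPc.1
  have hPS := hPT.trans c.hTS
  have hZP : Z ≤ P := by
    intro z hz
    refine hPc.2 P ⟨P.subtype, subtype_mem hPT, Subgroup.range_subtype P⟩ ⟨c.hZT hz, Subgroup.mem_centralizer_iff.2 ?_⟩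
    intro y hy
    exact central_comm c.hZ hz (hPS hy)
  have hnc : ¬ Nb.IsCentric (imageAlong θ P) := fun h => hnot ⟨hZP, hPT, h⟩
  have hex : ∃ Q', Nb.IsConj (imageAlong θ P) Q' ∧ ¬ centralizerIn T' Q' ≤ Q' := by
    by_contra hcon
    apply hnc
    refine ⟨c.image_le_T' hPT, fun Q' hQ' => ?_⟩
    by_contra h
    exact hcon ⟨Q', hQ', h⟩
  obtain ⟨Q', ⟨β, hβ, hr⟩, hcen⟩ := hex
  obtain ⟨x', hx'C, hx'Q⟩ := SetLike.not_le_iff_exists.1 hcen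
  obtain ⟨ξ, hξ, hind⟩ := exists_lift_MS' c hZP hPT hβ
  have hr₂ : imageAlong θ ξ.range = Q' := (range_eq_image c hind).symm.trans hr
  have hξF := MS_le_F c hξ
  have hZQ : Z ≤ ξ.range := le_range c hZP hξF
  have hQT : ξ.range ≤ T := range_le hξ
  have hQS := hQT.trans c.hTS
  obtain ⟨x₁, hx₁⟩ : x' ∈ θ.range := by
    rw [c.hrange]
    exact c.hT'S' hx'C.1
  have hxT : (x₁ : Ω) ∈ T := c.mem_T.2 ⟨x₁.2, by simpa [hx₁] using hx'C.1⟩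
  have hxQ : (x₁ : Ω) ∉ ξ.range := by
    intro h
    apply hx'Q
    rw [← hr₂, ← hx₁]
    exact ⟨x₁, h, rfl⟩
  have hcomm : ∀ y ∈ Q', y * x' = x' * y := fun y hy => Subgroup.mem_centralizer_iff.1 hx'C.2 y hy
  -- the key
  have hkey : ∀ (g : S), (∀ y ∈ Q', y * θ g = θ g * y) → ∀ y ∈ ξ.range, y⁻¹ * ((g : Ω) * y * (g : Ω)⁻¹) ∈ Z := by
    intro g hg y hy
    have hyS := hQS hy
    refine c.mem_Z_of_eq hyS (S.mul_mem (S.mul_mem g.2 hyS) (S.inv_mem g.2)) ?_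
    have e1 : (⟨(g : Ω) * y * (g : Ω)⁻¹, S.mul_mem (S.mul_mem g.2 hyS) (S.inv_mem g.2)⟩ : S) = g * ⟨y, hyS⟩ * g⁻¹ := rfl
    rw [e1, map_mul, map_mul, map_inv]
    have h1 : θ ⟨y, hyS⟩ ∈ Q' := by
      rw [← hr₂]
      exact ⟨⟨y, hyS⟩, hy, rfl⟩
    rw [← hg _ h1]
    group
  have hkey₁ := hkey x₁ (fun y hy => by rw [hx₁]; exact hcomm y hy)
  have hkey₂ := hkey x₁⁻¹ (fun y hy => by
    rw [map_inv, hx₁]
    have := hcomm y hy
    calc y * x'⁻¹ = x'⁻¹ * (x' * y) * x'⁻¹ := by group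
      _ = x'⁻¹ * (y * x') * x'⁻¹ := by rw [this]
      _ = x'⁻¹ * y := by group)
  have hmulZ : ∀ y ∈ ξ.range, ∀ w : Ω, y⁻¹ * w ∈ Z → w ∈ ξ.range := by
    intro y hy w hw
    have e : w = y * (y⁻¹ * w) := by group
    rw [e]
    exact Subgroup.mul_mem _ hy (hZQ hw)
  have hxN : (x₁ : Ω) ∈ Subgroup.normalizer ((ξ.range : Subgroup Ω) : Set Ω) := by
    refine Subgroup.mem_normalizer_iff.2 (fun y => ⟨fun hy => hmulZ y hy _ (hkey₁ y hy), fun hy => ?_⟩)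
    have h1 := hkey₂ _ hy
    have e : ((x₁⁻¹ : S) : Ω) * ((x₁ : Ω) * y * (x₁ : Ω)⁻¹) * ((x₁⁻¹ : S) : Ω)⁻¹ = y := by
      simp [mul_assoc]
    rw [e] at h1
    exact hmulZ _ hy _ h1
  refine ⟨ξ.range, ⟨ξ, hξ, rfl⟩, fun hle => ?_⟩
  have hcT : normConj (x₁ : Ω) hxN ∈ autInducedBy T ξ.range := normConj_mem_autInducedBy hxT hxN
  have hcA : normConj (x₁ : Ω) hxN ∈ (MS c).autGroup ξ.range := autInducedBy_le_autGroup hQT hcT
  have hcK : (⟨_, hcA⟩ : (MS c).autGroup ξ.range) ∈ KMS c ξ.range := fun y => hkey₁ y y.2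
  have hcore := Cfsg.Agent.Lib.Basic.PCore.le_pCore (KMS_normal c hQT) (KMS_isPGroup c hQT) hcK
  obtain ⟨q, hq⟩ := hle ⟨hcT, ⟨_, hcore, rfl⟩⟩
  have hqv : ∀ y : ξ.range, (q : Ω) * y * (q : Ω)⁻¹ = (x₁ : Ω) * y * (x₁ : Ω)⁻¹ := by
    intro y
    have h1 := congrArg (fun a : MulAut ξ.range => ((a y : ξ.range) : Ω)) hq
    exact h1
  have hcc : (q : Ω)⁻¹ * x₁ ∈ centralizerIn T ξ.range := by
    refine ⟨T.mul_mem (T.inv_mem (hQT q.2)) hxT, Subgroup.mem_centralizer_iff.2 (fun y hy => ?_)⟩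
    have h1 := hqv ⟨y, hy⟩
    have h2 : (x₁ : Ω) * y = (q : Ω) * y * (q : Ω)⁻¹ * x₁ := by
      rw [show (q : Ω) * y * (q : Ω)⁻¹ = (x₁ : Ω) * y * (x₁ : Ω)⁻¹ from h1]
      group
    calc y * ((q : Ω)⁻¹ * x₁) = (q : Ω)⁻¹ * ((q : Ω) * y * (q : Ω)⁻¹ * x₁) := by group
      _ = (q : Ω)⁻¹ * ((x₁ : Ω) * y) := by rw [h2]
      _ = _ := by group
  have hin := hPc.2 ξ.range ⟨ξ, hξ, rfl⟩ hcc
  apply hxQ
  have e : (x₁ : Ω) = (q : Ω) * ((q : Ω)⁻¹ * x₁) := by group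
  rw [e]
  exact Subgroup.mul_mem _ q.2 hin

/-- **`MS` is saturated.** -/
theorem isSaturated_MS : (MS c).IsSaturated p := by
  haveI := finT c
  refine Cfsg.Agent.Lib.Fusion.SatCrit.isSaturated_of_family (hTp c) {P | Hs c P} (fun P hP => hP.2.1) ?_ (fun P hP => sat_aux c hP) ?_ ?_
  · rintro P hP Q ⟨φ, hφ, hr⟩
    exact Hs.of_map c hP (MS_le_F c hφ) hr
  · intro E hE P φ hφ
    refine MS_min c (D := E) ?_ hφ
    intro Q hQ α hα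
    exact hE Q hQ (MS_gen c hQ hα)
  · intro P hP hn
    exact star_aux c hP hn

end Cfsg.Agent.Lib.Fusion.CLift
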