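/-
Lifting a normal subsystem along a central quotient: invariance and the Frattini condition.
-/
import Mathlib
import Cfsg.Agent.Lib.Fusion.CLift8

set_option autoImplicit false
set_option linter.style.haveILetI false
set_option linter.unusedSectionVars false

namespace Cfsg.Agent.Lib.Fusion.CLift

open Cfsg Cfsg.FusionSystem Cfsg.Agent.Lib.Fusion.Basic Cfsg.Agent.Lib.Fusion.Saturated
open Cfsg.Agent.Lib.Fusion.Saturated2 (autOfHom autOfHom_mem)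
open Cfsg.Agent.Lib.Fusion.LocalSystems (map_mem_sup_of_ext)
open Cfsg.Agent.Lib.Fusion.Joins (exists_hom_of_eq)
open Cfsg.Agent.Lib.Fusion.NormalPair (stronglyClosed_apply)
open Cfsg.Agent.Lib.Fusion.NormalCR
open Cfsg.Agent.Lib.Fusion.GoodLift
open Cfsg.Agent.Lib.Fusion.CLiftG
open Cfsg.Agent.Lib.Fusion.FactorMorphism
open Cfsg.Agent.Lib.Fusion.Image (toImage toImage_surjective)
open Cfsg.Agent.Lib.Fusion.PPrime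
open Cfsg.Agent.Lib.Fusion.SatCrit (imgOf mem_imgOf imgOf_le)

variable {Ω : Type*} [Group Ω] {S Z T : Subgroup Ω} {Ω' : Type*} [Group Ω'] {S' T' : Subgroup Ω'}
variable {F : FusionSystem S} {θ : S →* Ω'} {Fb : FusionSystem S'} {Nb : FusionSystem T'} {p : ℕ}
variable [Finite S] [hp : Fact p.Prime] (c : Ctx p F Z T θ Fb Nb) {P P₁ Q U : Subgroup Ω}

include c

/-- The invariance clause. -/
theorem inv_clause (hPT : P ≤ T) {φ : P →* Ω} (hφ : φ ∈ (MS c).Hom P) {α : MulAut T} (hα : α ∈ F.autGroup T) :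
    ∃ χ ∈ (MS c).Hom ((P.subgroupOf T).map (T.subtype.comp α.toMonoidHom)),
      ∀ (x : P) (hφx : φ x ∈ T) (hαx : ((α ⟨x, hPT x.2⟩ : T) : Ω) ∈ (P.subgroupOf T).map (T.subtype.comp α.toMonoidHom)),
        χ ⟨(α ⟨x, hPT x.2⟩ : T), hαx⟩ = ((α ⟨φ x, hφx⟩ : T) : Ω) := by
  have h := MS_inv c hα hφ
  have e : imgOf α P = (P.subgroupOf T).map (T.subtype.comp α.toMonoidHom) := Subgroup.map_map _ _ _
  obtain ⟨χ, hχ, hχe⟩ := exists_hom_of_eq (MS c) e _ h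
  refine ⟨χ, hχ, fun x hφx hαx => ?_⟩
  rw [hχe _ (e.ge hαx) hαx]
  exact isConjBy_conjMap α φ (map_mem_S hφ) ⟨x, hPT x.2⟩ ⟨φ x, hφx⟩ x.2 _ rfl

/-- The Frattini condition, with fully normalized image. -/
theorem frat_FN (hZP : Z ≤ P) (hPT : P ≤ T) {φ : P →* Ω} (hφ : φ ∈ F.Hom P) (hFN : F.IsFullyNormalized φ.range) :
    ∃ b ∈ F.autGroup T, ∃ φ₀ ∈ (MS c).Hom P, ∀ (x : P) (hx : φ₀ x ∈ T), φ x = ((b ⟨φ₀ x, hx⟩ : T) : Ω) := by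
  classical
  haveI := finT c
  have hPS := hPT.trans c.hTS
  have hRS : φ.range ≤ S := range_le hφ
  haveI : Finite φ.range := finite_of_le hRS
  obtain ⟨φ', hφ', hP0, hv, hmem, he⟩ := c.hmor.2 P φ hφ
  obtain ⟨a, ha, c', hc', hac⟩ := c.hinvN.2.2.2 _ (c.image_le_T' hPT) φ' hφ'
  obtain ⟨b, hb, hbe⟩ := exists_lift_aut c ha
  obtain ⟨ξ, hξ, hP0', hv', hmem', he'⟩ := exists_lift_MS' c hZP hPT hc'
  have hξT := map_mem_S hξ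
  have hζ := comp_mem' (χ := (T.subtype.comp b.toMonoidHom).comp (ξ.codRestrict T hξT)) (MS_le_F c hξ)
    (autGroup_mem_hom c.hTS hb) hξT (fun _ => rfl)
  have hζe : ∀ x, ((T.subtype.comp b.toMonoidHom).comp (ξ.codRestrict T hξT)) x = ((b ⟨ξ x, hξT x⟩ : T) : Ω) := fun _ => rfl
  have hred : ∀ x, (φ x)⁻¹ * ((b ⟨ξ x, hξT x⟩ : T) : Ω) ∈ Z := by
    intro x
    refine c.mem_Z_of_eq (hv x) (c.hTS (b _).2) ?_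
    rw [hbe, ← he x]
    have h1 := hac ⟨_, hmem x⟩ ((Nb.le_of_mem hc').2 _)
    have h3 : (⟨((c' ⟨_, hmem x⟩ : Ω')), (Nb.le_of_mem hc').2 _⟩ : T') = ⟨θ ⟨ξ x, c.hTS (hξT x)⟩, (c.mem_T.1 (hξT x)).2⟩ :=
      Subtype.ext (he' x)
    rw [h3] at h1
    exact h1
  have hZR := le_range c hZP hφ
  obtain ⟨ψ, hψ, hψr, h1, h2⟩ := exists_inv hφ rfl
  have hψv : ∀ y, ψ y ∈ P := fun y => hψr.le ⟨y, rfl⟩
  have hk0 := F.comp_mem hψ hζ hψv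
  have hk0e : ∀ x : P, (((T.subtype.comp b.toMonoidHom).comp (ξ.codRestrict T hξT)).comp (ψ.codRestrict P hψv)) ⟨φ x, ⟨x, rfl⟩⟩ =
      ((b ⟨ξ x, hξT x⟩ : T) : Ω) := by
    intro x
    have e1 : ψ.codRestrict P hψv ⟨φ x, ⟨x, rfl⟩⟩ = x := Subtype.ext (h1 x ⟨x, rfl⟩)
    show ((T.subtype.comp b.toMonoidHom).comp (ξ.codRestrict T hξT)) (ψ.codRestrict P hψv ⟨φ x, ⟨x, rfl⟩⟩) = _
    rw [e1]
    rfl
  have hval : ∀ y, (((T.subtype.comp b.toMonoidHom).comp (ξ.codRestrict T hξT)).comp (ψ.codRestrict P hψv)) y ∈ φ.range := by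
    rintro ⟨_, x, rfl⟩
    rw [hk0e]
    have e : ((b ⟨ξ x, hξT x⟩ : T) : Ω) = φ x * ((φ x)⁻¹ * ((b ⟨ξ x, hξT x⟩ : T) : Ω)) := by group
    rw [e]
    exact Subgroup.mul_mem _ ⟨x, rfl⟩ (hZR (hred x))
  let k : MulAut φ.range := autOfHom _ (F.injective_of_mem hk0) hval
  have hkF : k ∈ F.autGroup φ.range := autOfHom_mem hk0 hval
  have hkK : IsK F Z φ.range k := by
    refine ⟨hkF, ?_⟩
    rintro ⟨_, x, rfl⟩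
    show (φ x)⁻¹ * (((T.subtype.comp b.toMonoidHom).comp (ξ.codRestrict T hξT)).comp (ψ.codRestrict P hψv)) ⟨φ x, _⟩ ∈ Z
    rw [hk0e]
    exact hred x
  obtain ⟨s, hs, hsv⟩ := mem_autInducedBy_iff.1 (IsK.mem_autInduced c hFN hkK)
  have hsN : s⁻¹ ∈ Subgroup.normalizer ((T : Subgroup Ω) : Set Ω) := StronglyClosed.le_normalizer c.hTsc (S.inv_mem hs)
  have hd : normConj s⁻¹ hsN ∈ F.autGroup T :=
    autInducedBy_le_autGroup c.hTS (normConj_mem_autInducedBy (S.inv_mem hs) hsN)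
  refine ⟨normConj s⁻¹ hsN * b, Subgroup.mul_mem _ hd hb, ξ, hξ, fun x hx => ?_⟩
  show φ x = s⁻¹ * ((b ⟨ξ x, hx⟩ : T) : Ω) * s⁻¹⁻¹
  have h3 := hsv ⟨φ x, ⟨x, rfl⟩⟩
  have h4 : ((k ⟨φ x, ⟨x, rfl⟩⟩ : φ.range) : Ω) = ((b ⟨ξ x, hξT x⟩ : T) : Ω) := hk0e x
  rw [h4] at h3
  have h5 : ((b ⟨ξ x, hx⟩ : T) : Ω) = s * φ x * s⁻¹ := h3
  rw [h5]
  group

/-- The Frattini condition, on subgroups containing `Z`. -/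
theorem frat_Z (hZP : Z ≤ P) (hPT : P ≤ T) {φ : P →* Ω} (hφ : φ ∈ F.Hom P) :
    ∃ b ∈ F.autGroup T, ∃ φ₀ ∈ (MS c).Hom P, ∀ (x : P) (hx : φ₀ x ∈ T), φ x = ((b ⟨φ₀ x, hx⟩ : T) : Ω) := by
  classical
  haveI := finT c
  have hZR := le_range c hZP hφ
  have hRT := range_le_T c hPT hφ
  obtain ⟨P₁, ⟨χ, hχ, hr⟩, hFN⟩ := exists_fullyNormalized (F := F) (hRT.trans c.hTS)
  subst hr
  obtain ⟨b₂, hb₂, φ₂, hφ₂, h₂⟩ := frat_FN c hZR hRT hχ hFN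
  have hm : ∀ x, φ x ∈ φ.range := fun x => ⟨x, rfl⟩
  have hcomp := F.comp_mem hφ hχ hm
  have hrc : (χ.comp (φ.codRestrict φ.range hm)).range = χ.range := by
    ext y
    constructor
    · rintro ⟨x, rfl⟩
      exact ⟨_, rfl⟩
    · rintro ⟨⟨_, x, rfl⟩, rfl⟩
      exact ⟨x, rfl⟩
  obtain ⟨b₃, hb₃, φ₃, hφ₃, h₃⟩ := frat_FN c hZP hPT hcomp (by rw [hrc]; exact hFN)
  have hb₄ : b₂⁻¹ * b₃ ∈ F.autGroup T := Subgroup.mul_mem _ (Subgroup.inv_mem _ hb₂) hb₃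
  have hkey : ∀ x, ((b₂⁻¹ * b₃) ⟨φ₃ x, map_mem_S hφ₃ x⟩ : T) = ⟨φ₂ ⟨φ x, hm x⟩, map_mem_S hφ₂ _⟩ := by
    intro x
    have e1 := h₃ x (map_mem_S hφ₃ x)
    have e2 := h₂ ⟨φ x, hm x⟩ (map_mem_S hφ₂ _)
    have e3 : χ ⟨φ x, hm x⟩ = ((b₃ ⟨φ₃ x, map_mem_S hφ₃ x⟩ : T) : Ω) := e1
    rw [e3] at e2
    have e4 : b₃ ⟨φ₃ x, map_mem_S hφ₃ x⟩ = b₂ ⟨φ₂ ⟨φ x, hm x⟩, map_mem_S hφ₂ _⟩ := Subtype.ext e2
    rw [MulAut.mul_apply, e4]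
    simp
  obtain ⟨ψ₂, hψ₂, -, i1, -⟩ := exists_inv hφ₂ rfl
  have hψ₃ := MS_inv c (Subgroup.inv_mem _ hb₄) hψ₂
  have hval : ∀ x, φ₃ x ∈ imgOf (b₂⁻¹ * b₃)⁻¹ φ₂.range := by
    intro x
    refine (mem_imgOf (γ := (b₂⁻¹ * b₃)⁻¹) (R := φ₂.range) ⟨φ₃ x, map_mem_S hφ₃ x⟩).2 ?_
    rw [inv_inv, hkey]
    exact ⟨_, rfl⟩
  have hc := (MS c).comp_mem hφ₃ hψ₃ hval
  refine ⟨b₂⁻¹ * b₃, hb₄, _, hc, fun x hx => ?_⟩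
  have e5 : ((b₂⁻¹ * b₃)⁻¹ ⟨φ₂ ⟨φ x, hm x⟩, map_mem_S hφ₂ _⟩ : T) = ⟨φ₃ x, map_mem_S hφ₃ x⟩ := by
    rw [← hkey]
    simp
  have e6 := conjMap_apply' (b₂⁻¹ * b₃)⁻¹ ψ₂ (map_mem_S hψ₂) ⟨φ₂ ⟨φ x, hm x⟩, map_mem_S hφ₂ _⟩ ⟨_, rfl⟩ (φ₃ x) (hval x)
    (by rw [e5])
  have e7 : (⟨(ψ₂ ⟨φ₂ ⟨φ x, hm x⟩, ⟨_, rfl⟩⟩), map_mem_S hψ₂ _⟩ : T) = ⟨φ x, hRT (hm x)⟩ :=
    Subtype.ext (i1 ⟨φ x, hm x⟩ ⟨_, rfl⟩)
  have e8 : (conjMap (b₂⁻¹ * b₃)⁻¹ ψ₂ (map_mem_S hψ₂)).comp ((φ₃.codRestrict _ hval)) x = ((((b₂⁻¹ * b₃)⁻¹ ⟨φ x, hRT (hm x)⟩) : T) : Ω) := by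
    show conjMap (b₂⁻¹ * b₃)⁻¹ ψ₂ (map_mem_S hψ₂) ⟨φ₃ x, hval x⟩ = _
    rw [e6, e7]
  have e9 : (⟨(conjMap (b₂⁻¹ * b₃)⁻¹ ψ₂ (map_mem_S hψ₂)).comp ((φ₃.codRestrict _ hval)) x, hx⟩ : T) = (b₂⁻¹ * b₃)⁻¹ ⟨φ x, hRT (hm x)⟩ :=
    Subtype.ext e8
  rw [e9]
  simp

/-- The Frattini clause. -/
theorem frat_clause (hPT : P ≤ T) {φ : P →* Ω} (hφ : φ ∈ F.Hom P) :
    ∃ b ∈ F.autGroup T, ∃ φ₀ ∈ (MS c).Hom P, ∀ (x : P) (hx : φ₀ x ∈ T), φ x = ((b ⟨φ₀ x, hx⟩ : T) : Ω) := by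
  obtain ⟨ψ, hψ, h1, -⟩ := c.hZ.2 P φ hφ
  have hle : P ⊔ Z ≤ T := sup_le hPT c.hZT
  obtain ⟨b, hb, φ₀, hφ₀, h2⟩ := frat_Z c le_sup_right hle hψ
  refine ⟨b, hb, _, res_mem hφ₀ le_sup_left, fun x hx => ?_⟩
  rw [← h1 x]
  exact h2 _ hx

/-- `MS` is invariant in `F`. -/
theorem isInvariant_MS : (MS c).IsInvariantIn F :=
  ⟨fun _ _ h => MS_le_F c h, c.hTsc, fun _ hPT _ hφ _ hα => inv_clause c hPT hφ hα, fun _ hPT _ hφ => frat_clause c hPT hφ⟩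

end Cfsg.Agent.Lib.Fusion.CLift
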