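/-
Lifting a normal subsystem along a central quotient: the extension condition and the theorem.
-/
import Mathlib
import Cfsg.Agent.Lib.Fusion.CLift9

set_option autoImplicit false
set_option linter.style.haveILetI false
set_option linter.unusedSectionVars false

namespace Cfsg.Agent.Lib.Fusion.CLift

open Cfsg Cfsg.FusionSystem Cfsg.Agent.Lib.Fusion.Basic Cfsg.Agent.Lib.Fusion.Saturated
open Cfsg.Agent.Lib.Fusion.Saturated2 (autOfHom autOfHom_mem)
open Cfsg.Agent.Lib.Fusion.LocalSystems (map_mem_sup_of_ext)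
open Cfsg.Agent.Lib.Fusion.Joins (exists_hom_of_eq)
open Cfsg.Agent.Lib.Fusion.NormalPair (stronglyClosed_apply)
open Cfsg.Agent.Lib.Fusion.NormalCR
open Cfsg.Agent.Lib.Fusion.GoodLift
open Cfsg.Agent.Lib.Fusion.CLiftG
open Cfsg.Agent.Lib.Fusion.FactorMorphism
open Cfsg.Agent.Lib.Fusion.Image (toImage toImage_surjective)
open Cfsg.Agent.Lib.Fusion.PPrime
open Cfsg.Agent.Lib.Fusion.SatCrit (imgOf mem_imgOf imgOf_le)

variable {Ω : Type*} [Group Ω] {S Z T : Subgroup Ω} {Ω' : Type*} [Group Ω'] {S' T' : Subgroup Ω'}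
variable {F : FusionSystem S} {θ : S →* Ω'} {Fb : FusionSystem S'} {Nb : FusionSystem T'} {p : ℕ}
variable [Finite S] [hp : Fact p.Prime] (c : Ctx p F Z T θ Fb Nb) {P P₁ Q U : Subgroup Ω}

omit [Finite S] hp in
theorem autT_normal (T : Subgroup Ω) : (autInducedBy T T).Normal := by
  constructor
  intro n hn g
  obtain ⟨t, ht, htv⟩ := mem_autInducedBy_iff.1 hn
  refine mem_autInducedBy_iff.2 ⟨g ⟨t, ht⟩, (g ⟨t, ht⟩).2, fun x => ?_⟩
  have h1 : n (g⁻¹ x) = ⟨t, ht⟩ * g⁻¹ x * ⟨t, ht⟩⁻¹ := Subtype.ext (htv _)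
  show ((g (n (g⁻¹ x)) : T) : Ω) = _
  rw [h1, map_mul, map_mul, map_inv]
  simp

include c

/-- Good lifts of `p'`-elements of `Aut_J(T)`. -/
theorem good_pprime {α : MulAut T} (hα : α ∈ (JJ c).autGroup T) (hco : Nat.Coprime (orderOf α) p) : ∃ β, IsGood F T β α := by
  classical
  haveI := finT c
  haveI := c.finT'
  haveI := c.finS'
  have hTS := c.hTS
  have himg : imageAlong θ T = T' := by
    rw [c.hT]
    exact image_preimage c c.hT'S'
  obtain ⟨-, -, -, β₀, hβ₀, hP0, hv, hmem, he⟩ := autGroup_mem_hom (le_rfl : T ≤ T) hα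
  obtain ⟨β₁, hβ₁, hβ₁e⟩ := exists_hom_of_eq Nb himg β₀ hβ₀
  have hβ₁v := (Nb.le_of_mem hβ₁).2
  let a' : MulAut T' := autOfHom β₁ (Nb.injective_of_mem hβ₁) hβ₁v
  have ha' : a' ∈ Nb.autGroup T' := autOfHom_mem hβ₁ hβ₁v
  have hθT : ∀ x : T, θ ⟨x, hTS x.2⟩ ∈ T' := fun x => (c.mem_T.1 x.2).2
  have ha'e : ∀ x : T, ((a' ⟨θ ⟨x, hTS x.2⟩, hθT x⟩ : T') : Ω') = θ ⟨α x, hTS (α x).2⟩ := by
    intro x
    show β₁ ⟨θ ⟨x, hTS x.2⟩, hθT x⟩ = _
    rw [hβ₁e _ (hmem x) (hθT x)]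
    exact he x
  obtain ⟨ρ', hρ'M, hρ'R, hρ'C⟩ := c.hN.2 a' ha'
  have hρ' : IsGood Fb T' ρ' a' := ⟨hρ'M, hρ'R, hρ'C⟩
  have hm₂ := autGroup_mem_hom (hat_le c.hT'S') hρ'M
  obtain ⟨-, φ, hφ, hH0, hφv, hHm, hφe⟩ := (c.hiff _ _).1 hm₂
  have hφH : ∀ x, φ x ∈ preimageAlong θ (hat S' T') := fun x => mem_preimage.2 ⟨hφv x, by
    rw [← hφe x]
    exact (ρ' _).2⟩
  haveI : Finite (preimageAlong θ (hat S' T')) := finite_of_le hH0
  let ρ : MulAut (preimageAlong θ (hat S' T')) := autOfHom φ (F.injective_of_mem hφ) hφH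
  have hρF : ρ ∈ F.autGroup (preimageAlong θ (hat S' T')) := autOfHom_mem hφ hφH
  have hρe : ∀ x : preimageAlong θ (hat S' T'), θ ⟨ρ x, hH0 (ρ x).2⟩ = ((ρ' ⟨θ ⟨x, hH0 x.2⟩, hHm x⟩ : hat S' T') : Ω') :=
    fun x => (hφe x).symm
  have hρpow : ∀ (n : ℕ) (x : preimageAlong θ (hat S' T')), θ ⟨(ρ ^ n) x, hH0 ((ρ ^ n) x).2⟩ =
      (((ρ' ^ n) ⟨θ ⟨x, hH0 x.2⟩, hHm x⟩ : hat S' T') : Ω') := by
    intro n
    induction n with
    | zero => intro x; rfl
    | succ n ih =>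
      intro x
      rw [pow_succ', MulAut.mul_apply, hρe, pow_succ', MulAut.mul_apply]
      congr 2
      exact Subtype.ext (ih x)
  have hTH : T ≤ preimageAlong θ (hat S' T') := fun x hx => mem_preimage.2 ⟨hTS hx, le_hat T' (c.mem_T.1 hx).2⟩
  have hres := res_mem hφ hTH
  have hresv : ∀ x : T, (φ.comp (Subgroup.inclusion hTH)) x ∈ T := c.hTsc.2 T le_rfl _ hres
  let a : MulAut T := autOfHom _ (F.injective_of_mem hres) hresv
  have haF : a ∈ F.autGroup T := autOfHom_mem hres hresv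
  have hai : ∀ x : T, Subgroup.inclusion hTH (a x) = ρ (Subgroup.inclusion hTH x) := fun x => Subtype.ext rfl
  have haP : ∀ (n : ℕ) (x : T), Subgroup.inclusion hTH ((a ^ n) x) = (ρ ^ n) (Subgroup.inclusion hTH x) := by
    intro n
    induction n with
    | zero => intro x; rfl
    | succ n ih =>
      intro x
      rw [pow_succ', pow_succ', MulAut.mul_apply, MulAut.mul_apply, hai, ih]
  have hαF := autJ_le c (le_rfl : T ≤ T) hα
  have heqv : ∀ x : T, ((α x : T) : Ω)⁻¹ * ((a x : T) : Ω) ∈ Z := by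
    intro x
    refine c.mem_Z_of_eq (hTS (α x).2) (hTS (a x).2) ?_
    have h1 : θ ⟨((a x : T) : Ω), hTS (a x).2⟩ = θ ⟨ρ (Subgroup.inclusion hTH x), hH0 (ρ _).2⟩ := rfl
    rw [h1, hρe, ← ha'e]
    have h2 := hρ'R ⟨θ ⟨x, hTS x.2⟩, hθT x⟩
    exact h2.symm
  have hκ := isK_of_eqv c hαF haF heqv
  have hFNT : F.IsFullyNormalized T := isFullyNormalized_of_stronglyClosed c.hTsc
  haveI hIn := autT_normal T
  have hmemI := mem_autInducedBy_iff.2 (comm_K c (hs_top c) hFNT hα hκ)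
  have hCom : Commute (QuotientGroup.mk' (autInducedBy T T) (a * α⁻¹)) (QuotientGroup.mk' (autInducedBy T T) α) := by
    have h := (QuotientGroup.eq_one_iff (N := autInducedBy T T) _).2 hmemI
    have h' : QuotientGroup.mk' (autInducedBy T T) ((a * α⁻¹)⁻¹ * (α * (a * α⁻¹) * α⁻¹)) = 1 := h
    rw [map_mul, map_mul, map_mul, map_inv, map_inv] at h'
    show QuotientGroup.mk' (autInducedBy T T) (a * α⁻¹) * QuotientGroup.mk' (autInducedBy T T) α =
      QuotientGroup.mk' (autInducedBy T T) α * QuotientGroup.mk' (autInducedBy T T) (a * α⁻¹)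
    generalize QuotientGroup.mk' (autInducedBy T T) (a * α⁻¹) = u at h' ⊢
    generalize QuotientGroup.mk' (autInducedBy T T) α = w at h' ⊢
    have h2 : w * u * w⁻¹ = u := by
      have h3 := congrArg (fun z => u * z) h'
      simpa using h3
    calc u * w = (w * u * w⁻¹) * w := by rw [h2]
      _ = w * u := by group
  obtain ⟨r, hr⟩ : ∃ r : ℕ, (a * α⁻¹) ^ p ^ r = 1 := by
    obtain ⟨r, hr⟩ := isPGroup_DeltaK (F := F) (T := Z) c.hS hTS ⟨_, (isK_iff c hTS hκ.1).2 hκ⟩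
    exact ⟨r, congrArg (fun t : DeltaK F Z T => ((t : F.autGroup T) : MulAut T)) hr⟩
  have hcop : Nat.Coprime (p ^ r) (orderOf α) := hco.symm.pow_left r
  obtain ⟨e, he0, he1⟩ := Nat.chineseRemainder hcop 0 1
  have hκe : (a * α⁻¹) ^ e = 1 := by
    obtain ⟨q, rfl⟩ := (Nat.modEq_zero_iff_dvd).1 he0
    rw [pow_mul, hr, one_pow]
  have hαe : α ^ e = α := by
    have h := (pow_eq_pow_iff_modEq (x := α)).2 he1
    simpa using h
  have hmk : QuotientGroup.mk' (autInducedBy T T) (a ^ e) = QuotientGroup.mk' (autInducedBy T T) α := by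
    have e1 : a = (a * α⁻¹) * α := by group
    conv_lhs => rw [e1]
    rw [map_pow, map_mul, hCom.mul_pow, ← map_pow, ← map_pow, hκe, hαe, map_one, one_mul]
  have hI2 : (a ^ e)⁻¹ * α ∈ autInducedBy T T := QuotientGroup.eq.1 hmk
  obtain ⟨t, ht, htv⟩ := mem_autInducedBy_iff.1 hI2
  have hαv : ∀ x : T, (a ^ e) (⟨t, ht⟩ * x * ⟨t, ht⟩⁻¹) = α x := by
    intro x
    have h1 : ((a ^ e)⁻¹ * α) x = ⟨t, ht⟩ * x * ⟨t, ht⟩⁻¹ := Subtype.ext (htv x)
    rw [← h1]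
    simp [MulAut.mul_apply]
  have htN : t ∈ Subgroup.normalizer ((preimageAlong θ (hat S' T') : Subgroup Ω) : Set Ω) := Subgroup.le_normalizer (hTH ht)
  have hctF : normConj t htN ∈ F.autGroup (preimageAlong θ (hat S' T')) :=
    autInducedBy_le_autGroup hH0 (normConj_mem_autInducedBy (hTS ht) htN)
  have hρ₂F := Subgroup.mul_mem _ (Subgroup.pow_mem _ hρF e) hctF
  have hρ₂T : ∀ x : T, (ρ ^ e * normConj t htN) (Subgroup.inclusion hTH x) = Subgroup.inclusion hTH (α x) := by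
    intro x
    rw [← hαv, haP, MulAut.mul_apply]
    congr 1
  have hct : ∀ (y : preimageAlong θ (hat S' T')), (y : Ω) ∈ centralizerIn S T → normConj t htN y = y := by
    intro y hy
    apply Subtype.ext
    show t * (y : Ω) * t⁻¹ = y
    rw [Subgroup.mem_centralizer_iff.1 hy.2 t ht]
    group
  -- `C_S(T)`
  have hθC : ∀ (y : Ω) (hy : y ∈ centralizerIn S T), θ ⟨y, hy.1⟩ ∈ centralizerIn S' T' := by
    intro y hy
    refine ⟨by rw [← c.hrange]; exact ⟨_, rfl⟩, Subgroup.mem_centralizer_iff.2 (fun w hw => ?_)⟩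
    obtain ⟨s, rfl⟩ : w ∈ θ.range := by
      rw [c.hrange]
      exact c.hT'S' hw
    have hsT : (s : Ω) ∈ T := c.mem_T.2 ⟨s.2, hw⟩
    have h1 : s * ⟨y, hy.1⟩ = ⟨y, hy.1⟩ * s := Subtype.ext (Subgroup.mem_centralizer_iff.1 hy.2 s hsT)
    rw [← map_mul, ← map_mul, h1]
  have hCH : centralizerIn S T ≤ preimageAlong θ (hat S' T') := fun y hy =>
    mem_preimage.2 ⟨hy.1, cen_le_hat T' (hθC y hy)⟩
  have hpow : ∀ y : preimageAlong θ (hat S' T'), (y : Ω) ∈ centralizerIn S T → (y : Ω)⁻¹ * (((ρ ^ e) y : preimageAlong θ (hat S' T')) : Ω) ∈ T := by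
    intro y hy
    have h1 := (hρ'.pow e).cen ⟨θ ⟨y, hy.1⟩, hHm y⟩ (hθC y hy)
    have h2 := Zc.left h1
    have hmemS : (y : Ω)⁻¹ * (((ρ ^ e) y : preimageAlong θ (hat S' T')) : Ω) ∈ S := S.mul_mem (S.inv_mem hy.1) (hH0 ((ρ ^ e) y).2)
    refine c.mem_T.2 ⟨hmemS, ?_⟩
    have e1 : (⟨(y : Ω)⁻¹ * (((ρ ^ e) y : preimageAlong θ (hat S' T')) : Ω), hmemS⟩ : S) = ⟨y, hy.1⟩⁻¹ * ⟨((ρ ^ e) y : preimageAlong θ (hat S' T')), hH0 ((ρ ^ e) y).2⟩ := rfl
    rw [e1, map_mul, map_inv, hρpow]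
    exact h2
  have hle : hat S T ≤ preimageAlong θ (hat S' T') := sup_le hTH hCH
  have hf := res_mem (autGroup_mem_hom hH0 hρ₂F) hle
  have hfv : ∀ x, ((preimageAlong θ (hat S' T')).subtype.comp (ρ ^ e * normConj t htN).toMonoidHom).comp (Subgroup.inclusion hle) x ∈ hat S T := by
    refine map_mem_sup_of_ext _ (fun x => ?_) (fun y => ?_)
    · have h1 := hρ₂T x
      show (((ρ ^ e * normConj t htN) (Subgroup.inclusion hTH x) : preimageAlong θ (hat S' T')) : Ω) ∈ _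
      rw [h1]
      exact le_hat T (α x).2
    · show (((ρ ^ e * normConj t htN) (Subgroup.inclusion hCH y) : preimageAlong θ (hat S' T')) : Ω) ∈ _
      rw [MulAut.mul_apply, hct _ y.2]
      have h2 := hpow (Subgroup.inclusion hCH y) y.2
      have e2 : (((ρ ^ e) (Subgroup.inclusion hCH y) : preimageAlong θ (hat S' T')) : Ω) =
          (y : Ω) * ((y : Ω)⁻¹ * (((ρ ^ e) (Subgroup.inclusion hCH y) : preimageAlong θ (hat S' T')) : Ω)) := by group
      rw [e2]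
      exact Subgroup.mul_mem _ (cen_le_hat T y.2) (le_hat T h2)
  haveI := finite_hat (S := S) hTS
  refine ⟨autOfHom _ (F.injective_of_mem hf) hfv, autOfHom_mem hf hfv, fun x => ?_, fun c₀ hc₀ => ?_⟩
  · exact congrArg Subtype.val (hρ₂T x)
  · have e3 : ((autOfHom _ (F.injective_of_mem hf) hfv c₀ : hat S T) : Ω) = (((ρ ^ e) (Subgroup.inclusion hle c₀) : preimageAlong θ (hat S' T')) : Ω) := by
      show (((ρ ^ e * normConj t htN) (Subgroup.inclusion hle c₀) : preimageAlong θ (hat S' T')) : Ω) = _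
      rw [MulAut.mul_apply, hct _ hc₀]
    rw [e3]
    refine Subgroup.mem_inf.2 ⟨hpow (Subgroup.inclusion hle c₀) hc₀, Subgroup.mul_mem _ (Subgroup.inv_mem _ hc₀.2) ?_⟩
    refine Subgroup.mem_centralizer_iff.2 (fun w hw => ?_)
    obtain ⟨w₀, hw₀⟩ := (a ^ e).surjective ⟨w, hw⟩
    have h1 := haP e w₀
    rw [hw₀] at h1
    have h2 : (w : Ω) = (((ρ ^ e) (Subgroup.inclusion hTH w₀) : preimageAlong θ (hat S' T')) : Ω) := congrArg Subtype.val h1
    rw [h2, ← Subgroup.coe_mul, ← Subgroup.coe_mul, ← map_mul, ← map_mul]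
    congr 2
    exact Subtype.ext (Subgroup.mem_centralizer_iff.1 hc₀.2 w₀ w₀.2)

/-- All of `M(T)` has good lifts. -/
theorem MM_good : MM c T ≤ goodGroup F T c.hTS := by
  classical
  haveI := finT c
  refine (Subgroup.closure_le _).2 ?_
  rintro γ (⟨hγ, hco⟩ | ⟨χ, hχ, t, ht, htN, hv⟩)
  · exact good_pprime c hγ hco
  · have hχv : ∀ x, χ x ∈ T := c.hTsc.2 T le_rfl χ hχ
    let g : MulAut T := autOfHom χ (F.injective_of_mem hχ) hχv
    have hg : g ∈ F.autGroup T := autOfHom_mem hχ hχv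
    have hα₀ : ∀ x : T, (((g * γ * g⁻¹) x : T) : Ω) = t * x * t⁻¹ := by
      intro x
      have h1 := hv (g⁻¹ x)
      have h2 : χ (g⁻¹ x) = ((g (g⁻¹ x) : T) : Ω) := rfl
      rw [h2] at h1
      have h3 : g (g⁻¹ x) = x := by simp
      rw [h3] at h1
      exact h1
    have hFNT : F.IsFullyNormalized T := isFullyNormalized_of_stronglyClosed c.hTsc
    obtain ⟨β₀, hβ₀⟩ := isGood_conj (isInvariant_MS c) le_rfl inf_le_left ht hα₀
    obtain ⟨b, hb, hbg⟩ := exists_ext c.hS c.hF hFNT (Subgroup.inv_mem _ hg)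
    have h := hβ₀.conj c.hTS hb hbg
    have e : g⁻¹ * (g * γ * g⁻¹) * g⁻¹⁻¹ = γ := by group
    rw [e] at h
    exact ⟨_, h⟩

/-- `MS` is normal in `F`. -/
theorem isNormal_MS : (MS c).IsNormalIn F p := by
  refine ⟨⟨isSaturated_MS c, c.hF, isInvariant_MS c⟩, fun α hα => ?_⟩
  obtain ⟨β, hβ⟩ := MM_good c (coherence c (hs_top c) hα)
  exact ⟨β, hβ.mem, hβ.res, hβ.cen⟩

/-- **The lift theorem.** -/
theorem lift_theorem : ∃ M : FusionSystem T, M.IsNormalIn F p ∧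
    (∀ (P : Subgroup Ω) (φ : P →* Ω), φ ∈ M.Hom P → ∃ β ∈ Nb.Hom (imageAlong θ P), InducedAlong θ φ β) ∧
    (∀ (V' : Subgroup Ω') (β : V' →* Ω'), β ∈ Nb.Hom V' → ∃ ξ ∈ M.Hom (preimageAlong θ V'), InducedAlong θ ξ β) :=
  ⟨MS c, isNormal_MS c, fun _ _ h => (MS_le_J c h).2.2.2, fun _ _ h => exists_lift_MS c h⟩

end Cfsg.Agent.Lib.Fusion.CLift
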