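/-
The general chain argument: a class of maps of a saturated system closed under restriction, composition and inverses which contains
`N_F(W(S))` and passes from `N_F(W(N_S(X)))` to `N_F(X)`, for fully normalized `X ≠ 1`, contains all maps of the system.
-/
import Mathlib
import Cfsg.Prelude.Def_FusionSystem
import Cfsg.Agent.Lib.Fusion.AlperinInduct
import Cfsg.Agent.Lib.Fusion.GFunctor

set_option autoImplicit false

namespace Cfsg.Agent.Lib.Fusion.ChainGeneral

open Cfsg Cfsg.FusionSystem Cfsg.Agent.Lib.Fusion.Basic Cfsg.Agent.Lib.Fusion.Saturated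
  Cfsg.Agent.Lib.Fusion.ModelLocal Cfsg.Agent.Lib.Fusion.NormalCR Cfsg.Agent.Lib.Fusion.QdFree
  Cfsg.Agent.Lib.Fusion.LocalSystems Cfsg.Agent.Lib.Fusion.GFunctor

universe u

variable {W : ∀ (Q : Type u) [Group Q], Subgroup Q} {Ω : Type u} [Group Ω] {S : Subgroup Ω} {F : FusionSystem S}
  {p : ℕ} [Fact p.Prime]

/-- **The general chain argument.** -/
theorem forall_of_chain (hW : IsPFunctor p W) [Finite S] (hS : IsPGroup p S) (hF : F.IsSaturated p)
    (Pi : ∀ P : Subgroup Ω, (P →* Ω) → Prop)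
    (hres : ∀ {P R : Subgroup Ω} {φ : P →* Ω}, φ ∈ F.Hom P → Pi P φ → ∀ h : R ≤ P,
      Pi R (φ.comp (Subgroup.inclusion h)))
    (hcomp : ∀ {P Q : Subgroup Ω} {φ : P →* Ω} {ψ : Q →* Ω}, φ ∈ F.Hom P → ψ ∈ F.Hom Q →
      Pi P φ → Pi Q ψ → ∀ h : (∀ x, φ x ∈ Q), Pi P (ψ.comp (φ.codRestrict Q h)))
    (hinv : ∀ {P Q : Subgroup Ω} {φ : P →* Ω} {ψ : Q →* Ω}, φ ∈ F.Hom P → ψ ∈ F.Hom Q →
      φ.range = Q → (∀ (x : P) (h : φ x ∈ Q), ψ ⟨φ x, h⟩ = x) → Pi P φ → Pi Q ψ)
    (hbase : ∀ {P : Subgroup Ω} {φ : P →* Ω}, φ ∈ F.normalizerHom (wOf W S) P → Pi P φ)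
    (hstep : ∀ X₁ : Subgroup Ω, X₁ ≠ ⊥ → F.IsFullyNormalized X₁ →
      (∀ {P : Subgroup Ω} {φ : P →* Ω}, φ ∈ F.normalizerHom (wOf W (normalizerIn S X₁)) P → Pi P φ) →
      ∀ {P : Subgroup Ω} {φ : P →* Ω}, φ ∈ F.normalizerHom X₁ P → Pi P φ) :
    ∀ {P : Subgroup Ω} {φ : P →* Ω}, φ ∈ F.Hom P → Pi P φ := by
  classical
  have hW₀ : wOf W S ≤ S := wOf_le S
  have hSN := normalizerIn_wOf hW hS
  let 𝓔 := normalizerSystem F (wOf W S) hW₀
  have h𝓔 : F.IsNormalizerSystem (wOf W S) 𝓔 := normalizerSystem_isNormalizerSystem F _ hW₀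
  have hmem : ∀ {A : Subgroup Ω} {α : A →* Ω}, α ∈ F.Hom A → wOf W S ≤ A →
      ((wOf W S).subgroupOf A).map α = wOf W S → α ∈ F.normalizerHom (wOf W S) A := fun {A α} hα h1 h2 =>
    mem_normalizerSystem h𝓔 h1 (by rw [hSN]; exact source_le hα) hα h2
  suffices H : ∀ (k n : ℕ), n + k = Nat.card S + 1 → ∀ (P : Subgroup Ω) (φ : P →* Ω), φ ∈ F.Hom P →
      n ≤ Nat.card P → Pi P φ from
    fun {P φ} hφ => H (Nat.card S + 1) 0 (by omega) P φ hφ (Nat.zero_le _)
  intro k
  induction k with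
  | zero =>
    intro n hn P φ hφ hc
    have := card_le_S (source_le hφ)
    omega
  | succ k ih =>
    intro n hn
    have good1 := ih (n + 1) (by omega)
    -- the claim
    have claimD : ∀ (m : ℕ) (B : Subgroup Ω), Nat.card S - Nat.card B = m → B ≤ S → B ≠ ⊥ → n < Nat.card B →
        ∀ {P : Subgroup Ω} {φ : P →* Ω}, φ ∈ F.normalizerHom (wOf W B) P → Pi P φ := by
      intro m
      induction m using Nat.strong_induction_on with
      | _ m ihC =>
      intro B hm hBS hBne hlt P φ hφ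
      by_cases hBeq : B = S
      · subst hBeq
        exact hbase hφ
      have hBlt : B < S := lt_of_le_of_ne hBS hBeq
      haveI hfinB : Finite B := finite_of_le hBS
      have hBp := isPGroup_of_le hS hBS
      have hXne := wOf_ne_bot hW hBp hBne
      have hXS : wOf W B ≤ S := (wOf_le B).trans hBS
      obtain ⟨X₁, hconj, hX₁⟩ := exists_fullyNormalized (F := F) hXS
      obtain ⟨χ, hχ, hχv, hχm⟩ := exists_map_to_fullyNormalized hS hF hX₁ hconj
      have hX₁ne : X₁ ≠ ⊥ := by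
        rintro rfl
        have h1 := Basic.IsConj.card_eq hconj
        rw [Subgroup.card_bot] at h1
        have : Finite (wOf W B) := finite_of_le hXS
        exact hXne (Subgroup.eq_bot_of_card_eq _ h1)
      have hNBU : normalizerIn S B ≤ normalizerIn S (wOf W B) := fun g hg =>
        ⟨hg.1, mem_normalizer_wOf hW hBp hg.2⟩
      have hBltU : Nat.card B < Nat.card (normalizerIn S (wOf W B)) :=
        Cfsg.Agent.Lib.Fusion.AlperinInduct.card_lt_of_lt normalizerIn_le
          (lt_of_lt_of_le (Cfsg.Agent.Lib.Fusion.AlperinInduct.lt_normalizerIn hS hBlt) hNBU)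
      have hPiχ : Pi _ χ := good1 _ χ hχ (by omega)
      have hcardU : Nat.card (normalizerIn S (wOf W B)) ≤ Nat.card (normalizerIn S X₁) :=
        hX₁.2 _ (Basic.IsConj.symm hconj)
      have hT₂ne : normalizerIn S X₁ ≠ ⊥ := fun h =>
        hX₁ne (le_bot_iff.1 (h ▸ le_normalizerIn hX₁.1))
      have hT₂S : normalizerIn S X₁ ≤ S := normalizerIn_le
      have h1 := card_le_S hT₂S
      have hY : ∀ {P : Subgroup Ω} {φ : P →* Ω}, φ ∈ F.normalizerHom (wOf W (normalizerIn S X₁)) P → Pi P φ :=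
        fun hφ => ihC (Nat.card S - Nat.card (normalizerIn S X₁)) (by omega) _ rfl hT₂S hT₂ne (by omega) hφ
      have hN₁ : ∀ {P : Subgroup Ω} {φ : P →* Ω}, φ ∈ F.normalizerHom X₁ P → Pi P φ :=
        fun {P φ} h => hstep X₁ hX₁ne hX₁ hY h
      -- transport
      obtain ⟨hφF, hPU, hφU, φh, hφh, hag, himg⟩ := hφ
      have hXU : wOf W B ≤ normalizerIn S (wOf W B) := le_normalizerIn hXS
      have hEU : P ⊔ wOf W B ≤ normalizerIn S (wOf W B) := sup_le hPU hXU
      have hφhv : ∀ x, φh x ∈ normalizerIn S (wOf W B) := by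
        refine Cfsg.Agent.Lib.Fusion.Normal.hom_sup_mem φh (fun x => ?_) (fun x => ?_)
        · rw [hag]
          exact hφU x
        · exact hXU (himg.le ⟨_, x.2, rfl⟩)
      let χ₁ : ↥(P ⊔ wOf W B) →* Ω := χ.comp (Subgroup.inclusion hEU)
      have hχ₁ : χ₁ ∈ F.Hom _ := res_mem hχ hEU
      obtain ⟨ξ, hξ, hξr, hξ1, -⟩ := exists_inv hχ₁ (Q := χ₁.range) rfl
      have hξv : ∀ y, ξ y ∈ P ⊔ wOf W B := fun y => hξr.le ⟨y, rfl⟩
      have ha1 := F.comp_mem hξ hφh hξv
      have ha1v : ∀ y, (φh.comp (ξ.codRestrict _ hξv)) y ∈ normalizerIn S (wOf W B) := fun y => hφhv _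
      let θ : χ₁.range →* Ω := χ.comp ((φh.comp (ξ.codRestrict _ hξv)).codRestrict _ ha1v)
      have hθ : θ ∈ F.Hom χ₁.range := F.comp_mem ha1 hχ ha1v
      have hθe : ∀ (x : ↥(P ⊔ wOf W B)) (hx : χ₁ x ∈ χ₁.range), θ ⟨χ₁ x, hx⟩ = χ ⟨φh x, hφhv x⟩ := by
        intro x hx
        show χ ⟨φh ⟨ξ ⟨χ₁ x, hx⟩, _⟩, _⟩ = _
        have e : (⟨ξ ⟨χ₁ x, hx⟩, hξv _⟩ : ↥(P ⊔ wOf W B)) = x := Subtype.ext (hξ1 x hx)
        simp only [e]
      have hχ₁m : ∀ x, χ₁ x ∈ χ₁.range := fun x => ⟨x, rfl⟩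
      have hX₁E : X₁ ≤ χ₁.range := by
        intro y hy
        rw [← hχm] at hy
        obtain ⟨u, hu, rfl⟩ := hy
        exact ⟨⟨u, (le_sup_right : wOf W B ≤ P ⊔ wOf W B) hu⟩, rfl⟩
      have hET₂ : χ₁.range ≤ normalizerIn S X₁ := by
        rintro _ ⟨x, rfl⟩
        exact hχv _
      have hθimg : (X₁.subgroupOf χ₁.range).map θ = X₁ := by
        ext y
        rw [mem_map_subgroupOf]
        constructor
        · rintro ⟨⟨_, x, rfl⟩, hx, rfl⟩
          rw [hθe x (hχ₁m x)]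
          have hx2 : χ ⟨x, hEU x.2⟩ ∈ X₁ := hx
          rw [← hχm] at hx2
          obtain ⟨u, hu, hue⟩ := hx2
          have h2 : u = ⟨x, hEU x.2⟩ := F.injective_of_mem hχ hue
          rw [← hχm]
          refine ⟨⟨φh x, hφhv x⟩, ?_, rfl⟩
          have hxX : (x : Ω) ∈ wOf W B := by
            have : (u : Ω) = x := congrArg Subtype.val h2
            rw [← this]
            exact hu
          exact himg.le ⟨x, hxX, rfl⟩
        · intro hy
          rw [← hχm] at hy
          obtain ⟨u, hu, rfl⟩ := hy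
          have hu' : (u : Ω) ∈ wOf W B := hu
          obtain ⟨v, hv, hve⟩ := himg.ge hu'
          refine ⟨⟨χ₁ v, hχ₁m v⟩, ?_, ?_⟩
          · rw [← hχm]
            exact ⟨⟨v, hEU v.2⟩, hv, rfl⟩
          · rw [hθe v (hχ₁m v)]
            congr 1
            exact Subtype.ext hve
      let N₁ := normalizerSystem F X₁ hX₁.1
      have hN₁s : F.IsNormalizerSystem X₁ N₁ := normalizerSystem_isNormalizerSystem F _ hX₁.1
      have hθN : θ ∈ N₁.Hom χ₁.range := mem_normalizerSystem hN₁s hX₁E hET₂ hθ hθimg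
      -- the pieces
      let a : P →* Ω := χ.comp (Subgroup.inclusion hPU)
      have ha : a ∈ F.Hom P := res_mem hχ hPU
      have hPia : Pi P a := hres hχ hPiχ hPU
      have hPE : a.range ≤ χ₁.range := by
        rintro _ ⟨x, rfl⟩
        exact ⟨Subgroup.inclusion le_sup_left x, rfl⟩
      let φ₁ : a.range →* Ω := θ.comp (Subgroup.inclusion hPE)
      have hφ₁ : φ₁ ∈ N₁.Hom a.range := res_mem hθN hPE
      have hPiφ₁ : Pi a.range φ₁ := hN₁ hφ₁
      have hφ₁F : φ₁ ∈ F.Hom a.range := hφ₁.1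
      have har : ∀ x, a x ∈ a.range := fun x => ⟨x, rfl⟩
      have hφ₁e : ∀ x : P, (φ₁.comp (a.codRestrict a.range har)) x = χ ⟨φ x, hφU x⟩ := by
        intro x
        have h2 := hθe (Subgroup.inclusion le_sup_left x) (hχ₁m _)
        refine Eq.trans h2 ?_
        congr 1
        exact Subtype.ext (hag x)
      have hc1 := hcomp ha hφ₁F hPia hPiφ₁ har
      have hc1F : φ₁.comp (a.codRestrict a.range har) ∈ F.Hom P := F.comp_mem ha hφ₁F har
      have hrU : φ.range ≤ normalizerIn S (wOf W B) := by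
        rintro _ ⟨x, rfl⟩
        exact hφU x
      let b : φ.range →* Ω := χ.comp (Subgroup.inclusion hrU)
      have hb : b ∈ F.Hom φ.range := res_mem hχ hrU
      have hPib : Pi φ.range b := hres hχ hPiχ hrU
      obtain ⟨ξ₂, hξ₂, -, hξ₂1, -⟩ := exists_inv hb (Q := b.range) rfl
      have hPiξ₂ : Pi b.range ξ₂ := hinv hb hξ₂ rfl hξ₂1 hPib
      have hc1v : ∀ x, (φ₁.comp (a.codRestrict a.range har)) x ∈ b.range := by
        intro x
        rw [hφ₁e]
        exact ⟨⟨φ x, ⟨x, rfl⟩⟩, rfl⟩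
      have hc2 := hcomp hc1F hξ₂ hc1 hPiξ₂ hc1v
      have e : ξ₂.comp ((φ₁.comp (a.codRestrict a.range har)).codRestrict b.range hc1v) = φ := by
        ext x
        show ξ₂ ⟨(φ₁.comp (a.codRestrict a.range har)) x, hc1v x⟩ = φ x
        have e2 : (⟨(φ₁.comp (a.codRestrict a.range har)) x, hc1v x⟩ : b.range) =
            ⟨b ⟨φ x, ⟨x, rfl⟩⟩, ⟨_, rfl⟩⟩ := Subtype.ext (hφ₁e x)
        rw [e2]
        exact hξ₂1 ⟨φ x, ⟨x, rfl⟩⟩ _
      rwa [e] at hc2
    -- Alperin
    intro P φ hφ hnP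
    have hPi : ∀ {P : Subgroup Ω} {φ : P →* Ω}, φ ∈ F.Hom P → (n ≤ Nat.card P → Pi P φ) := by
      refine Cfsg.Agent.Lib.Fusion.AlperinInduct.alperin_induction hS hF
        (fun P φ => n ≤ Nat.card P → Pi P φ) ?_ ?_ ?_ ?_
      · intro P R φ hφ hPi h hc
        have : Finite P := finite_of_le (source_le hφ)
        exact hres hφ (hPi (hc.trans (Subgroup.card_le_of_le h))) h
      · intro P Q φ ψ hφ hψ hφi hψi h hc
        have hcQ : Nat.card P ≤ Nat.card Q := by
          have : Finite Q := finite_of_le (source_le hψ)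
          exact Nat.card_le_card_of_injective (φ.codRestrict Q h) (fun a b hab =>
            F.injective_of_mem hφ (congrArg Subtype.val hab))
        exact hcomp hφ hψ (hφi hc) (hψi (hc.trans hcQ)) h
      · intro P Q φ ψ hφ hψ hr hi hφi hc
        have hc' : Nat.card P = Nat.card Q := card_eq_of_range hφ hr
        exact hinv hφ hψ hr hi (hφi (hc'.symm ▸ hc))
      · intro P φ hcase hφ hφr hc
        by_cases hgt : n + 1 ≤ Nat.card P
        · exact good1 P φ hφ hgt
        have hPn : Nat.card P = n := by omega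
        by_cases hPS : P = S
        · subst hPS
          exact hbase (hmem hφ (wOf_le _) (map_wOf hW hS (F.injective_of_mem hφ) hφr))
        rcases hcase with h | ⟨hFN, hCen, hRad⟩
        · exact absurd h hPS
        have hPlt : P < S := lt_of_le_of_ne hFN.1 hPS
        have hPltT := Cfsg.Agent.Lib.Fusion.AlperinInduct.lt_normalizerIn hS hPlt
        have hPne : P ≠ ⊥ := by
          rintro rfl
          apply hPS
          refine le_antisymm bot_le ?_
          intro s hs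
          exact hCen.2 ⊥ (Basic.IsConj.refl bot_le) ⟨hs, Subgroup.mem_centralizer_iff.2 fun y hy => by
            have h1 := Subgroup.mem_bot.1 hy
            rw [h1]
            simp⟩
        have hT₂ne : normalizerIn S P ≠ ⊥ := fun h =>
          hPne (le_bot_iff.1 (h ▸ le_normalizerIn hFN.1))
        have hY : ∀ {P' : Subgroup Ω} {φ' : P' →* Ω}, φ' ∈ F.normalizerHom (wOf W (normalizerIn S P)) P' → Pi P' φ' :=
          fun hφ' => claimD _ (normalizerIn S P) rfl normalizerIn_le hT₂ne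
            (by rw [← hPn]; exact Cfsg.Agent.Lib.Fusion.AlperinInduct.card_lt_of_lt normalizerIn_le hPltT) hφ'
        have hE₀ : F.IsNormalizerSystem P (normalizerSystem F P hFN.1) :=
          normalizerSystem_isNormalizerSystem F _ hFN.1
        have hφE : φ ∈ F.normalizerHom P P := mem_normalizerSystem hE₀ le_rfl (le_normalizerIn hFN.1) hφ (by
          refine Eq.trans ?_ hφr
          ext y
          rw [mem_map_subgroupOf]
          constructor
          · rintro ⟨x, -, rfl⟩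
            exact ⟨x, rfl⟩
          · rintro ⟨x, rfl⟩
            exact ⟨x, x.2, rfl⟩)
        exact hstep P hPne hFN hY hφE
    exact hPi hφ hnP

end Cfsg.Agent.Lib.Fusion.ChainGeneral
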