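/-
Control of central elements. Let `W` be a positive characteristic `p`-functor with `Z(Q) ≤ W(Q)`, and suppose that central elements
of a Sylow subgroup of a group with the centralizer condition, of a "good" kind, are central in the group as soon as they are central in
`N_G(W(P))`. Then, in every saturated fusion system, an element of `Z(S)` of the good kind fixed by `N_F(W(S))` is fixed by `F`.
-/
import Mathlib
import Cfsg.Prelude.Def_FusionSystem
import Cfsg.Prelude.Def_FusionReduction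
import Cfsg.Agent.Lib.Fusion.GlaubermanMain
import Cfsg.Agent.Lib.Fusion.ChainGeneral

set_option autoImplicit false

namespace Cfsg.Agent.Lib.Fusion.CenterControl

open Cfsg Cfsg.FusionSystem Cfsg.Agent.Lib.Fusion.Basic Cfsg.Agent.Lib.Fusion.Saturated
  Cfsg.Agent.Lib.Fusion.NormalCR Cfsg.Agent.Lib.Fusion.Normal Cfsg.Agent.Lib.Fusion.LocalSystems
  Cfsg.Agent.Lib.Fusion.Joins Cfsg.Agent.Lib.Fusion.ModelLocal Cfsg.Agent.Lib.Fusion.CentrNormal
  Cfsg.Agent.Lib.Fusion.CentrFree Cfsg.Agent.Lib.Fusion.GFunctor Cfsg.Agent.Lib.Fusion.QdFree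
  Cfsg.Agent.Lib.Fusion.QdFreeFactor Cfsg.Agent.Lib.Fusion.Factor Cfsg.Agent.Lib.Fusion.FactorMorphism
  Cfsg.Agent.Lib.Fusion.GlaubermanMain Cfsg.Agent.Lib.Fusion.ChainGeneral Cfsg.Agent.Lib.Fusion.Model

universe u

/-- The family of "good" elements is compatible with passage to subgroups containing the centre and to homomorphic images. -/
structure GoodFamily (Good : ∀ (Ω : Type u) [Group Ω], Subgroup Ω → Ω → Prop) : Prop where
  mono : ∀ {Ω : Type u} [Group Ω] {S S' : Subgroup Ω} {x : Ω}, S' ≤ S → centralizerIn S S ≤ S' → Good Ω S x → Good Ω S' x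
  image : ∀ {Ω Ω' : Type u} [Group Ω] [Group Ω'] {S : Subgroup Ω} (θ : S →* Ω') {x : S}, Good Ω S x → Good Ω' θ.range (θ x)

/-- The condition in groups with the centralizer condition. -/
def ModelCond (p : ℕ) (W : ∀ (Q : Type u) [Group Q], Subgroup Q) (Good : ∀ (Ω : Type u) [Group Ω], Subgroup Ω → Ω → Prop) : Prop :=
  ∀ (L : Type u) [Group L] [Finite L] (P : Sylow p L),
    Subgroup.centralizer ((Cfsg.pCore p L : Subgroup L) : Set L) ≤ Cfsg.pCore p L →
    ∀ x : L, x ∈ (P : Subgroup L) → Good L (P : Subgroup L) x → x ∈ Subgroup.centralizer ((P : Subgroup L) : Set L) →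
      (∀ g ∈ Subgroup.normalizer ((wOf W (P : Subgroup L) : Subgroup L) : Set L), g * x * g⁻¹ = x) →
      ∀ g : L, g * x * g⁻¹ = x

variable {W : ∀ (Q : Type u) [Group Q], Subgroup Q} {Good : ∀ (Ω : Type u) [Group Ω], Subgroup Ω → Ω → Prop}
  {p : ℕ} [Fact p.Prime]

section basic

variable {Ω : Type u} [Group Ω] {S : Subgroup Ω} {F : FusionSystem S}

/-- Fixing `x` passes to inverses. -/
theorem eq_of_fix (F : FusionSystem S) {x : Ω}
    (h : ∀ {P : Subgroup Ω} {φ : P →* Ω}, φ ∈ F.Hom P → ∀ hx : x ∈ P, φ ⟨x, hx⟩ = x) {P : Subgroup Ω} {φ : P →* Ω}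
    (hφ : φ ∈ F.Hom P) (y : P) (hy : φ y = x) : (y : Ω) = x := by
  obtain ⟨ψ, hψ, hψe⟩ := F.inv_mem hφ
  have hm : x ∈ φ.range := ⟨y, hy⟩
  have h1 := h hψ hm
  have h2 := hψe y
  have e : (⟨φ y, ⟨y, rfl⟩⟩ : φ.range) = ⟨x, hm⟩ := Subtype.ext hy
  rw [e, h1] at h2
  exact h2.symm

/-- Maps of a normalizer in a subsystem are maps of the normalizer. -/
theorem normalizerHom_mono {S₂ : Subgroup Ω} {F₂ : FusionSystem S₂} (hS₂ : S₂ ≤ S) (hsub : ∀ P, F₂.Hom P ⊆ F.Hom P)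
    {Q P : Subgroup Ω} {φ : P →* Ω} (hφ : φ ∈ F₂.normalizerHom Q P) : φ ∈ F.normalizerHom Q P := by
  obtain ⟨h1, h2, h3, ψ, hψ, h4, h5⟩ := hφ
  refine ⟨hsub _ h1, fun y hy => ⟨hS₂ (h2 hy).1, (h2 hy).2⟩, fun y => ⟨hS₂ (h3 y).1, (h3 y).2⟩, ψ, hsub _ hψ, h4, h5⟩

/-- An element of the centre of `S` lying in `S₂ ≤ S` is in the centre of `S₂`. -/
theorem mem_centralizerIn_of_le {S₂ : Subgroup Ω} (hS₂ : S₂ ≤ S) {x : Ω} (hx : x ∈ centralizerIn S S) (hx₂ : x ∈ S₂) :
    x ∈ centralizerIn S₂ S₂ :=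
  ⟨hx₂, Subgroup.centralizer_le hS₂ hx.2⟩

/-- The centre of `S` lies in the centralizer in `S` of any subgroup. -/
theorem center_le_centralizerIn {A : Subgroup Ω} (hA : A ≤ S) : centralizerIn S S ≤ centralizerIn S A :=
  fun _ hx => ⟨hx.1, Subgroup.centralizer_le hA hx.2⟩

/-- The centre of `S` lies in the normalizer in `S` of any subgroup. -/
theorem center_le_normalizerIn {A : Subgroup Ω} (hA : A ≤ S) : centralizerIn S S ≤ normalizerIn S A := by
  intro x hx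
  refine ⟨hx.1, ?_⟩
  have h : x ∈ Subgroup.centralizer (A : Set Ω) := Subgroup.centralizer_le hA hx.2
  exact Subgroup.centralizer_le_normalizer _ h

/-- The image of `W(T)` under an injective map is `W` of the image. -/
theorem map_wOf_eq_of_range (hW : IsPFunctor p W) {T : Subgroup Ω} [Finite T] (hT : IsPGroup p T) {L : Type u} [Group L]
    {ι : T →* L} (hinj : Function.Injective ι) {P : Subgroup L} (hP : ι.range = P) :
    ((wOf W T).subgroupOf T).map ι = wOf W P := by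
  subst hP
  let e : T ≃* ι.range := MonoidHom.ofInjective hinj
  have h2 := hW.map_eq ↥T ↥ι.range hT e
  rw [subgroupOf_wOf, wOf, ← h2]
  ext y
  constructor
  · rintro ⟨x, hx, rfl⟩
    exact ⟨e x, ⟨x, hx, rfl⟩, rfl⟩
  · rintro ⟨_, ⟨x, hx, rfl⟩, rfl⟩
    exact ⟨x, hx, rfl⟩

/-- **The constrained case.** -/
theorem fix_of_constrained (hW : IsPFunctor p W) (hG : GoodFamily Good) (hM : ModelCond p W Good) [Finite S]
    (hS : IsPGroup p S) (hFc : F.IsConstrained p) {x : Ω} (hxZ : x ∈ centralizerIn S S) (hxG : Good Ω S x)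
    (hyp : ∀ {P : Subgroup Ω} {φ : P →* Ω}, φ ∈ F.normalizerHom (wOf W S) P → ∀ h : x ∈ P, φ ⟨x, h⟩ = x)
    {P : Subgroup Ω} {φ : P →* Ω} (hφ : φ ∈ F.Hom P) (h : x ∈ P) : φ ⟨x, h⟩ = x := by
  obtain ⟨L, _, ι, hL⟩ := Cfsg.Agent.Lib.Fusion.ModelF.exists_model hS hFc
  obtain ⟨hfin, hreal, ⟨T, hT⟩, hcent⟩ := hL
  haveI := hfin
  have hxS : x ∈ S := hxZ.1
  let x₀ : S := ⟨x, hxS⟩
  have hx₀T : ι x₀ ∈ (T : Subgroup L) := by
    rw [hT]
    exact ⟨x₀, rfl⟩
  have hcT : ι x₀ ∈ Subgroup.centralizer ((T : Subgroup L) : Set L) := by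
    rw [Subgroup.mem_centralizer_iff]
    intro t ht
    have ht' : t ∈ ι.range := by
      rw [← hT]
      exact ht
    obtain ⟨s, rfl⟩ := ht'
    rw [← map_mul, ← map_mul]
    congr 1
    apply Subtype.ext
    exact Subgroup.mem_centralizer_iff.1 hxZ.2 s s.2
  have hgood : Good L (T : Subgroup L) (ι x₀) := by
    have h1 := hG.image ι (x := x₀) hxG
    rwa [← hT] at h1
  have hle := pCore_le_range (ι := ι) (p := p) hT
  have hcore : ι x₀ ∈ pCore p L :=
    hcent (Subgroup.centralizer_le (Cfsg.Agent.Lib.Basic.PCore.pCore_le_sylow T) hcT)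
  have hxc : x ∈ coreIn ι p := mem_coreIn.2 ⟨hxS, hcore⟩
  have hall := hM L T hcent (ι x₀) hx₀T hgood hcT (fun g hg => by
    have hmW := map_wOf_eq_of_range hW hS hreal.1 (P := (T : Subgroup L)) hT.symm
    have hK : coreIn ι p ⊔ wOf W S ≤ S := sup_le (coreIn_le p) (wOf_le S)
    have hnn : (pCore p L).Normal := Cfsg.Agent.Lib.Basic.PCore.pCore_normal p L
    have hvP : ∀ y : coreIn ι p, g * ι ⟨y, coreIn_le p y.2⟩ * g⁻¹ ∈ ι.range := fun y =>
      hle (hnn.conj_mem _ (mem_coreIn.1 y.2).2 g)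
    have hgW : ∀ y : wOf W S, g * ι ⟨y, wOf_le S y.2⟩ * g⁻¹ ∈ wOf W (T : Subgroup L) := by
      intro y
      refine (Subgroup.mem_normalizer_iff.1 hg _).1 ?_
      show ι ⟨y, wOf_le S y.2⟩ ∈ _
      rw [← hmW]
      exact ⟨⟨y, wOf_le S y.2⟩, y.2, rfl⟩
    have hvV : ∀ y : wOf W S, g * ι ⟨y, wOf_le S y.2⟩ * g⁻¹ ∈ ι.range := fun y => by
      rw [← hT]
      exact wOf_le _ (hgW y)
    have hv := Cfsg.Agent.Lib.Fusion.Embed.conj_mem_range_sup ι (coreIn_le p) (wOf_le S) g hvP hvV hK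
    obtain ⟨ψ, hψ, hψe⟩ := exists_hom_of_conj hreal hK g hv
    have himg : ((wOf W S).subgroupOf (coreIn ι p ⊔ wOf W S)).map ψ = wOf W S := by
      ext y
      rw [mem_map_subgroupOf]
      constructor
      · rintro ⟨r, hr, rfl⟩
        obtain ⟨hs, he⟩ := hψe r
        have h1 : ι ⟨ψ r, hs⟩ ∈ wOf W (T : Subgroup L) := by
          rw [he]
          exact hgW ⟨r, hr⟩
        rw [← hmW] at h1
        obtain ⟨v, hv, hve⟩ := h1
        have h2 : (v : Ω) = ψ r := congrArg Subtype.val (hreal.1 (hve.trans rfl))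
        rw [← h2]
        exact hv
      · intro hy
        have h1 : g⁻¹ * ι ⟨y, wOf_le S hy⟩ * g ∈ wOf W (T : Subgroup L) := by
          have h2 : ι ⟨y, wOf_le S hy⟩ ∈ wOf W (T : Subgroup L) := by
            rw [← hmW]
            exact ⟨⟨y, wOf_le S hy⟩, hy, rfl⟩
          have h3 := (Subgroup.mem_normalizer_iff.1 (Subgroup.inv_mem _ hg) _).1 h2
          simpa using h3
        rw [← hmW] at h1
        obtain ⟨v, hv, hve⟩ := h1
        have hvK : (v : Ω) ∈ coreIn ι p ⊔ wOf W S := (le_sup_right : wOf W S ≤ _) hv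
        refine ⟨⟨v, hvK⟩, hv, ?_⟩
        obtain ⟨hs, he⟩ := hψe ⟨v, hvK⟩
        have e1 : ι ⟨(v : Ω), hK hvK⟩ = g⁻¹ * ι ⟨y, wOf_le S hy⟩ * g := hve
        have h5 : (⟨ψ ⟨v, hvK⟩, hs⟩ : S) = ⟨y, wOf_le S hy⟩ := by
          apply hreal.1
          rw [he]
          show g * ι ⟨(v : Ω), hK hvK⟩ * g⁻¹ = _
          rw [e1]
          group
        exact congrArg Subtype.val h5
    have hSN := normalizerIn_wOf hW hS
    have hE := normalizerSystem_isNormalizerSystem F (wOf W S) (wOf_le S)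
    have hψN := mem_normalizerSystem hE le_sup_right (by rw [hSN]; exact hK) hψ himg
    have hψN' : ψ ∈ F.normalizerHom (wOf W S) _ := by
      rwa [hE] at hψN
    have hxK : x ∈ coreIn ι p ⊔ wOf W S := (le_sup_left : coreIn ι p ≤ _) hxc
    have h1 := hyp hψN' hxK
    obtain ⟨hs, he⟩ := hψe ⟨x, hxK⟩
    have e : ι ⟨ψ ⟨x, hxK⟩, hs⟩ = ι x₀ := congrArg ι (Subtype.ext h1)
    exact he.symm.trans e)
  obtain ⟨g, hg⟩ := exists_conj_of_mem hreal hφ
  have h1 := hg ⟨x, h⟩ (map_mem_S hφ _) hxS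
  have h2 : ι ⟨φ ⟨x, h⟩, map_mem_S hφ _⟩ = ι x₀ := h1.trans (hall g)
  exact congrArg Subtype.val (hreal.1 h2)

/-- The normalizer system of a subgroup which is not normal is strictly smaller. -/
theorem exists_not_mem_normalizerSystem {U : Subgroup Ω} (hU : U ≤ S) {N₁ : FusionSystem (normalizerIn S U)}
    (hN₁ : F.IsNormalizerSystem U N₁) (hn : ¬ F.IsNormal U) : ∃ P, ∃ φ ∈ F.Hom P, φ ∉ N₁.Hom P := by
  by_contra hcon
  push_neg at hcon
  apply hn
  refine ⟨hU, fun P φ hφ => ?_⟩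
  have h1 := hcon P φ hφ
  rw [hN₁ P] at h1
  obtain ⟨-, -, -, ψ, hψ, h2, h3⟩ := h1
  exact ⟨ψ, hψ, h2, h3⟩

/-- `S` normalizes the centralizer in `S` of a subgroup it normalizes. -/
theorem le_normalizer_centralizerIn {A : Subgroup Ω} (h : S ≤ Subgroup.normalizer (A : Set Ω)) :
    S ≤ Subgroup.normalizer (centralizerIn S A : Set Ω) := by
  have key : ∀ s ∈ S, ∀ c ∈ centralizerIn S A, s * c * s⁻¹ ∈ centralizerIn S A := by
    intro s hs c hc
    refine ⟨S.mul_mem (S.mul_mem hs hc.1) (S.inv_mem hs), ?_⟩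
    show s * c * s⁻¹ ∈ Subgroup.centralizer (A : Set Ω)
    rw [Subgroup.mem_centralizer_iff]
    intro a ha
    have h1 : s⁻¹ * a * s ∈ A := by
      have h2 := (Subgroup.mem_normalizer_iff.1 (h (S.inv_mem hs)) a).1 ha
      simpa using h2
    have h3 := Subgroup.mem_centralizer_iff.1 hc.2 _ h1
    calc a * (s * c * s⁻¹) = s * ((s⁻¹ * a * s) * c) * s⁻¹ := by group
      _ = s * (c * (s⁻¹ * a * s)) * s⁻¹ := by rw [h3]
      _ = s * c * s⁻¹ * a := by group
  intro s hs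
  rw [Subgroup.mem_normalizer_iff]
  intro c
  refine ⟨key s hs c, fun hc => ?_⟩
  have h1 := key s⁻¹ (S.inv_mem hs) _ hc
  simpa [mul_assoc] using h1

/-- **The receptive trick**: if `x` and a conjugate `z` of it both lie in the centre of `S`, then an automorphism of `S` in the
system carries `z` to `x`. -/
theorem exists_aut_of_center [Finite S] (hS : IsPGroup p S) (hF : F.IsSaturated p) {x : Ω} (hx : x ∈ centralizerIn S S)
    {φ : Subgroup.zpowers x →* Ω} (hφ : φ ∈ F.Hom (Subgroup.zpowers x))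
    (hz : φ ⟨x, Subgroup.mem_zpowers x⟩ ∈ centralizerIn S S) :
    ∃ ψ ∈ F.Hom S, ∀ h : φ ⟨x, Subgroup.mem_zpowers x⟩ ∈ S, ψ ⟨_, h⟩ = x := by
  have hxle : Subgroup.zpowers x ≤ centralizerIn S S := (Subgroup.zpowers_le).2 hx
  have hcenS : ∀ {R : Subgroup Ω}, R ≤ centralizerIn S S → centralizerIn S R = S := by
    intro R hR
    refine inf_eq_left.2 fun s hs => ?_
    rw [Subgroup.mem_centralizer_iff]
    intro r hr
    exact (Subgroup.mem_centralizer_iff.1 (hR hr).2 s hs).symm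
  have hFC : F.IsFullyCentralized (Subgroup.zpowers x) := by
    refine ⟨hxle.trans inf_le_left, fun Q _ => ?_⟩
    rw [hcenS hxle]
    exact Subgroup.card_le_of_le inf_le_left
  have hrec := fullyCentralized_receptive hS hF hFC
  obtain ⟨χ, hχ, hχr, hχ1, -⟩ := exists_inv hφ rfl
  have hrange : φ.range ≤ centralizerIn S S := by
    rintro _ ⟨y, rfl⟩
    obtain ⟨k, hk⟩ := Subgroup.mem_zpowers_iff.1 y.2
    have e : y = (⟨x, Subgroup.mem_zpowers x⟩ : Subgroup.zpowers x) ^ k := Subtype.ext (by simpa using hk.symm)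
    rw [e, map_zpow]
    exact Subgroup.zpow_mem _ hz _
  obtain ⟨ψ, hψ, hψe⟩ := hrec.2 _ χ hχ hχr
  have hle : S ≤ extender S φ.range χ := by
    intro s hs
    exact centralizerIn_le_extender ((hcenS hrange).ge hs)
  refine ⟨ψ.comp (Subgroup.inclusion hle), res_mem hψ hle, fun h => ?_⟩
  have hm : φ ⟨x, Subgroup.mem_zpowers x⟩ ∈ φ.range := ⟨_, rfl⟩
  have h1 := hψe _ hm (hle h)
  refine h1.trans ?_
  exact hχ1 ⟨x, Subgroup.mem_zpowers x⟩ hm

/-- An injective map from `R ≥ Q` sending the finite `Q` into itself preserves `Q`. -/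
theorem map_eq_of_mem {R Q : Subgroup Ω} {ψ : R →* Ω} (hinj : Function.Injective ψ) [Finite Q] (hQR : Q ≤ R)
    (hv : ∀ y : Q, ψ (Subgroup.inclusion hQR y) ∈ Q) : (Q.subgroupOf R).map ψ = Q := by
  let f : Q → Q := fun y => ⟨ψ (Subgroup.inclusion hQR y), hv y⟩
  have hf : Function.Injective f := fun a b hab =>
    Subtype.ext (show (a : Ω) = b from congrArg (fun z : R => (z : Ω)) (hinj (congrArg Subtype.val hab)))
  have hsurj := Finite.surjective_of_injective hf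
  ext y
  rw [mem_map_subgroupOf]
  constructor
  · rintro ⟨r, hr, rfl⟩
    exact hv ⟨r, hr⟩
  · intro hy
    obtain ⟨u, hu⟩ := hsurj ⟨y, hy⟩
    exact ⟨Subgroup.inclusion hQR u, u.2, congrArg Subtype.val hu⟩

/-- **The inductive step.** -/
theorem fix_step (hW : IsPFunctor p W)
    (hWZ : ∀ (Q : Type u) [Group Q] [Finite Q], IsPGroup p Q → Subgroup.center Q ≤ W Q)
    (hG : GoodFamily Good) (hM : ModelCond p W Good) [Finite S] (hS : IsPGroup p S) (hF : F.IsSaturated p)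
    {x : Ω} (hxZ : x ∈ centralizerIn S S) (hxG : Good Ω S x)
    (hyp : ∀ {P : Subgroup Ω} {φ : P →* Ω}, φ ∈ F.normalizerHom (wOf W S) P → ∀ h : x ∈ P, φ ⟨x, h⟩ = x)
    (IH₁ : ∀ (S₂ : Subgroup Ω) (F₂ : FusionSystem S₂), S₂ ≤ S → F₂.IsSaturated p → (∀ P, F₂.Hom P ⊆ F.Hom P) →
      (∃ P, ∃ φ ∈ F.Hom P, φ ∉ F₂.Hom P) → x ∈ centralizerIn S₂ S₂ → Good Ω S₂ x →
      (∀ {P : Subgroup Ω} {φ : P →* Ω}, φ ∈ F₂.normalizerHom (wOf W S₂) P → ∀ h : x ∈ P, φ ⟨x, h⟩ = x) →
      ∀ {P : Subgroup Ω} {φ : P →* Ω}, φ ∈ F₂.Hom P → ∀ h : x ∈ P, φ ⟨x, h⟩ = x)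
    (IH₂ : ∀ (Ω' : Type u) [Group Ω'] (S' : Subgroup Ω') [Finite S'] (F' : FusionSystem S') (x' : Ω'), IsPGroup p S' →
      F'.IsSaturated p → Nat.card S' < Nat.card S → x' ∈ centralizerIn S' S' → Good Ω' S' x' →
      (∀ {P : Subgroup Ω'} {φ : P →* Ω'}, φ ∈ F'.normalizerHom (wOf W S') P → ∀ h : x' ∈ P, φ ⟨x', h⟩ = x') →
      ∀ {P : Subgroup Ω'} {φ : P →* Ω'}, φ ∈ F'.Hom P → ∀ h : x' ∈ P, φ ⟨x', h⟩ = x') :
    ∀ {P : Subgroup Ω} {φ : P →* Ω}, φ ∈ F.Hom P → ∀ h : x ∈ P, φ ⟨x, h⟩ = x := by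
  classical
  have hxS : x ∈ S := hxZ.1
  -- maps preserving a non-normal subgroup normalized by `S`
  have hfixU : ∀ U : Subgroup Ω, U ≤ S → S ≤ Subgroup.normalizer (U : Set Ω) → ¬ F.IsNormal U →
      ∀ {P : Subgroup Ω} {φ : P →* Ω}, φ ∈ F.normalizerHom U P → ∀ h : x ∈ P, φ ⟨x, h⟩ = x := by
    intro U hU hUN hUn P φ hφ h
    have hFN : F.IsFullyNormalized U := Cfsg.Agent.Lib.Fusion.ModelF.isFullyNormalized_of_le_normalizer hU hUN
    have e : normalizerIn S U = S := inf_eq_left.2 hUN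
    have hN₁ := normalizerSystem_isNormalizerSystem F U hU
    have hsat := Cfsg.Agent.Lib.Fusion.KNormalizer.isSaturated_normalizerSystem hS hF hFN hN₁
    have hφ₁ : φ ∈ (normalizerSystem F U hU).Hom P := by rwa [hN₁ P]
    have hsub : ∀ P, (normalizerSystem F U hU).Hom P ⊆ F.Hom P := fun P φ hφ => hφ.1
    refine IH₁ _ (normalizerSystem F U hU) normalizerIn_le hsat hsub (exists_not_mem_normalizerSystem hU hN₁ hUn) ?_ ?_ ?_ hφ₁ h
    · rw [e]; exact hxZ
    · rw [e]; exact hxG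
    · intro P φ hφ h
      have h1 := normalizerHom_mono normalizerIn_le hsub hφ
      rw [e] at h1
      exact hyp h1 h
  intro P φ hφ h
  by_cases hcore : F.core = ⊥
  · -- the chain
    refine (forall_of_chain hW hS hF
      (fun P φ => (∀ h : x ∈ P, φ ⟨x, h⟩ = x) ∧ (∀ y : P, φ y = x → (y : Ω) = x))
      (fun {P R φ} _ hPi h => ⟨fun hx => hPi.1 (h hx), fun y hy => hPi.2 (Subgroup.inclusion h y) hy⟩)
      (fun {P Q φ ψ} _ _ hPi₁ hPi₂ h => ⟨fun hx => by
          have e1 := hPi₁.1 hx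
          have hxQ : x ∈ Q := e1 ▸ h ⟨x, hx⟩
          have e2 : (⟨φ ⟨x, hx⟩, h _⟩ : Q) = ⟨x, hxQ⟩ := Subtype.ext e1
          show ψ ⟨φ ⟨x, hx⟩, h _⟩ = x
          rw [e2]
          exact hPi₂.1 hxQ, fun y hy => hPi₁.2 y (hPi₂.2 ⟨φ y, h y⟩ hy)⟩)
      (fun {P Q φ ψ} _ _ hr hi hPi => ⟨fun hx => by
          have hm : x ∈ φ.range := hr ▸ hx
          obtain ⟨y, hy⟩ := hm
          have e1 := hPi.2 y hy
          have e2 : (⟨x, hx⟩ : Q) = ⟨φ y, hr ▸ ⟨y, rfl⟩⟩ := Subtype.ext hy.symm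
          rw [e2, hi y]
          exact e1, fun y hy => by
          have hm : (y : Ω) ∈ φ.range := hr ▸ y.2
          obtain ⟨y₀, hy₀⟩ := hm
          have e2 : y = ⟨φ y₀, hr ▸ ⟨y₀, rfl⟩⟩ := Subtype.ext hy₀.symm
          rw [e2, hi y₀] at hy
          have hxP : x ∈ P := hy ▸ y₀.2
          have e3 : y₀ = ⟨x, hxP⟩ := Subtype.ext hy
          rw [← hy₀, e3]
          exact hPi.1 hxP⟩)
      (fun {P φ} hφ => ⟨hyp hφ, fun y hy => eq_of_fix (normalizerSystem F (wOf W S) (wOf_le S)) (fun hφ' => hyp hφ') hφ y hy⟩)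
      (fun X₁ hne hX₁ hY {P φ} hφ => by
        have hN₁ := normalizerSystem_isNormalizerSystem F X₁ hX₁.1
        have hsat := Cfsg.Agent.Lib.Fusion.KNormalizer.isSaturated_normalizerSystem hS hF hX₁ hN₁
        have hsub : ∀ P, (normalizerSystem F X₁ hX₁.1).Hom P ⊆ F.Hom P := fun P φ hφ => hφ.1
        have hnn : ¬ F.IsNormal X₁ := fun hn => by
          have h2 : X₁ ≤ F.core := le_sSup hn
          rw [hcore] at h2
          exact hne (le_bot_iff.1 h2)
        have hfix : ∀ {P : Subgroup Ω} {φ : P →* Ω}, φ ∈ (normalizerSystem F X₁ hX₁.1).Hom P → ∀ h : x ∈ P, φ ⟨x, h⟩ = x :=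
          IH₁ _ (normalizerSystem F X₁ hX₁.1) normalizerIn_le hsat hsub (exists_not_mem_normalizerSystem hX₁.1 hN₁ hnn)
            (mem_centralizerIn_of_le normalizerIn_le hxZ (center_le_normalizerIn hX₁.1 hxZ))
            (hG.mono normalizerIn_le (center_le_normalizerIn hX₁.1) hxG)
            (fun hφ h => (hY (normalizerHom_mono normalizerIn_le hsub hφ)).1 h)
        exact ⟨hfix hφ, fun y hy => eq_of_fix _ hfix hφ y hy⟩) hφ).1 h
  by_cases hcon : F.IsConstrained p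
  · exact fix_of_constrained hW hG hM hS hcon hxZ hxG hyp hφ h
  have hAn := isNormal_core F
  have hAS := hAn.1
  have hASC := IsNormal.stronglyClosed hAn
  have hnormal_le : ∀ U : Subgroup Ω, F.IsNormal U → U ≤ F.core := fun U hU => le_sSup hU
  have hCA : ¬ centralizerIn S F.core ≤ F.core := fun h => hcon ⟨hF, F.core, hAn, isCentric_of_isNormal hAn h⟩
  have hSNA : S ≤ Subgroup.normalizer (F.core : Set Ω) := StronglyClosed.le_normalizer hASC
  let C := centralizerSystem F F.core hAS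
  have hC : F.IsCentralizerSystem F.core C := centralizerSystem_isCentralizerSystem F _ hAS
  by_cases hall : ∀ (P : Subgroup Ω) (φ : P →* Ω), φ ∈ F.Hom P → φ ∈ C.Hom P
  · -- `O_p(F)` is central
    have hSC : S ≤ centralizerIn S F.core := (hall S S.subtype (subtype_mem le_rfl)).2.1
    have hZc : S ≤ Subgroup.centralizer (F.core : Set Ω) := hSC.trans inf_le_right
    have hnot : ¬ S ≤ F.core := fun h => hCA (centralizerIn_le.trans h)
    have hnorm : (F.core.subgroupOf S).Normal := by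
      refine ⟨fun x hx g => ?_⟩
      rw [Subgroup.mem_subgroupOf] at hx ⊢
      exact (Subgroup.mem_normalizer_iff.1 (hSNA g.2) x).1 hx
    let θ : S →* (S ⧸ F.core.subgroupOf S) := QuotientGroup.mk' _
    have hker : ∀ s : S, θ s = 1 ↔ (s : Ω) ∈ F.core := by
      intro s
      rw [show θ s = 1 ↔ s ∈ F.core.subgroupOf S from QuotientGroup.eq_one_iff s, Subgroup.mem_subgroupOf]
    have hrange : θ.range = ⊤ := QuotientGroup.range_mk' _
    obtain ⟨E, hE⟩ := exists_isFactorSystem F hASC θ hker hrange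
    have hsurj := isSurjectiveMorphism_of_isFactorSystem hS hF hASC hE
    have hEs : E.IsSaturated p := Cfsg.Agent.Lib.Fusion.Image.isSaturated_image hS hF hsurj
    haveI hfinQ : Finite (S ⧸ F.core.subgroupOf S) := Finite.of_surjective θ (QuotientGroup.mk'_surjective _)
    have hEp : IsPGroup p (⊤ : Subgroup (S ⧸ F.core.subgroupOf S)) := by
      have h1 : IsPGroup p (S ⧸ F.core.subgroupOf S) := IsPGroup.of_surjective hS θ (QuotientGroup.mk'_surjective _)
      exact h1.to_subgroup _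
    have hcard : Nat.card (⊤ : Subgroup (S ⧸ F.core.subgroupOf S)) < Nat.card S := by
      rw [Subgroup.card_top]
      have h1 := Subgroup.card_eq_card_quotient_mul_card_subgroup (F.core.subgroupOf S)
      have h2 : Nat.card (F.core.subgroupOf S) ≠ 1 := by
        intro h
        have h3 := Subgroup.eq_bot_of_card_eq _ h
        apply hcore
        apply le_bot_iff.1
        intro x hx
        have h5 : (⟨x, hAS hx⟩ : S) ∈ F.core.subgroupOf S := hx
        rw [h3] at h5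
        have h6 := Subgroup.mem_bot.1 h5
        exact Subgroup.mem_bot.2 (congrArg Subtype.val h6)
      have h3 : 0 < Nat.card (F.core.subgroupOf S) := Nat.card_pos
      have h4 : 0 < Nat.card (S ⧸ F.core.subgroupOf S) := Nat.card_pos
      rw [h1]
      exact lt_mul_of_one_lt_right h4 (by omega)
    -- the preimage of `W(S/A)`
    have hY'le : wOf W (⊤ : Subgroup (S ⧸ F.core.subgroupOf S)) ≤ θ.range := by
      rw [hrange]
      exact le_top
    have hYS : preimageAlong θ (wOf W ⊤) ≤ S := preimage_le θ _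
    have hYN : S ≤ Subgroup.normalizer (preimageAlong θ (wOf W ⊤) : Set Ω) := fun s hs =>
      (mem_normalizer_preimage_iff hY'le (s := ⟨s, hs⟩)).2 (le_normalizer_wOf hW hEp (Subgroup.mem_top _))
    have htop : (⊤ : Subgroup (S ⧸ F.core.subgroupOf S)) ≠ ⊥ := by
      intro h
      apply hnot
      intro s hs
      have h1 : θ ⟨s, hs⟩ = 1 := by
        have h2 : θ ⟨s, hs⟩ ∈ (⊤ : Subgroup (S ⧸ F.core.subgroupOf S)) := Subgroup.mem_top _
        rw [h] at h2
        exact Subgroup.mem_bot.1 h2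
      exact (hker _).1 h1
    have hYnot : ¬ F.IsNormal (preimageAlong θ (wOf W ⊤)) := by
      intro hn
      have hYA : preimageAlong θ (wOf W ⊤) ≤ F.core := hnormal_le _ hn
      apply wOf_ne_bot hW hEp htop
      apply le_bot_iff.1
      intro y hy
      obtain ⟨s, rfl⟩ := QuotientGroup.mk'_surjective _ y
      have h1 : (s : Ω) ∈ preimageAlong θ (wOf W ⊤) := mem_preimage.2 ⟨s.2, hy⟩
      exact Subgroup.mem_bot.2 ((hker s).2 (hYA h1))
    have hfixY : ∀ {P : Subgroup Ω} {φ : P →* Ω}, φ ∈ F.normalizerHom (preimageAlong θ (wOf W ⊤)) P → ∀ h : x ∈ P, φ ⟨x, h⟩ = x :=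
      fun {P φ} hφ h => hfixU _ hYS hYN hYnot hφ h
    -- the induction in the factor system
    have hxbZ : θ ⟨x, hxS⟩ ∈ centralizerIn (⊤ : Subgroup (S ⧸ F.core.subgroupOf S)) ⊤ := by
      refine ⟨Subgroup.mem_top _, ?_⟩
      show θ ⟨x, hxS⟩ ∈ Subgroup.centralizer _
      rw [Subgroup.mem_centralizer_iff]
      intro y _
      obtain ⟨s, rfl⟩ := QuotientGroup.mk'_surjective _ y
      show θ s * θ ⟨x, hxS⟩ = θ ⟨x, hxS⟩ * θ s
      rw [← map_mul, ← map_mul]
      congr 1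
      exact Subtype.ext (Subgroup.mem_centralizer_iff.1 hxZ.2 s s.2)
    have hxbG : Good _ (⊤ : Subgroup (S ⧸ F.core.subgroupOf S)) (θ ⟨x, hxS⟩) := by
      have h1 := hG.image θ (x := ⟨x, hxS⟩) hxG
      rwa [hrange] at h1
    have hfixE : ∀ {P' : Subgroup (S ⧸ F.core.subgroupOf S)} {φ' : P' →* (S ⧸ F.core.subgroupOf S)}, φ' ∈ E.Hom P' →
        ∀ h' : θ ⟨x, hxS⟩ ∈ P', φ' ⟨θ ⟨x, hxS⟩, h'⟩ = θ ⟨x, hxS⟩ := by
      refine IH₂ _ ⊤ E _ hEp hEs hcard hxbZ hxbG ?_
      intro P' φ' hφ' h'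
      obtain ⟨-, -, -, ψ', hψ', hag, himg⟩ := hφ'
      obtain ⟨-, -, -, hiff⟩ := id hE
      obtain ⟨-, ψ₂, hψ₂, hle, hv', hmem, he⟩ := (hiff _ _).1 hψ'
      have hYR : preimageAlong θ (wOf W ⊤) ≤ preimageAlong θ (P' ⊔ wOf W ⊤) := by
        intro y hy
        obtain ⟨h1, h2⟩ := mem_preimage.1 hy
        exact mem_preimage.2 ⟨h1, (le_sup_right : wOf W ⊤ ≤ P' ⊔ wOf W ⊤) h2⟩
      have hxR : x ∈ preimageAlong θ (P' ⊔ wOf W ⊤) :=
        mem_preimage.2 ⟨hxS, (le_sup_left : P' ≤ P' ⊔ wOf W ⊤) h'⟩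
      haveI : Finite (preimageAlong θ (wOf W ⊤)) := finite_of_le hYS
      have himgY := map_eq_of_mem (F.injective_of_mem hψ₂) hYR (fun y => by
        refine mem_preimage.2 ⟨hv' _, ?_⟩
        rw [← he]
        have h1 : θ ⟨y, hYS y.2⟩ ∈ wOf W ⊤ := (mem_preimage.1 y.2).2
        refine himg.le ?_
        rw [mem_map_subgroupOf]
        exact ⟨⟨θ ⟨y, hYS y.2⟩, hmem (Subgroup.inclusion hYR y)⟩, h1, rfl⟩)
      have hE' := normalizerSystem_isNormalizerSystem F _ hYS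
      have hψN := mem_normalizerSystem hE' hYR (le_inf hle (hle.trans hYN)) hψ₂ himgY
      have hψN' : ψ₂ ∈ F.normalizerHom (preimageAlong θ (wOf W ⊤)) _ := by
        rwa [hE'] at hψN
      have h1 := hfixY hψN' hxR
      have h2 := he ⟨x, hxR⟩
      have h3 := hag ⟨_, h'⟩
      rw [← h3]
      have e1 : θ ⟨ψ₂ ⟨x, hxR⟩, hv' _⟩ = θ ⟨x, hxS⟩ := congrArg θ (Subtype.ext h1)
      exact h2.trans e1
    -- conjugates of `x` are central in `S`
    have hmor := isMorphism_of_isFactorSystem hS hF hASC hE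
    obtain ⟨φ', hφ', hle, hv, hP', he⟩ := hmor.2 P φ hφ
    have e1 := he ⟨x, h⟩
    have e2 := hfixE hφ' (hP' ⟨x, h⟩)
    have e3 : θ ⟨φ ⟨x, h⟩, hv _⟩ = θ ⟨x, hxS⟩ := e1.symm.trans e2
    have e4 : x⁻¹ * φ ⟨x, h⟩ ∈ F.core := by
      refine (hker ((⟨x, hxS⟩ : S)⁻¹ * ⟨φ ⟨x, h⟩, hv _⟩)).1 ?_
      rw [map_mul, map_inv, e3, inv_mul_cancel]
    have hAZ : F.core ≤ centralizerIn S S := by
      intro a ha
      refine ⟨hAS ha, ?_⟩
      show a ∈ Subgroup.centralizer _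
      rw [Subgroup.mem_centralizer_iff]
      intro s hs
      exact (Subgroup.mem_centralizer_iff.1 (hZc hs) a ha).symm
    have hzZ : φ ⟨x, h⟩ ∈ centralizerIn S S := by
      have e5 : φ ⟨x, h⟩ = x * (x⁻¹ * φ ⟨x, h⟩) := by group
      rw [e5]
      exact Subgroup.mul_mem _ hxZ (hAZ e4)
    have hzle : Subgroup.zpowers x ≤ P := (Subgroup.zpowers_le).2 h
    obtain ⟨ψ, hψ, hψe⟩ := exists_aut_of_center hS hF hxZ (res_mem hφ hzle) hzZ
    have hψ1 := hψe hzZ.1
    have hr : ψ.range = S := range_eq_of_card hψ (map_mem_S hψ) le_rfl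
    have hE' := normalizerSystem_isNormalizerSystem F (wOf W S) (wOf_le S)
    have hψN := mem_normalizerSystem hE' (wOf_le S) (by rw [normalizerIn_wOf hW hS]) hψ (map_wOf_self hW hS hψ hr)
    exact eq_of_fix (normalizerSystem F (wOf W S) (wOf_le S)) (fun hφ' => hyp hφ') hψN ⟨φ ⟨x, h⟩, hzZ.1⟩ hψ1
  · push_neg at hall
    obtain ⟨P₀, φ₀, hφ₀, hφ₀n⟩ := hall
    have hCS : centralizerIn S F.core ≤ S := centralizerIn_le
    haveI : Finite (centralizerIn S F.core) := finite_of_le hCS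
    have hCp : IsPGroup p (centralizerIn S F.core) := isPGroup_of_le hS hCS
    have hCsat : C.IsSaturated p :=
      Cfsg.Agent.Lib.Fusion.KNormalizer.isSaturated_centralizerSystem hS hF (isFullyCentralized_of_isNormal hAn) hC
    have hsub : ∀ P, C.Hom P ⊆ F.Hom P := fun P φ hφ => hφ.1
    have hxC : x ∈ centralizerIn S F.core := center_le_centralizerIn hAS hxZ
    have hxZC : x ∈ centralizerIn (centralizerIn S F.core) (centralizerIn S F.core) :=
      mem_centralizerIn_of_le hCS hxZ hxC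
    have hSNC := le_normalizer_centralizerIn hSNA
    have hfixC : ∀ {P : Subgroup Ω} {φ : P →* Ω}, φ ∈ C.Hom P → ∀ h : x ∈ P, φ ⟨x, h⟩ = x := by
      refine IH₁ _ C hCS hCsat hsub ⟨P₀, φ₀, hφ₀, hφ₀n⟩ hxZC (hG.mono hCS (center_le_centralizerIn hAS) hxG) ?_
      intro P φ hφ h
      by_cases hY₂ : wOf W (centralizerIn S F.core) ≤ F.core
      · have hxW : x ∈ wOf W (centralizerIn S F.core) := by
          refine mem_wOf.2 ⟨hxC, hWZ _ hCp ?_⟩
          rw [Subgroup.mem_center_iff]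
          intro g
          exact Subtype.ext (Subgroup.mem_centralizer_iff.1 hxZC.2 g g.2)
        have hxA := hY₂ hxW
        obtain ⟨-, -, -, ψ, -, hag, hfix⟩ := hφ.1
        have e1 := hag ⟨x, h⟩
        have e2 := hfix ⟨x, hxA⟩
        rw [← e1]
        exact e2
      · refine hfixU _ ((wOf_le _).trans hCS) (fun s hs => mem_normalizer_wOf hW hCp (hSNC hs))
          (fun hn => hY₂ (hnormal_le _ hn)) (normalizerHom_mono hCS hsub hφ) h
    -- the subgroup `A C_S(A)`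
    have hUS : uOf S F.core ≤ S := uOf_le hAS
    have hUN : S ≤ Subgroup.normalizer (uOf S F.core : Set Ω) := fun s hs => mem_normalizer_sup (hSNA hs) (hSNC hs)
    have hUnot : ¬ F.IsNormal (uOf S F.core) := fun hn =>
      hCA ((le_sup_right : centralizerIn S F.core ≤ uOf S F.core).trans (hnormal_le _ hn))
    have hrec := fullyCentralized_receptive hS hF (isFullyCentralized_of_isNormal hAn)
    have hz : Subgroup.zpowers x ≤ P := (Subgroup.zpowers_le).2 h
    have hzC : Subgroup.zpowers x ≤ centralizerIn S F.core := (Subgroup.zpowers_le).2 hxC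
    obtain ⟨σ, hσ, φ', hφ', hag⟩ := exists_frattini hAn hrec hzC (res_mem hφ hz)
    have hφ'C : φ' ∈ C.Hom (Subgroup.zpowers x) := hφ'
    have h1 : φ' ⟨x, Subgroup.mem_zpowers x⟩ = x := hfixC hφ'C _
    have hxU : x ∈ uOf S F.core := (le_sup_right : centralizerIn S F.core ≤ uOf S F.core) hxC
    have h2 := hag ⟨x, Subgroup.mem_zpowers x⟩ (by rw [h1]; exact hxU)
    have hadm : admHom σ ∈ F.normalizerHom (uOf S F.core) (uOf S F.core) := by
      have hE := normalizerSystem_isNormalizerSystem F (uOf S F.core) hUS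
      have h3 := mem_normalizerSystem hE (R := uOf S F.core) le_rfl (le_inf hUS (hUS.trans hUN)) hσ.mem (by
        ext y
        rw [mem_map_subgroupOf]
        constructor
        · rintro ⟨u, -, rfl⟩
          exact (σ u).2
        · intro hy
          refine ⟨σ⁻¹ ⟨y, hy⟩, (σ⁻¹ ⟨y, hy⟩).2, ?_⟩
          show ((σ (σ⁻¹ ⟨y, hy⟩) : ↥(uOf S F.core)) : Ω) = y
          have e : σ (σ⁻¹ ⟨y, hy⟩) = ⟨y, hy⟩ := σ.apply_symm_apply _
          rw [e])
      rwa [hE] at h3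
    have h3 := hfixU _ hUS hUN hUnot hadm hxU
    have e : (⟨φ' ⟨x, Subgroup.mem_zpowers x⟩, by rw [h1]; exact hxU⟩ : ↥(uOf S F.core)) = ⟨x, hxU⟩ := Subtype.ext h1
    rw [e] at h2
    exact h2.symm.trans h3

end basic

/-- **Main theorem** on control of central elements. -/
theorem fix_of_normalizer (hW : IsPFunctor p W)
    (hWZ : ∀ (Q : Type u) [Group Q] [Finite Q], IsPGroup p Q → Subgroup.center Q ≤ W Q)
    (hG : GoodFamily Good) (hM : ModelCond p W Good) :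
    ∀ (n : ℕ) (Ω : Type u) [Group Ω] (S : Subgroup Ω) [Finite S] (F : FusionSystem S) (x : Ω), Nat.card S = n → IsPGroup p S →
      F.IsSaturated p → x ∈ centralizerIn S S → Good Ω S x →
      (∀ {P : Subgroup Ω} {φ : P →* Ω}, φ ∈ F.normalizerHom (wOf W S) P → ∀ h : x ∈ P, φ ⟨x, h⟩ = x) →
      ∀ {P : Subgroup Ω} {φ : P →* Ω}, φ ∈ F.Hom P → ∀ h : x ∈ P, φ ⟨x, h⟩ = x := by
  intro n
  induction n using Nat.strong_induction_on with
  | _ n ih =>
  intro Ω _ S _ F x hn hS hF hxZ hxG hyp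
  suffices H : ∀ (m : ℕ) (S' : Subgroup Ω) [Finite S'] (F' : FusionSystem S'), Nat.card S' = n → (mapsOf F').ncard = m →
      IsPGroup p S' → F'.IsSaturated p → x ∈ centralizerIn S' S' → Good Ω S' x →
      (∀ {P : Subgroup Ω} {φ : P →* Ω}, φ ∈ F'.normalizerHom (wOf W S') P → ∀ h : x ∈ P, φ ⟨x, h⟩ = x) →
      ∀ {P : Subgroup Ω} {φ : P →* Ω}, φ ∈ F'.Hom P → ∀ h : x ∈ P, φ ⟨x, h⟩ = x from
    fun {P φ} hφ h => H _ S F hn rfl hS hF hxZ hxG hyp hφ h
  intro m
  induction m using Nat.strong_induction_on with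
  | _ m ihm =>
  intro S' _ F' hn' hm hS' hF' hxZ' hxG' hyp' P φ hφ h
  refine fix_step hW hWZ hG hM hS' hF' hxZ' hxG' hyp' ?_ ?_ hφ h
  · intro S₂ F₂ hS₂ hsat₂ hsub hstrict hxZ₂ hxG₂ hyp₂ P₂ φ₂ hφ₂ h₂
    haveI : Finite S₂ := finite_of_le hS₂
    have hp₂ : IsPGroup p S₂ := isPGroup_of_le hS' hS₂
    by_cases hc : Nat.card S₂ < n
    · exact ih _ hc Ω S₂ F₂ x rfl hp₂ hsat₂ hxZ₂ hxG₂ hyp₂ hφ₂ h₂
    · have hc' : Nat.card S₂ = n := le_antisymm (by rw [← hn']; exact card_le_S hS₂) (not_lt.1 hc)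
      refine ihm _ ?_ S₂ F₂ hc' rfl hp₂ hsat₂ hxZ₂ hxG₂ hyp₂ hφ₂ h₂
      rw [← hm]
      exact ncard_mapsOf_lt hsub hstrict
  · intro Ω' _ S₂ _ F₂ x₂ hp₂ hsat₂ hc hxZ₂ hxG₂ hyp₂ P₂ φ₂ hφ₂ h₂
    exact ih _ (hn' ▸ hc) Ω' S₂ F₂ x₂ rfl hp₂ hsat₂ hxZ₂ hxG₂ hyp₂ hφ₂ h₂

section center

variable {Ω : Type u} [Group Ω] {S : Subgroup Ω} {F : FusionSystem S} {N : FusionSystem (normalizerIn S (wOf W S))}

/-- Subgroups of the centre of `N_F(W(S))` consisting of good elements are central in `F`. -/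
theorem isCentral_of_le_center (hW : IsPFunctor p W)
    (hWZ : ∀ (Q : Type u) [Group Q] [Finite Q], IsPGroup p Q → Subgroup.center Q ≤ W Q)
    (hG : GoodFamily Good) (hM : ModelCond p W Good) [Finite S] (hS : IsPGroup p S) (hF : F.IsSaturated p)
    (hN : F.IsNormalizerSystem (wOf W S) N) {Y : Subgroup Ω} (hY : Y ≤ N.center) (hYG : ∀ y ∈ Y, Good Ω S y) : F.IsCentral Y := by
  have hSN := normalizerIn_wOf hW hS
  haveI : Finite (normalizerIn S (wOf W S)) := finite_of_le normalizerIn_le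
  have hcen := isCentral_center N
  have hZS : N.center ≤ S := hcen.1.trans normalizerIn_le
  have hZZ : N.center ≤ centralizerIn S S := by
    have h1 := le_centralizerIn_of_singletons hcen.1 (fun x hx y hy => conjElt_eq_of_isCentral hcen hx hy)
      (P := normalizerIn S (wOf W S)) le_rfl
    have e : centralizerIn (normalizerIn S (wOf W S)) (normalizerIn S (wOf W S)) = centralizerIn S S := by rw [hSN]
    exact h1.trans e.le
  refine isCentral_of_singletons hF (hY.trans hZS) fun x hx y hy => ?_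
  obtain ⟨φ, hφ, rfl⟩ := hy
  refine fix_of_normalizer hW hWZ hG hM _ Ω S F x rfl hS hF (hZZ (hY hx)) (hYG x hx) ?_ hφ _
  intro P φ hφ h
  have hφN : φ ∈ N.Hom P := by
    rw [hN P]
    exact hφ
  obtain ⟨ψ, -, hag, hfix⟩ := hcen.2 P φ hφN
  have e1 := hag ⟨x, h⟩
  have e2 := hfix ⟨x, hY hx⟩
  rw [← e1]
  exact e2

/-- The centre of `F` lies in the centre of `N_F(W(S))`. -/
theorem center_le_center_normalizer (hW : IsPFunctor p W) [Finite S] (hS : IsPGroup p S)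
    (hN : F.IsNormalizerSystem (wOf W S) N) : F.center ≤ N.center := by
  have hSN := normalizerIn_wOf hW hS
  haveI : Finite (normalizerIn S (wOf W S)) := finite_of_le normalizerIn_le
  have hcen := isCentral_center F
  have hZT : F.center ≤ normalizerIn S (wOf W S) := by
    rw [hSN]
    exact hcen.1
  suffices h : N.IsCentral F.center from le_sSup h
  refine ⟨hZT, fun P φ hφ => ?_⟩
  rw [hN P] at hφ
  obtain ⟨hφF, hP, hv, ψ, hψ, hag, himg⟩ := hφ
  obtain ⟨ψ₂, hψ₂, hag₂, hfix₂⟩ := hcen.2 _ ψ hψ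
  have hWT : wOf W S ≤ (P ⊔ wOf W S) ⊔ F.center := le_sup_left.trans' le_sup_right
  have hTN : (P ⊔ wOf W S) ⊔ F.center ≤ normalizerIn S (wOf W S) :=
    sup_le (sup_le hP (le_normalizerIn (wOf_le S))) hZT
  have himg₂ : ((wOf W S).subgroupOf ((P ⊔ wOf W S) ⊔ F.center)).map ψ₂ = wOf W S := by
    refine Eq.trans ?_ himg
    ext y
    rw [mem_map_subgroupOf, mem_map_subgroupOf]
    constructor
    · rintro ⟨u, hu, rfl⟩
      refine ⟨⟨u, (le_sup_right : wOf W S ≤ P ⊔ wOf W S) hu⟩, hu, ?_⟩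
      rw [← hag₂]
      rfl
    · rintro ⟨u, hu, rfl⟩
      refine ⟨⟨u, hWT hu⟩, hu, ?_⟩
      rw [← hag₂]
      rfl
  have hψ₂N : ψ₂ ∈ N.Hom _ := mem_normalizerSystem hN hWT hTN hψ₂ himg₂
  have hle : P ⊔ F.center ≤ (P ⊔ wOf W S) ⊔ F.center :=
    sup_le (le_sup_left.trans le_sup_left) le_sup_right
  refine ⟨ψ₂.comp (Subgroup.inclusion hle), res_mem hψ₂N hle, fun x => ?_, fun x => ?_⟩
  · have h1 := hag₂ (Subgroup.inclusion le_sup_left x)
    have h2 := hag x
    rw [← h2, ← h1]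
    rfl
  · exact hfix₂ x

end center

end Cfsg.Agent.Lib.Fusion.CenterControl
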