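/-
The torus element of a pair of transvections, with all its properties, and the resulting complement of
the centre of the transvection in its axis, for `p` odd.
-/
import Mathlib
import Cfsg.Agent.Lib.Fusion.Transvection

set_option autoImplicit false
set_option linter.style.haveILetI false

namespace Cfsg.Agent.Lib.Fusion.TorusCore

open Cfsg.Agent.Lib.Fusion.Transvection

variable {V : Type*} [Group V] {p : ℕ} [hp : Fact p.Prime]

section Comm

variable (hV : ∀ a b : V, a * b = b * a)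

include hV

/-- **The torus element**, with all its properties. -/
theorem exists_torus_full {z z' : V} {t t' : MulAut V} (hz : z ^ p = 1) (hz' : z' ^ p = 1)
    (htz : t z = z) (ht'z' : t' z' = z')
    (ht : ∀ a, a⁻¹ * t a ∈ Subgroup.zpowers z) (ht' : ∀ a, a⁻¹ * t' a ∈ Subgroup.zpowers z')
    (hu : z'⁻¹ * t z' ≠ 1) (hv : z⁻¹ * t' z ≠ 1) :
    ∃ δ ∈ Subgroup.closure ({t, t'} : Set (MulAut V)), δ z = z⁻¹ ∧ δ z' = z'⁻¹ ∧
      (∀ c, t c = c → t' c = c → δ c = c) ∧ (∀ a, δ (t a) = t (δ a)) ∧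
      ∀ x : V, ∃ (r s : ℕ) (c : V), x = z ^ r * z' ^ s * c ∧ t c = c ∧ t' c = c := by
  classical
  set u := z'⁻¹ * t z' with hu_def
  set v := z⁻¹ * t' z with hv_def
  have hfix : ∀ a ∈ Subgroup.zpowers z, t a = a := by
    rintro a ⟨n, rfl⟩
    simp [map_zpow, htz]
  have hfix' : ∀ a ∈ Subgroup.zpowers z', t' a = a := by
    rintro a ⟨n, rfl⟩
    simp [map_zpow, ht'z']
  have huz : u ∈ Subgroup.zpowers z := ht z'
  have hvz : v ∈ Subgroup.zpowers z' := ht' z
  have htu : t z' = z' * u := by rw [hu_def]; group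
  have htv : t' z = z * v := by rw [hv_def]; group
  obtain ⟨a, ha⟩ := exists_pow_eq_of_mem_zpowers hz huz hu (Subgroup.mem_zpowers z)
  obtain ⟨b, hb⟩ := exists_pow_eq_of_mem_zpowers hz' hvz hv
    (Subgroup.inv_mem _ (Subgroup.mem_zpowers z'))
  -- the powers
  have hta_z' : (t ^ a) z' = z' * z := by
    rw [Cfsg.Agent.Lib.Fusion.Chain.pow_apply_eq_mul_pow t htu (hfix u huz) a, ha]
  have hta_z : (t ^ a) z = z := by
    have : ∀ k : ℕ, (t ^ k) z = z := by
      intro k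
      induction k with
      | zero => simp
      | succ k ih => rw [pow_succ]; show (t ^ k) (t z) = z; rw [htz, ih]
    exact this a
  have ht'b_z : (t' ^ b) z = z * z'⁻¹ := by
    rw [Cfsg.Agent.Lib.Fusion.Chain.pow_apply_eq_mul_pow t' htv (hfix' v hvz) b, hb]
  have ht'b_z' : (t' ^ b) z' = z' := by
    have : ∀ k : ℕ, (t' ^ k) z' = z' := by
      intro k
      induction k with
      | zero => simp
      | succ k ih => rw [pow_succ]; show (t' ^ k) (t' z') = z'; rw [ht'z', ih]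
    exact this b
  let w : MulAut V := t ^ a * t' ^ b * t ^ a
  have hwz : w z = z'⁻¹ := by
    show (t ^ a) ((t' ^ b) ((t ^ a) z)) = z'⁻¹
    rw [hta_z, ht'b_z, map_mul, map_inv, hta_z, hta_z']
    rw [hV z' z, mul_inv_rev, hV z'⁻¹ z⁻¹]
    group
  have hwz' : w z' = z := by
    show (t ^ a) ((t' ^ b) ((t ^ a) z')) = z
    rw [hta_z', map_mul, ht'b_z', ht'b_z, hV z (z'⁻¹)]
    rw [← mul_assoc, mul_inv_cancel, one_mul, hta_z]
  let δ : MulAut V := w * w
  have hδz : δ z = z⁻¹ := by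
    show w (w z) = z⁻¹
    rw [hwz, map_inv, hwz']
  have hδz' : δ z' = z'⁻¹ := by
    show w (w z') = z'⁻¹
    rw [hwz', hwz]
  have hδfix : ∀ c, t c = c → t' c = c → δ c = c := by
    intro c h1 h2
    have h3 : ∀ k : ℕ, (t ^ k) c = c := by
      intro k
      induction k with
      | zero => simp
      | succ k ih => rw [pow_succ]; show (t ^ k) (t c) = c; rw [h1, ih]
    have h4 : ∀ k : ℕ, (t' ^ k) c = c := by
      intro k
      induction k with
      | zero => simp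
      | succ k ih => rw [pow_succ]; show (t' ^ k) (t' c) = c; rw [h2, ih]
    have hw : w c = c := by
      show (t ^ a) ((t' ^ b) ((t ^ a) c)) = c
      rw [h3, h4, h3]
    show w (w c) = c
    rw [hw, hw]
  have hδmem : δ ∈ Subgroup.closure ({t, t'} : Set (MulAut V)) := by
    have h1 : t ∈ Subgroup.closure ({t, t'} : Set (MulAut V)) :=
      Subgroup.subset_closure (by simp)
    have h2 : t' ∈ Subgroup.closure ({t, t'} : Set (MulAut V)) :=
      Subgroup.subset_closure (by simp)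
    have h3 : w ∈ Subgroup.closure ({t, t'} : Set (MulAut V)) :=
      Subgroup.mul_mem _ (Subgroup.mul_mem _ (Subgroup.pow_mem _ h1 a) (Subgroup.pow_mem _ h2 b))
        (Subgroup.pow_mem _ h1 a)
    exact Subgroup.mul_mem _ h3 h3
  have hδinv : ∀ y ∈ Subgroup.zpowers z, δ y = y⁻¹ := by
    rintro y ⟨n, rfl⟩
    show δ (z ^ n) = (z ^ n)⁻¹
    rw [map_zpow, hδz, inv_zpow]
  -- the decomposition
  have hdec : ∀ x : V, ∃ (r s : ℕ) (c : V), x = z ^ r * z' ^ s * c ∧ t c = c ∧ t' c = c := by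
    intro x
    obtain ⟨s, hs⟩ := exists_pow_eq_of_mem_zpowers hz huz hu (ht x)
    obtain ⟨r, hr⟩ := exists_pow_eq_of_mem_zpowers hz' hvz hv (ht' x)
    refine ⟨r, s, (z ^ r * z' ^ s)⁻¹ * x, by group, ?_, ?_⟩
    · have h1 : t x = x * u ^ s := by rw [hs]; group
      have h2 : t (z' ^ s) = z' ^ s * u ^ s := by
        rw [map_pow, htu]
        have hcomm : Commute z' u := hV z' u
        exact hcomm.mul_pow s
      rw [map_mul, map_inv, map_mul, h1, h2, map_pow, htz]
      have e : z ^ r * (z' ^ s * u ^ s) = u ^ s * (z ^ r * z' ^ s) := by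
        rw [← mul_assoc, hV (z ^ r * z' ^ s) (u ^ s)]
      rw [e, hV x (u ^ s)]
      group
    · have h1 : t' x = x * v ^ r := by rw [hr]; group
      have h2 : t' (z ^ r) = z ^ r * v ^ r := by
        rw [map_pow, htv]
        have hcomm : Commute z v := hV z v
        exact hcomm.mul_pow r
      rw [map_mul, map_inv, map_mul, h1, h2, map_pow, ht'z']
      have e : z ^ r * v ^ r * z' ^ s = z ^ r * z' ^ s * v ^ r := by
        rw [mul_assoc, hV (v ^ r), ← mul_assoc]
      rw [e, hV (z ^ r * z' ^ s) (v ^ r), hV x (v ^ r)]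
      group
  refine ⟨δ, hδmem, hδz, hδz', hδfix, fun x => ?_, hdec⟩
  obtain ⟨r, s, c, rfl, h1, h2⟩ := hdec x
  have hδc := hδfix c h1 h2
  have e1 : δ (t z') = t (δ z') := by
    have h3 : δ (t z') = z'⁻¹ * u⁻¹ := by rw [htu, map_mul, hδz', hδinv u huz]
    have h4 : t (δ z') = z'⁻¹ * u⁻¹ := by rw [hδz', map_inv, htu, mul_inv_rev, hV]
    rw [h3, h4]
  have e2 : δ (t z) = t (δ z) := by
    rw [htz, hδz, map_inv, htz]
  simp only [map_mul, map_pow, e1, e2, h1, hδc]

end Comm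

/-- Elements of the axis of `t` in terms of the decomposition of a pair. -/
theorem axis_decomp (hV : ∀ a b : V, a * b = b * a) {z z' : V} {t : MulAut V} (hz : z ^ p = 1) (hz' : z' ^ p = 1)
    (htz : t z = z) (ht : ∀ a, a⁻¹ * t a ∈ Subgroup.zpowers z) (hu : z'⁻¹ * t z' ≠ 1)
    {y : V} (hy : t y = y) {r s : ℕ} {c : V} (e : y = z ^ r * z' ^ s * c) (h1 : t c = c) : y = z ^ r * c := by
  have hs : z' ^ s = 1 := by
    have h3 : t y = y := hy
    rw [e, map_mul, map_mul, map_pow, map_pow, htz, h1] at h3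
    have h4 : t z' ^ s = z' ^ s := by
      have h5 := mul_right_cancel h3
      exact mul_left_cancel h5
    set u := z'⁻¹ * t z' with hu_def
    have huz : u ∈ Subgroup.zpowers z := ht z'
    have htu : t z' = z' * u := by rw [hu_def]; group
    have h6 : u ^ s = 1 := by
      rw [htu, (show Commute z' u from hV _ _).mul_pow] at h4
      exact mul_left_cancel (h4.trans (mul_one _).symm)
    have hup : u ^ p = 1 := by
      obtain ⟨n, hn⟩ := huz
      rw [← hn, ← zpow_natCast, ← zpow_mul, mul_comm, zpow_mul, zpow_natCast, hz, one_zpow]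
    have hop : orderOf u = p := orderOf_eq_prime hup hu
    have hdvd : p ∣ s := by
      rw [← hop]
      exact orderOf_dvd_of_pow_eq_one h6
    obtain ⟨m, rfl⟩ := hdvd
    rw [pow_mul, hz', one_pow]
  rw [e, hs, mul_one]

/-- An element of order dividing `2` and `p` is trivial, for `p` odd. -/
theorem eq_one_of_sq_of_pow (hodd : p ≠ 2) {w : V} (h2 : w ^ 2 = 1) (hw : w ^ p = 1) : w = 1 := by
  have h1 := Nat.dvd_gcd (orderOf_dvd_of_pow_eq_one h2) (orderOf_dvd_of_pow_eq_one hw)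
  have hc : Nat.gcd 2 p = 1 := by
    rcases Nat.coprime_primes Nat.prime_two hp.out |>.2 (Ne.symm hodd) with h
    exact h
  rw [hc, Nat.dvd_one] at h1
  exact orderOf_eq_one_iff.1 h1

/-- **The complement**, for `p` odd. -/
theorem core (hV : ∀ a b : V, a * b = b * a) (hodd : p ≠ 2) {G : Subgroup (MulAut V)} {t : MulAut V}
    {Z : Subgroup V} {z : V} (hzZ : z ∈ Z) (hz1 : z ≠ 1) (hzp : z ^ p = 1)
    (hfix : ∀ y, t y = y ↔ y ∈ Z) (htc : ∀ y, y⁻¹ * t y ∈ Subgroup.zpowers z) {ι : V → V}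
    (hpair : ∀ α ∈ G, α * t * α⁻¹ ∉ Subgroup.zpowers t →
      (α z)⁻¹ * t (α z) ≠ 1 ∧ z⁻¹ * (α * t * α⁻¹) z ≠ 1)
    (hι : ∀ α ∈ G, α * t * α⁻¹ ∉ Subgroup.zpowers t →
      ∀ δ ∈ Subgroup.closure ({t, α * t * α⁻¹} : Set (MulAut V)), δ z = z⁻¹ → (∀ a, δ (t a) = t (δ a)) →
        (∀ y ∈ Z, y⁻¹ * δ y ∈ Subgroup.zpowers z) → ∀ y ∈ Z, δ y = ι y)
    {α₀ : MulAut V} (hα₀G : α₀ ∈ G) (hα₀ : α₀ * t * α₀⁻¹ ∉ Subgroup.zpowers t) :
    (∀ y ∈ Z, ∃ (i : ℕ) (c : V), y = z ^ i * c ∧ c ∈ Z ∧ ι c = c) ∧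
      (∀ c ∈ Z, ι c = c → c ∈ Subgroup.zpowers z → c = 1) ∧
      (∀ α ∈ G, ∀ c ∈ Z, ι c = c → α c ∈ Z ∧ ι (α c) = α c) := by
  classical
  have htz : t z = z := (hfix z).2 hzZ
  have hzpow : ∀ r : ℕ, (z ^ r) ^ p = 1 := by
    intro r
    rw [← pow_mul, mul_comm, pow_mul, hzp, one_pow]
  -- the properties of the pair
  have key : ∀ α ∈ G, α * t * α⁻¹ ∉ Subgroup.zpowers t → ∀ y ∈ Z,
      ∃ (r : ℕ) (c : V), y = z ^ r * c ∧ c ∈ Z ∧ (α * t * α⁻¹) c = c ∧ ι c = c ∧ ι y = (z ^ r)⁻¹ * c ∧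
        ∀ k : ℕ, ι (z ^ k) = (z ^ k)⁻¹ := by
    intro α hαG hα y hy
    obtain ⟨hu, hv⟩ := hpair α hαG hα
    have hz' : (α z) ^ p = 1 := by rw [← map_pow, hzp, map_one]
    have ht'z' : (α * t * α⁻¹) (α z) = α z := by
      show α (t (α⁻¹ (α z))) = α z
      rw [MulAut.inv_apply_self, htz]
    have ht' : ∀ a, a⁻¹ * (α * t * α⁻¹) a ∈ Subgroup.zpowers (α z) := by
      intro a
      obtain ⟨k, hk⟩ := htc (α⁻¹ a)
      refine ⟨k, ?_⟩
      have e : a⁻¹ * (α * t * α⁻¹) a = α ((α⁻¹ a)⁻¹ * t (α⁻¹ a)) := by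
        rw [map_mul, map_inv, MulAut.apply_inv_self]
        rfl
      rw [e, ← hk]
      simp only [map_zpow]
    obtain ⟨δ, hδmem, hδz, hδz', hδfix, hδc, hdec⟩ :=
      exists_torus_full hV hzp hz' htz ht'z' htc ht' hu hv
    -- elements of the axis
    have hdecZ : ∀ y ∈ Z, ∃ (r : ℕ) (c : V), y = z ^ r * c ∧ t c = c ∧ (α * t * α⁻¹) c = c := by
      intro y hy
      obtain ⟨r, s, c, e, h1, h2⟩ := hdec y
      have hs : (α z) ^ s = 1 := by
        have h3 : t y = y := (hfix y).2 hy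
        rw [e, map_mul, map_mul, map_pow, map_pow, htz, h1] at h3
        have h4 : t (α z) ^ s = (α z) ^ s := by
          have h5 := mul_right_cancel h3
          exact mul_left_cancel h5
        -- `u^s = 1`
        set u := (α z)⁻¹ * t (α z) with hu_def
        have huz : u ∈ Subgroup.zpowers z := htc (α z)
        have htu : t (α z) = α z * u := by rw [hu_def]; group
        have h6 : u ^ s = 1 := by
          rw [htu, (show Commute (α z) u from hV _ _).mul_pow] at h4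
          exact mul_left_cancel (h4.trans (mul_one _).symm)
        by_contra hne
        -- `p ∣ s`, otherwise `z'^s` generates
        have hup : u ^ p = 1 := by
          obtain ⟨n, hn⟩ := huz
          rw [← hn, ← zpow_natCast, ← zpow_mul, mul_comm, zpow_mul, zpow_natCast, hzp, one_zpow]
        have hop : orderOf u = p := orderOf_eq_prime hup hu
        have hdvd : p ∣ s := by
          rw [← hop]
          exact orderOf_dvd_of_pow_eq_one h6
        obtain ⟨m, rfl⟩ := hdvd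
        apply hne
        rw [pow_mul, hz', one_pow]
      refine ⟨r, c, ?_, h1, h2⟩
      rw [e, hs, mul_one]
    obtain ⟨r, c, e, h1, h2⟩ := hdecZ y hy
    have hcZ : c ∈ Z := (hfix c).1 h1
    have hδc' := hδfix c h1 h2
    have hδy : ∀ y' r' c', y' = z ^ r' * c' → t c' = c' → (α * t * α⁻¹) c' = c' →
        δ y' = (z ^ r')⁻¹ * c' := by
      intro y' r' c' e' h1' h2'
      rw [e', map_mul, map_pow, hδz, hδfix c' h1' h2', inv_pow]
    have hstab : ∀ y ∈ Z, y⁻¹ * δ y ∈ Subgroup.zpowers z := by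
      intro y' hy'
      obtain ⟨r', c', e', h1', h2'⟩ := hdecZ y' hy'
      rw [hδy y' r' c' e' h1' h2', e']
      have e2 : (z ^ r' * c')⁻¹ * ((z ^ r')⁻¹ * c') = ((z ^ r') ^ 2)⁻¹ := by
        have h3 : (z ^ r' * c')⁻¹ = (z ^ r')⁻¹ * c'⁻¹ := by
          rw [mul_inv_rev, hV]
        rw [h3]
        have h4 : (z ^ r')⁻¹ * c'⁻¹ * ((z ^ r')⁻¹ * c') = (z ^ r')⁻¹ * (z ^ r')⁻¹ * (c'⁻¹ * c') := by
          rw [mul_assoc, mul_assoc, ← mul_assoc c'⁻¹, hV c'⁻¹, mul_assoc]
        rw [h4, inv_mul_cancel, mul_one, pow_two, mul_inv_rev]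
      rw [e2]
      exact Subgroup.inv_mem _ (Subgroup.pow_mem _ (Subgroup.npow_mem_zpowers z r') 2)
    have hδι := hι α hαG hα δ hδmem hδz hδc hstab
    refine ⟨r, c, e, hcZ, h2, ?_, ?_, fun k => ?_⟩
    · rw [← hδι c hcZ, hδc']
    · rw [← hδι y hy, hδy y r c e h1 h2]
    · rw [← hδι _ (Z.pow_mem hzZ k), map_pow, hδz, inv_pow]
  -- a first consequence
  have hparta : ∀ y ∈ Z, ∃ (i : ℕ) (c : V), y = z ^ i * c ∧ c ∈ Z ∧ ι c = c := by
    intro y hy
    obtain ⟨r, c, e, hc, -, h3, -, -⟩ := key α₀ hα₀G hα₀ y hy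
    exact ⟨r, c, e, hc, h3⟩
  -- fixed points of `ι` are fixed by the conjugates of `t`
  have hfixconj : ∀ c ∈ Z, ι c = c → ∀ β ∈ G, (β * t * β⁻¹) c = c := by
    intro c hc hιc β hβ
    by_cases hβt : β * t * β⁻¹ ∈ Subgroup.zpowers t
    · have h1 : t c = c := (hfix c).2 hc
      have h2 : Subgroup.zpowers t ≤ MulAction.stabilizer (MulAut V) c := by
        rw [Subgroup.zpowers_le]
        exact h1
      exact h2 hβt
    · obtain ⟨r, c₁, e, -, h2, h3, h4, -⟩ := key β hβ hβt c hc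
      have h5 : (z ^ r) ^ 2 = 1 := by
        rw [hιc, e] at h4
        have h6 := mul_right_cancel h4
        rw [eq_inv_iff_mul_eq_one] at h6
        rw [pow_two]
        exact h6
      have h6 : z ^ r = 1 := eq_one_of_sq_of_pow hodd h5 (hzpow r)
      rw [e, h6, one_mul]
      exact h2
  have hmemZ : ∀ c ∈ Z, ι c = c → ∀ β ∈ G, β c ∈ Z := by
    intro c hc hιc β hβ
    have h1 := hfixconj c hc hιc β⁻¹ (G.inv_mem hβ)
    have h2 : t (β c) = β c := by
      have h3 : β⁻¹ (t (β c)) = c := by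
        have : (β⁻¹ * t * β⁻¹⁻¹) c = β⁻¹ (t (β c)) := by
          simp [MulAut.mul_apply]
        rw [← this]
        exact h1
      have h4 := congrArg β h3
      rwa [MulAut.apply_inv_self] at h4
    exact (hfix _).1 h2
  refine ⟨hparta, ?_, ?_⟩
  · intro c hc hιc hcz
    obtain ⟨-, -, -, -, -, -, -, h4⟩ := key α₀ hα₀G hα₀ z hzZ
    have hfin : IsOfFinOrder z := isOfFinOrder_iff_pow_eq_one.2 ⟨p, hp.out.pos, hzp⟩
    obtain ⟨k, rfl⟩ := (Submonoid.mem_powers_iff _ _).1 (hfin.mem_powers_iff_mem_zpowers.2 hcz)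
    have h5 : (z ^ k) ^ 2 = 1 := by
      have h6 := h4 k
      rw [hιc, eq_inv_iff_mul_eq_one] at h6
      rw [pow_two]
      exact h6
    exact eq_one_of_sq_of_pow hodd h5 (hzpow k)
  · intro α hα c hc hιc
    have h1 : α c ∈ Z := hmemZ c hc hιc α hα
    refine ⟨h1, ?_⟩
    obtain ⟨i, c₁, e, hc₁, hιc₁⟩ := hparta _ h1
    by_cases hi : z ^ i = 1
    · rw [hi, one_mul] at e
      rw [e, hιc₁]
    · exfalso
      -- every element of `G` keeps `z` in the axis
      have hγ : ∀ γ ∈ G, γ z ∈ Z := by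
        intro γ hγ
        have h2 : γ (α c) ∈ Z := by
          have := hmemZ c hc hιc (γ * α) (G.mul_mem hγ hα)
          exact this
        have h3 : γ c₁ ∈ Z := hmemZ c₁ hc₁ hιc₁ γ hγ
        have h4 : γ (z ^ i) ∈ Z := by
          have : z ^ i = α c * c₁⁻¹ := by rw [e]; group
          rw [this, map_mul, map_inv]
          exact Z.mul_mem h2 (Z.inv_mem h3)
        obtain ⟨k, hk⟩ := exists_pow_eq_of_mem_zpowers hzp (Subgroup.npow_mem_zpowers z i) hi
          (Subgroup.mem_zpowers z)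
        rw [← hk, map_pow]
        exact Z.pow_mem h4 k
      obtain ⟨hu, -⟩ := hpair α₀ hα₀G hα₀
      apply hu
      rw [(hfix _).2 (hγ α₀ hα₀G), inv_mul_cancel]

end Cfsg.Agent.Lib.Fusion.TorusCore
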