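/-
Abelian essential subgroups `P` with `|N_S(P) : P| = p` and `N_S(P)` acting through transvections with a
fixed centre.
-/
import Mathlib
import Cfsg.Agent.Lib.Fusion.AbelianPsi
import Cfsg.Agent.Lib.Fusion.TorusCore

set_option autoImplicit false
set_option linter.style.haveILetI false

namespace Cfsg.Agent.Lib.Fusion.PearlCore

open Cfsg Cfsg.FusionSystem Cfsg.Agent.Lib.Fusion.Basic Cfsg.Agent.Lib.Fusion.Saturated
  Cfsg.Agent.Lib.Fusion.Saturated2 Cfsg.Agent.Lib.Fusion.Essential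
  Cfsg.Agent.Lib.Fusion.EssentialPair Cfsg.Agent.Lib.Fusion.AbelianMax
  Cfsg.Agent.Lib.Fusion.TorusCore Cfsg.Agent.Lib.Fusion.Transvection

variable {Ω : Type*} [Group Ω] {S P : Subgroup Ω} {p : ℕ} [Finite S] [hp : Fact p.Prime]
  {F : FusionSystem S}

section Top

/-- `S` is fully normalized. -/
theorem fullyNormalized_top : F.IsFullyNormalized S := by
  refine ⟨le_rfl, fun Q _ => ?_⟩
  have hNS : normalizerIn S S = S :=
    le_antisymm inf_le_left (le_inf le_rfl Subgroup.le_normalizer)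
  rw [hNS]
  exact card_le_S normalizerIn_le

/-- `p`-elements of `Aut_F(S)` are inner. -/
theorem inner_of_pow (hS : IsPGroup p S) (hF : F.IsSaturated p) {e : MulAut S} (he : e ∈ F.autGroup S)
    {a : ℕ} (hea : e ^ p ^ a = 1) : ∃ s ∈ S, ∀ y : S, ((e y : S) : Ω) = s * y * s⁻¹ := by
  classical
  haveI : Finite (F.autGroup S) := finite_autGroup le_rfl
  obtain ⟨T₀, hT₀⟩ := (fullyNormalized_props hS hF (fullyNormalized_top (F := F))).2.2
  have hzp : IsPGroup p (Subgroup.zpowers (⟨e, he⟩ : F.autGroup S)) :=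
    isPGroup_zpowers_of_pow (a := a) (Subtype.ext hea)
  obtain ⟨Q, hQ⟩ := hzp.exists_le_sylow
  obtain ⟨g, hg⟩ := MulAction.exists_smul_eq (F.autGroup S) T₀ Q
  have h1 : (⟨e, he⟩ : F.autGroup S) ∈ (Q : Subgroup (F.autGroup S)) := hQ (Subgroup.mem_zpowers _)
  rw [← hg, Cfsg.Agent.Lib.Basic.StrongP.mem_smul_sylow, hT₀] at h1
  obtain ⟨s, hs, hsv⟩ := mem_autInducedBy_iff.1 h1
  refine ⟨((g : MulAut S) ⟨s, hs⟩ : S), ((g : MulAut S) ⟨s, hs⟩).2, fun y => ?_⟩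
  have h2 : (((g⁻¹ * (⟨e, he⟩ : F.autGroup S) * g : F.autGroup S).1 ((g : MulAut S)⁻¹ y) : S) : Ω) =
      s * ((g : MulAut S)⁻¹ y : S) * s⁻¹ := hsv ((g : MulAut S)⁻¹ y)
  have h3 : (g⁻¹ * (⟨e, he⟩ : F.autGroup S) * g : F.autGroup S).1 ((g : MulAut S)⁻¹ y) =
      (g : MulAut S)⁻¹ (e y) := by
    show (g : MulAut S)⁻¹ (e ((g : MulAut S) ((g : MulAut S)⁻¹ y))) = _
    rw [MulAut.apply_inv_self]
  rw [h3] at h2
  have h4 : (g : MulAut S)⁻¹ (e y) = ⟨s, hs⟩ * (g : MulAut S)⁻¹ y * (⟨s, hs⟩ : S)⁻¹ := Subtype.ext h2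
  have h5 := congrArg (g : MulAut S) h4
  rw [MulAut.apply_inv_self, map_mul, map_mul, map_inv, MulAut.apply_inv_self] at h5
  rw [h5]
  rfl

/-- An automorphism of `S` preserves the centre of `S`. -/
theorem map_cen (d : MulAut S) {y : S} (hy : (y : Ω) ∈ cen S) : ((d y : S) : Ω) ∈ cen S := by
  refine mem_cen.2 ⟨(d y).2, fun s hs => ?_⟩
  obtain ⟨u, hu⟩ := d.surjective ⟨s, hs⟩
  have h1 : u * y = y * u := Subtype.ext ((mem_cen.1 hy).2 u u.2)
  have h2 : d u * d y = d y * d u := by rw [← map_mul, ← map_mul, h1]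
  rw [hu] at h2
  exact congrArg Subtype.val h2

/-- Unipotent elements of `Aut_F(S)` act trivially on the centre of `S`. -/
theorem fix_of_unipotent (hS : IsPGroup p S) (hF : F.IsSaturated p) {e : MulAut S} (he : e ∈ F.autGroup S)
    {z : S} (hzp : z ^ p = 1) (hez : e z = z)
    (hst : ∀ y : S, (y : Ω) ∈ cen S → y⁻¹ * e y ∈ Subgroup.zpowers z) (y : S) (hy : (y : Ω) ∈ cen S) :
    e y = y := by
  classical
  haveI : Finite (MulAut S) := finite_mulAut le_rfl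
  obtain ⟨c, hcz⟩ := hst y hy
  obtain ⟨a, m, hm, hnm⟩ := Nat.exists_eq_pow_mul_and_not_dvd (orderOf_pos e).ne' p hp.out.ne_one
  have he1 : (e ^ m) ^ p ^ a = 1 := by
    rw [← pow_mul, mul_comm, ← hnm, pow_orderOf_eq_one]
  obtain ⟨s, hs, hsv⟩ := inner_of_pow hS hF (Subgroup.pow_mem _ he m) he1
  set c' := y⁻¹ * e y with hc'
  have hec : e y = y * c' := by rw [hc']; group
  have hfixc : e c' = c' := by
    rw [← hcz]
    simp [map_zpow, hez]
  have h1 := Cfsg.Agent.Lib.Fusion.Chain.pow_apply_eq_mul_pow e hec hfixc m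
  have h2 : ((e ^ m) y : S) = y := by
    apply Subtype.ext
    rw [hsv, (mem_cen.1 hy).2 s hs]
    group
  rw [h2] at h1
  have h3 : c' ^ m = 1 := by
    have := h1
    exact mul_left_cancel (a := y) (by rw [← this, mul_one])
  have h4 : c' ^ p = 1 := by
    rw [← hcz, ← zpow_natCast, ← zpow_mul, mul_comm, zpow_mul, zpow_natCast, hzp, one_zpow]
  have hcop : Nat.Coprime m p := ((Nat.Prime.coprime_iff_not_dvd hp.out).2 hm).symm
  have h5 : c' = 1 := by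
    have h6 := Nat.dvd_gcd (orderOf_dvd_of_pow_eq_one h3) (orderOf_dvd_of_pow_eq_one h4)
    rw [hcop, Nat.dvd_one] at h6
    exact orderOf_eq_one_iff.1 h6
  rw [hec, h5, mul_one]

/-- Two elements of `Aut_F(S)` inverting `z`, trivial on `Z(S)/⟨z⟩`, agree on `Z(S)`. -/
theorem aut_eq_on_cen (hS : IsPGroup p S) (hF : F.IsSaturated p) {d d₀ : MulAut S}
    (hd : d ∈ F.autGroup S) (hd₀ : d₀ ∈ F.autGroup S) {z : S} (hzp : z ^ p = 1) (hdz : d z = z⁻¹)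
    (hd₀z : d₀ z = z⁻¹) (hst : ∀ y : S, (y : Ω) ∈ cen S → y⁻¹ * d y ∈ Subgroup.zpowers z)
    (hst₀ : ∀ y : S, (y : Ω) ∈ cen S → y⁻¹ * d₀ y ∈ Subgroup.zpowers z) (y : S) (hy : (y : Ω) ∈ cen S) :
    d y = d₀ y := by
  have hdinv1 : d⁻¹ z⁻¹ = z := by rw [← hdz, MulAut.inv_apply_self]
  have hdinv : d⁻¹ z = z⁻¹ := by
    have h1 : d z⁻¹ = z := by rw [map_inv, hdz, inv_inv]
    rw [← h1, MulAut.inv_apply_self, h1]
  have hdzp : ∀ c ∈ Subgroup.zpowers z, d⁻¹ c ∈ Subgroup.zpowers z := by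
    rintro c ⟨n, rfl⟩
    show d⁻¹ (z ^ n) ∈ _
    rw [map_zpow, hdinv]
    exact Subgroup.zpow_mem _ (Subgroup.inv_mem _ (Subgroup.mem_zpowers z)) n
  have key := fix_of_unipotent hS hF (e := d⁻¹ * d₀) (Subgroup.mul_mem _ (Subgroup.inv_mem _ hd) hd₀) hzp
    (z := z) (by
      show d⁻¹ (d₀ z) = z
      rw [hd₀z, hdinv1]) (by
      intro y hy
      show y⁻¹ * d⁻¹ (d₀ y) ∈ _
      have hy₁ : ((d⁻¹ y : S) : Ω) ∈ cen S := map_cen _ hy
      have h1 := hst _ hy₁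
      rw [MulAut.apply_inv_self] at h1
      have h2 := Subgroup.inv_mem _ h1
      have h3 := hdzp _ (hst₀ y hy)
      have e1 : y⁻¹ * d⁻¹ (d₀ y) = ((d⁻¹ y)⁻¹ * y)⁻¹ * d⁻¹ (y⁻¹ * d₀ y) := by
        rw [map_mul, map_inv]
        group
      rw [e1]
      exact Subgroup.mul_mem _ h2 h3) y hy
  have h4 : d⁻¹ (d₀ y) = y := key
  rw [← h4, MulAut.apply_inv_self]
  rw [h4]

end Top

section Pearl

/-- The data of an abelian essential subgroup on which `N_S(P)` acts through a transvection. -/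
structure Data₂ (F : FusionSystem S) (P : Subgroup Ω) (p : ℕ) (a z : Ω) : Prop where
  hS : IsPGroup p S
  hF : F.IsSaturated p
  hE : F.IsEssential p P
  hab : ∀ s ∈ P, ∀ t ∈ P, s * t = t * s
  hidx : (P.subgroupOf (S ⊓ Subgroup.normalizer (P : Set Ω))).index = p
  haS : a ∈ S
  haN : a ∈ Subgroup.normalizer (P : Set Ω)
  haP : a ∉ P
  hzP : z ∈ P
  hz1 : z ≠ 1
  hzp : z ^ p = 1
  haz : a * z * a⁻¹ = z
  htc : ∀ y ∈ P, y⁻¹ * (a * y * a⁻¹) ∈ Subgroup.zpowers z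

variable {a z : Ω}

namespace Data₂

variable (D : Data₂ F P p a z)

include D

theorem hPS : P ≤ S := D.hE.1.1

theorem hC : centralizerIn S P ≤ P := D.hE.1.2 P (Cfsg.Agent.Lib.Fusion.Basic.IsConj.refl D.hE.1.1)

theorem hV : ∀ u v : P, u * v = v * u := fun u v => Subtype.ext (D.hab u u.2 v v.2)

theorem hVp : IsPGroup p P := isPGroup_of_le D.hS D.hPS

theorem finiteP : Finite P := finite_of_le D.hPS

/-- The transvection. -/
noncomputable abbrev t : MulAut P := normConj a D.haN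

omit D in
theorem _root_.Cfsg.Agent.Lib.Fusion.PearlCore.normConj_pow_apply {g : Ω}
    (hg : g ∈ Subgroup.normalizer (P : Set Ω)) (k : ℕ) (y : P) :
    (((normConj g hg ^ k) y : P) : Ω) = g ^ k * y * (g ^ k)⁻¹ := by
  induction k generalizing y with
  | zero => simp
  | succ k ih =>
    rw [pow_succ, MulAut.mul_apply, ih]
    simp only [normConj_apply, pow_succ]
    group

theorem t_mem_induced : D.t ∈ autInducedBy S P := normConj_mem_autInducedBy D.haS D.haN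

theorem t_mem : D.t ∈ F.autGroup P := autInducedBy_le_autGroup D.hPS D.t_mem_induced

theorem t_not_inn : D.t ∉ Inn P := normConj_not_mem_inn D.hPS D.hC D.haS D.haN D.haP

theorem t_ne_one : D.t ≠ 1 := fun h => D.t_not_inn (by rw [h]; exact Subgroup.one_mem _)

/-- The elements of `N_S(P)`. -/
theorem exists_decomp {g : Ω} (hg : g ∈ S ⊓ Subgroup.normalizer (P : Set Ω)) :
    ∃ b ∈ P, ∃ k : ℕ, g = b * a ^ k := by
  classical
  haveI : Finite ↥(S ⊓ Subgroup.normalizer (P : Set Ω)) := finite_of_le inf_le_left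
  haveI hn : (P.subgroupOf (S ⊓ Subgroup.normalizer (P : Set Ω))).Normal := ⟨fun n hn u => by
    have h1 := (Subgroup.mem_normalizer_iff.1 u.2.2 n).1 hn
    exact h1⟩
  obtain ⟨b, hb, k, e⟩ := exists_decomp_of_index D.hidx
    (y := (⟨a, D.haS, D.haN⟩ : ↥(S ⊓ Subgroup.normalizer (P : Set Ω)))) D.haP ⟨g, hg⟩
  exact ⟨b, hb, k, congrArg Subtype.val e⟩

/-- Conjugation by elements of `N_S(P)` on `P` is a power of `t`. -/
theorem conj_eq_pow {g : Ω} (hg : g ∈ S ⊓ Subgroup.normalizer (P : Set Ω)) :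
    ∃ k : ℕ, ∀ y : P, g * y * g⁻¹ = (((D.t ^ k) y : P) : Ω) := by
  obtain ⟨b, hb, k, rfl⟩ := D.exists_decomp hg
  refine ⟨k, fun y => ?_⟩
  rw [normConj_pow_apply]
  have h1 : a ^ k * y * (a ^ k)⁻¹ ∈ P := by
    have := normConj_pow_apply D.haN k y
    rw [← this]
    exact ((normConj a D.haN ^ k) y).2
  have e : b * a ^ k * (y : Ω) * (b * a ^ k)⁻¹ = b * (a ^ k * y * (a ^ k)⁻¹) * b⁻¹ := by group
  rw [e, D.hab b hb _ h1]
  group

theorem t_pow_p : D.t ^ p = 1 := by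
  classical
  haveI : Finite ↥(S ⊓ Subgroup.normalizer (P : Set Ω)) := finite_of_le inf_le_left
  haveI hn : (P.subgroupOf (S ⊓ Subgroup.normalizer (P : Set Ω))).Normal := ⟨fun n hn u => by
    have h1 := (Subgroup.mem_normalizer_iff.1 u.2.2 n).1 hn
    exact h1⟩
  have h1 : a ^ p ∈ P := by
    have h2 : ((⟨a, D.haS, D.haN⟩ : ↥(S ⊓ Subgroup.normalizer (P : Set Ω))) ^ p) ∈
        P.subgroupOf (S ⊓ Subgroup.normalizer (P : Set Ω)) := by
      rw [← QuotientGroup.eq_one_iff, QuotientGroup.mk_pow]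
      have hc : Nat.card (↥(S ⊓ Subgroup.normalizer (P : Set Ω)) ⧸
          P.subgroupOf (S ⊓ Subgroup.normalizer (P : Set Ω))) = p := D.hidx
      have h3 := pow_card_eq_one' (x := ((⟨a, D.haS, D.haN⟩ : ↥(S ⊓ Subgroup.normalizer (P : Set Ω))) :
        ↥(S ⊓ Subgroup.normalizer (P : Set Ω)) ⧸ P.subgroupOf (S ⊓ Subgroup.normalizer (P : Set Ω))))
      rwa [hc] at h3
    exact h2
  ext y
  rw [normConj_pow_apply, D.hab _ h1 _ y.2]
  simp

/-- `Aut_S(P)` is generated by `t`. -/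
theorem induced_le : autInducedBy S P ≤ Subgroup.zpowers D.t := by
  intro u hu
  obtain ⟨g, hg, hgv⟩ := mem_autInducedBy_iff.1 hu
  obtain ⟨k, hk⟩ := D.conj_eq_pow ⟨hg, mem_normalizer_of_aut hgv⟩
  refine ⟨(k : ℤ), ?_⟩
  show D.t ^ (k : ℤ) = u
  rw [zpow_natCast]
  ext y
  rw [hgv, hk]

theorem zpowers_isPGroup : IsPGroup p (Subgroup.zpowers D.t) :=
  Cfsg.Agent.Lib.Fusion.Saturated2.isPGroup_zpowers_of_pow (a := 1) (by rw [pow_one]; exact D.t_pow_p)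

/-- A `p`-subgroup of `Aut_F(P)` containing `t` is contained in `⟨t⟩`. -/
theorem mem_zpowers_of_closure {α : MulAut P} (hα : α ∈ F.autGroup P)
    (hL : IsPGroup p (Subgroup.closure ({D.t, α * D.t * α⁻¹} : Set (MulAut P)))) :
    α * D.t * α⁻¹ ∈ Subgroup.zpowers D.t := by
  classical
  haveI : Finite (F.autGroup P) := finite_autGroup D.hPS
  have hQa : F.IsFullyAutomized p P := (fullyNormalized_props D.hS D.hF D.hE.2.1).2
  obtain ⟨T₀, hT₀⟩ := hQa.2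
  let τ : F.autGroup P := ⟨D.t, D.t_mem⟩
  have hτ1 : τ ≠ 1 := fun h => D.t_ne_one (congrArg Subtype.val h)
  have hτp : τ ^ p = 1 := Subtype.ext D.t_pow_p
  have hoτ : orderOf τ = p := orderOf_eq_prime hτp hτ1
  have hT₀e : (T₀ : Subgroup (F.autGroup P)) = Subgroup.zpowers τ := by
    apply le_antisymm
    · intro x hx
      rw [hT₀] at hx
      obtain ⟨k, hk⟩ := D.induced_le hx
      exact ⟨k, Subtype.ext hk⟩
    · rw [Subgroup.zpowers_le, hT₀]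
      exact D.t_mem_induced
  have hcardT : Nat.card (T₀ : Subgroup (F.autGroup P)) = p := by
    rw [hT₀e, Nat.card_zpowers, hoτ]
  let L' : Subgroup (F.autGroup P) :=
    (Subgroup.closure ({D.t, α * D.t * α⁻¹} : Set (MulAut P))).subgroupOf (F.autGroup P)
  have hL' : IsPGroup p L' := hL.comap_of_injective _ Subtype.val_injective
  obtain ⟨Q, hQ⟩ := hL'.exists_le_sylow
  have hcardQ : Nat.card (Q : Subgroup (F.autGroup P)) = p := by
    rw [Sylow.card_eq_multiplicity, ← Sylow.card_eq_multiplicity T₀, hcardT]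
  have hτQ : τ ∈ (Q : Subgroup (F.autGroup P)) := hQ (Subgroup.subset_closure (by simp [τ]))
  have hQe : Subgroup.zpowers τ = (Q : Subgroup (F.autGroup P)) := by
    refine Subgroup.eq_of_le_of_card_ge (Subgroup.zpowers_le.2 hτQ) ?_
    rw [hcardQ, Nat.card_zpowers, hoτ]
  let α' : F.autGroup P := ⟨α * D.t * α⁻¹, (F.autGroup P).mul_mem ((F.autGroup P).mul_mem hα D.t_mem)
    ((F.autGroup P).inv_mem hα)⟩
  have h1 : α' ∈ (Q : Subgroup (F.autGroup P)) := hQ (Subgroup.subset_closure (by simp [α']))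
  rw [← hQe] at h1
  obtain ⟨k, hk⟩ := h1
  exact ⟨k, congrArg Subtype.val hk⟩

/-- An opposite conjugate. -/
theorem exists_opp : ∃ α ∈ F.autGroup P, α * D.t * α⁻¹ ∉ Subgroup.zpowers D.t := by
  obtain ⟨α, hαA, hα⟩ := exists_pair D.hS D.hF D.hE
  refine ⟨α, hαA, fun h => hα _ D.t_mem_induced _ D.t_mem_induced D.t_not_inn D.t_not_inn ?_⟩
  refine D.zpowers_isPGroup.to_le ((Subgroup.closure_le _).2 ?_)
  rintro _ (rfl | h')
  · exact Subgroup.mem_zpowers _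
  · rw [Set.mem_singleton_iff] at h'
    rw [h']
    exact h

/-- The centre as an element of `P`. -/
def zV : P := ⟨z, D.hzP⟩

theorem zV_pow : (D.zV) ^ p = 1 := Subtype.ext D.hzp

theorem zV_ne : D.zV ≠ 1 := fun h => D.hz1 (congrArg Subtype.val h)

theorem t_zV : D.t D.zV = D.zV := Subtype.ext D.haz

theorem t_stab (y : P) : y⁻¹ * D.t y ∈ Subgroup.zpowers D.zV := by
  obtain ⟨k, hk⟩ := D.htc y y.2
  refine ⟨k, Subtype.ext ?_⟩
  show ((D.zV ^ k : P) : Ω) = (y : Ω)⁻¹ * (a * y * a⁻¹)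
  rw [← hk]
  simp [zV]

theorem conj_z (α : MulAut P) : (α * D.t * α⁻¹) (α D.zV) = α D.zV := by
  show α (D.t (α⁻¹ (α D.zV))) = α D.zV
  rw [MulAut.inv_apply_self, D.t_zV]

theorem conj_stab (α : MulAut P) (y : P) :
    y⁻¹ * (α * D.t * α⁻¹) y ∈ Subgroup.zpowers (α D.zV) := by
  obtain ⟨k, hk⟩ := D.t_stab (α⁻¹ y)
  refine ⟨k, ?_⟩
  have e : y⁻¹ * (α * D.t * α⁻¹) y = α ((α⁻¹ y)⁻¹ * D.t (α⁻¹ y)) := by
    rw [map_mul, map_inv, MulAut.apply_inv_self]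
    rfl
  rw [e, ← hk]
  simp only [map_zpow]

/-- The pair condition. -/
theorem pair_ne {α : MulAut P} (hα : α ∈ F.autGroup P) (h : α * D.t * α⁻¹ ∉ Subgroup.zpowers D.t) :
    (α D.zV)⁻¹ * D.t (α D.zV) ≠ 1 ∧ D.zV⁻¹ * (α * D.t * α⁻¹) D.zV ≠ 1 := by
  haveI := D.finiteP
  constructor
  · intro hu
    apply h
    apply D.mem_zpowers_of_closure hα
    have h1 : D.t (α D.zV) = α D.zV := by
      rw [inv_mul_eq_one] at hu
      exact hu.symm
    exact isPGroup_closure_pair D.hV D.hVp h1 D.t_zV D.t_stab (D.conj_z α) (D.conj_stab α)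
  · intro hv
    apply h
    apply D.mem_zpowers_of_closure hα
    have h1 : (α * D.t * α⁻¹) D.zV = D.zV := by
      rw [inv_mul_eq_one] at hv
      exact hv.symm
    have h2 := isPGroup_closure_pair D.hV D.hVp h1 (D.conj_z α) (D.conj_stab α) D.t_zV D.t_stab
    rwa [Set.pair_comm] at h2

/-- The normalizer as a source. -/
theorem le_R : P ≤ S ⊓ Subgroup.normalizer (P : Set Ω) :=
  le_inf D.hPS Subgroup.le_normalizer

/-- Automorphisms commuting with `t` extend to the normalizer. -/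
theorem exists_extend {δ : MulAut P} (hδ : δ ∈ F.autGroup P) (hc : ∀ v, δ (D.t v) = D.t (δ v)) :
    ∃ ψ ∈ F.Hom (S ⊓ Subgroup.normalizer (P : Set Ω)), ∀ y : P,
      ψ ⟨y, D.le_R y.2⟩ = δ y := by
  classical
  haveI := D.finiteP
  have hrec := fullyNormalized_receptive D.hS D.hF D.hE.2.1
  have hφ := autGroup_mem_hom D.hPS hδ
  have hr : (P.subtype.comp δ.toMonoidHom).range = P := by
    ext y
    constructor
    · rintro ⟨x, rfl⟩
      exact (δ x).2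
    · intro hy
      refine ⟨δ⁻¹ ⟨y, hy⟩, ?_⟩
      show ((δ (δ⁻¹ ⟨y, hy⟩) : P) : Ω) = y
      rw [MulAut.apply_inv_self]
  obtain ⟨ψ, hψ, hag⟩ := hrec.2 P _ hφ hr
  have hle : S ⊓ Subgroup.normalizer (P : Set Ω) ≤ extender S P (P.subtype.comp δ.toMonoidHom) := by
    intro g hg
    refine extender_closure_mem hg.1 hg.2 hg.1 fun x hx => ?_
    obtain ⟨k, hk⟩ := D.conj_eq_pow hg
    have hc' : ∀ (j : ℕ) (v : P), δ ((D.t ^ j) v) = (D.t ^ j) (δ v) := by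
      intro j
      induction j with
      | zero => intro v; rfl
      | succ j ih =>
        intro v
        rw [pow_succ, MulAut.mul_apply, MulAut.mul_apply, ih, hc]
    have e1 : (⟨g * x * g⁻¹, hx⟩ : P) = (D.t ^ k) x := Subtype.ext (hk x)
    show ((δ ⟨g * x * g⁻¹, hx⟩ : P) : Ω) = g * ((δ x : P) : Ω) * g⁻¹
    rw [e1, hc', hk]
  refine ⟨ψ.comp (Subgroup.inclusion hle), res_mem hψ hle, fun y => ?_⟩
  exact hag y y.2 (hle (D.le_R y.2))

/-- **The torus element extended.** -/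
theorem exists_torus_ext (hodd : p ≠ 2) (hfix : ∀ y : P, a * y * a⁻¹ = y ↔ (y : Ω) ∈ cen S) :
    ∃ α ∈ F.autGroup P, ∃ δ : MulAut P, ∃ ψ ∈ F.Hom (S ⊓ Subgroup.normalizer (P : Set Ω)),
      α * D.t * α⁻¹ ∉ Subgroup.zpowers D.t ∧
      δ ∈ Subgroup.closure ({D.t, α * D.t * α⁻¹} : Set (MulAut P)) ∧ δ ∈ F.autGroup P ∧
      (∀ y : P, ψ ⟨y, D.le_R y.2⟩ = δ y) ∧ δ D.zV = D.zV⁻¹ ∧ δ (α D.zV) = (α D.zV)⁻¹ ∧
      (∀ c, D.t c = c → (α * D.t * α⁻¹) c = c → δ c = c) ∧ (∀ v, δ (D.t v) = D.t (δ v)) ∧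
      (∀ x : P, ∃ (r s : ℕ) (c : P), x = D.zV ^ r * (α D.zV) ^ s * c ∧ D.t c = c ∧
        (α * D.t * α⁻¹) c = c) ∧
      (∀ y : P, (y : Ω) ∈ cen S → y⁻¹ * δ y ∈ Subgroup.zpowers D.zV) := by
  obtain ⟨α, hαA, hα⟩ := D.exists_opp
  obtain ⟨hu, hv⟩ := D.pair_ne hαA hα
  have hz' : (α D.zV) ^ p = 1 := by rw [← map_pow, D.zV_pow, map_one]
  obtain ⟨δ, hδmem, hδz, hδz', hδfix, hδc, hdec⟩ :=
    exists_torus_full D.hV D.zV_pow hz' D.t_zV (D.conj_z α) D.t_stab (D.conj_stab α) hu hv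
  have hδA : δ ∈ F.autGroup P := by
    refine (Subgroup.closure_le _).2 ?_ hδmem
    rintro _ (rfl | h')
    · exact D.t_mem
    · rw [Set.mem_singleton_iff] at h'
      rw [h']
      exact (F.autGroup P).mul_mem ((F.autGroup P).mul_mem hαA D.t_mem) ((F.autGroup P).inv_mem hαA)
  obtain ⟨ψ, hψ, hψv⟩ := D.exists_extend hδA hδc
  refine ⟨α, hαA, δ, ψ, hψ, hα, hδmem, hδA, hψv, hδz, hδz', hδfix, hδc, hdec, fun y hy => ?_⟩
  have hty : D.t y = y := Subtype.ext ((hfix y).2 hy)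
  obtain ⟨r, s, c, e, h1, h2⟩ := hdec y
  have e' := axis_decomp D.hV D.zV_pow hz' D.t_zV D.t_stab hu hty e h1
  have hδc' := hδfix c h1 h2
  have h3 : δ y = (D.zV ^ r)⁻¹ * c := by
    rw [e', map_mul, map_pow, hδz, hδc', inv_pow]
  rw [h3, e']
  have e2 : (D.zV ^ r * c)⁻¹ * ((D.zV ^ r)⁻¹ * c) = ((D.zV ^ r) ^ 2)⁻¹ := by
    have h4 : (D.zV ^ r * c)⁻¹ = (D.zV ^ r)⁻¹ * c⁻¹ := by
      rw [mul_inv_rev, D.hV]
    rw [h4]
    have h5 : (D.zV ^ r)⁻¹ * c⁻¹ * ((D.zV ^ r)⁻¹ * c) = (D.zV ^ r)⁻¹ * (D.zV ^ r)⁻¹ * (c⁻¹ * c) := by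
      rw [mul_assoc, mul_assoc, ← mul_assoc c⁻¹, D.hV c⁻¹, mul_assoc]
    rw [h5, inv_mul_cancel, mul_one, pow_two, mul_inv_rev]
  rw [e2]
  exact Subgroup.inv_mem _ (Subgroup.pow_mem _ (Subgroup.npow_mem_zpowers D.zV r) 2)

end Data₂

/-- The action of an automorphism of `S` as a total function. -/
noncomputable def act (d : MulAut S) (y : Ω) : Ω := by
  classical
  exact if h : y ∈ S then ((d ⟨y, h⟩ : S) : Ω) else y

theorem act_of_mem (d : MulAut S) {y : Ω} (h : y ∈ S) : act d y = ((d ⟨y, h⟩ : S) : Ω) := by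
  classical
  simp only [act, dif_pos h]

/-- The fixed points of an automorphism of `S` in the centre of `S`. -/
def fixCen (d : MulAut S) : Subgroup Ω where
  carrier := {y | y ∈ cen S ∧ act d y = y}
  mul_mem' := by
    rintro u v ⟨hu, hu'⟩ ⟨hv, hv'⟩
    have hS1 := (mem_cen.1 hu).1
    have hS2 := (mem_cen.1 hv).1
    refine ⟨(cen S).mul_mem hu hv, ?_⟩
    rw [act_of_mem d hS1] at hu'
    rw [act_of_mem d hS2] at hv'
    rw [act_of_mem d (S.mul_mem hS1 hS2)]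
    have e : (⟨u * v, S.mul_mem hS1 hS2⟩ : S) = ⟨u, hS1⟩ * ⟨v, hS2⟩ := rfl
    rw [e, map_mul]
    show ((d ⟨u, hS1⟩ : S) : Ω) * ((d ⟨v, hS2⟩ : S) : Ω) = _
    rw [hu', hv']
  one_mem' := by
    refine ⟨(cen S).one_mem, ?_⟩
    rw [act_of_mem d S.one_mem]
    have e : (⟨1, S.one_mem⟩ : S) = 1 := rfl
    rw [e, map_one]
    rfl
  inv_mem' := by
    rintro u ⟨hu, hu'⟩
    have hS1 := (mem_cen.1 hu).1
    refine ⟨(cen S).inv_mem hu, ?_⟩
    rw [act_of_mem d hS1] at hu'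
    rw [act_of_mem d (S.inv_mem hS1)]
    have e : (⟨u⁻¹, S.inv_mem hS1⟩ : S) = (⟨u, hS1⟩ : S)⁻¹ := rfl
    rw [e, map_inv]
    show ((d ⟨u, hS1⟩ : S) : Ω)⁻¹ = _
    rw [hu']

theorem mem_fixCen {d : MulAut S} {y : Ω} : y ∈ fixCen d ↔ y ∈ cen S ∧ act d y = y := Iff.rfl

/-- **The complement.** -/
theorem Data₂.complement (D : Data₂ F P p a z) (hodd : p ≠ 2)
    (hfix : ∀ y : P, a * y * a⁻¹ = y ↔ (y : Ω) ∈ cen S) {d₀ : MulAut S}
    (hext : ∀ δ ∈ F.autGroup P, δ D.zV = D.zV⁻¹ → (∀ v, δ (D.t v) = D.t (δ v)) →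
      (∀ y : P, (y : Ω) ∈ cen S → y⁻¹ * δ y ∈ Subgroup.zpowers D.zV) →
      ∀ ψ ∈ F.Hom (S ⊓ Subgroup.normalizer (P : Set Ω)), (∀ y : P, ψ ⟨y, D.le_R y.2⟩ = δ y) →
      ∀ y : P, (y : Ω) ∈ cen S → ((δ y : P) : Ω) = act d₀ y) :
    (∀ y ∈ cen S, ∃ (i : ℕ) (c : Ω), y = z ^ i * c ∧ c ∈ fixCen d₀) ∧
      (∀ c ∈ fixCen d₀, c ∈ Subgroup.zpowers z → c = 1) ∧
      (∀ α ∈ F.autGroup P, ∀ c : P, (c : Ω) ∈ fixCen d₀ → ((α c : P) : Ω) ∈ fixCen d₀) := by
  classical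
  have hZP : cen S ≤ P := cen_le_of_centric D.hE.1
  haveI := D.finiteP
  let Z : Subgroup P := (cen S).subgroupOf P
  let ι : P → P := fun y => if h : act d₀ y ∈ P then ⟨act d₀ y, h⟩ else y
  have hιv : ∀ y : P, (y : Ω) ∈ cen S → ((ι y : P) : Ω) = act d₀ y := by
    intro y hy
    have h1 : act d₀ y ∈ P := by
      rw [act_of_mem d₀ (D.hPS y.2)]
      exact hZP (map_cen d₀ hy)
    simp only [ι, dif_pos h1]
  have hιfix : ∀ y : P, (y : Ω) ∈ cen S → (ι y = y ↔ act d₀ y = y) := by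
    intro y hy
    constructor
    · intro h
      rw [← hιv y hy, h]
    · intro h
      apply Subtype.ext
      rw [hιv y hy, h]
  obtain ⟨α₀, hα₀G, hα₀⟩ := D.exists_opp
  have hfix' : ∀ y : P, D.t y = y ↔ y ∈ Z := fun y =>
    ⟨fun h => (hfix y).1 (congrArg Subtype.val h), fun h => Subtype.ext ((hfix y).2 h)⟩
  have hι' : ∀ α ∈ F.autGroup P, α * D.t * α⁻¹ ∉ Subgroup.zpowers D.t →
      ∀ δ ∈ Subgroup.closure ({D.t, α * D.t * α⁻¹} : Set (MulAut P)), δ D.zV = D.zV⁻¹ →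
        (∀ a, δ (D.t a) = D.t (δ a)) →
        (∀ y ∈ Z, y⁻¹ * δ y ∈ Subgroup.zpowers D.zV) → ∀ y ∈ Z, δ y = ι y := by
    intro α hα hopp δ hδmem hδz hδc hδs y hy
    have hδA : δ ∈ F.autGroup P := by
      refine (Subgroup.closure_le _).2 ?_ hδmem
      rintro _ (rfl | h')
      · exact D.t_mem
      · rw [Set.mem_singleton_iff] at h'
        rw [h']
        exact (F.autGroup P).mul_mem ((F.autGroup P).mul_mem hα D.t_mem) ((F.autGroup P).inv_mem hα)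
    obtain ⟨ψ, hψ, hψv⟩ := D.exists_extend hδA hδc
    apply Subtype.ext
    rw [hιv y hy]
    exact hext δ hδA hδz hδc hδs ψ hψ hψv y hy
  obtain ⟨h1, h2, h3⟩ := core (G := F.autGroup P) (t := D.t) (Z := Z) (z := D.zV) (ι := ι)
    D.hV hodd ((hfix D.zV).1 D.haz) D.zV_ne D.zV_pow hfix' D.t_stab
    (fun α hα h => D.pair_ne hα h) hι' hα₀G hα₀
  refine ⟨fun y hy => ?_, fun c hc hcz => ?_, fun α hα c hc => ?_⟩
  · obtain ⟨i, c, e, hc, hιc⟩ := h1 ⟨y, hZP hy⟩ hy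
    refine ⟨i, c, congrArg Subtype.val e, hc, (hιfix c hc).1 hιc⟩
  · have hcP : c ∈ P := hZP hc.1
    have hcz' : (⟨c, hcP⟩ : P) ∈ Subgroup.zpowers D.zV := by
      obtain ⟨k, hk⟩ := hcz
      refine ⟨k, Subtype.ext ?_⟩
      have h7 : ((D.zV ^ k : P) : Ω) = z ^ k := by simp [Data₂.zV]
      show ((D.zV ^ k : P) : Ω) = c
      rw [h7]
      exact hk
    have := h2 ⟨c, hcP⟩ hc.1 ((hιfix ⟨c, hcP⟩ hc.1).2 hc.2) hcz'
    exact congrArg Subtype.val this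
  · obtain ⟨h4, h5⟩ := h3 α hα c hc.1 ((hιfix c hc.1).2 hc.2)
    exact ⟨h4, (hιfix _ h4).1 h5⟩

end Pearl

end Cfsg.Agent.Lib.Fusion.PearlCore
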