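/-
Saturated fusion systems with `O_p(F) = 1` over `p`-groups `S` with `|S : Z(S)| ≤ p²`, `p` odd: the group `S`
is extraspecial of order `p³` and exponent `p`.
-/
import Mathlib
import Cfsg.Agent.Lib.Fusion.PearlCore
import Cfsg.Agent.Lib.Fusion.GenExtra
import Cfsg.Agent.Lib.PGroup.Extraspecial

set_option autoImplicit false
set_option linter.style.haveILetI false

namespace Cfsg.Agent.Lib.Fusion.CenterIndex

open Cfsg Cfsg.FusionSystem Cfsg.Agent.Lib.Fusion.Basic Cfsg.Agent.Lib.Fusion.Saturated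
  Cfsg.Agent.Lib.Fusion.Saturated2 Cfsg.Agent.Lib.Fusion.Essential
  Cfsg.Agent.Lib.Fusion.EssentialPair Cfsg.Agent.Lib.Fusion.AbelianMax
  Cfsg.Agent.Lib.Fusion.TorusCore Cfsg.Agent.Lib.Fusion.Transvection
  Cfsg.Agent.Lib.Fusion.PearlCore
open scoped commutatorElement

variable {Ω : Type*} [Group Ω] {S P : Subgroup Ω} {p : ℕ} [Finite S] [hp : Fact p.Prime]
  {F : FusionSystem S}

omit [Finite S] hp in
/-- A normal subgroup lies in the core. -/
theorem le_core {Q : Subgroup Ω} (hQ : F.IsNormal Q) : Q ≤ F.core := le_sSup hQ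

omit [Finite S] hp in
/-- From invariance to equality. -/
theorem map_eq_of_forall {C : Subgroup Ω} {G : Subgroup (MulAut P)} [Finite P]
    (h : ∀ α ∈ G, ∀ c : P, (c : Ω) ∈ C → ((α c : P) : Ω) ∈ C) {α : MulAut P} (hα : α ∈ G) :
    (C.subgroupOf P).map α.toMonoidHom = C.subgroupOf P := by
  apply le_antisymm
  · rintro _ ⟨c, hc, rfl⟩
    exact h α hα c hc
  · intro c hc
    refine ⟨α⁻¹ c, h α⁻¹ (G.inv_mem hα) c hc, ?_⟩
    show α (α⁻¹ c) = c
    rw [MulAut.apply_inv_self]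

/-- A nontrivial `S` with `O_p(F) = 1` has an essential subgroup. -/
theorem exists_essential (hS : IsPGroup p S) (hF : F.IsSaturated p) (hS1 : S ≠ ⊥) (hcore : F.core = ⊥) :
    ∃ E, F.IsEssential p E := by
  classical
  by_contra hcon
  push Not at hcon
  apply hS1
  have h1 : F.IsNormal S := by
    rw [Cfsg.Agent.Lib.Fusion.NormalEssential.isNormal_iff_essential hS hF]
    rintro P (rfl | hP)
    · refine ⟨le_rfl, fun α hα => ?_⟩
      have : P.subgroupOf P = ⊤ := Subgroup.subgroupOf_self P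
      rw [this]
      exact Subgroup.map_top_of_surjective _ (MulEquiv.surjective α)
    · exact absurd hP (hcon P)
  rw [eq_bot_iff, ← hcore]
  exact le_core h1

/-- The element of `Aut_F(S)` attached to a map on `N_S(P) = S`. -/
theorem exists_aut_of_hom (hN : S ≤ Subgroup.normalizer (P : Set Ω)) {ψ : ↥(S ⊓ Subgroup.normalizer (P : Set Ω)) →* Ω}
    (hψ : ψ ∈ F.Hom (S ⊓ Subgroup.normalizer (P : Set Ω))) :
    ∃ d ∈ F.autGroup S, ∀ y : S, ((d y : S) : Ω) = ψ ⟨y, y.2, hN y.2⟩ := by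
  have hle : S ≤ S ⊓ Subgroup.normalizer (P : Set Ω) := le_inf le_rfl hN
  have h1 := res_mem hψ hle
  have hv : ∀ x, (ψ.comp (Subgroup.inclusion hle)) x ∈ S := fun x => map_mem_S h1 x
  exact ⟨autOfHom _ (F.injective_of_mem h1) hv, autOfHom_mem h1 hv, fun y => rfl⟩

/-- Invariance of the fixed points in the centre under `Aut_F(S)`. -/
theorem fixCen_invariant (hS : IsPGroup p S) (hF : F.IsSaturated p) {d₀ : MulAut S} (hd₀ : d₀ ∈ F.autGroup S)
    {z : S} (hzp : z ^ p = 1) (hzz : (z : Ω) ∈ cen S) (hd₀z : d₀ z = z⁻¹)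
    (hst₀ : ∀ y : S, (y : Ω) ∈ cen S → y⁻¹ * d₀ y ∈ Subgroup.zpowers z)
    (hzd : ∀ d ∈ F.autGroup S, d z ∈ Subgroup.zpowers z) {d : MulAut S} (hd : d ∈ F.autGroup S)
    {c : S} (hc : (c : Ω) ∈ fixCen d₀) : ((d c : S) : Ω) ∈ fixCen d₀ := by
  have hcz : (c : Ω) ∈ cen S := hc.1
  have hcfix : d₀ c = c := by
    have h1 := hc.2
    rw [act_of_mem d₀ c.2] at h1
    exact Subtype.ext h1
  have hzdm : ∀ e ∈ F.autGroup S, ∀ w ∈ Subgroup.zpowers z, e w ∈ Subgroup.zpowers z := by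
    rintro e he _ ⟨n, rfl⟩
    show e (z ^ n) ∈ _
    rw [map_zpow]
    exact Subgroup.zpow_mem _ (hzd e he) n
  have hd₀inv : ∀ w ∈ Subgroup.zpowers z, d₀ w = w⁻¹ := by
    rintro _ ⟨n, rfl⟩
    show d₀ (z ^ n) = (z ^ n)⁻¹
    rw [map_zpow, hd₀z, inv_zpow]
  -- `d d₀ d⁻¹` and `d₀` agree on the centre
  have hd₁ : d * d₀ * d⁻¹ ∈ F.autGroup S :=
    (F.autGroup S).mul_mem ((F.autGroup S).mul_mem hd hd₀) ((F.autGroup S).inv_mem hd)
  have hkey := aut_eq_on_cen hS hF hd₁ hd₀ hzp (by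
    show d (d₀ (d⁻¹ z)) = z⁻¹
    rw [hd₀inv _ (hzdm _ ((F.autGroup S).inv_mem hd) z (Subgroup.mem_zpowers z)), map_inv,
      MulAut.apply_inv_self]) hd₀z (by
    intro y hy
    show y⁻¹ * d (d₀ (d⁻¹ y)) ∈ _
    have hy₁ : ((d⁻¹ y : S) : Ω) ∈ cen S := map_cen _ hy
    have h1 := hzdm d hd _ (hst₀ _ hy₁)
    rw [map_mul, map_inv, MulAut.apply_inv_self] at h1
    exact h1) hst₀ (d c) (map_cen d hcz)
  refine ⟨map_cen d hcz, ?_⟩
  rw [act_of_mem d₀ (d c).2]
  show ((d₀ (d c) : S) : Ω) = _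
  rw [← hkey]
  show ((d (d₀ (d⁻¹ (d c))) : S) : Ω) = _
  rw [MulAut.inv_apply_self, hcfix]

/-- The centre of `S` in two forms. -/
theorem center_eq : (cen S).subgroupOf S = Subgroup.center ↥S := by
  ext y
  rw [Subgroup.mem_subgroupOf, Subgroup.mem_center_iff, mem_cen]
  constructor
  · rintro ⟨-, h⟩ g
    exact Subtype.ext (h g g.2)
  · intro h
    exact ⟨y.2, fun s hs => congrArg Subtype.val (h ⟨s, hs⟩)⟩

/-- If the index of the centre is at most `p²` and `S` is not abelian, it is `p²`. -/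
theorem index_center_eq (hS : IsPGroup p S) (hna : ¬ IsMulCommutative ↥S)
    (hZ : (Subgroup.center ↥S).index ≤ p ^ 2) : (Subgroup.center ↥S).index = p ^ 2 := by
  classical
  have hd : (Subgroup.center ↥S).index ∣ Nat.card S := Subgroup.index_dvd_card _
  obtain ⟨n, hn⟩ := IsPGroup.iff_card.1 hS
  rw [hn] at hd
  obtain ⟨k, -, hk⟩ := (Nat.dvd_prime_pow hp.out).1 hd
  have hk2 : k ≤ 2 := by
    rw [hk] at hZ
    exact (Nat.pow_le_pow_iff_right hp.out.one_lt).1 hZ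
  have hk' : k = 0 ∨ k = 1 ∨ k = 2 := by omega
  rcases hk' with rfl | rfl | rfl
  · exfalso
    rw [pow_zero, Subgroup.index_eq_one] at hk
    exact hna ⟨⟨fun a b => (Subgroup.mem_center_iff.1 (hk ▸ Subgroup.mem_top a) b).symm⟩⟩
  · exfalso
    rw [pow_one] at hk
    haveI : IsCyclic (↥S ⧸ Subgroup.center ↥S) := isCyclic_of_prime_card hk
    exact hna ⟨⟨fun a b => (commutative_of_cyclic_center_quotient
      (QuotientGroup.mk' (Subgroup.center ↥S)) (by rw [QuotientGroup.ker_mk']) a b)⟩⟩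
  · exact hk

/-- Commutators lie in the centre when the centre has index `p²`. -/
theorem comm_mem_cen (hidx : (Subgroup.center ↥S).index = p ^ 2) {s t : Ω} (hs : s ∈ S) (ht : t ∈ S) :
    s * t * s⁻¹ * t⁻¹ ∈ cen S := by
  have hc := IsPGroup.commutative_of_card_eq_prime_sq (p := p) (G := ↥S ⧸ Subgroup.center ↥S) hidx
  have h1 : ⁅(⟨s, hs⟩ : ↥S), (⟨t, ht⟩ : ↥S)⁆ ∈ Subgroup.center ↥S := by
    rw [← QuotientGroup.eq_one_iff]
    have h2 := hc (QuotientGroup.mk ⟨s, hs⟩) (QuotientGroup.mk ⟨t, ht⟩)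
    rw [← commutatorElement_eq_one_iff_mul_comm] at h2
    rw [← h2]
    rfl
  rw [← center_eq] at h1
  exact h1

/-- An essential subgroup is abelian, of index `p`, and generated over the centre by one element. -/
theorem essential_abelian (hS : IsPGroup p S) (hF : F.IsSaturated p) (hna : ¬ IsMulCommutative ↥S)
    (hidx : (Subgroup.center ↥S).index = p ^ 2) {E : Subgroup Ω} (hE : F.IsEssential p E) :
    (∀ a ∈ E, ∀ b ∈ E, a * b = b * a) ∧ (E.subgroupOf S).index = p ∧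
      ∃ w ∈ E, w ∉ cen S ∧ ∀ y ∈ E, ∃ c ∈ cen S, ∃ k : ℕ, y = c * w ^ k := by
  classical
  have hES : E ≤ S := hE.1.1
  have hZE : cen S ≤ E := cen_le_of_centric hE.1
  have hEne : E ≠ S := Cfsg.Agent.Lib.Fusion.EssentialGen.essential_ne hS hF hE
  have hC : centralizerIn S E ≤ E := hE.1.2 E (Cfsg.Agent.Lib.Fusion.Basic.IsConj.refl hES)
  obtain ⟨w, hw, hwZ⟩ : ∃ w ∈ E, w ∉ cen S := by
    by_contra hcon
    push Not at hcon
    apply hEne
    refine le_antisymm hES fun s hs => hC ⟨hs, Subgroup.mem_centralizer_iff.2 fun y hy => ?_⟩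
    exact ((mem_cen.1 (hcon y hy)).2 s hs).symm
  have hwS := hES hw
  let A₀ : Subgroup Ω := cen S ⊔ Subgroup.zpowers w
  have hA₀S : A₀ ≤ S := sup_le inf_le_left (Subgroup.zpowers_le.2 hwS)
  have hA₀E : A₀ ≤ E := sup_le hZE (Subgroup.zpowers_le.2 hw)
  have hform : ∀ y ∈ A₀, ∃ c ∈ cen S, ∃ k : ℕ, y = c * w ^ k := by
    intro y hy
    have hZn : (cen S).Normal ∨ True := Or.inr trivial
    -- via the subgroup of products
    let B : Subgroup Ω :=
      { carrier := {y | ∃ c ∈ cen S, ∃ k : ℕ, y = c * w ^ k}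
        mul_mem' := by
          rintro _ _ ⟨c, hc, k, rfl⟩ ⟨d, hd, l, rfl⟩
          refine ⟨c * d, (cen S).mul_mem hc hd, k + l, ?_⟩
          have h1 : w ^ k * d = d * w ^ k := (mem_cen.1 hd).2 _ (S.pow_mem hwS k)
          rw [pow_add]
          calc c * w ^ k * (d * w ^ l) = c * (w ^ k * d) * w ^ l := by group
            _ = c * d * (w ^ k * w ^ l) := by rw [h1]; group
        one_mem' := ⟨1, (cen S).one_mem, 0, by simp⟩
        inv_mem' := by
          rintro _ ⟨c, hc, k, rfl⟩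
          obtain ⟨n, hn⟩ := hS ⟨w, hwS⟩
          have hn' : w ^ p ^ n = 1 := congrArg Subtype.val hn
          have hppos : 0 < p ^ n := pow_pos hp.out.pos n
          refine ⟨c⁻¹, (cen S).inv_mem hc, k * (p ^ n - 1), ?_⟩
          have h1 : (w ^ k)⁻¹ = w ^ (k * (p ^ n - 1)) := by
            rw [inv_eq_iff_mul_eq_one, ← pow_add]
            have : k + k * (p ^ n - 1) = k * p ^ n := by
              rw [Nat.mul_sub, mul_one]
              have : k ≤ k * p ^ n := Nat.le_mul_of_pos_right k hppos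
              omega
            rw [this, mul_comm, pow_mul, hn', one_pow]
          rw [mul_inv_rev, ← h1]
          exact ((mem_cen.1 ((cen S).inv_mem hc)).2 _ (S.inv_mem (S.pow_mem hwS k))) }
    have hle : A₀ ≤ B := by
      refine sup_le (fun c hc => ⟨c, hc, 0, by simp⟩) (Subgroup.zpowers_le.2 ⟨1, (cen S).one_mem, 1, by simp⟩)
    exact hle hy
  have hA₀c : ∀ a ∈ A₀, ∀ b ∈ A₀, a * b = b * a := by
    intro a ha b hb
    obtain ⟨c, hc, k, rfl⟩ := hform a ha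
    obtain ⟨d, hd, l, rfl⟩ := hform b hb
    have h1 : Commute c (d * w ^ l) := ((mem_cen.1 hc).2 _ (S.mul_mem (mem_cen.1 hd).1 (S.pow_mem hwS l))).symm
    have h2 : Commute (w ^ k) d := ((mem_cen.1 hd).2 _ (S.pow_mem hwS k))
    have h3 : Commute (w ^ k) (w ^ l) := (Commute.refl w).pow_pow k l
    exact Commute.mul_left h1 (Commute.mul_right h2 h3)
  -- indices
  let Z' : Subgroup ↥S := (cen S).subgroupOf S
  let A' : Subgroup ↥S := A₀.subgroupOf S
  let E' : Subgroup ↥S := E.subgroupOf S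
  have hZ'i : Z'.index = p ^ 2 := by
    rw [show Z' = Subgroup.center ↥S from center_eq]
    exact hidx
  have hZ'A' : Z' ≤ A' := fun y hy => Subgroup.mem_sup_left hy
  have hA'E' : A' ≤ E' := fun y hy => hA₀E hy
  have h1 := Subgroup.relIndex_mul_index hZ'A'
  rw [hZ'i] at h1
  have hA'1 : A'.index ≠ 1 := by
    intro h
    rw [Subgroup.index_eq_one] at h
    apply hna
    refine ⟨⟨fun a b => Subtype.ext ?_⟩⟩
    have ha : (a : Ω) ∈ A₀ := (h ▸ Subgroup.mem_top a : a ∈ A')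
    have hb : (b : Ω) ∈ A₀ := (h ▸ Subgroup.mem_top b : b ∈ A')
    exact hA₀c _ ha _ hb
  have hrel1 : Z'.relIndex A' ≠ 1 := by
    intro h
    rw [Subgroup.relIndex_eq_one] at h
    have h2 : (⟨w, hwS⟩ : ↥S) ∈ A' := Subgroup.mem_sup_right (Subgroup.mem_zpowers w)
    exact hwZ (h h2)
  have hA'p : A'.index = p := by
    have hd : A'.index ∣ p ^ 2 := ⟨_, by rw [← h1, mul_comm]⟩
    obtain ⟨i, hi, hi'⟩ := (Nat.dvd_prime_pow hp.out).1 hd
    have hd2 : Z'.relIndex A' ∣ p ^ 2 := ⟨_, h1.symm⟩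
    obtain ⟨j, hj, hj'⟩ := (Nat.dvd_prime_pow hp.out).1 hd2
    rw [hi', hj', ← pow_add] at h1
    have hij : j + i = 2 := Nat.pow_right_injective hp.out.two_le h1
    have hi0 : i ≠ 0 := by
      rintro rfl
      exact hA'1 (by simpa using hi')
    have hj0 : j ≠ 0 := by
      rintro rfl
      exact hrel1 (by simpa using hj')
    have : i = 1 := by omega
    rw [hi', this, pow_one]
  have h2 := Subgroup.relIndex_mul_index hA'E'
  rw [hA'p] at h2
  have hE'1 : E'.index ≠ 1 := by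
    intro h
    rw [Subgroup.index_eq_one] at h
    exact hEne (le_antisymm hES fun s hs => (h ▸ Subgroup.mem_top (⟨s, hs⟩ : ↥S) : (⟨s, hs⟩ : ↥S) ∈ E'))
  have hE'p : E'.index = p := by
    have hd : E'.index ∣ p := ⟨_, by rw [← h2, mul_comm]⟩
    rcases (Nat.dvd_prime hp.out).1 hd with h | h
    · exact absurd h hE'1
    · exact h
  have hrel : A'.relIndex E' = 1 := by
    rw [hE'p] at h2
    exact Nat.eq_of_mul_eq_mul_right hp.out.pos (by rw [h2, one_mul])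
  rw [Subgroup.relIndex_eq_one] at hrel
  have hEA : E ≤ A₀ := fun y hy => hrel (show (⟨y, hES hy⟩ : ↥S) ∈ E' from hy)
  exact ⟨fun a ha b hb => hA₀c a (hEA ha) b (hEA hb), hE'p, w, hw, hwZ, fun y hy => hform y (hEA hy)⟩

/-- The generator of the commutators. -/
theorem exists_z (hidx : (Subgroup.center ↥S).index = p ^ 2) {E : Subgroup Ω} (D : Data S E p) {w a : Ω}
    (hw : w ∈ E) (hwZ : w ∉ cen S) (hdec : ∀ y ∈ E, ∃ c ∈ cen S, ∃ k : ℕ, y = c * w ^ k)
    (ha : a ∈ S) (haE : a ∉ E) :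
    ∃ z ∈ cen S, z ≠ 1 ∧ z ^ p = 1 ∧ (∀ s ∈ S, ∀ t ∈ S, s * t * s⁻¹ * t⁻¹ ∈ Subgroup.zpowers z) ∧
      ∃ s ∈ S, ∃ t ∈ S, z = s * t * s⁻¹ * t⁻¹ := by
  classical
  have hwS := D.le hw
  haveI : Finite E := finite_of_le D.le
  refine ⟨a * w * a⁻¹ * w⁻¹, comm_mem_cen hidx ha hwS, ?_, ?_, ?_, a, ha, w, hwS, rfl⟩
  · intro h
    apply hwZ
    refine D.central_of_comm hw ha haE ?_
    rw [mul_inv_eq_one, mul_inv_eq_iff_eq_mul] at h
    exact h
  · -- `w^p` is central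
    have hwp : w ^ p ∈ cen S := by
      have hZ'E' : (cen S).subgroupOf S ≤ E.subgroupOf S := fun y hy => (D.cen_le (by
        intro hab
        apply hwZ
        refine mem_cen.2 ⟨hwS, fun s hs => ?_⟩
        exact congrArg Subtype.val (hab.is_comm.comm (⟨s, hs⟩ : ↥S) ⟨w, hwS⟩))) hy
      have h1 := Subgroup.relIndex_mul_index hZ'E'
      rw [show (cen S).subgroupOf S = Subgroup.center ↥S from center_eq, hidx, D.index,
        ← show (cen S).subgroupOf S = Subgroup.center ↥S from center_eq,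
        Subgroup.relIndex_subgroupOf D.le, pow_two] at h1
      have h2 : ((cen S).subgroupOf E).index = p := Nat.eq_of_mul_eq_mul_right hp.out.pos h1
      haveI hn : ((cen S).subgroupOf E).Normal := ⟨fun n hn g => by
        show (g : Ω) * n * (g : Ω)⁻¹ ∈ cen S
        rw [D.comm g g.2 n n.2, mul_assoc, mul_inv_cancel, mul_one]
        exact hn⟩
      have h3 := pow_card_eq_one' (x := ((⟨w, hw⟩ : E) : E ⧸ (cen S).subgroupOf E))
      have h4 : Nat.card (E ⧸ (cen S).subgroupOf E) = p := h2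
      rw [h4, ← QuotientGroup.mk_pow, QuotientGroup.eq_one_iff] at h3
      exact h3
    have h1 := comm_pow_of_cen hwS (comm_mem_cen hidx ha hwS) rfl p
    rw [← h1, (mem_cen.1 hwp).2 a ha]
    group
  · intro s hs t ht
    have h1 : s * t * s⁻¹ * t⁻¹ ∈ der S := ⟨⁅(⟨s, hs⟩ : ↥S), (⟨t, ht⟩ : ↥S)⁆, by
      rw [commutator_def]
      exact Subgroup.commutator_mem_commutator (Subgroup.mem_top _) (Subgroup.mem_top _), rfl⟩
    have hA := D.der_le h1
    obtain ⟨b, hb⟩ := (D.mem_der_iff ha haE ⟨_, hA⟩).1 h1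
    obtain ⟨c, hc, k, e⟩ := hdec b b.2
    have e1 : b = ⟨c, D.cen_le (by
        intro hab
        apply hwZ
        refine mem_cen.2 ⟨hwS, fun s hs => ?_⟩
        exact congrArg Subtype.val (hab.is_comm.comm (⟨s, hs⟩ : ↥S) ⟨w, hwS⟩)) hc⟩ * ⟨w, hw⟩ ^ k :=
      Subtype.ext e
    have e2 : D.psi ha b = D.psi ha ⟨w, hw⟩ ^ k := by
      rw [e1, map_mul, map_pow]
      have : D.psi ha ⟨c, D.cen_le (by
        intro hab
        apply hwZ
        refine mem_cen.2 ⟨hwS, fun s hs => ?_⟩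
        exact congrArg Subtype.val (hab.is_comm.comm (⟨s, hs⟩ : ↥S) ⟨w, hwS⟩)) hc⟩ = 1 :=
        (D.psi_eq_one_iff ha haE _).2 hc
      rw [this, one_mul]
    have e3 : s * t * s⁻¹ * t⁻¹ = ((D.psi ha ⟨w, hw⟩ : E) : Ω) ^ k := by
      have h2 := congrArg Subtype.val hb
      rw [e2] at h2
      simpa using h2.symm
    rw [e3]
    refine Subgroup.pow_mem _ ?_ k
    have e4 : ((D.psi ha ⟨w, hw⟩ : E) : Ω) = (a * w * a⁻¹ * w⁻¹)⁻¹ := by
      show w * a * w⁻¹ * a⁻¹ = _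
      group
    rw [e4]
    exact Subgroup.inv_mem _ (Subgroup.mem_zpowers _)

/-- The data attached to an essential subgroup. -/
theorem data_of_essential (hS : IsPGroup p S) (hF : F.IsSaturated p) (hna : ¬ IsMulCommutative ↥S)
    (hidx : (Subgroup.center ↥S).index = p ^ 2) {E : Subgroup Ω} (hE : F.IsEssential p E) {z : Ω}
    (hzZ : z ∈ cen S) (hz1 : z ≠ 1) (hzp : z ^ p = 1)
    (hcomm : ∀ s ∈ S, ∀ t ∈ S, s * t * s⁻¹ * t⁻¹ ∈ Subgroup.zpowers z) :
    ∃ a ∈ S, a ∉ E ∧ S ≤ Subgroup.normalizer (E : Set Ω) ∧ Data₂ F E p a z ∧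
      ∀ y : E, a * y * a⁻¹ = y ↔ (y : Ω) ∈ cen S := by
  classical
  obtain ⟨hab, hi, w, hw, hwZ, hdec⟩ := essential_abelian hS hF hna hidx hE
  have D₀ : Data S E p := ⟨hS, hE.1.1, hab, hi⟩
  have hEne : E ≠ S := Cfsg.Agent.Lib.Fusion.EssentialGen.essential_ne hS hF hE
  obtain ⟨a, ha, haE⟩ : ∃ a ∈ S, a ∉ E := by
    by_contra hcon
    push Not at hcon
    exact hEne (le_antisymm hE.1.1 hcon)
  have hN : S ≤ Subgroup.normalizer (E : Set Ω) := by
    intro s hs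
    rw [Subgroup.mem_normalizer_iff]
    intro y
    constructor
    · intro hy
      exact D₀.conj_mem hs hy
    · intro hy
      have h1 := D₀.conj_mem (S.inv_mem hs) hy
      have e : s⁻¹ * (s * y * s⁻¹) * s⁻¹⁻¹ = y := by group
      rw [e] at h1
      exact h1
  refine ⟨a, ha, haE, hN, ?_, fun y => ?_⟩
  · refine ⟨hS, hF, hE, hab, ?_, ha, hN ha, haE, cen_le_of_centric hE.1 hzZ, hz1, hzp, ?_, ?_⟩
    · rw [inf_eq_left.2 hN]
      exact hi
    · rw [(mem_cen.1 hzZ).2 a ha]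
      group
    · intro y hy
      have h1 := hcomm y⁻¹ (S.inv_mem (hE.1.1 hy)) a ha
      have e : y⁻¹ * a * y⁻¹⁻¹ * a⁻¹ = y⁻¹ * (a * y * a⁻¹) := by group
      rw [e] at h1
      exact h1
  · constructor
    · intro h
      refine D₀.central_of_comm y.2 ha haE ?_
      rw [mul_inv_eq_iff_eq_mul] at h
      exact h
    · intro h
      rw [(mem_cen.1 h).2 a ha]
      group

/-- Extending a torus element. -/
theorem exists_ext {a z : Ω} (D : Data₂ F P p a z) (hN : S ≤ Subgroup.normalizer (P : Set Ω)) {δ : MulAut P}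
    {ψ : ↥(S ⊓ Subgroup.normalizer (P : Set Ω)) →* Ω}
    (hψ : ψ ∈ F.Hom (S ⊓ Subgroup.normalizer (P : Set Ω))) (hψv : ∀ y : P, ψ ⟨y, D.le_R y.2⟩ = δ y)
    (hδz : δ D.zV = D.zV⁻¹) (hδs : ∀ y : P, (y : Ω) ∈ cen S → y⁻¹ * δ y ∈ Subgroup.zpowers D.zV)
    (hzS : z ∈ S) :
    ∃ d ∈ F.autGroup S, (∀ y : P, ((d ⟨y, D.hPS y.2⟩ : S) : Ω) = δ y) ∧ d ⟨z, hzS⟩ = (⟨z, hzS⟩ : S)⁻¹ ∧
      ∀ y : S, (y : Ω) ∈ cen S → y⁻¹ * d y ∈ Subgroup.zpowers (⟨z, hzS⟩ : S) := by
  obtain ⟨d, hd, hv⟩ := exists_aut_of_hom hN hψ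
  have h1 : ∀ y : P, ((d ⟨y, D.hPS y.2⟩ : S) : Ω) = δ y := fun y => by
    rw [hv]
    exact hψv y
  refine ⟨d, hd, h1, Subtype.ext ?_, fun y hy => ?_⟩
  · have := h1 D.zV
    rw [hδz] at this
    exact this
  · have hZP : cen S ≤ P := cen_le_of_centric D.hE.1
    obtain ⟨n, hn⟩ := hδs ⟨y, hZP hy⟩ hy
    refine ⟨n, Subtype.ext ?_⟩
    have h3 := congrArg Subtype.val hn
    have h4 := h1 ⟨y, hZP hy⟩
    have h5 : ((D.zV ^ n : P) : Ω) = z ^ n := by simp [Data₂.zV]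
    show (((⟨z, hzS⟩ : S) ^ n : S) : Ω) = (y : Ω)⁻¹ * ((d y : S) : Ω)
    have h6 : (((⟨z, hzS⟩ : S) ^ n : S) : Ω) = z ^ n := by simp
    rw [h6, ← h5]
    simp only at h3
    show ((D.zV ^ n : P) : Ω) = _
    have h7 : ((D.zV ^ n : P) : Ω) = _ := h3
    rw [h7]
    have h8 : ((d ⟨(⟨y, hZP hy⟩ : P), D.hPS (hZP hy)⟩ : S) : Ω) = ((d y : S) : Ω) := rfl
    rw [← h8, h4]
    simp

/-- **The main theorem**, for `p` odd. -/
theorem main_odd (hS : IsPGroup p S) (hF : F.IsSaturated p) (hodd : p ≠ 2) (hS1 : S ≠ ⊥)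
    (hcore : F.core = ⊥) (hZ : (Subgroup.center ↥S).index ≤ p ^ 2) :
    Cfsg.IsExtraspecial p ↥S ∧ Nat.card S = p ^ 3 ∧ Monoid.exponent ↥S = p := by
  classical
  obtain ⟨E₀, hE₀⟩ := exists_essential hS hF hS1 hcore
  have hna : ¬ IsMulCommutative ↥S := by
    intro hab
    have hES := hE₀.1.1
    apply Cfsg.Agent.Lib.Fusion.EssentialGen.essential_ne hS hF hE₀
    refine le_antisymm hES fun s hs => (hE₀.1.2 E₀ (Cfsg.Agent.Lib.Fusion.Basic.IsConj.refl hES))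
      ⟨hs, Subgroup.mem_centralizer_iff.2 fun y hy => ?_⟩
    exact congrArg Subtype.val (hab.is_comm.comm (⟨y, hES hy⟩ : S) ⟨s, hs⟩)
  have hidx := index_center_eq hS hna hZ
  obtain ⟨hab₀, hi₀, w, hw, hwZ, hdec⟩ := essential_abelian hS hF hna hidx hE₀
  have D₀ : Data S E₀ p := ⟨hS, hE₀.1.1, hab₀, hi₀⟩
  have hE₀ne : E₀ ≠ S := Cfsg.Agent.Lib.Fusion.EssentialGen.essential_ne hS hF hE₀
  obtain ⟨a₀, ha₀, ha₀E⟩ : ∃ a ∈ S, a ∉ E₀ := by
    by_contra hcon
    push Not at hcon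
    exact hE₀ne (le_antisymm hE₀.1.1 hcon)
  obtain ⟨z, hzZ, hz1, hzp, hcomm, s₁, hs₁, t₁, ht₁, hzc⟩ := exists_z hidx D₀ hw hwZ hdec ha₀ ha₀E
  have hzS : z ∈ S := (mem_cen.1 hzZ).1
  obtain ⟨a, ha, haE, hN, D, hfix⟩ := data_of_essential hS hF hna hidx hE₀ hzZ hz1 hzp hcomm
  obtain ⟨α₀, hα₀, δ₀, ψ₀, hψ₀, hopp, hδmem, hδA, hψv, hδz, hδz', hδfix, hδc, hdecomp, hδs⟩ :=
    D.exists_torus_ext hodd hfix
  obtain ⟨d₀, hd₀, hd₀v, hd₀z, hst₀⟩ := exists_ext D hN hψ₀ hψv hδz hδs hzS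
  set zS : S := ⟨z, hzS⟩ with hzSdef
  have hzSp : zS ^ p = 1 := Subtype.ext hzp
  have hzS1 : zS ≠ 1 := fun h => hz1 (congrArg Subtype.val h)
  have hzd : ∀ d ∈ F.autGroup S, d zS ∈ Subgroup.zpowers zS := by
    intro d _
    have e : zS = ⟨s₁, hs₁⟩ * ⟨t₁, ht₁⟩ * (⟨s₁, hs₁⟩ : S)⁻¹ * (⟨t₁, ht₁⟩ : S)⁻¹ := Subtype.ext hzc
    have e2 : d zS = d ⟨s₁, hs₁⟩ * d ⟨t₁, ht₁⟩ * (d ⟨s₁, hs₁⟩)⁻¹ * (d ⟨t₁, ht₁⟩)⁻¹ := by
      conv_lhs => rw [e]
      rw [map_mul, map_mul, map_mul, map_inv, map_inv]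
    rw [e2]
    obtain ⟨n, hn⟩ := hcomm _ (d ⟨s₁, hs₁⟩).2 _ (d ⟨t₁, ht₁⟩).2
    refine ⟨n, Subtype.ext ?_⟩
    simpa [hzSdef] using hn
  have hcompl : ∀ E, F.IsEssential p E →
      (∀ y ∈ cen S, ∃ (i : ℕ) (c : Ω), y = z ^ i * c ∧ c ∈ fixCen d₀) ∧
      (∀ c ∈ fixCen d₀, c ∈ Subgroup.zpowers z → c = 1) ∧
      (∀ α ∈ F.autGroup E, ∀ c : E, (c : Ω) ∈ fixCen d₀ → ((α c : E) : Ω) ∈ fixCen d₀) := by
    intro E hE
    obtain ⟨b, hb, hbE, hNE, DE, hfixE⟩ := data_of_essential hS hF hna hidx hE hzZ hz1 hzp hcomm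
    refine DE.complement hodd hfixE ?_
    intro δ hδ hδz hδc hδs ψ hψ hψv y hy
    obtain ⟨d, hd, hdv, hdz, hst⟩ := exists_ext DE hNE hψ hψv hδz hδs hzS
    rw [← hdv y, act_of_mem d₀ (DE.hPS y.2)]
    exact congrArg Subtype.val (aut_eq_on_cen hS hF hd hd₀ hzSp hdz hd₀z hst hst₀ _ hy)
  have hCnorm : F.IsNormal (fixCen d₀) := by
    rw [Cfsg.Agent.Lib.Fusion.NormalEssential.isNormal_iff_essential hS hF]
    rintro P (rfl | hP)
    · refine ⟨fun c hc => (mem_cen.1 hc.1).1, fun α hα => ?_⟩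
      exact map_eq_of_forall (G := F.autGroup P) (fun α hα c hc =>
        fixCen_invariant hS hF hd₀ hzSp hzZ hd₀z hst₀ hzd hα hc) hα
    · refine ⟨fun c hc => cen_le_of_centric hP.1 hc.1, fun α hα => ?_⟩
      haveI : Finite P := finite_of_le hP.1.1
      exact map_eq_of_forall (G := F.autGroup P) (hcompl P hP).2.2 hα
  have hCbot : fixCen d₀ = ⊥ := by
    rw [eq_bot_iff, ← hcore]
    exact le_core hCnorm
  have hcenz : cen S = Subgroup.zpowers z := by
    apply le_antisymm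
    · intro y hy
      obtain ⟨i, c, e, hc⟩ := (hcompl E₀ hE₀).1 y hy
      rw [hCbot, Subgroup.mem_bot] at hc
      rw [e, hc, mul_one]
      exact Subgroup.npow_mem_zpowers z i
    · exact Subgroup.zpowers_le.2 hzZ
  have hcenS : Subgroup.center ↥S = Subgroup.zpowers zS := by
    rw [← center_eq]
    ext y
    rw [Subgroup.mem_subgroupOf, hcenz]
    constructor
    · rintro ⟨n, hn⟩
      refine ⟨n, Subtype.ext ?_⟩
      simpa [hzSdef] using hn
    · rintro ⟨n, hn⟩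
      refine ⟨n, ?_⟩
      have := congrArg Subtype.val hn
      simpa [hzSdef] using this
  have hcard₁ : Nat.card (Subgroup.center ↥S) = p := by
    rw [hcenS, Nat.card_zpowers, orderOf_eq_prime hzSp hzS1]
  have hcardS : Nat.card S = p ^ 3 := by
    have := Subgroup.card_mul_index (Subgroup.center ↥S)
    rw [hcard₁, hidx] at this
    rw [← this]
    ring
  have hcc : ∀ x y : ↥S, ⁅x, y⁆ ∈ Subgroup.center ↥S := by
    intro x y
    rw [← center_eq]
    exact comm_mem_cen hidx x.2 y.2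
  have hcp : ∀ x y : ↥S, ⁅x, y⁆ ^ p = 1 := by
    intro x y
    have h1 := hcc x y
    rw [hcenS] at h1
    obtain ⟨n, hn⟩ := h1
    simp only at hn
    rw [← hn, ← zpow_natCast, ← zpow_mul, mul_comm, zpow_mul, zpow_natCast, hzSp, one_zpow]
  -- the essential subgroup is elementary, with `δ₀` the inversion
  have hE₀elem : ∀ x : E₀, x ^ p = 1 ∧ δ₀ x = x⁻¹ := by
    intro x
    obtain ⟨r, s, c, e, h1, h2⟩ := hdecomp x
    have hcz : (c : Ω) ∈ cen S := (hfix c).1 (congrArg Subtype.val h1)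
    have hcfix : δ₀ c = c := hδfix c h1 h2
    have hc1 : c = 1 := by
      have h3 : (c : Ω) ∈ fixCen d₀ := ⟨hcz, by
        rw [act_of_mem d₀ (D.hPS c.2), hd₀v c, hcfix]⟩
      rw [hCbot, Subgroup.mem_bot] at h3
      exact Subtype.ext h3
    rw [hc1, mul_one] at e
    have hcm : Commute (D.zV ^ r) ((α₀ D.zV) ^ s) := D.hV _ _
    constructor
    · rw [e, hcm.mul_pow, ← pow_mul, ← pow_mul, mul_comm r, mul_comm s, pow_mul, pow_mul, D.zV_pow,
        ← map_pow, D.zV_pow, map_one, one_pow, one_pow, mul_one]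
    · rw [e, map_mul, map_pow, map_pow, hδz, hδz', mul_inv_rev, inv_pow, inv_pow, D.hV]
  -- the element `a`
  set aS : S := ⟨a, ha⟩ with haSdef
  set h : S := aS⁻¹ * d₀ aS with hhdef
  have hhE : (h : Ω) ∈ E₀ := by
    refine D.hC ⟨h.2, Subgroup.mem_centralizer_iff.2 fun y hy => ?_⟩
    obtain ⟨v, hv⟩ := δ₀.surjective ⟨y, hy⟩
    have h1 := hδc v
    have h2 : (D.t v : Ω) = a * v * a⁻¹ := rfl
    have h3 : ((δ₀ (D.t v) : E₀) : Ω) = ((d₀ aS : S) : Ω) * (δ₀ v : E₀) * ((d₀ aS : S) : Ω)⁻¹ := by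
      rw [← hd₀v, ← hd₀v]
      have e : (⟨(D.t v : E₀), D.hPS (D.t v).2⟩ : S) = aS * ⟨v, D.hPS v.2⟩ * aS⁻¹ := Subtype.ext h2
      rw [e, map_mul, map_mul, map_inv]
      rfl
    have h4 : ((D.t (δ₀ v) : E₀) : Ω) = a * (δ₀ v : E₀) * a⁻¹ := rfl
    rw [h1, h4, hv] at h3
    simp only at h3
    have h5 : (h : Ω) = a⁻¹ * ((d₀ aS : S) : Ω) := rfl
    rw [h5]
    set D' : Ω := ((d₀ aS : S) : Ω)
    symm
    calc a⁻¹ * D' * y = a⁻¹ * (D' * y * D'⁻¹) * D' := by group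
      _ = a⁻¹ * (a * y * a⁻¹) * D' := by rw [h3]
      _ = y * (a⁻¹ * D') := by group
  have hpowE : ∀ s : S, ((s ^ p : S) : Ω) ∈ E₀ := by
    intro s
    haveI := D₀.normal
    have h3 := pow_card_eq_one' (x := ((s : S) : S ⧸ E₀.subgroupOf S))
    rw [D₀.card_quot, ← QuotientGroup.mk_pow, QuotientGroup.eq_one_iff] at h3
    exact h3
  have hhp : h ^ p = 1 := by
    have h1 := (hE₀elem ⟨h, hhE⟩).1
    apply Subtype.ext
    have h2 := congrArg Subtype.val h1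
    simpa using h2
  have hd₀a : d₀ aS = aS * h := by
    rw [hhdef]
    group
  have hapf : d₀ (aS ^ p) = aS ^ p := by
    rw [map_pow, hd₀a, Cfsg.Agent.Lib.PGroup.Extraspecial.mul_pow_odd hodd hcc (hcp _ _), hhp, mul_one]
  have hap : aS ^ p = 1 := by
    have h1 := hE₀elem ⟨_, hpowE aS⟩
    have h2 := hd₀v ⟨_, hpowE aS⟩
    rw [h1.2] at h2
    simp only at h2
    have h3 : ((d₀ (aS ^ p) : S) : Ω) = ((aS ^ p : S) : Ω) := by rw [hapf]
    have h4 : (⟨((aS ^ p : S) : Ω), D.hPS (hpowE aS)⟩ : S) = aS ^ p := rfl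
    rw [h4, h3] at h2
    have h5 : (⟨_, hpowE aS⟩ : E₀) ^ 2 = 1 := by
      apply Subtype.ext
      rw [pow_two]
      show ((aS ^ p : S) : Ω) * ((aS ^ p : S) : Ω) = 1
      nth_rewrite 1 [h2]
      simp
    have h6 := eq_one_of_sq_of_pow hodd h5 h1.1
    have h7 : ((aS ^ p : S) : Ω) = 1 := congrArg (fun u : E₀ => (u : Ω)) h6
    exact Subtype.ext h7
  have hall : ∀ s : S, s ^ p = 1 := by
    intro s
    obtain ⟨x, hx, k, e⟩ := D₀.exists_decomp ha haE s.2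
    have e' : s = ⟨x, D₀.le hx⟩ * aS ^ k := Subtype.ext (by simpa using e)
    rw [e', Cfsg.Agent.Lib.PGroup.Extraspecial.mul_pow_odd hodd hcc (hcp _ _), ← pow_mul, mul_comm k,
      pow_mul, hap, one_pow, mul_one]
    have h1 := (hE₀elem ⟨x, hx⟩).1
    apply Subtype.ext
    have h2 := congrArg Subtype.val h1
    simpa using h2
  refine ⟨Cfsg.Agent.Lib.Fusion.GenExtra.isExtraspecial_of hS hcard₁ hcc (fun u => ?_) ?_, hcardS, ?_⟩
  · rw [hall]
    exact Subgroup.one_mem _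
  · by_contra hcon
    push Not at hcon
    exact hna ⟨⟨fun u v => commutatorElement_eq_one_iff_mul_comm.1 (hcon u v)⟩⟩
  · apply Nat.dvd_antisymm
    · exact Monoid.exponent_dvd_of_forall_pow_eq_one hall
    · have hne : Monoid.exponent ↥S ≠ 1 := by
        intro h1
        rw [Monoid.exp_eq_one_iff] at h1
        exact hna ⟨⟨fun u v => Subsingleton.elim _ _⟩⟩
      have hd : Monoid.exponent ↥S ∣ p := Monoid.exponent_dvd_of_forall_pow_eq_one hall
      rcases (Nat.dvd_prime hp.out).1 hd with h | h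
      · exact absurd h hne
      · rw [h]

/-- The variant of the centralizer count for commutators in a subgroup of order `p` of the centre. -/
theorem card_le_mul_card_inf_centralizer' {G : Type*} [Group G] [Finite G]
    (hc : ∀ x y : G, ⁅x, y⁆ ∈ Subgroup.center G) {Z₀ : Subgroup (Subgroup.center G)}
    (hZ₀ : ∀ x y : G, (⟨⁅x, y⁆, hc x y⟩ : Subgroup.center G) ∈ Z₀) (hcard : Nat.card Z₀ = p)
    (X : Subgroup G) (w : G) :
    Nat.card X ≤ p * Nat.card ↥(X ⊓ Subgroup.centralizer ({w} : Set G)) := by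
  let f : X →* Subgroup.center G := (Cfsg.Agent.Lib.PGroup.Extraspecial.commHom hc w).comp X.subtype
  have h1 : f.ker = (X ⊓ Subgroup.centralizer ({w} : Set G)).subgroupOf X := by
    ext x
    simp only [MonoidHom.mem_ker, Subgroup.mem_subgroupOf, Subgroup.mem_inf]
    constructor
    · intro h
      refine ⟨x.2, Cfsg.Agent.Lib.PGroup.Extraspecial.mem_centralizer_singleton_iff_comm.mpr ?_⟩
      have := congrArg Subtype.val h
      simpa [f] using this
    · rintro ⟨-, h⟩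
      apply Subtype.ext
      simpa [f] using Cfsg.Agent.Lib.PGroup.Extraspecial.mem_centralizer_singleton_iff_comm.mp h
  have h2 : Nat.card f.ker = Nat.card ↥(X ⊓ Subgroup.centralizer ({w} : Set G)) := by
    rw [h1]
    exact Nat.card_congr (Subgroup.subgroupOfEquivOfLe inf_le_left).toEquiv
  have h3 : Nat.card X = Nat.card f.ker * f.ker.index := (Subgroup.card_mul_index f.ker).symm
  rw [h3, h2, Subgroup.index_ker, mul_comm]
  refine Nat.mul_le_mul_right _ ?_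
  rw [← hcard]
  refine Subgroup.card_le_of_le ?_
  rintro _ ⟨x, rfl⟩
  exact hZ₀ x w

/-- If all commutators of `S` lie in a central subgroup of order `p`, then `|S : Z(S)| ≤ p²`. -/
theorem class2_index (hS : IsPGroup p S) (hF : F.IsSaturated p) (hS1 : S ≠ ⊥) (hcore : F.core = ⊥)
    {z : Ω} (hzZ : z ∈ cen S) (hz1 : z ≠ 1) (hzp : z ^ p = 1)
    (hcomm : ∀ s ∈ S, ∀ t ∈ S, s * t * s⁻¹ * t⁻¹ ∈ Subgroup.zpowers z) :
    (Subgroup.center ↥S).index ≤ p ^ 2 := by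
  classical
  obtain ⟨E, hE⟩ := exists_essential hS hF hS1 hcore
  have hES : E ≤ S := hE.1.1
  have hC : centralizerIn S E ≤ E := hE.1.2 E (Cfsg.Agent.Lib.Fusion.Basic.IsConj.refl hES)
  have hZE : cen S ≤ E := cen_le_of_centric hE.1
  have hzE := hZE hzZ
  have hzS : z ∈ S := (mem_cen.1 hzZ).1
  haveI : Finite E := finite_of_le hES
  have hVp : IsPGroup p E := isPGroup_of_le hS hES
  have hEne : E ≠ S := Cfsg.Agent.Lib.Fusion.EssentialGen.essential_ne hS hF hE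
  obtain ⟨g, hgS, hgE⟩ : ∃ g ∈ S, g ∉ E := by
    by_contra hcon
    push Not at hcon
    exact hEne (le_antisymm hES hcon)
  have hzcen : Subgroup.zpowers z ≤ cen S := Subgroup.zpowers_le.2 hzZ
  have hSNk : ∀ u ∈ S, ∀ y ∈ E, u * y * u⁻¹ ∈ E := by
    intro u hu y hy
    have e : u * y * u⁻¹ = (u * y * u⁻¹ * y⁻¹) * y := by group
    rw [e]
    exact E.mul_mem (hZE (hzcen (hcomm u hu y (hES hy)))) hy
  have hSN : ∀ u ∈ S, u ∈ Subgroup.normalizer (E : Set Ω) := by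
    intro u hu
    refine Subgroup.mem_normalizer_iff.2 fun y => ⟨hSNk u hu y, fun hy => ?_⟩
    have h1 := hSNk u⁻¹ (S.inv_mem hu) _ hy
    have e : u⁻¹ * (u * y * u⁻¹) * u⁻¹⁻¹ = y := by group
    rwa [e] at h1
  have hst : ∀ y ∈ E, y⁻¹ * (g * y * g⁻¹) ∈ Subgroup.zpowers z := by
    intro y hy
    have h1 := hcomm y⁻¹ (S.inv_mem (hES hy)) g hgS
    have e : y⁻¹ * (g * y * g⁻¹) = y⁻¹ * g * y⁻¹⁻¹ * g⁻¹ := by group
    rw [e]
    exact h1
  have hcard : Nat.card (Subgroup.zpowers z) = p := by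
    rw [Nat.card_zpowers, orderOf_eq_prime hzp hz1]
  haveI : Finite (Subgroup.zpowers z) := finite_of_le (Subgroup.zpowers_le.2 hzS)
  have hab : ∀ a ∈ E, ∀ b ∈ E, a * b = b * a := by
    by_contra hab
    push Not at hab
    obtain ⟨a, ha, b, hb, hne'⟩ := hab
    have hc₀ := hcomm a (hES ha) b (hES hb)
    have hc₀1 : (⟨_, hc₀⟩ : Subgroup.zpowers z) ≠ 1 := by
      intro h
      have h2 : a * b * a⁻¹ * b⁻¹ = 1 := congrArg Subtype.val h
      apply hne'
      rw [mul_inv_eq_one, mul_inv_eq_iff_eq_mul] at h2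
      exact h2
    have hgen : ∀ d : Subgroup.zpowers z, ∃ k : ℕ, (⟨_, hc₀⟩ : Subgroup.zpowers z) ^ k = d := by
      intro d
      have h1 : d ∈ Subgroup.zpowers (⟨_, hc₀⟩ : Subgroup.zpowers z) := mem_zpowers_of_prime_card hcard hc₀1
      rw [← mem_powers_iff_mem_zpowers] at h1
      exact h1
    apply hgE
    refine Cfsg.Agent.Lib.Fusion.Chain.mem_of_stab_chain hS hE.1 (isRadical_of_essential hS hE)
      (E := chain2 (Subgroup.zpowers z)) (m := 2) rfl le_top ?_ hgS (hSN g hgS) ?_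
    · intro i hi α hα y hy
      have hi' : i = 0 ∨ i = 1 ∨ i = 2 := by omega
      rcases hi' with rfl | rfl | rfl
      · have h1 : y = 1 := Subtype.ext hy
        rw [h1, map_one]
        exact Subgroup.one_mem _
      · obtain ⟨k, hk⟩ := hgen ⟨y, hy⟩
        have e1 : y = (⟨a, ha⟩ * ⟨b, hb⟩ * (⟨a, ha⟩ : E)⁻¹ * (⟨b, hb⟩ : E)⁻¹) ^ k := by
          apply Subtype.ext
          have h2 := congrArg Subtype.val hk
          simp only [Subgroup.coe_pow] at h2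
          rw [← h2]
          simp
        rw [e1, map_pow, map_mul, map_mul, map_mul, map_inv, map_inv]
        show _ ∈ Subgroup.zpowers z
        have h3 := Subgroup.pow_mem _ (hcomm _ (hES (α ⟨a, ha⟩).2) _ (hES (α ⟨b, hb⟩).2)) k
        simpa using h3
      · trivial
    · intro i hi y hyE hy
      have hi' : i = 0 ∨ i = 1 := by omega
      rcases hi' with rfl | rfl
      · have h1 : y ∈ Subgroup.zpowers z := hy
        have e : y⁻¹ * (g * y * g⁻¹) = 1 := by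
          rw [(mem_cen.1 (hzcen h1)).2 g hgS]
          group
        rw [e]
        exact Subgroup.one_mem _
      · exact hst y hyE
  have hV : ∀ a b : E, a * b = b * a := fun a b => Subtype.ext (hab a a.2 b b.2)
  obtain ⟨α, -, hα⟩ := exists_pair hS hF hE
  let zE : E := ⟨z, hzE⟩
  have hpowE : ∀ w : E, (w : Ω) ∈ Subgroup.zpowers z → w ∈ Subgroup.zpowers zE := by
    rintro w ⟨k, hk⟩
    refine ⟨k, Subtype.ext ?_⟩
    show ((zE ^ k : E) : Ω) = w
    rw [← hk]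
    simp [zE]
  have hstE : ∀ u (hu : u ∈ S), ∀ x : E, x⁻¹ * normConj u (hSN u hu) x ∈ Subgroup.zpowers zE := by
    intro u hu x
    refine hpowE _ ?_
    have h1 := hcomm (x : Ω)⁻¹ (S.inv_mem (hES x.2)) u hu
    have e : (((x⁻¹ * normConj u (hSN u hu) x : E)) : Ω) = (x : Ω)⁻¹ * u * (x : Ω)⁻¹⁻¹ * u⁻¹ := by
      simp only [Subgroup.coe_mul, Subgroup.coe_inv, normConj_apply]
      group
    rw [e]
    exact h1
  have htzE : ∀ u (hu : u ∈ S), normConj u (hSN u hu) zE = zE := by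
    intro u hu
    apply Subtype.ext
    show u * z * u⁻¹ = z
    rw [(mem_cen.1 hzZ).2 u hu]
    group
  let t₁ : MulAut E := normConj g (hSN g hgS)
  have hK : ∀ g₂ ∈ S, g₂ ∉ E → g₂ * (((α⁻¹ zE : E)) : Ω) * g₂⁻¹ ≠ ((α⁻¹ zE : E) : Ω) := by
    intro g₂ hg₂S hg₂E hg₂
    let t₂' : MulAut E := normConj g₂ (hSN g₂ hg₂S)
    have htw : t₂' (α⁻¹ zE) = α⁻¹ zE := Subtype.ext hg₂
    have hpg := Cfsg.Agent.Lib.Fusion.Transvection.isPGroup_closure_pair hV hVp (z₁ := zE) (z₂ := α zE)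
      (t₁ := α * t₂' * α⁻¹) (t₂ := t₁) (by
        show α (t₂' (α⁻¹ zE)) = zE
        rw [htw, MulAut.apply_inv_self]) (by
        show α (t₂' (α⁻¹ (α zE))) = α zE
        rw [MulAut.inv_apply_self, htzE g₂ hg₂S]) (by
        intro x
        have h1 := hstE g₂ hg₂S (α⁻¹ x)
        obtain ⟨k, hk⟩ := h1
        refine ⟨k, ?_⟩
        have e : x⁻¹ * (α * t₂' * α⁻¹) x = α ((α⁻¹ x)⁻¹ * t₂' (α⁻¹ x)) := by
          rw [map_mul, map_inv, MulAut.apply_inv_self]
          rfl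
        rw [e, ← hk]
        simp only [map_zpow]) (htzE g hgS) (hstE g hgS)
    rw [Set.pair_comm] at hpg
    exact hα t₁ (normConj_mem_autInducedBy hgS _) t₂' (normConj_mem_autInducedBy hg₂S _)
      (Cfsg.Agent.Lib.Fusion.Essential.normConj_not_mem_inn hES hC hgS _ hgE)
      (Cfsg.Agent.Lib.Fusion.Essential.normConj_not_mem_inn hES hC hg₂S _ hg₂E) hpg
  -- counting
  have hcc : ∀ x y : ↥S, ⁅x, y⁆ ∈ Subgroup.center ↥S := by
    intro x y
    rw [← center_eq]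
    exact hzcen (hcomm x x.2 y y.2)
  let Z₀ : Subgroup (Subgroup.center ↥S) :=
    { carrier := {c | ((c : ↥S) : Ω) ∈ Subgroup.zpowers z}
      mul_mem' := fun {a b} ha hb => by
        show ((a : ↥S) : Ω) * ((b : ↥S) : Ω) ∈ Subgroup.zpowers z
        exact Subgroup.mul_mem _ ha hb
      one_mem' := Subgroup.one_mem (Subgroup.zpowers z)
      inv_mem' := fun {a} ha => by
        show ((a : ↥S) : Ω)⁻¹ ∈ Subgroup.zpowers z
        exact Subgroup.inv_mem _ ha }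
  have hZ₀card : Nat.card Z₀ = p := by
    rw [← hcard]
    refine Nat.card_congr (Equiv.ofBijective (fun c : Z₀ => (⟨((c : Subgroup.center ↥S) : ↥S), c.2⟩ :
      Subgroup.zpowers z)) ⟨fun a b h => ?_, fun c => ?_⟩)
    · apply Subtype.ext
      apply Subtype.ext
      apply Subtype.ext
      exact congrArg (fun u : Subgroup.zpowers z => (u : Ω)) h
    · have hcS : (c : Ω) ∈ cen S := hzcen c.2
      have hcc' : (⟨c, hcS.1⟩ : ↥S) ∈ Subgroup.center ↥S := by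
        rw [← center_eq]
        exact hcS
      exact ⟨⟨⟨⟨c, hcS.1⟩, hcc'⟩, c.2⟩, rfl⟩
  have hZ₀mem : ∀ x y : ↥S, (⟨⁅x, y⁆, hcc x y⟩ : Subgroup.center ↥S) ∈ Z₀ :=
    fun x y => hcomm x x.2 y y.2
  have hE' : ((E.subgroupOf S).index) ≤ p := by
    have h1 := card_le_mul_card_inf_centralizer' hcc hZ₀mem hZ₀card (⊤ : Subgroup ↥S)
      (⟨((α⁻¹ zE : E) : Ω), hES (α⁻¹ zE).2⟩ : ↥S)
    rw [Subgroup.card_top] at h1
    have hle : (⊤ : Subgroup ↥S) ⊓ Subgroup.centralizer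
        ({(⟨((α⁻¹ zE : E) : Ω), hES (α⁻¹ zE).2⟩ : ↥S)} : Set ↥S) ≤ E.subgroupOf S := by
      rintro u ⟨-, hu⟩
      by_contra huE
      apply hK u u.2 huE
      have h2 := (Subgroup.mem_centralizer_iff.1 hu) _ rfl
      have h3 : ((α⁻¹ zE : E) : Ω) * u = u * ((α⁻¹ zE : E) : Ω) := congrArg Subtype.val h2
      rw [← h3]
      group
    have h2 := Subgroup.card_le_of_le hle
    have h3 := Subgroup.index_mul_card (E.subgroupOf S)
    have hpos : 0 < Nat.card (E.subgroupOf S) := Nat.card_pos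
    refine Nat.le_of_mul_le_mul_right ?_ hpos
    rw [h3]
    exact h1.trans (Nat.mul_le_mul_left _ h2)
  have hE'p : (E.subgroupOf S).index = p := by
    have hd : (E.subgroupOf S).index ∣ Nat.card S := Subgroup.index_dvd_card _
    obtain ⟨n, hn⟩ := IsPGroup.iff_card.1 hS
    rw [hn] at hd
    obtain ⟨k, -, hk⟩ := (Nat.dvd_prime_pow hp.out).1 hd
    have hk0 : k ≠ 0 := by
      rintro rfl
      rw [pow_zero, Subgroup.index_eq_one] at hk
      exact hEne (le_antisymm hES fun s hs => (hk ▸ Subgroup.mem_top (⟨s, hs⟩ : ↥S) : (⟨s, hs⟩ : ↥S) ∈ E.subgroupOf S))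
    have hk1 : k = 1 := by
      by_contra hk1
      have h2 : 2 ≤ k := by omega
      have h3 : p ^ 2 ≤ p ^ k := Nat.pow_le_pow_right hp.out.pos h2
      have h4 : p < p ^ 2 := by
        rw [pow_two]
        exact Nat.lt_mul_self_iff.2 hp.out.one_lt |>.trans_le le_rfl
      rw [hk] at hE'
      omega
    rw [hk, hk1, pow_one]
  have D : Data S E p := ⟨hS, hES, hab, hE'p⟩
  have h1 := card_le_mul_card_inf_centralizer' hcc hZ₀mem hZ₀card (E.subgroupOf S) (⟨g, hgS⟩ : ↥S)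
  have hle : E.subgroupOf S ⊓ Subgroup.centralizer ({(⟨g, hgS⟩ : ↥S)} : Set ↥S) ≤ Subgroup.center ↥S := by
    rintro u ⟨hu, hu'⟩
    rw [← center_eq]
    refine D.central_of_comm hu hgS hgE ?_
    have h2 := (Subgroup.mem_centralizer_iff.1 hu') _ rfl
    exact congrArg Subtype.val h2
  have h2 := Subgroup.card_le_of_le hle
  have h3 := Subgroup.index_mul_card (E.subgroupOf S)
  have h4 := Subgroup.index_mul_card (Subgroup.center ↥S)
  have hpos : 0 < Nat.card (Subgroup.center ↥S) := Nat.card_pos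
  refine Nat.le_of_mul_le_mul_right ?_ hpos
  rw [h4, ← h3, hE'p, pow_two, mul_assoc]
  exact Nat.mul_le_mul_left _ (h1.trans (Nat.mul_le_mul_left _ h2))

end Cfsg.Agent.Lib.Fusion.CenterIndex
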