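/-
Section-freeness of a finite group passes to its fusion system; the `ZJ` functor; solvability of free systems.
-/
import Mathlib
import Cfsg.Prelude.Def_FusionReduction
import Cfsg.Prelude.Def_LocalEven
import Cfsg.Prelude.Def_FusionComponents
import Cfsg.Agent.Lib.Fusion.GroupSylow
import Cfsg.Agent.Lib.Fusion.GroupCentric
import Cfsg.Agent.Lib.Fusion.ModelQuot
import Cfsg.Agent.Lib.Fusion.ModelUniq
import Cfsg.Agent.Lib.Fusion.ModelLocal
import Cfsg.Agent.Lib.Fusion.EmbedF
import Cfsg.Agent.Lib.Fusion.GlaubermanMain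
import Cfsg.Agent.Lib.Fusion.QdFreeFactor
import Cfsg.Agent.Lib.Fusion.FactorMorphism
import Cfsg.Agent.Lib.Fusion.Image
import Cfsg.Agent.S0664

set_option autoImplicit false

namespace Cfsg.Agent.Lib.Fusion.GroupFree

open Cfsg Cfsg.FusionSystem Cfsg.Agent.Lib.Fusion.Basic Cfsg.Agent.Lib.Fusion.GroupSylow
  Cfsg.Agent.Lib.Fusion.Saturated Cfsg.Agent.Lib.Fusion.ModelLocal
  Cfsg.Agent.Lib.Fusion.GFunctor Cfsg.Agent.Lib.Fusion.NormalCR

universe u

section realized

variable {G : Type u} [Group G]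

/-- The inclusion `N_P(Q) → N_G(Q)`. -/
def inclN (P Q : Subgroup G) : ↥(normalizerIn P Q) →* ↥(Subgroup.normalizer (Q : Set G)) :=
  Subgroup.inclusion (normalizerIn_le_normalizer P Q)

@[simp] theorem inclN_coe (P Q : Subgroup G) (x : normalizerIn P Q) : ((inclN P Q x : _) : G) = x := rfl

/-- The normalizer system of a group fusion system is realized by the normalizer. -/
theorem isRealizedBy_inclN {P Q : Subgroup G} (hQP : Q ≤ P) {N : FusionSystem (normalizerIn P Q)}
    (hN : (groupFusionSystem P).IsNormalizerSystem Q N) : N.IsRealizedBy (inclN P Q) := by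
  refine ⟨Subgroup.inclusion_injective _, fun R hR φ hφ => ?_⟩
  rw [hN R]
  constructor
  · rintro ⟨-, -, -, ψ, ⟨-, -, g, hg⟩, hag, himg⟩
    have hgN : g ∈ Subgroup.normalizer (Q : Set G) := by
      rw [Subgroup.mem_normalizer_iff]
      intro q
      constructor
      · intro hq
        have h1 : (⟨q, (le_sup_right : Q ≤ R ⊔ Q) hq⟩ : ↥(R ⊔ Q)) ∈ Q.subgroupOf (R ⊔ Q) := hq
        have h2 : ψ ⟨q, (le_sup_right : Q ≤ R ⊔ Q) hq⟩ ∈ Q :=
          (SetLike.ext_iff.1 himg _).1 ⟨_, h1, rfl⟩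
        rw [hg] at h2
        exact h2
      · intro hq
        obtain ⟨y, hy, hye⟩ := (SetLike.ext_iff.1 himg _).2 hq
        rw [hg] at hye
        have h3 : (y : G) = q := mul_left_cancel (mul_right_cancel hye)
        rw [← h3]
        exact hy
    refine ⟨⟨g, hgN⟩, fun x => Subtype.ext ?_⟩
    show φ x = g * x * g⁻¹
    rw [← hag x, hg]
    rfl
  · rintro ⟨⟨g, hgN⟩, hg⟩
    have hgx : ∀ x : R, φ x = g * x * g⁻¹ := fun x => congrArg Subtype.val (hg x)
    have hφP : ∀ x : R, φ x ∈ P := fun x => (hφ x).1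
    have hRP : R ≤ P := hR.trans inf_le_left
    have hQn : ∀ q ∈ Q, g * q * g⁻¹ ∈ Q := fun q hq => (Subgroup.mem_normalizer_iff.1 hgN q).1 hq
    let ψ : ↥(R ⊔ Q) →* G := (MulAut.conj g).toMonoidHom.comp (R ⊔ Q).subtype
    have hψe : ∀ y : ↥(R ⊔ Q), ψ y = g * y * g⁻¹ := fun y => rfl
    have hle : R ⊔ Q ≤ P.comap (MulAut.conj g).toMonoidHom := by
      refine sup_le (fun x hx => ?_) (fun q hq => ?_)
      · show g * x * g⁻¹ ∈ P
        rw [← hgx ⟨x, hx⟩]
        exact hφP _
      · show g * q * g⁻¹ ∈ P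
        exact hQP (hQn q hq)
    refine ⟨⟨hRP, hφP, g, hgx⟩, hR, hφ, ψ, ⟨sup_le hRP hQP, fun y => hle y.2, g, hψe⟩,
      fun x => (hgx x).symm, ?_⟩
    ext y
    constructor
    · rintro ⟨z, hz, rfl⟩
      exact hQn _ hz
    · intro hy
      have h1 : g⁻¹ * y * g ∈ Q := by
        have := (Subgroup.mem_normalizer_iff.1 hgN (g⁻¹ * y * g)).2
        apply this
        have e : g * (g⁻¹ * y * g) * g⁻¹ = y := by group
        rw [e]
        exact hy
      refine ⟨⟨_, (le_sup_right : Q ≤ R ⊔ Q) h1⟩, h1, ?_⟩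
      show g * (g⁻¹ * y * g) * g⁻¹ = y
      group

variable [Finite G] {p : ℕ} [Fact p.Prime]

/-- If `X` is not involved in `G`, then the fusion system of `G` on a Sylow subgroup is `X`-free. -/
theorem isSectionFree_of_not_involves (P : Sylow p G) {X : Type*} [Group X] (h : ¬ Involves X G) :
    (groupFusionSystem (P : Subgroup G)).IsSectionFree p X := by
  classical
  intro Q hQ hc N hN L _ ι hL hinv
  have hF := isSaturated_groupFusionSystem P
  have hS : IsPGroup p (P : Subgroup G) := P.isPGroup'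
  have hcon : N.IsConstrained p := isConstrained_normalizerSystem hS hF hQ hc hN
  have hQP : Q ≤ (P : Subgroup G) := hQ.1
  have hT : IsPGroup p (normalizerIn (P : Subgroup G) Q) := isPGroup_normalizerIn P Q
  let H : Subgroup G := Subgroup.normalizer (Q : Set G)
  obtain ⟨Y, hY⟩ := (isFullyNormalized_iff P hQP).1 hQ
  have hrange : (inclN (P : Subgroup G) Q).range = (normalizerIn (P : Subgroup G) Q).subgroupOf H := by
    ext x
    constructor
    · rintro ⟨y, rfl⟩
      exact y.2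
    · intro hx
      exact ⟨⟨x, hx⟩, rfl⟩
  have hYr : (Y : Subgroup H) = (inclN (P : Subgroup G) Q).range := by
    rw [hY, hrange]
  have hreal := isRealizedBy_inclN hQP hN
  let V : Subgroup H := Q.subgroupOf H
  haveI hVn : V.Normal := Subgroup.normal_in_normalizer
  have hVp : IsPGroup p V := by
    have h1 : IsPGroup p Q := isPGroup_of_le hS hQP
    exact h1.of_equiv (Subgroup.subgroupOfEquivOfLe Subgroup.le_normalizer).symm
  have hC : ∀ x ∈ (Y : Subgroup H), x ∈ Subgroup.centralizer (V : Set H) → x ∈ V := by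
    intro x hx hxc
    rw [hY] at hx
    have h1 : (x : G) ∈ centralizerIn (P : Subgroup G) Q := by
      refine ⟨hx.1, Subgroup.mem_centralizer_iff.2 fun q hq => ?_⟩
      have h2 := Subgroup.mem_centralizer_iff.1 hxc ⟨q, Subgroup.le_normalizer hq⟩ hq
      exact congrArg Subtype.val h2
    exact hc.2 Q (Basic.IsConj.refl hQP) h1
  have hcop := Cfsg.Agent.Lib.Solvable.PSeries.pPrimeCore_coprime (G := H) p
  have hmodel : N.IsModel p (H ⧸ pPrimeCore p H)
      ((QuotientGroup.mk' (pPrimeCore p H)).comp (inclN (P : Subgroup G) Q)) := by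
    refine ⟨inferInstance, Cfsg.Agent.Lib.Fusion.ModelQuot.isRealizedBy_mk hT hreal _ hcop,
      ⟨Y.mapSurjective (QuotientGroup.mk'_surjective _), ?_⟩,
      Cfsg.Agent.Lib.Fusion.GroupCentric.centralizer_pCore_quotient_le Y hVp hC⟩
    rw [Sylow.coe_mapSurjective, hYr, MonoidHom.range_comp]
  obtain ⟨e, -⟩ := Cfsg.Agent.Lib.Fusion.ModelUniq.exists_equiv_of_models hT hcon hL hmodel
  have h1 := Cfsg.Agent.Lib.Fusion.EmbedF.involves_of_injective e.toMonoidHom e.injective hinv
  have h2 := Cfsg.Agent.Lib.Fusion.EmbedF.involves_of_surjective _ (QuotientGroup.mk'_surjective _) h1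
  exact h (Cfsg.Agent.Lib.Fusion.EmbedF.involves_of_injective H.subtype H.subtype_injective h2)

end realized

/-! ### The `ZJ` functor -/

section zj

/-- `Z(J(Q))`. -/
def zj (Q : Type u) [Group Q] : Subgroup Q :=
  thompsonSubgroupA Q ⊓ Subgroup.centralizer (thompsonSubgroupA Q : Set Q)

theorem map_maxAbelian {Q R : Type u} [Group Q] [Group R] (φ : Q ≃* R) {A : Subgroup Q}
    (hA : A ∈ maxAbelianSubgroups Q) : A.map φ.toMonoidHom ∈ maxAbelianSubgroups R := by
  obtain ⟨h1, h2⟩ := hA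
  have hc : ∀ B : Subgroup Q, Nat.card (B.map φ.toMonoidHom) = Nat.card B := fun B =>
    Subgroup.card_map_of_injective φ.injective
  refine ⟨⟨⟨?_⟩⟩, fun B hB => ?_⟩
  · rintro ⟨_, a, ha, rfl⟩ ⟨_, b, hb, rfl⟩
    apply Subtype.ext
    show φ a * φ b = φ b * φ a
    rw [← map_mul, ← map_mul]
    have := congrArg Subtype.val (h1.is_comm.comm ⟨a, ha⟩ ⟨b, hb⟩)
    rw [show a * b = b * a from this]
  · rw [hc]
    have hB' : IsMulCommutative (B.map φ.symm.toMonoidHom) := by
      refine ⟨⟨?_⟩⟩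
      rintro ⟨_, a, ha, rfl⟩ ⟨_, b, hb, rfl⟩
      apply Subtype.ext
      show φ.symm a * φ.symm b = φ.symm b * φ.symm a
      rw [← map_mul, ← map_mul]
      have := congrArg Subtype.val (hB.is_comm.comm ⟨a, ha⟩ ⟨b, hb⟩)
      rw [show a * b = b * a from this]
    have h3 := h2 _ hB'
    rwa [show Nat.card (B.map φ.symm.toMonoidHom) = Nat.card B from
      Subgroup.card_map_of_injective φ.symm.injective] at h3

theorem map_thompson_le {Q R : Type u} [Group Q] [Group R] (φ : Q ≃* R) :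
    (thompsonSubgroupA Q).map φ.toMonoidHom ≤ thompsonSubgroupA R := by
  rw [Subgroup.map_le_iff_le_comap]
  refine sSup_le fun A hA => ?_
  rw [← Subgroup.map_le_iff_le_comap]
  exact le_sSup (map_maxAbelian φ hA)

theorem map_thompson {Q R : Type u} [Group Q] [Group R] (φ : Q ≃* R) :
    (thompsonSubgroupA Q).map φ.toMonoidHom = thompsonSubgroupA R := by
  refine le_antisymm (map_thompson_le φ) fun y hy => ?_
  have h1 := map_thompson_le φ.symm ⟨y, hy, rfl⟩
  exact ⟨φ.symm y, h1, φ.apply_symm_apply y⟩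

theorem map_zj {Q R : Type u} [Group Q] [Group R] (φ : Q ≃* R) :
    (zj Q).map φ.toMonoidHom = zj R := by
  have hJ := map_thompson φ
  have key : ∀ {Q R : Type u} [Group Q] [Group R] (φ : Q ≃* R),
      (zj Q).map φ.toMonoidHom ≤ zj R := by
    intro Q R _ _ φ
    rintro _ ⟨x, ⟨hx1, hx2⟩, rfl⟩
    refine ⟨?_, Subgroup.mem_centralizer_iff.2 fun y hy => ?_⟩
    · rw [← map_thompson φ]
      exact ⟨x, hx1, rfl⟩
    · rw [← map_thompson φ] at hy
      obtain ⟨a, ha, rfl⟩ := hy
      have := Subgroup.mem_centralizer_iff.1 hx2 a ha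
      show φ a * φ x = φ x * φ a
      rw [← map_mul, ← map_mul, this]
  refine le_antisymm (key φ) fun y hy => ?_
  exact ⟨φ.symm y, key φ.symm ⟨y, hy, rfl⟩, φ.apply_symm_apply y⟩

theorem zj_ne_bot {p : ℕ} [Fact p.Prime] (Q : Type u) [Group Q] [Finite Q] (hQ : IsPGroup p Q) (hne : Nontrivial Q) :
    zj Q ≠ ⊥ := by
  classical
  -- some maximal abelian subgroup is nontrivial
  haveI : Finite (Subgroup Q) := inferInstance
  obtain ⟨x, hx⟩ := exists_ne (1 : Q)
  have hset : ({A : Subgroup Q | IsMulCommutative A}).Finite := Set.toFinite _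
  have hne' : ({A : Subgroup Q | IsMulCommutative A}).Nonempty := by
    refine ⟨⊥, ⟨⟨?_⟩⟩⟩
    rintro ⟨a, ha⟩ ⟨b, hb⟩
    apply Subtype.ext
    show a * b = b * a
    rw [Subgroup.mem_bot.1 ha, Subgroup.mem_bot.1 hb]
  obtain ⟨A, hA, hmax⟩ := Set.exists_max_image _ (fun A : Subgroup Q => Nat.card A) hset hne'
  have hAm : A ∈ maxAbelianSubgroups Q := ⟨hA, fun B hB => hmax B hB⟩
  have hzp : IsMulCommutative (Subgroup.zpowers x) := inferInstance
  have h1 : Nat.card (Subgroup.zpowers x) ≤ Nat.card A := hmax _ hzp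
  have h2 : 1 < Nat.card (Subgroup.zpowers x) := by
    rw [Nat.card_zpowers]
    have h3 : orderOf x ≠ 1 := fun e => hx (orderOf_eq_one_iff.1 e)
    have h4 := orderOf_pos x
    omega
  have hAbot : A ≠ ⊥ := by
    intro h
    rw [h, Subgroup.card_bot] at h1
    omega
  have hJ : A ≤ thompsonSubgroupA Q := le_sSup hAm
  have hJne : Nontrivial (thompsonSubgroupA Q) := by
    obtain ⟨a, ha, hane⟩ := (Subgroup.ne_bot_iff_exists_ne_one.mp hAbot).imp (fun a h => h) |>.elim
      (fun a h => (⟨a, a.2, fun e => h (Subtype.ext e)⟩ : ∃ a : Q, a ∈ A ∧ a ≠ 1))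
    exact ⟨⟨⟨a, hJ ha⟩, 1, fun e => hane (congrArg Subtype.val e)⟩⟩
  have hcen := IsPGroup.center_nontrivial (hQ.to_subgroup (thompsonSubgroupA Q))
  obtain ⟨⟨⟨z, hzJ⟩, hzc⟩, hzne⟩ := exists_ne (1 : Subgroup.center (thompsonSubgroupA Q))
  intro hbot
  have hzmem : z ∈ zj Q := by
    refine ⟨hzJ, Subgroup.mem_centralizer_iff.2 fun y hy => ?_⟩
    have := (Subgroup.mem_center_iff.1 hzc) ⟨y, hy⟩
    exact congrArg Subtype.val this
  rw [hbot, Subgroup.mem_bot] at hzmem
  apply hzne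
  apply Subtype.ext
  apply Subtype.ext
  exact hzmem

theorem zj_isPFunctor {p : ℕ} [Fact p.Prime] : IsPFunctor.{u} p (fun (Q : Type u) (_ : Group Q) => zj Q) where
  ne_bot := fun Q _ _ hQ hne => zj_ne_bot Q hQ hne
  map_eq := fun Q R _ _ _ _ φ => map_zj φ

theorem map_zj_eq {G : Type u} [Group G] (P : Subgroup G) :
    (zj ↥P).map P.subtype = centerThompsonAOf P := by
  ext x
  constructor
  · rintro ⟨y, ⟨hy1, hy2⟩, rfl⟩
    refine ⟨⟨y, hy1, rfl⟩, Subgroup.mem_centralizer_iff.2 ?_⟩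
    rintro _ ⟨a, ha, rfl⟩
    have := Subgroup.mem_centralizer_iff.1 hy2 a ha
    exact congrArg Subtype.val this
  · rintro ⟨⟨y, hy, rfl⟩, hx2⟩
    refine ⟨y, ⟨hy, Subgroup.mem_centralizer_iff.2 fun a ha => ?_⟩, rfl⟩
    have := Subgroup.mem_centralizer_iff.1 hx2 (P.subtype a) ⟨a, ha, rfl⟩
    exact Subtype.ext this

/-- The `ZJ` functor is normal in the `Qd(p)`-free models, `p` odd. -/
theorem zj_normalInModels {p : ℕ} [Fact p.Prime] (hp : p ≠ 2) :
    NormalInModels.{u} p ↥(qd p) (fun (Q : Type u) (_ : Group Q) => zj Q) := by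
  intro L _ _ P hL hfree
  have hc : Subgroup.centralizer ((Cfsg.pCore p L : Subgroup L) : Set L) ≤ Cfsg.pCore p L := by
    rw [hL]
    exact inf_le_left
  have h1 := Cfsg.Agent.S0664.result hp hfree hc P
  show ((zj ↥(P : Subgroup L)).map (P : Subgroup L).subtype).Normal
  rw [map_zj_eq]
  exact h1

end zj

/-! ### Solvability of free systems -/

section solvable

variable {Ω : Type u} [Group Ω] {S : Subgroup Ω} {F : FusionSystem S} {p : ℕ} [Fact p.Prime]
  {X : Type*} [Group X] {W : ∀ (Q : Type u) [Group Q], Subgroup Q}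

/-- Transport a fusion system along an equality of the underlying subgroups. -/
theorem exists_cast {S₁ S₂ : Subgroup Ω} (h : S₁ = S₂) (N : FusionSystem S₁) :
    ∃ N' : FusionSystem S₂, (∀ P, N'.Hom P = N.Hom P) ∧ (N.IsSaturated p → N'.IsSaturated p) ∧
      (N.IsSectionFree p X → N'.IsSectionFree p X) ∧
      (∀ Z : Subgroup Ω, N.IsNormal Z → N'.IsNormal Z) := by
  subst h
  exact ⟨N, fun _ => rfl, id, id, fun _ => id⟩

/-- In a saturated `X`-free system, factor systems by strongly closed subgroups are `X`-free. -/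
theorem isSectionFree_factor_of_stronglyClosed [Finite S] (hS : IsPGroup p S) (hF : F.IsSaturated p)
    (hfree : F.IsSectionFree p X) {R : Subgroup Ω} (hR : F.StronglyClosed R) {Ω' : Type*} [Group Ω'] {S' : Subgroup Ω'}
    {θ : S →* Ω'} {E : FusionSystem S'} (hE : F.IsFactorSystem R θ E) : E.IsSectionFree p X := by
  have hRS : R ≤ S := hR.1
  have hFN : F.IsFullyNormalized R := by
    refine ⟨hRS, fun R₂ h₂ => ?_⟩
    obtain ⟨φ, hφ, rfl⟩ := h₂
    have h1 := StronglyClosed.map_eq hR le_rfl hφ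
    have h2 : φ.range = R := by
      ext y
      have h3 := SetLike.ext_iff.1 h1 y
      rw [← h3]
      constructor
      · rintro ⟨x, rfl⟩
        exact ⟨x, x.2, rfl⟩
      · rintro ⟨x, -, rfl⟩
        exact ⟨x, rfl⟩
    rw [h2]
  let N := Cfsg.Agent.Lib.Fusion.LocalSystems.normalizerSystem F R hRS
  have hN : F.IsNormalizerSystem R N :=
    Cfsg.Agent.Lib.Fusion.LocalSystems.normalizerSystem_isNormalizerSystem F R hRS
  have hsat := Cfsg.Agent.Lib.Fusion.KNormalizer.isSaturated_normalizerSystem hS hF hFN hN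
  have hNfree := Cfsg.Agent.Lib.Fusion.QdFree.isSectionFree_normalizerSystem hS hF hfree hFN hN
  have hSN : normalizerIn S R = S :=
    inf_eq_left.2 (StronglyClosed.le_normalizer hR)
  obtain ⟨N', hN'e, hN's, hN'f, hN'n⟩ := exists_cast (p := p) (X := X) hSN N
  have hn : N'.IsNormal R := hN'n R (isNormal_normalizerSystem hRS hN)
  obtain ⟨h0, hker, hrange, hiff⟩ := hE
  have hE' : N'.IsFactorSystem R θ E := by
    refine ⟨h0, hker, hrange, fun P' φ' => ?_⟩
    rw [hiff]
    refine and_congr_right fun _ => ?_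
    constructor
    · rintro ⟨φ, hφ, hind⟩
      refine ⟨φ, ?_, hind⟩
      rw [hN'e]
      have hRpre : R ≤ preimageAlong θ P' := Cfsg.Agent.Lib.Fusion.FactorMorphism.le_preimage h0 hker P'
      refine mem_normalizerSystem hN hRpre ?_ hφ (StronglyClosed.map_eq hR hRpre hφ)
      rw [hSN]
      exact Cfsg.Agent.Lib.Fusion.FactorMorphism.preimage_le θ P'
    · rintro ⟨φ, hφ, hind⟩
      refine ⟨φ, ?_, hind⟩
      rw [hN'e, hN] at hφ
      exact hφ.1
  exact Cfsg.Agent.Lib.Fusion.QdFreeFactor.isSectionFree_factor hS (hN's hsat) hn (hN'f hNfree) hE'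

/-- A saturated `X`-free system is solvable, when a positive functor is normal in the `X`-free models. -/
theorem isSolvableSystem_of_free [Finite S] (hW : IsPFunctor p W) (hN : NormalInModels p X W) (hS : IsPGroup p S)
    (hF : F.IsSaturated p) (hfree : F.IsSectionFree p X) : F.IsSolvableSystem := by
  intro R hR hne _ E hE
  have hEsat : E.IsSaturated p := Cfsg.Agent.Lib.Fusion.Image.isSaturated_image hS hF
    (Cfsg.Agent.Lib.Fusion.FactorMorphism.isSurjectiveMorphism_of_isFactorSystem hS hF hR hE)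
  have hEfree := isSectionFree_factor_of_stronglyClosed hS hF hfree hR hE
  haveI hfinQ : Finite (S ⧸ R.subgroupOf S) := Finite.of_surjective (QuotientGroup.mk' (R.subgroupOf S)) (QuotientGroup.mk'_surjective _)
  have hEp : IsPGroup p (⊤ : Subgroup (S ⧸ R.subgroupOf S)) := by
    have h1 : IsPGroup p (S ⧸ R.subgroupOf S) :=
      IsPGroup.of_surjective hS (QuotientGroup.mk' (R.subgroupOf S)) (QuotientGroup.mk'_surjective _)
    exact h1.to_subgroup _
  have hnorm := Cfsg.Agent.Lib.Fusion.GlaubermanMain.isNormal_wOf_of_free hW hN hEp hEsat hEfree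
  have htop : (⊤ : Subgroup (S ⧸ R.subgroupOf S)) ≠ ⊥ := by
    intro h
    apply hne
    refine le_antisymm hR.1 fun s hs => ?_
    have h1 : QuotientGroup.mk' (R.subgroupOf S) ⟨s, hs⟩ = 1 := by
      have h2 : QuotientGroup.mk' (R.subgroupOf S) ⟨s, hs⟩ ∈ (⊤ : Subgroup (S ⧸ R.subgroupOf S)) := Subgroup.mem_top _
      rw [h] at h2
      exact Subgroup.mem_bot.1 h2
    exact (hE.2.1 _).1 h1
  intro hcore
  have h2 : wOf W (⊤ : Subgroup (S ⧸ R.subgroupOf S)) ≤ E.core := le_sSup hnorm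
  rw [hcore] at h2
  exact wOf_ne_bot hW hEp htop (le_bot_iff.1 h2)

end solvable

end Cfsg.Agent.Lib.Fusion.GroupFree
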