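/-
Grün's lemma for fusion systems: if `hyp(F) = S` and `Z ≤ Z(F)`, then every subgroup `W ≥ Z` with `W / Z` central in `F / Z`
is central in `F`.
-/
import Mathlib
import Cfsg.Prelude.Def_FusionComponents
import Cfsg.Agent.Lib.Fusion.Basic
import Cfsg.Agent.Lib.Fusion.Saturated
import Cfsg.Agent.Lib.Fusion.Chain
import Cfsg.Agent.Lib.Fusion.Focal
import Cfsg.Agent.Lib.Fusion.Joins
import Cfsg.Agent.Lib.Fusion.FactorMorphism

set_option autoImplicit false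
set_option linter.style.haveILetI false

namespace Cfsg.Agent.Lib.Fusion.SecondCenter

open Cfsg Cfsg.FusionSystem Cfsg.Agent.Lib.Fusion.Basic Cfsg.Agent.Lib.Fusion.Saturated
open Cfsg.Agent.Lib.Fusion.NormalCR Cfsg.Agent.Lib.Fusion.Chain Cfsg.Agent.Lib.Fusion.FactorMorphism

variable {Ω : Type*} [Group Ω] {S : Subgroup Ω} {F : FusionSystem S}

/-- A central subgroup lies in the centre of `S`. -/
theorem IsCentral.le_center {Z : Subgroup Ω} (hZ : F.IsCentral Z) {z : Ω} (hz : z ∈ Z) {s : Ω} (hs : s ∈ S) :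
    s * z * s⁻¹ = z := by
  obtain ⟨ψ, hψ, hψ1, hψ2⟩ := hZ.2 S (conjHom S s) (F.conj_mem le_rfl hs)
  have h2 := hψ2 ⟨z, hz⟩
  have h3 := hψ1 ⟨z, hZ.1 hz⟩
  have e : Subgroup.inclusion (le_sup_right : Z ≤ S ⊔ Z) ⟨z, hz⟩ =
      Subgroup.inclusion (le_sup_left : S ≤ S ⊔ Z) ⟨z, hZ.1 hz⟩ := rfl
  rw [e, h3] at h2
  exact h2

/-- Maps of the system fix central subgroups. -/
theorem IsCentral.map_eq {Z : Subgroup Ω} (hZ : F.IsCentral Z) {P : Subgroup Ω} {φ : P →* Ω} (hφ : φ ∈ F.Hom P)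
    (x : P) (hx : (x : Ω) ∈ Z) : φ x = x := by
  obtain ⟨ψ, hψ, hψ1, hψ2⟩ := hZ.2 P φ hφ
  have h2 := hψ2 ⟨x, hx⟩
  have h3 := hψ1 x
  have e : Subgroup.inclusion (le_sup_right : Z ≤ P ⊔ Z) ⟨x, hx⟩ =
      Subgroup.inclusion (le_sup_left : P ≤ P ⊔ Z) x := rfl
  rw [e, h3] at h2
  exact h2

/-- A central subgroup is strongly closed. -/
theorem IsCentral.stronglyClosed {Z : Subgroup Ω} (hZ : F.IsCentral Z) : F.StronglyClosed Z := by
  refine ⟨hZ.1, fun R hR φ hφ x => ?_⟩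
  rw [IsCentral.map_eq hZ hφ x (hR x.2)]
  exact hR x.2

variable {Ω' : Type*} [Group Ω'] {S' : Subgroup Ω'}
variable [Finite S] {p : ℕ} [hp : Fact p.Prime]

/-- **Grün's lemma for fusion systems.** -/
theorem isCentral_of_factor (hS : IsPGroup p S) (hF : F.IsSaturated p) (hperf : F.hyperfocalSubgroup p = S)
    {Z : Subgroup Ω} (hZ : F.IsCentral Z) {θ : S →* Ω'} {E : FusionSystem S'} (hE : F.IsFactorSystem Z θ E)
    {W' : Subgroup Ω'} (hW' : E.IsCentral W') : F.IsCentral (preimageAlong θ W') := by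
  classical
  have hZSC := IsCentral.stronglyClosed hZ
  have hmor := isMorphism_of_isFactorSystem hS hF hZSC hE
  obtain ⟨hZS, hker, hrange, hiff⟩ := id hE
  have hmod : ∀ (P : Subgroup Ω) (φ : P →* Ω) (_ : φ ∈ F.Hom P) (x : P) (hxS : (x : Ω) ∈ S)
      (hφx : φ x ∈ S), θ ⟨x, hxS⟩ ∈ W' → θ ⟨φ x, hφx⟩ = θ ⟨x, hxS⟩ := by
    intro P φ hφ x hxS hφx hx
    obtain ⟨φ', hφ', hP2, hv, hmem, he⟩ := hmor.2 P φ hφ
    obtain ⟨ψ', hψ', hag, hfix⟩ := hW'.2 _ φ' hφ'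
    have h1 := hag ⟨_, hmem x⟩
    have h2 := hfix ⟨_, hx⟩
    have e : Subgroup.inclusion (le_sup_left : imageAlong θ P ≤ imageAlong θ P ⊔ W') ⟨_, hmem x⟩ =
        Subgroup.inclusion (le_sup_right : W' ≤ imageAlong θ P ⊔ W') ⟨_, hx⟩ := rfl
    rw [e, h2] at h1
    exact (he x).symm.trans h1.symm
  have hWS : preimageAlong θ W' ≤ S := preimage_le θ W'
  set W := preimageAlong θ W' with hWdef
  have hcmZ : ∀ s ∈ S, ∀ w ∈ W, w⁻¹ * (s * w * s⁻¹) ∈ Z := by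
    intro s hs w hw
    obtain ⟨hwS, hwW'⟩ := mem_preimage.1 hw
    have hc : s * w * s⁻¹ ∈ S := S.mul_mem (S.mul_mem hs hwS) (S.inv_mem hs)
    have h1 := hmod S (conjHom S s) (F.conj_mem le_rfl hs) ⟨w, hwS⟩ hwS hc hwW'
    have h2 : θ ((⟨w, hwS⟩ : S)⁻¹ * ⟨s * w * s⁻¹, hc⟩) = 1 := by
      rw [map_mul, map_inv]
      have h3 : θ ⟨s * w * s⁻¹, hc⟩ = θ ⟨w, hwS⟩ := h1
      rw [h3, inv_mul_cancel]
    exact (hker _).1 h2
  have hZc : ∀ z ∈ Z, ∀ s ∈ S, z * s = s * z := by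
    intro z hz s hs
    have h1 := IsCentral.le_center hZ hz hs
    calc z * s = (s * z * s⁻¹) * s := by rw [h1]
      _ = s * z := by group
  -- stability
  have hstab : ∀ (P : Subgroup Ω) (φ : P →* Ω) (_ : φ ∈ F.Hom P) (x : P), ∀ w ∈ W,
      (x : Ω) * w * (x : Ω)⁻¹ = φ x * w * (φ x)⁻¹ := by
    intro P φ hφ x w hw
    obtain ⟨hwS, hwW'⟩ := mem_preimage.1 hw
    obtain ⟨φ', hφ', hP2, hv, hmem, he⟩ := hmor.2 P φ hφ
    obtain ⟨ψ', hψ', hag, hfix⟩ := hW'.2 _ φ' hφ'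
    obtain ⟨-, ψ, hψ, hind⟩ := (hiff _ ψ').1 hψ'
    obtain ⟨hle, hvv, hmm, hee⟩ := hind
    have hxS : (x : Ω) ∈ S := hP2 x.2
    have hxR : (x : Ω) ∈ preimageAlong θ (imageAlong θ P ⊔ W') :=
      mem_preimage.2 ⟨hxS, Subgroup.mem_sup_left ⟨⟨x, hxS⟩, x.2, rfl⟩⟩
    have hwR : w ∈ preimageAlong θ (imageAlong θ P ⊔ W') :=
      mem_preimage.2 ⟨hwS, Subgroup.mem_sup_right hwW'⟩
    have hφxS : φ x ∈ S := hv x
    -- `ψ x` agrees with `φ x` modulo `Z`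
    have h1 : θ ⟨ψ ⟨x, hxR⟩, hvv _⟩ = θ ⟨φ x, hφxS⟩ := by
      have h2 := hee ⟨x, hxR⟩
      have h3 := hag ⟨_, hmem x⟩
      have h4 := he x
      rw [← h2]
      rw [← h4, ← h3]
      rfl
    have h1' : (φ x)⁻¹ * ψ ⟨x, hxR⟩ ∈ Z := by
      have h2 : θ ((⟨φ x, hφxS⟩ : S)⁻¹ * ⟨ψ ⟨x, hxR⟩, hvv _⟩) = 1 := by
        rw [map_mul, map_inv, h1, inv_mul_cancel]
      exact (hker _).1 h2
    have h5 : θ ⟨ψ ⟨w, hwR⟩, hvv _⟩ = θ ⟨w, hwS⟩ := by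
      have h2 := hee ⟨w, hwR⟩
      have h3 := hfix ⟨_, hwW'⟩
      rw [← h2]
      exact h3
    have h5' : w⁻¹ * ψ ⟨w, hwR⟩ ∈ Z := by
      have h2 : θ ((⟨w, hwS⟩ : S)⁻¹ * ⟨ψ ⟨w, hwR⟩, hvv _⟩) = 1 := by
        rw [map_mul, map_inv, h5, inv_mul_cancel]
      exact (hker _).1 h2
    have hc₀ := hcmZ x hxS w hw
    have hc₀R : w⁻¹ * ((x : Ω) * w * (x : Ω)⁻¹) ∈ preimageAlong θ (imageAlong θ P ⊔ W') :=
      Subgroup.mul_mem _ (Subgroup.inv_mem _ hwR)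
        (Subgroup.mul_mem _ (Subgroup.mul_mem _ hxR hwR) (Subgroup.inv_mem _ hxR))
    have h6 := IsCentral.map_eq hZ hψ ⟨_, hc₀R⟩ hc₀
    have e1 : (⟨w⁻¹ * ((x : Ω) * w * (x : Ω)⁻¹), hc₀R⟩ : ↥(preimageAlong θ (imageAlong θ P ⊔ W'))) =
        (⟨w, hwR⟩)⁻¹ * ((⟨x, hxR⟩ * ⟨w, hwR⟩) * (⟨x, hxR⟩)⁻¹) := rfl
    rw [e1] at h6
    simp only [map_mul, map_inv] at h6
    set z₁ := (φ x)⁻¹ * ψ ⟨x, hxR⟩ with hz₁
    set z₂ := w⁻¹ * ψ ⟨w, hwR⟩ with hz₂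
    have e2 : ψ ⟨x, hxR⟩ = φ x * z₁ := by
      rw [hz₁]
      group
    have e3 : ψ ⟨w, hwR⟩ = w * z₂ := by
      rw [hz₂]
      group
    rw [e2, e3] at h6
    have c1 : z₁ * φ x = φ x * z₁ := hZc z₁ h1' _ hφxS
    have c2 : z₁ * w = w * z₁ := hZc z₁ h1' _ hwS
    have c3 : z₂ * φ x = φ x * z₂ := hZc z₂ h5' _ hφxS
    have c4 : z₂ * w = w * z₂ := hZc z₂ h5' _ hwS
    have c5 : z₁ * z₂ = z₂ * z₁ := hZc z₁ h1' _ (hZS h5')
    have key : (w * z₂)⁻¹ * (φ x * z₁ * (w * z₂) * (φ x * z₁)⁻¹) = w⁻¹ * (φ x * w * (φ x)⁻¹) := by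
      have e4 : φ x * z₁ * (w * z₂) * (φ x * z₁)⁻¹ = φ x * w * (z₁ * z₂ * z₁⁻¹) * (φ x)⁻¹ := by
        calc φ x * z₁ * (w * z₂) * (φ x * z₁)⁻¹ = φ x * (z₁ * w) * z₂ * z₁⁻¹ * (φ x)⁻¹ := by group
          _ = φ x * (w * z₁) * z₂ * z₁⁻¹ * (φ x)⁻¹ := by rw [c2]
          _ = _ := by group
      have e5 : z₁ * z₂ * z₁⁻¹ = z₂ := by
        rw [c5]
        group
      rw [e4, e5]
      have c6 : z₂ * (φ x)⁻¹ = (φ x)⁻¹ * z₂ := by
        have := (show Commute z₂ (φ x) from c3).inv_right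
        exact this
      calc (w * z₂)⁻¹ * (φ x * w * z₂ * (φ x)⁻¹) = z₂⁻¹ * w⁻¹ * (φ x * w * (z₂ * (φ x)⁻¹)) := by group
        _ = z₂⁻¹ * w⁻¹ * (φ x * w * ((φ x)⁻¹ * z₂)) := by rw [c6]
        _ = z₂⁻¹ * (w⁻¹ * (φ x * w * (φ x)⁻¹)) * z₂ := by group
        _ = _ := by
          have hm : w⁻¹ * (φ x * w * (φ x)⁻¹) ∈ Z := hcmZ _ hφxS w hw
          have c7 := hZc z₂ h5' _ (hZS hm)
          rw [mul_assoc, ← c7]
          group
    rw [key] at h6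
    exact (mul_left_cancel h6).symm
  -- `W` is in the centre of `S`
  have hWZ : ∀ w ∈ W, ∀ s ∈ S, s * w * s⁻¹ = w := by
    intro w hw s hs
    have hfoc : F.focalSubgroup ≤ Subgroup.centralizer ({w} : Set Ω) := by
      refine (Subgroup.closure_le _).2 ?_
      rintro _ ⟨P, φ, x, hφ, rfl⟩
      refine Subgroup.mem_centralizer_iff.2 ?_
      intro h hh
      rw [Set.mem_singleton_iff] at hh
      rw [hh]
      have h1 := hstab P φ hφ x _ hw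
      calc w * ((x : Ω)⁻¹ * φ x) = (x : Ω)⁻¹ * ((x : Ω) * w * (x : Ω)⁻¹) * φ x := by group
        _ = (x : Ω)⁻¹ * (φ x * w * (φ x)⁻¹) * φ x := by rw [h1]
        _ = (x : Ω)⁻¹ * φ x * w := by group
    have hsfoc : s ∈ F.focalSubgroup := by
      rw [Cfsg.Agent.Lib.Fusion.Focal.focal_eq hS hF, hperf]
      exact Subgroup.mem_sup_left hs
    have h1 := Subgroup.mem_centralizer_iff.1 (hfoc hsfoc) w rfl
    rw [← h1]
    group
  have hWSC : F.StronglyClosed W := by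
    refine ⟨hWS, fun R hR φ hφ x => ?_⟩
    have hxW : (x : Ω) ∈ W := hR x.2
    obtain ⟨hxS, hxW'⟩ := mem_preimage.1 hxW
    have h1 := hmod R φ hφ x hxS (map_mem_S hφ x) hxW'
    exact mem_preimage.2 ⟨map_mem_S hφ x, h1 ▸ hxW'⟩
  have habW : IsMulCommutative W := by
    refine ⟨⟨fun a b => Subtype.ext ?_⟩⟩
    have h1 := hWZ a a.2 b (hWS b.2)
    show (a : Ω) * b = b * a
    calc (a : Ω) * b = ((b : Ω) * a * (b : Ω)⁻¹) * b := by rw [h1]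
      _ = b * a := by group
  have hWn : F.IsNormal W := isNormal_of_abelian hS hF hWSC habW
  have hFN : F.IsFullyNormalized W := by
    refine ⟨hWS, fun Q' hc => ?_⟩
    obtain ⟨φ, hφ, rfl⟩ := hc
    rw [(IsNormal.weaklyClosed hWn).2 φ hφ]
  have hfinW : Finite W := finite_of_le hWS
  have hWp : IsPGroup p W := isPGroup_of_le hS hWS
  haveI : Finite (F.autGroup W) := finite_autGroup hWS
  obtain ⟨-, R, hR⟩ := (fullyNormalized_props hS hF hFN).2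
  have hAp : IsPGroup p (⊤ : Subgroup (F.autGroup W)) := by
    refine Cfsg.Agent.Lib.Coprime.Stability.isPGroup_of_forall_coprime hp.out _ ?_
    intro γ _ hc
    apply Subtype.ext
    have hc' : (orderOf (γ : MulAut W)).Coprime p := by
      rwa [Subgroup.orderOf_coe]
    refine eq_one_of_stab_chain hWp
      (D := fun i => if i = 0 then ⊥ else if i = 1 then Z.subgroupOf W else ⊤) (m := 2) rfl rfl ?_ hc'
    intro i hi y hy
    obtain rfl | rfl : i = 0 ∨ i = 1 := by omega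
    · have hy' : (y : Ω) ∈ Z := hy
      have h1 := IsCentral.map_eq hZ (autGroup_mem_hom hWS γ.2) y hy'
      have h2 : (γ : MulAut W) y = y := Subtype.ext h1
      rw [h2]
      simp
    · obtain ⟨hyS, hyW'⟩ := mem_preimage.1 y.2
      have h1 := hmod W (W.subtype.comp (γ : MulAut W).toMonoidHom) (autGroup_mem_hom hWS γ.2) y hyS
        (hWS ((γ : MulAut W) y).2) hyW'
      have h2 : θ ((⟨y, hyS⟩ : S)⁻¹ * ⟨((γ : MulAut W) y : W), hWS ((γ : MulAut W) y).2⟩) = 1 := by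
        rw [map_mul, map_inv]
        have h3 : θ ⟨((γ : MulAut W) y : W), hWS ((γ : MulAut W) y).2⟩ = θ ⟨y, hyS⟩ := h1
        rw [h3, inv_mul_cancel]
      exact (hker _).1 h2
  have hRtop : (R : Subgroup (F.autGroup W)) = ⊤ := (R.is_maximal' hAp le_top).symm
  have hAut : ∀ χ ∈ F.autGroup W, χ = 1 := by
    intro χ hχ
    have h1 : (⟨χ, hχ⟩ : F.autGroup W) ∈ (R : Subgroup (F.autGroup W)) := by
      rw [hRtop]
      exact Subgroup.mem_top _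
    rw [hR] at h1
    obtain ⟨s, hs, hsχ⟩ := mem_autInducedBy_iff.1 h1
    ext y
    have h2 : ((χ y : W) : Ω) = s * y * s⁻¹ := hsχ y
    rw [h2, hWZ y y.2 s hs]
    rfl
  refine ⟨hWS, fun P φ hφ => ?_⟩
  obtain ⟨ψ, hψ, hag, him⟩ := hWn.2 P φ hφ
  refine ⟨ψ, hψ, hag, fun x => ?_⟩
  have hres := res_mem hψ (le_sup_right : W ≤ P ⊔ W)
  have hv : ∀ y : W, (ψ.comp (Subgroup.inclusion (le_sup_right : W ≤ P ⊔ W))) y ∈ W := by
    intro y
    have h9 : ψ (Subgroup.inclusion le_sup_right y) ∈ (W.subgroupOf (P ⊔ W)).map ψ :=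
      ⟨_, Subgroup.mem_subgroupOf.2 y.2, rfl⟩
    rw [him] at h9
    exact h9
  have hr := range_eq_of_card hres hv le_rfl
  obtain ⟨α, hαv⟩ : ∃ α : MulAut W, ∀ y, ((α y : W) : Ω) = (ψ.comp (Subgroup.inclusion (le_sup_right : W ≤ P ⊔ W))) y :=
    ⟨isoOfRange (F.injective_of_mem hres) hr, fun _ => rfl⟩
  have hα : α ∈ F.autGroup W := by
    apply mem_autGroup_of_mem
    have e : W.subtype.comp α.toMonoidHom = ψ.comp (Subgroup.inclusion (le_sup_right : W ≤ P ⊔ W)) := by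
      ext y
      exact hαv y
    rw [e]
    exact hres
  have h1 := hαv x
  rw [hAut α hα] at h1
  exact h1.symm

end Cfsg.Agent.Lib.Fusion.SecondCenter
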