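/-
**Control of weak closure by positive characteristic `p`-functors.** Let `W` be a positive characteristic `p`-functor containing the
centre, such that in every finite group `L` with Sylow `p`-subgroup `Y` and `C_L(O_p(L)) ≤ O_p(L)`, not involving `X`, every element of
`powZ e Y` fixed by `N_L(W(Y))` is central in `L`. Then in a saturated `X`-free fusion system every element of `powZ e S` fixed by
`N_F(W(S))` is fixed by `F`.
-/
import Mathlib
import Cfsg.Prelude.Def_FusionSystem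
import Cfsg.Prelude.Def_FusionReduction
import Cfsg.Agent.Lib.Fusion.GlaubermanMain
import Cfsg.Agent.Lib.Fusion.SecondCenter

set_option autoImplicit false
set_option linter.style.haveILetI false

namespace Cfsg.Agent.Lib.Fusion.WeakControl

open Cfsg Cfsg.FusionSystem Cfsg.Agent.Lib.Fusion.Basic Cfsg.Agent.Lib.Fusion.Saturated
  Cfsg.Agent.Lib.Fusion.Model Cfsg.Agent.Lib.Fusion.ModelLocal
  Cfsg.Agent.Lib.Fusion.NormalCR Cfsg.Agent.Lib.Fusion.QdFree Cfsg.Agent.Lib.Fusion.Joins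
  Cfsg.Agent.Lib.Fusion.LocalSystems Cfsg.Agent.Lib.Fusion.GFunctor Cfsg.Agent.Lib.Fusion.GlaubermanMain

universe u v

/-- The subgroup generated by the `e`-th powers of the central elements of `T`. -/
def powZ {Ω : Type*} [Group Ω] (e : ℕ) (T : Subgroup Ω) : Subgroup Ω :=
  Subgroup.closure ((fun z : Ω => z ^ e) '' ((T ⊓ Subgroup.centralizer (T : Set Ω) : Subgroup Ω) : Set Ω))

theorem powZ_le {Ω : Type*} [Group Ω] (e : ℕ) (T : Subgroup Ω) :
    powZ e T ≤ T ⊓ Subgroup.centralizer (T : Set Ω) := by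
  refine (Subgroup.closure_le _).2 ?_
  rintro _ ⟨c, hc, rfl⟩
  exact pow_mem hc e

theorem powZ_mono {Ω : Type*} [Group Ω] (e : ℕ) {T S : Subgroup Ω} (hTS : T ≤ S)
    (hZ : S ⊓ Subgroup.centralizer (S : Set Ω) ≤ T) : powZ e S ≤ powZ e T := by
  refine Subgroup.closure_mono (Set.image_mono ?_)
  intro c hc
  exact ⟨hZ hc, Subgroup.centralizer_le (by exact_mod_cast hTS) hc.2⟩

theorem center_le_normalizerIn {Ω : Type*} [Group Ω] {S R : Subgroup Ω} (hR : R ≤ S) :
    S ⊓ Subgroup.centralizer (S : Set Ω) ≤ normalizerIn S R := by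
  intro c hc
  refine ⟨hc.1, Subgroup.mem_normalizer_iff.2 ?_⟩
  intro h
  have key : ∀ r ∈ R, c * r * c⁻¹ = r := fun r hr => by
    have := Subgroup.mem_centralizer_iff.1 hc.2 r (hR hr)
    rw [← this]
    group
  constructor
  · intro hh
    rw [key h hh]
    exact hh
  · intro hh
    have h2 : c⁻¹ * (c * h * c⁻¹) * c ∈ R := by
      have h3 : c⁻¹ * (c * h * c⁻¹) * c⁻¹⁻¹ = c * h * c⁻¹ := by
        have : c⁻¹ ∈ S ⊓ Subgroup.centralizer (S : Set Ω) := inv_mem hc
        have h4 : ∀ r ∈ R, c⁻¹ * r * c⁻¹⁻¹ = r := fun r hr => by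
          have := Subgroup.mem_centralizer_iff.1 this.2 r (hR hr)
          rw [← this]
          group
        exact h4 _ hh
      rw [inv_inv] at h3
      rw [h3]
      exact hh
    simpa [mul_assoc] using h2

variable {Ω : Type u} [Group Ω] {p : ℕ} [Fact p.Prime] {W : ∀ (Q : Type u) [Group Q], Subgroup Q}
  {X : Type v} [Group X] {e : ℕ} {S : Subgroup Ω} {F : FusionSystem S}

/-- `z` is fixed by all maps of the system defined on it. -/
def FixedBy {S : Subgroup Ω} (F : FusionSystem S) (z : Ω) : Prop :=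
  ∀ (P : Subgroup Ω) (φ : P →* Ω), φ ∈ F.Hom P → ∀ hz : z ∈ P, φ ⟨z, hz⟩ = z

/-- `z` is fixed by the maps of the normalizer system of `Q`. -/
def Hyp {S : Subgroup Ω} (F : FusionSystem S) (Q : Subgroup Ω) (z : Ω) : Prop :=
  ∀ (P : Subgroup Ω) (φ : P →* Ω), φ ∈ F.normalizerHom Q P → ∀ hz : z ∈ P, φ ⟨z, hz⟩ = z

/-- The local condition: in a finite group `L` with `C_L(O_p(L)) ≤ O_p(L)`, not involving `X`, an element of `powZ e Y` fixed by
`N_L(W(Y))` is central. -/
def LocalFix (p : ℕ) (X : Type v) [Group X] (W : ∀ (Q : Type u) [Group Q], Subgroup Q) (e : ℕ) : Prop :=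
  ∀ (L : Type u) [Group L] [Finite L] (Y : Sylow p L),
    Subgroup.centralizer ((pCore p L : Subgroup L) : Set L) ≤ pCore p L → ¬ Involves X L →
    ∀ z ∈ powZ e (Y : Subgroup L),
      (∀ g ∈ Subgroup.normalizer (((W ↥(Y : Subgroup L)).map (Y : Subgroup L).subtype : Subgroup L) : Set L), g * z * g⁻¹ = z) →
      ∀ g : L, g * z * g⁻¹ = z

theorem normalizerHom_mono {S' : Subgroup Ω} {F' : FusionSystem S'} (hS' : S' ≤ S) (hsub : ∀ P, F'.Hom P ⊆ F.Hom P)
    {Q P : Subgroup Ω} : F'.normalizerHom Q P ⊆ F.normalizerHom Q P := by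
  have hN : normalizerIn S' Q ≤ normalizerIn S Q := inf_le_inf_right _ hS'
  rintro φ ⟨h1, h2, h3, ψ, hψ, h4, h5⟩
  exact ⟨hsub P h1, h2.trans hN, fun x => hN (h3 x), ψ, hsub _ hψ, h4, h5⟩

theorem Hyp.mono {S' : Subgroup Ω} {F' : FusionSystem S'} (hS' : S' ≤ S) (hsub : ∀ P, F'.Hom P ⊆ F.Hom P)
    {Q : Subgroup Ω} {z : Ω} (h : Hyp F Q z) : Hyp F' Q z :=
  fun P φ hφ hz => h P φ (normalizerHom_mono hS' hsub hφ) hz

theorem mem_normalizerHom [Finite S] {Q R : Subgroup Ω} (hQR : Q ≤ R) (hRN : R ≤ normalizerIn S Q) {ψ : R →* Ω}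
    (hψ : ψ ∈ F.Hom R) (himg : (Q.subgroupOf R).map ψ = Q) : ψ ∈ F.normalizerHom Q R := by
  have hQ : Q ≤ S := hQR.trans (hRN.trans normalizerIn_le)
  have h1 := normalizerSystem_isNormalizerSystem F Q hQ
  rw [← h1 R]
  exact mem_normalizerSystem h1 hQR hRN hψ himg

/-- The image of `W(T)` under an isomorphism with the Sylow subgroup. -/
theorem map_wOf_model (hW : IsPFunctor p W) {T : Subgroup Ω} {L : Type u} [Group L] [Finite T] (hT : IsPGroup p T)
    {ι : T →* L} (hι : Function.Injective ι) {Y : Subgroup L} (hY : Y = ι.range) :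
    ((wOf W T).subgroupOf T).map ι = (W ↥Y).map Y.subtype := by
  let e : T ≃* Y := (MonoidHom.ofInjective hι).trans (MulEquiv.subgroupCongr hY.symm)
  have h2 := hW.map_eq ↥T ↥Y hT e
  rw [subgroupOf_wOf, ← h2]
  ext y
  constructor
  · rintro ⟨x, hx, rfl⟩
    exact ⟨e x, ⟨x, hx, rfl⟩, rfl⟩
  · rintro ⟨_, ⟨x, hx, rfl⟩, rfl⟩
    exact ⟨x, hx, rfl⟩

theorem map_mem_powZ {T : Subgroup Ω} {L : Type u} [Group L] {ι : T →* L} {Y : Subgroup L} (hY : Y = ι.range) {z : Ω}
    (hz : z ∈ powZ e T) : ∃ h : z ∈ T, ι ⟨z, h⟩ ∈ powZ e Y := by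
  induction hz using Subgroup.closure_induction with
  | mem x hx =>
    obtain ⟨c, hc, rfl⟩ := hx
    have hcT : c ∈ T := hc.1
    refine ⟨pow_mem hc.1 e, ?_⟩
    have e1 : ι ⟨c ^ e, pow_mem hc.1 e⟩ = (ι ⟨c, hcT⟩) ^ e := by
      rw [← map_pow]
      rfl
    rw [e1]
    refine Subgroup.subset_closure ⟨_, ⟨?_, ?_⟩, rfl⟩
    · rw [hY]
      exact ⟨_, rfl⟩
    · refine Subgroup.mem_centralizer_iff.2 ?_
      intro y hy
      rw [hY] at hy
      obtain ⟨t, rfl⟩ := hy
      rw [← map_mul, ← map_mul]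
      congr 1
      apply Subtype.ext
      exact Subgroup.mem_centralizer_iff.1 hc.2 _ t.2
  | one => exact ⟨T.one_mem, by
      have : (⟨1, T.one_mem⟩ : T) = 1 := rfl
      rw [this, map_one]
      exact one_mem _⟩
  | mul x y _ _ hx hy =>
    obtain ⟨h1, h2⟩ := hx
    obtain ⟨h3, h4⟩ := hy
    refine ⟨mul_mem h1 h3, ?_⟩
    have : (⟨x * y, mul_mem h1 h3⟩ : T) = ⟨x, h1⟩ * ⟨y, h3⟩ := rfl
    rw [this, map_mul]
    exact mul_mem h2 h4
  | inv x _ hx =>
    obtain ⟨h1, h2⟩ := hx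
    refine ⟨inv_mem h1, ?_⟩
    have : (⟨x⁻¹, inv_mem h1⟩ : T) = ⟨x, h1⟩⁻¹ := rfl
    rw [this, map_inv]
    exact inv_mem h2

/-- The centre lies in `W`. -/
theorem mem_wOf_of_center (hWZ : ∀ (Q : Type u) [Group Q] [Finite Q], IsPGroup p Q → Subgroup.center Q ≤ W Q)
    {T : Subgroup Ω} [Finite T] (hT : IsPGroup p T) {z : Ω} (hz : z ∈ T ⊓ Subgroup.centralizer (T : Set Ω)) :
    z ∈ wOf W T := by
  refine mem_wOf.2 ⟨hz.1, hWZ _ hT ?_⟩
  rw [Subgroup.mem_center_iff]
  intro g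
  apply Subtype.ext
  exact Subgroup.mem_centralizer_iff.1 hz.2 _ g.2

/-- **Lemma M'**: the model case. -/
theorem fixedBy_of_model (hW : IsPFunctor p W) (hWZ : ∀ (Q : Type u) [Group Q] [Finite Q], IsPGroup p Q → Subgroup.center Q ≤ W Q)
    (hLF : LocalFix p X W e) {T : Subgroup Ω} {E : FusionSystem T} {L : Type u} [Group L] {ι : T →* L} [Finite T]
    (hT : IsPGroup p T) (hG : E.IsModel p L ι) (hL : ¬ Involves X L) {z : Ω} (hz : z ∈ powZ e T)
    (hyp : Hyp E (wOf W T) z) : FixedBy E z := by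
  obtain ⟨hfin, hreal, ⟨Y, hY⟩, hcent⟩ := hG
  haveI := hfin
  obtain ⟨hzT, hzY⟩ := map_mem_powZ (ι := ι) hY hz
  have hzC := powZ_le e T hz
  have hmap := map_wOf_model hW hT hreal.1 hY
  have hQT : wOf W T ≤ T := wOf_le T
  have hzQ : z ∈ wOf W T := mem_wOf_of_center hWZ hT hzC
  have hfinQ : Finite (wOf W T) := finite_of_le hQT
  have hcentral : ∀ g : L, g * ι ⟨z, hzT⟩ * g⁻¹ = ι ⟨z, hzT⟩ := by
    refine hLF L Y hcent hL _ hzY ?_
    intro g hg
    have hg' := Subgroup.mem_normalizer_iff.1 hg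
    have hin : ∀ x : wOf W T, g * ι ⟨x, hQT x.2⟩ * g⁻¹ ∈ ((wOf W T).subgroupOf T).map ι := by
      intro x
      rw [hmap]
      apply (hg' _).1
      rw [← hmap]
      exact ⟨_, x.2, rfl⟩
    have hv : ∀ x : wOf W T, g * ι ⟨x, hQT x.2⟩ * g⁻¹ ∈ ι.range := by
      intro x
      obtain ⟨r, -, hr⟩ := hin x
      exact ⟨r, hr⟩
    obtain ⟨ψ, hψ, hψe⟩ := exists_hom_of_conj hreal hQT g hv
    have hψv : ∀ x : wOf W T, ψ x ∈ wOf W T := by
      intro x
      obtain ⟨r, hr, hre⟩ := hin x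
      obtain ⟨hs, he⟩ := hψe x
      have h1 : (⟨ψ x, hs⟩ : T) = r := hreal.1 (he.trans hre.symm)
      have h2 : ψ x = r := congrArg Subtype.val h1
      rw [h2]
      exact hr
    have hψr : ψ.range = wOf W T := range_eq_of_card hψ hψv le_rfl
    have himg : ((wOf W T).subgroupOf (wOf W T)).map ψ = wOf W T := by
      rw [Subgroup.subgroupOf_self, ← MonoidHom.range_eq_map, hψr]
    have hψN := mem_normalizerHom (F := E) le_rfl (le_normalizerIn hQT) hψ himg
    have h1 := hyp _ ψ hψN hzQ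
    obtain ⟨hs, he⟩ := hψe ⟨z, hzQ⟩
    rw [← he]
    congr 1
    exact Subtype.ext h1
  intro P φ hφ hzP
  obtain ⟨g, hg⟩ := exists_conj_of_mem hreal hφ
  have hs := map_mem_S hφ ⟨z, hzP⟩
  have h1 := hg ⟨z, hzP⟩ hs hzT
  have h2 : ι ⟨φ ⟨z, hzP⟩, hs⟩ = ι ⟨z, hzT⟩ := h1.trans (hcentral g)
  exact congrArg Subtype.val (hreal.1 h2)

/-- The constrained case. -/
theorem fixedBy_of_constrained (hW : IsPFunctor p W)
    (hWZ : ∀ (Q : Type u) [Group Q] [Finite Q], IsPGroup p Q → Subgroup.center Q ≤ W Q)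
    (hLF : LocalFix p X W e) [Finite S] (hS : IsPGroup p S) (hF : F.IsSaturated p) (hfree : F.IsSectionFree p X)
    {Q₀ : Subgroup Ω} (hQ₀ : F.IsNormal Q₀) (hc : F.IsCentric Q₀) {z : Ω} (hz : z ∈ powZ e S)
    (hyp : Hyp F (wOf W S) z) : FixedBy F z := by
  have hFN : F.IsFullyNormalized Q₀ := ⟨hQ₀.1, fun Q' h => by rw [conj_eq_of_isNormal hQ₀ h]⟩
  have hTS : normalizerIn S Q₀ = S :=
    le_antisymm normalizerIn_le (le_inf le_rfl (StronglyClosed.le_normalizer (IsNormal.stronglyClosed hQ₀)))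
  let M := normalizerSystem F Q₀ hQ₀.1
  have hM : F.IsNormalizerSystem Q₀ M := normalizerSystem_isNormalizerSystem F Q₀ hQ₀.1
  obtain ⟨L, _, ι, hG⟩ := exists_model_normalizerSystem hS hF hFN hc hM
  have hfinT : Finite (normalizerIn S Q₀) := finite_of_le normalizerIn_le
  have ew : wOf W (normalizerIn S Q₀) = wOf W S := congrArg _ hTS
  have hsub : ∀ P, M.Hom P ⊆ F.Hom P := fun P φ hφ => by
    rw [hM P] at hφ
    exact hφ.1
  have h1 : FixedBy M z := fixedBy_of_model hW hWZ hLF (isPGroup_of_le hS normalizerIn_le) hG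
    (hfree Q₀ hFN hc M hM L ι hG) (by rw [hTS]; exact hz) (by rw [ew]; exact hyp.mono normalizerIn_le hsub)
  intro P φ hφ hzP
  exact h1 P φ (by rw [hom_eq_of_isNormal hQ₀ hM P]; exact hφ) hzP

/-- `x = z ↔ φ x = z`. -/
def Pres {P : Subgroup Ω} (φ : P →* Ω) (z : Ω) : Prop := ∀ x : P, (x : Ω) = z ↔ φ x = z

/-- A normal subgroup together with its centralizer in `S` is normal in `S`. -/
theorem normalizerIn_sup_centralizer {O : Subgroup Ω} (hO : F.IsNormal O) [Finite S] :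
    normalizerIn S (centralizerIn S O ⊔ O) = S := by
  have hsn := StronglyClosed.le_normalizer (IsNormal.stronglyClosed hO)
  have key : ∀ s ∈ S, centralizerIn S O ⊔ O ≤ (centralizerIn S O ⊔ O).comap (MulAut.conj s).toMonoidHom := by
    intro s hs
    refine sup_le ?_ ?_
    · intro c hc
      refine Subgroup.mem_comap.2 ((le_sup_left : _ ≤ centralizerIn S O ⊔ O) ?_)
      refine ⟨S.mul_mem (S.mul_mem hs hc.1) (S.inv_mem hs), Subgroup.mem_centralizer_iff.2 fun o ho => ?_⟩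
      have hs' := Subgroup.mem_normalizer_iff.1 (hsn hs)
      have h1 : s⁻¹ * o * s ∈ O := by
        rw [hs' (s⁻¹ * o * s)]
        simpa [mul_assoc] using ho
      have h2 := Subgroup.mem_centralizer_iff.1 hc.2 _ h1
      show o * (s * c * s⁻¹) = (s * c * s⁻¹) * o
      calc o * (s * c * s⁻¹) = s * ((s⁻¹ * o * s) * c) * s⁻¹ := by group
        _ = s * (c * (s⁻¹ * o * s)) * s⁻¹ := by rw [h2]
        _ = (s * c * s⁻¹) * o := by group
    · intro o ho
      exact Subgroup.mem_comap.2 ((le_sup_right : _ ≤ centralizerIn S O ⊔ O)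
        ((Subgroup.mem_normalizer_iff.1 (hsn hs) o).1 ho))
  refine le_antisymm normalizerIn_le (le_inf le_rfl fun s hs => Subgroup.mem_normalizer_iff.2 fun h => ?_)
  constructor
  · intro hh
    exact key s hs hh
  · intro hh
    have h1 := key s⁻¹ (S.inv_mem hs) hh
    have h2 : s⁻¹ * (s * h * s⁻¹) * s⁻¹⁻¹ ∈ centralizerIn S O ⊔ O := h1
    simpa [mul_assoc] using h2

/-- If all maps of `F` are in `N_F(R)` then `R` is normal. -/
theorem exists_not_mem_normalizerSystem [Finite S] {R : Subgroup Ω} {z : Ω} (hR : R ≤ S) (hzR : z ∈ R) (hzc : z ∉ F.core)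
    {E : FusionSystem (normalizerIn S R)} (hE : F.IsNormalizerSystem R E) : ∃ P, ∃ φ ∈ F.Hom P, φ ∉ E.Hom P := by
  by_contra hcon
  push Not at hcon
  have hn : F.IsNormal R := by
    refine ⟨hR, fun P φ hφ => ?_⟩
    have h1 := hcon P φ hφ
    rw [hE P] at h1
    obtain ⟨-, -, -, ψ, hψ, h2, h3⟩ := h1
    exact ⟨ψ, hψ, h2, h3⟩
  exact hzc ((le_sSup hn : R ≤ F.core) hzR)

/-- Transport of fixed elements from `N_F(X₁)` to `N_F(Q)`. -/
theorem transport_fixed [Finite S] {Q X₁ : Subgroup Ω} {E₁ : FusionSystem (normalizerIn S X₁)}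
    (hE₁ : F.IsNormalizerSystem X₁ E₁) (hQS : Q ≤ S) {χ : normalizerIn S Q →* Ω} (hχ : χ ∈ F.Hom (normalizerIn S Q))
    (hχv : ∀ x, χ x ∈ normalizerIn S X₁) (hχm : (Q.subgroupOf (normalizerIn S Q)).map χ = X₁) {z : Ω} (hzQ : z ∈ Q)
    (hχz : χ ⟨z, le_normalizerIn hQS hzQ⟩ = z) (hfix : FixedBy E₁ z) : Hyp F Q z := by
  have hQU : Q ≤ normalizerIn S Q := le_normalizerIn hQS
  have hzX₁ : z ∈ X₁ := by
    rw [← hχm]
    exact ⟨⟨z, hQU hzQ⟩, hzQ, hχz⟩
  intro P β hβ hzP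
  obtain ⟨hβF, hPN, hβv, ψ, hψ, hψ1, hψ2⟩ := hβ
  have hAU : P ⊔ Q ≤ normalizerIn S Q := sup_le hPN hQU
  have hQA : Q ≤ P ⊔ Q := le_sup_right
  have hψv : ∀ x : ↥(P ⊔ Q), ψ x ∈ normalizerIn S Q := fun x =>
    ⟨map_mem_S hψ x, map_mem_normalizer hψ2 x (hAU x.2).2⟩
  let χA : ↥(P ⊔ Q) →* Ω := χ.comp (Subgroup.inclusion hAU)
  have hχAF : χA ∈ F.Hom (P ⊔ Q) := res_mem hχ hAU
  have hχAv : ∀ x, χA x ∈ χA.range := fun x => ⟨x, rfl⟩
  obtain ⟨ξ, hξ, hξr, hξ1, hξ2⟩ := exists_inv hχAF (Q := χA.range) rfl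
  have hξv : ∀ y, ξ y ∈ P ⊔ Q := fun y => hξr.le ⟨y, rfl⟩
  have ha1 := F.comp_mem hξ hψ hξv
  have ha1v : ∀ y, (ψ.comp (ξ.codRestrict (P ⊔ Q) hξv)) y ∈ normalizerIn S Q := fun y => hψv _
  let β' : χA.range →* Ω := χ.comp ((ψ.comp (ξ.codRestrict (P ⊔ Q) hξv)).codRestrict (normalizerIn S Q) ha1v)
  have hβ' : β' ∈ F.Hom χA.range := F.comp_mem ha1 hχ ha1v
  have hβ'e : ∀ (x : ↥(P ⊔ Q)) (hx : χA x ∈ χA.range), β' ⟨χA x, hx⟩ = χ ⟨ψ x, hψv x⟩ := by
    intro x hx
    show χ ⟨ψ ⟨ξ ⟨χA x, hx⟩, _⟩, _⟩ = _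
    have e : (⟨ξ ⟨χA x, hx⟩, hξv _⟩ : ↥(P ⊔ Q)) = x := Subtype.ext (hξ1 x hx)
    simp only [e]
  have hA₁T₂ : χA.range ≤ normalizerIn S X₁ := by
    rintro _ ⟨x, rfl⟩
    exact hχv _
  have hX₁A₁ : X₁ ≤ χA.range := by
    intro y hy
    rw [← hχm] at hy
    obtain ⟨u, hu, rfl⟩ := hy
    exact ⟨⟨u, hQA hu⟩, rfl⟩
  have hψQ : ∀ x : ↥(P ⊔ Q), (x : Ω) ∈ Q → ψ x ∈ Q := fun x hx => hψ2.le ⟨x, hx, rfl⟩
  have hψQ' : ∀ y, y ∈ Q → ∃ x : ↥(P ⊔ Q), (x : Ω) ∈ Q ∧ ψ x = y := fun y hy => by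
    rw [← hψ2] at hy
    obtain ⟨x, hx, rfl⟩ := hy
    exact ⟨x, hx, rfl⟩
  have hχQ : ∀ (x : normalizerIn S Q), (x : Ω) ∈ Q → χ x ∈ X₁ := fun x hx => hχm.le ⟨x, hx, rfl⟩
  have hχQ' : ∀ (x : normalizerIn S Q), χ x ∈ X₁ → (x : Ω) ∈ Q := fun x hx => by
    rw [← hχm] at hx
    obtain ⟨u, hu, hue⟩ := hx
    have h1 : u = x := F.injective_of_mem hχ hue
    rw [h1] at hu
    exact hu
  have hβ'img : (X₁.subgroupOf χA.range).map β' = X₁ := by
    ext y
    rw [mem_map_subgroupOf]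
    constructor
    · rintro ⟨⟨_, x, rfl⟩, hx, rfl⟩
      rw [hβ'e x (hχAv x)]
      refine hχQ _ (hψQ _ ?_)
      exact hχQ' (Subgroup.inclusion hAU x) hx
    · intro hy
      rw [← hχm] at hy
      obtain ⟨u, hu, rfl⟩ := hy
      obtain ⟨x, hx, hxe⟩ := hψQ' u hu
      refine ⟨⟨χA x, hχAv x⟩, hχQ (Subgroup.inclusion hAU x) hx, ?_⟩
      rw [hβ'e x (hχAv x)]
      congr 1
      exact Subtype.ext hxe
  have hβ'E : β' ∈ E₁.Hom χA.range := mem_normalizerSystem hE₁ hX₁A₁ hA₁T₂ hβ' hβ'img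
  have h1 := hfix _ β' hβ'E (hX₁A₁ hzX₁)
  have hzA : z ∈ P ⊔ Q := hQA hzQ
  have hzA' : χA ⟨z, hzA⟩ = z := hχz
  have h2 : β' ⟨χA ⟨z, hzA⟩, hχAv _⟩ = χ ⟨ψ ⟨z, hzA⟩, hψv _⟩ := hβ'e _ _
  have h3 : (⟨χA ⟨z, hzA⟩, hχAv _⟩ : χA.range) = ⟨z, hX₁A₁ hzX₁⟩ := Subtype.ext hzA'
  rw [h3, h1] at h2
  have h4 : χ ⟨ψ ⟨z, hzA⟩, hψv _⟩ = χ ⟨z, hQU hzQ⟩ := h2.symm.trans hχz.symm
  have h5 : ψ ⟨z, hzA⟩ = z := congrArg Subtype.val (F.injective_of_mem hχ h4)
  rw [← hψ1 ⟨z, hzP⟩]
  exact h5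

/-- The inductive step of the theorem. -/
theorem fixedBy_step (hW : IsPFunctor p W)
    (hWZ : ∀ (Q : Type u) [Group Q] [Finite Q], IsPGroup p Q → Subgroup.center Q ≤ W Q)
    (hLF : LocalFix p X W e) [Finite S] (hS : IsPGroup p S) (hF : F.IsSaturated p) (hfree : F.IsSectionFree p X)
    (IH : ∀ (S' : Subgroup Ω) (F' : FusionSystem S'), S' ≤ S → F'.IsSaturated p → F'.IsSectionFree p X →
      (∀ P, F'.Hom P ⊆ F.Hom P) → (∃ P, ∃ φ ∈ F.Hom P, φ ∉ F'.Hom P) →
      ∀ z ∈ powZ e S', Hyp F' (wOf W S') z → FixedBy F' z)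
    {z : Ω} (hz : z ∈ powZ e S) (hyp : Hyp F (wOf W S) z) : FixedBy F z := by
  classical
  have hzC := powZ_le e S hz
  -- the local step
  have hlocal : ∀ {R : Subgroup Ω}, F.IsFullyNormalized R → ∀ {E : FusionSystem (normalizerIn S R)},
      F.IsNormalizerSystem R E → (∃ P, ∃ φ ∈ F.Hom P, φ ∉ E.Hom P) → Hyp F (wOf W (normalizerIn S R)) z → FixedBy E z := by
    intro R hR E hE hst hy
    have hsub : ∀ P, E.Hom P ⊆ F.Hom P := fun P φ hφ => by
      rw [hE P] at hφ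
      exact hφ.1
    refine IH _ E normalizerIn_le (Cfsg.Agent.Lib.Fusion.KNormalizer.isSaturated_normalizerSystem hS hF hR hE)
      (isSectionFree_normalizerSystem hS hF hfree hR hE) hsub hst z
      (powZ_mono e normalizerIn_le (center_le_normalizerIn hR.1) hz) (hy.mono normalizerIn_le hsub)
  by_cases hzcore : z ∈ F.core
  · -- `z ∈ O_p(F)`
    have hO := isNormal_core F
    by_cases hcen : centralizerIn S F.core ≤ F.core
    · exact fixedBy_of_constrained hW hWZ hLF hS hF hfree hO (isCentric_of_isNormal hO hcen) hz hyp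
    set O := F.core with hOdef
    set Y := centralizerIn S O ⊔ O with hYdef
    have hYS : Y ≤ S := sup_le centralizerIn_le hO.1
    have hOY : O ≤ Y := le_sup_right
    have hNY : normalizerIn S Y = S := normalizerIn_sup_centralizer hO
    have hYFN : F.IsFullyNormalized Y := ⟨hYS, fun Q _ => by
      rw [hNY]
      exact card_le_S normalizerIn_le⟩
    let N₀ := normalizerSystem F Y hYS
    have hN₀ : F.IsNormalizerSystem Y N₀ := normalizerSystem_isNormalizerSystem F Y hYS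
    have hst : ∃ P, ∃ φ ∈ F.Hom P, φ ∉ N₀.Hom P := by
      by_contra hcon
      push Not at hcon
      have hn : F.IsNormal Y := by
        refine ⟨hYS, fun P φ hφ => ?_⟩
        have h1 := hcon P φ hφ
        rw [hN₀ P] at h1
        obtain ⟨-, -, -, ψ, hψ, h2, h3⟩ := h1
        exact ⟨ψ, hψ, h2, h3⟩
      exact hcen ((le_sSup hn : Y ≤ F.core).trans' le_sup_left)
    have hy : Hyp F (wOf W (normalizerIn S Y)) z := by
      have ew : wOf W (normalizerIn S Y) = wOf W S := congrArg _ hNY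
      rw [ew]
      exact hyp
    have hfix := hlocal hYFN hN₀ hst hy
    intro P φ hφ hzP
    obtain ⟨ψ, hψ, hψ1, hψ2⟩ := hO.2 P φ hφ
    have hPO : O ≤ P ⊔ O := le_sup_right
    let a : O →* Ω := ψ.comp (Subgroup.inclusion hPO)
    have ha : a ∈ F.Hom O := res_mem hψ hPO
    have hav : ∀ x : O, a x ∈ O := fun x => hψ2.le ⟨Subgroup.inclusion hPO x, x.2, rfl⟩
    have hfinO : Finite O := finite_of_le hO.1
    have har : a.range = O := range_eq_of_card ha hav le_rfl
    have hOFN : F.IsFullyNormalized O := ⟨hO.1, fun Q' h => by rw [conj_eq_of_isNormal hO h]⟩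
    obtain ⟨b, hb, hbe⟩ := (fullyNormalized_receptive hS hF hOFN).2 O a ha har
    have hYext : Y ≤ extender S O a := by
      have h1 := sup_centralizerIn_le_extender (P := O) (φ := a) hO.1 (fun x => hO.1 (hav x))
      rwa [sup_comm] at h1
    let b' : Y →* Ω := b.comp (Subgroup.inclusion hYext)
    have hb' : b' ∈ F.Hom Y := res_mem hb hYext
    have hb'e : ∀ (x : Ω) (hxO : x ∈ O), b' ⟨x, hOY hxO⟩ = a ⟨x, hxO⟩ := fun x hxO =>
      hbe x hxO (hYext (hOY hxO))
    have hb'O : (O.subgroupOf Y).map b' = O := by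
      ext y
      constructor
      · rintro ⟨x, hx, rfl⟩
        have h1 : b' x = a ⟨x, hx⟩ := hb'e x hx
        rw [show (b' : Y →* Ω) x = a ⟨x, hx⟩ from h1]
        exact hav _
      · intro hy
        obtain ⟨x, hx⟩ := har.ge hy
        refine ⟨⟨x, hOY x.2⟩, x.2, ?_⟩
        exact (hb'e x x.2).trans hx
    have hb'v : ∀ x : Y, b' x ∈ Y := by
      intro x
      obtain ⟨c, hc, o, ho, hco⟩ := Cfsg.Agent.Lib.Fusion.GroupSylow.exists_mul_of_mem_sup
        (H := centralizerIn S O) (C := O) (fun c hc => Subgroup.centralizer_le_normalizer _ hc.2) x.2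
      have e1 : x = ⟨c, (le_sup_left : _ ≤ Y) hc⟩ * ⟨o, hOY ho⟩ := Subtype.ext hco
      rw [e1, map_mul]
      refine Y.mul_mem ?_ ?_
      · refine (le_sup_left : _ ≤ Y) ⟨map_mem_S hb' _, ?_⟩
        exact map_mem_centralizer hb'O ⟨c, (le_sup_left : _ ≤ Y) hc⟩ hc.2
      · refine hOY ?_
        rw [← hb'O]
        exact ⟨_, ho, rfl⟩
    have hfinY : Finite Y := finite_of_le hYS
    have hb'r : b'.range = Y := range_eq_of_card hb' hb'v le_rfl
    have hb'N : b' ∈ N₀.Hom Y := by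
      refine mem_normalizerSystem hN₀ le_rfl (le_normalizerIn hYS) hb' ?_
      rw [Subgroup.subgroupOf_self, ← MonoidHom.range_eq_map, hb'r]
    have h1 := hfix Y b' hb'N (hOY hzcore)
    rw [hb'e z hzcore] at h1
    rw [← hψ1 ⟨z, hzP⟩]
    exact h1
  -- `z ∉ O_p(F)`: the chain
  suffices H : ∀ (k n : ℕ), n + k = Nat.card S + 1 → ∀ (P : Subgroup Ω) (φ : P →* Ω), φ ∈ F.Hom P →
      n ≤ Nat.card P → Pres φ z by
    intro P φ hφ hzP
    exact (H (Nat.card S + 1) 0 (by omega) P φ hφ (Nat.zero_le _) ⟨z, hzP⟩).1 rfl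
  intro k
  induction k with
  | zero =>
    intro n hn P φ hφ hc
    have := card_le_S (source_le hφ)
    omega
  | succ k ih =>
    intro n hn
    have good1 := ih (n + 1) (by omega)
    have good1' : ∀ (P : Subgroup Ω) (φ : P →* Ω), φ ∈ F.Hom P → n + 1 ≤ Nat.card P → ∀ hz : z ∈ P, φ ⟨z, hz⟩ = z :=
      fun P φ hφ hc hz => (good1 P φ hφ hc ⟨z, hz⟩).1 rfl
    -- the claim
    have claimD : ∀ (m : ℕ) (T : Subgroup Ω), Nat.card S - Nat.card T = m → T ≤ S →
        S ⊓ Subgroup.centralizer (S : Set Ω) ≤ T → n < Nat.card T → Hyp F (wOf W T) z := by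
      intro m
      induction m using Nat.strong_induction_on with
      | _ m ihC =>
      intro T hm hTS hZT hnT
      by_cases hTeq : T = S
      · subst hTeq
        exact hyp
      have hTlt : T < S := lt_of_le_of_ne hTS hTeq
      haveI hfinT : Finite T := finite_of_le hTS
      have hTp := isPGroup_of_le hS hTS
      have hzT : z ∈ T ⊓ Subgroup.centralizer (T : Set Ω) :=
        ⟨hZT hzC, Subgroup.centralizer_le (by exact_mod_cast hTS) hzC.2⟩
      have hzQ : z ∈ wOf W T := mem_wOf_of_center hWZ hTp hzT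
      have hQS : wOf W T ≤ S := (wOf_le T).trans hTS
      obtain ⟨X₁, hconj, hX₁⟩ := exists_fullyNormalized (F := F) hQS
      obtain ⟨χ, hχ, hχv, hχm⟩ := exists_map_to_fullyNormalized hS hF hX₁ hconj
      have hTU : T ≤ normalizerIn S (wOf W T) := le_inf hTS (le_normalizer_wOf hW hTp)
      have hNTU : normalizerIn S T ≤ normalizerIn S (wOf W T) := fun g hg =>
        ⟨hg.1, mem_normalizer_wOf hW hTp hg.2⟩
      have hTltU : Nat.card T < Nat.card (normalizerIn S (wOf W T)) :=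
        Cfsg.Agent.Lib.Fusion.AlperinInduct.card_lt_of_lt normalizerIn_le
          (lt_of_lt_of_le (Cfsg.Agent.Lib.Fusion.AlperinInduct.lt_normalizerIn hS hTlt) hNTU)
      have hQU : wOf W T ≤ normalizerIn S (wOf W T) := le_normalizerIn hQS
      have hχz : χ ⟨z, hQU hzQ⟩ = z := good1' _ χ hχ (by omega) _
      have hzX₁ : z ∈ X₁ := by
        rw [← hχm]
        exact ⟨⟨z, hQU hzQ⟩, hzQ, hχz⟩
      have hcardU : Nat.card (normalizerIn S (wOf W T)) ≤ Nat.card (normalizerIn S X₁) :=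
        hX₁.2 _ (Basic.IsConj.symm hconj)
      let E₁ := normalizerSystem F X₁ hX₁.1
      have hE₁ : F.IsNormalizerSystem X₁ E₁ := normalizerSystem_isNormalizerSystem F _ hX₁.1
      have hfix : FixedBy E₁ z := by
        refine hlocal hX₁ hE₁ (exists_not_mem_normalizerSystem hX₁.1 hzX₁ hzcore hE₁) ?_
        have h1 := card_le_S (normalizerIn_le (S := S) (P := X₁))
        exact ihC (Nat.card S - Nat.card (normalizerIn S X₁)) (by omega) _ rfl normalizerIn_le
          (center_le_normalizerIn hX₁.1) (by omega)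
      exact transport_fixed hE₁ hQS hχ hχv hχm hzQ hχz hfix
    -- automorphisms
    have haut : ∀ {P : Subgroup Ω} {α : P →* Ω}, (P = S ∨ F.IsFullyNormalized P) → α ∈ F.Hom P → α.range = P →
        n ≤ Nat.card P → ∀ hz : z ∈ P, α ⟨z, hz⟩ = z := by
      intro P α hcase hα hαr hc hzP
      by_cases hgt : n + 1 ≤ Nat.card P
      · exact good1' P α hα hgt hzP
      have hPn : Nat.card P = n := by omega
      by_cases hPS : P = S
      · subst hPS
        exact hyp _ α (mem_normalizerHom (wOf_le _) (by rw [normalizerIn_wOf hW hS]) hα (map_wOf_self hW hS hα hαr)) hzP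
      rcases hcase with h | hFN
      · exact absurd h hPS
      have hPlt : P < S := lt_of_le_of_ne hFN.1 hPS
      have hPltT := Cfsg.Agent.Lib.Fusion.AlperinInduct.lt_normalizerIn hS hPlt
      let E₀ := normalizerSystem F P hFN.1
      have hE₀ : F.IsNormalizerSystem P E₀ := normalizerSystem_isNormalizerSystem F _ hFN.1
      have hcT := Cfsg.Agent.Lib.Fusion.AlperinInduct.card_lt_of_lt normalizerIn_le hPltT
      have hfix : FixedBy E₀ z := by
        refine hlocal hFN hE₀ (exists_not_mem_normalizerSystem hFN.1 hzP hzcore hE₀) ?_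
        have h1 := card_le_S (normalizerIn_le (S := S) (P := P))
        exact claimD _ _ rfl normalizerIn_le (center_le_normalizerIn hFN.1) (by omega)
      have hαE : α ∈ E₀.Hom P := mem_normalizerSystem hE₀ le_rfl (le_normalizerIn hFN.1) hα (by
        rw [Subgroup.subgroupOf_self, ← MonoidHom.range_eq_map, hαr])
      exact hfix P α hαE hzP
    -- Alperin
    intro P φ hφ hnP
    have hPi : ∀ {P : Subgroup Ω} {φ : P →* Ω}, φ ∈ F.Hom P → (n ≤ Nat.card P → Pres φ z) := by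
      refine Cfsg.Agent.Lib.Fusion.AlperinInduct.alperin_induction hS hF
        (fun P φ => n ≤ Nat.card P → Pres φ z) ?_ ?_ ?_ ?_
      · intro P R φ hφ hPi h hc x
        have : Finite P := finite_of_le (source_le hφ)
        exact hPi (hc.trans (Subgroup.card_le_of_le h)) (Subgroup.inclusion h x)
      · intro P Q φ ψ hφ hψ hφi hψi h hc x
        have hcQ : Nat.card P ≤ Nat.card Q := by
          have : Finite Q := finite_of_le (source_le hψ)
          exact Nat.card_le_card_of_injective (φ.codRestrict Q h) (fun a b hab =>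
            F.injective_of_mem hφ (congrArg Subtype.val hab))
        exact (hφi hc x).trans (hψi (hc.trans hcQ) ⟨φ x, h x⟩)
      · intro P Q φ ψ hφ hψ hr hinv hφi hc y
        have hc' : Nat.card P = Nat.card Q := card_eq_of_range hφ hr
        obtain ⟨x, hx⟩ := hr.ge y.2
        have hxQ : φ x ∈ Q := hx ▸ y.2
        have e2 : y = ⟨φ x, hxQ⟩ := Subtype.ext hx.symm
        rw [e2, hinv]
        exact (hφi (hc'.symm ▸ hc) x).symm
      · intro P φ hcase hφ hφr hc x
        have hcase' : P = S ∨ F.IsFullyNormalized P := hcase.imp id (fun h => h.1)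
        constructor
        · intro hx
          have hzP : z ∈ P := hx ▸ x.2
          have e : x = ⟨z, hzP⟩ := Subtype.ext hx
          rw [e]
          exact haut hcase' hφ hφr hc hzP
        · intro hx
          have hzP : z ∈ P := by
            rw [← hφr]
            exact ⟨x, hx⟩
          obtain ⟨ξ, hξ, hξr, hξ1, -⟩ := exists_inv hφ hφr
          have h1 := haut hcase' hξ hξr hc hzP
          have h2 := hξ1 x (hφr.le ⟨x, rfl⟩)
          have e : (⟨φ x, hφr.le ⟨x, rfl⟩⟩ : P) = ⟨z, hzP⟩ := Subtype.ext hx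
          rw [e, h1] at h2
          exact h2.symm
    exact hPi hφ hnP

/-- **Main theorem**. -/
theorem fixedBy_of_free (hW : IsPFunctor p W)
    (hWZ : ∀ (Q : Type u) [Group Q] [Finite Q], IsPGroup p Q → Subgroup.center Q ≤ W Q)
    (hLF : LocalFix p X W e) [Finite S] (hS : IsPGroup p S) (hF : F.IsSaturated p) (hfree : F.IsSectionFree p X)
    {z : Ω} (hz : z ∈ powZ e S) (hyp : Hyp F (wOf W S) z) : FixedBy F z := by
  suffices H : ∀ (m : ℕ) (S' : Subgroup Ω) [Finite S'] (F' : FusionSystem S'), (mapsOf F').ncard = m →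
      IsPGroup p S' → F'.IsSaturated p → F'.IsSectionFree p X → ∀ z ∈ powZ e S', Hyp F' (wOf W S') z → FixedBy F' z from
    H _ S F rfl hS hF hfree z hz hyp
  intro m
  induction m using Nat.strong_induction_on with
  | _ m ihm =>
  intro S' _ F' hm hS' hF' hfree' z hz hyp
  refine fixedBy_step hW hWZ hLF hS' hF' hfree' ?_ hz hyp
  intro S₂ F₂ hS₂ hsat₂ hfree₂ hsub hstrict z₂ hz₂ hyp₂
  haveI : Finite S₂ := finite_of_le hS₂
  refine ihm _ ?_ S₂ F₂ rfl (isPGroup_of_le hS' hS₂) hsat₂ hfree₂ z₂ hz₂ hyp₂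
  rw [← hm]
  exact ncard_mapsOf_lt hsub hstrict

/-- **Conclusion at the level of centres.** -/
theorem le_center_of_free (hW : IsPFunctor p W)
    (hWZ : ∀ (Q : Type u) [Group Q] [Finite Q], IsPGroup p Q → Subgroup.center Q ≤ W Q)
    (hLF : LocalFix p X W e) [Finite S] (hS : IsPGroup p S) (hF : F.IsSaturated p) (hfree : F.IsSectionFree p X)
    {N : FusionSystem (normalizerIn S (wOf W S))} (hN : F.IsNormalizerSystem (wOf W S) N) :
    powZ e S ⊓ N.center ≤ F.center := by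
  haveI : Finite (normalizerIn S (wOf W S)) := finite_of_le normalizerIn_le
  have hQS : powZ e S ⊓ N.center ≤ S := inf_le_left.trans ((powZ_le e S).trans inf_le_left)
  refine le_sSup (Cfsg.Agent.Lib.Fusion.Normal.isCentral_of_singletons hF hQS ?_)
  rintro x ⟨hx1, hx2⟩ y ⟨φ, hφ, rfl⟩
  refine fixedBy_of_free hW hWZ hLF hS hF hfree hx1 (fun P ψ hψ hz => ?_) _ φ hφ _
  rw [← hN P] at hψ
  exact Cfsg.Agent.Lib.Fusion.SecondCenter.IsCentral.map_eq (isCentral_center N) hψ ⟨x, hz⟩ hx2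

/-- The centre of the system lies in the centre of the normalizer system. -/
theorem center_le_center_normalizer (hW : IsPFunctor p W) [Finite S] (hS : IsPGroup p S) (hF : F.IsSaturated p)
    {N : FusionSystem (normalizerIn S (wOf W S))} (hN : F.IsNormalizerSystem (wOf W S) N) : F.center ≤ N.center := by
  have hSN := normalizerIn_wOf hW hS
  have hfinT : Finite (normalizerIn S (wOf W S)) := finite_of_le normalizerIn_le
  have hFN : F.IsFullyNormalized (wOf W S) := ⟨wOf_le S, fun Q _ => by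
    rw [hSN]
    exact card_le_S normalizerIn_le⟩
  have hsat := Cfsg.Agent.Lib.Fusion.KNormalizer.isSaturated_normalizerSystem hS hF hFN hN
  have hZ := isCentral_center F
  refine le_sSup (Cfsg.Agent.Lib.Fusion.Normal.isCentral_of_singletons hsat (by rw [hSN]; exact hZ.1) ?_)
  rintro x hx y ⟨φ, hφ, rfl⟩
  rw [hN _] at hφ
  exact Cfsg.Agent.Lib.Fusion.Normal.conjElt_eq_of_isCentral hZ hx ⟨φ, hφ.1, rfl⟩

/-- The centre of the normalizer system lies in the centre of `S`. -/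
theorem center_normalizer_le (hW : IsPFunctor p W) [Finite S] (hS : IsPGroup p S)
    {N : FusionSystem (normalizerIn S (wOf W S))} : N.center ≤ S ⊓ Subgroup.centralizer (S : Set Ω) := by
  have hSN := normalizerIn_wOf hW hS
  haveI : Finite (normalizerIn S (wOf W S)) := finite_of_le normalizerIn_le
  intro z hz
  have hZ := isCentral_center N
  have hzS : z ∈ S := normalizerIn_le (hZ.1 hz)
  refine ⟨hzS, Subgroup.mem_centralizer_iff.2 fun s hs => ?_⟩
  have h1 := Cfsg.Agent.Lib.Fusion.SecondCenter.IsCentral.le_center hZ hz (s := s) (by rw [hSN]; exact hs)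
  rw [mul_inv_eq_iff_eq_mul] at h1
  exact h1

theorem powZ_one {Ω : Type*} [Group Ω] (T : Subgroup Ω) : powZ 1 T = T ⊓ Subgroup.centralizer (T : Set Ω) := by
  refine le_antisymm (powZ_le 1 T) fun z hz => Subgroup.subset_closure ⟨z, hz, pow_one z⟩

/-- A group with no finite section: nothing finite involves it. -/
theorem not_involves_int (L : Type*) [Group L] [Finite L] : ¬ Involves (Multiplicative ℤ) L := by
  rintro ⟨K, R, _, ⟨e⟩⟩
  haveI : Finite (K ⧸ R.subgroupOf K) := inferInstance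
  haveI : Finite (Multiplicative ℤ) := Finite.of_equiv _ e.toEquiv
  haveI : Finite ℤ := Finite.of_equiv _ Multiplicative.toAdd
  exact not_finite ℤ

theorem isSectionFree_int (F : FusionSystem S) (p : ℕ) : F.IsSectionFree p (Multiplicative ℤ) :=
  fun _ _ _ _ _ L _ _ hG => haveI := hG.1; not_involves_int L

end Cfsg.Agent.Lib.Fusion.WeakControl
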