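/-
**Thompson's normal `p`-complement theorem for saturated fusion systems** (`p` odd or `S₄`-free): if `C_F(Z(S))` and `N_F(J(S))` are
nilpotent (all automizers `p`-groups), so is `F`.
-/
import Mathlib
import Cfsg.Prelude.Def_FusionComponents
import Cfsg.Agent.Lib.Fusion.GT.Main
import Cfsg.Agent.Lib.Fusion.WeakControl
import Cfsg.Agent.Lib.Fusion.GroupFree
import Cfsg.Agent.Lib.Fusion.QdFreeFactor
import Cfsg.Agent.S2800
import Cfsg.Agent.S5083
import Cfsg.Agent.S5104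

set_option autoImplicit false
set_option linter.style.haveILetI false

namespace Cfsg.Agent.Lib.Fusion.ThompsonF

open Cfsg Cfsg.FusionSystem Cfsg.Agent.Lib.Fusion.Basic Cfsg.Agent.Lib.Fusion.Saturated
  Cfsg.Agent.Lib.Fusion.Saturated2 Cfsg.Agent.Lib.Fusion.ModelLocal Cfsg.Agent.Lib.Fusion.QdFree
  Cfsg.Agent.Lib.Fusion.GT.Local Cfsg.Agent.Lib.Fusion.GT.Constrained
  Cfsg.Agent.Lib.Fusion.GT.Quotient Cfsg.Agent.Lib.Fusion.GT.Main
  Cfsg.Agent.Lib.Fusion.GFunctor Cfsg.Agent.Lib.Fusion.WeakControl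
  Cfsg.Agent.Lib.Fusion.Image Cfsg.Agent.Lib.Fusion.FactorMorphism Cfsg.Agent.Lib.Fusion.Factor
  Cfsg.Agent.Lib.Fusion.LocalSystems Cfsg.Agent.Lib.Fusion.QdFreeFactor

universe u

variable {Ω : Type u} [Group Ω] {S : Subgroup Ω} {F : FusionSystem S} {p : ℕ}

/-- The automorphisms in the system of overgroups of `R` centralizing `R` and fixing `R` are `p`-elements. -/
def LocalC (p : ℕ) (F : FusionSystem S) (R : Subgroup Ω) : Prop :=
  ∀ X : Subgroup Ω, X ≤ S → R ≤ X → X ≤ Subgroup.centralizer (R : Set Ω) → ∀ β ∈ F.autGroup X,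
    (∀ x : X, (x : Ω) ∈ R → ((β x : X) : Ω) = x) → ∃ n : ℕ, β ^ p ^ n = 1

theorem LocalP.localC {R : Subgroup Ω} (h : LocalP p F R) : LocalC p F R := by
  intro X hX hRX hXc β hβ hfix
  refine h X hX hRX (hXc.trans (Subgroup.centralizer_le_normalizer _)) β hβ fun x hx => ?_
  rw [hfix x hx]
  exact hx

theorem LocalC.mono {T : Subgroup Ω} {E : FusionSystem T} {R : Subgroup Ω}
    (hEF : ∀ P, E.Hom P ⊆ F.Hom P) (hTS : T ≤ S) (h : LocalC p F R) : LocalC p E R := by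
  intro X hX hRX hXc β hβ hfix
  refine h X (hX.trans hTS) hRX hXc β ?_ hfix
  have hm := autGroup_mem_hom hX hβ
  exact Cfsg.Agent.Lib.Fusion.Basic.mem_autGroup_iff (hX.trans hTS) |>.2 (hEF _ hm)

/-! ### The functor `J` -/

/-- The Thompson subgroup as a functor. -/
def jW : ∀ (Q : Type u) [Group Q], Subgroup Q := fun Q _ => thompsonSubgroupA Q

theorem jW_isPFunctor [Fact p.Prime] : IsPFunctor.{u} p jW where
  ne_bot := fun Q _ _ hQ hne h => by
    apply Cfsg.Agent.Lib.Fusion.GroupFree.zj_ne_bot Q hQ hne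
    rw [eq_bot_iff]
    exact (inf_le_left.trans_eq h)
  map_eq := fun Q R _ _ _ _ φ => Cfsg.Agent.Lib.Fusion.GroupFree.map_thompson φ

theorem wOf_jW (T : Subgroup Ω) : wOf jW T = thompsonSubgroupAOf T := rfl

/-- The centre of `T`, normalized by the normalizer of `T`. -/
theorem mem_normalizer_center {T : Subgroup Ω} {g : Ω} (hg : g ∈ Subgroup.normalizer (T : Set Ω)) :
    g ∈ Subgroup.normalizer ((T ⊓ Subgroup.centralizer (T : Set Ω) : Subgroup Ω) : Set Ω) := by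
  have key : ∀ g ∈ Subgroup.normalizer (T : Set Ω), ∀ x ∈ T ⊓ Subgroup.centralizer (T : Set Ω),
      g * x * g⁻¹ ∈ T ⊓ Subgroup.centralizer (T : Set Ω) := by
    intro g hg x hx
    refine ⟨(Subgroup.mem_normalizer_iff.1 hg x).1 hx.1, Subgroup.mem_centralizer_iff.2 fun t ht => ?_⟩
    have h1 : g⁻¹ * t * g ∈ T := by
      have := (Subgroup.mem_normalizer_iff.1 ((Subgroup.inv_mem_iff _).2 hg) t).1 ht
      simpa using this
    have h2 := Subgroup.mem_centralizer_iff.1 hx.2 _ h1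
    calc t * (g * x * g⁻¹) = g * ((g⁻¹ * t * g) * x) * g⁻¹ := by group
      _ = g * (x * (g⁻¹ * t * g)) * g⁻¹ := by rw [h2]
      _ = g * x * g⁻¹ * t := by group
  refine Subgroup.mem_normalizer_iff.2 fun x => ⟨key g hg x, fun hx => ?_⟩
  have := key g⁻¹ ((Subgroup.inv_mem_iff _).2 hg) _ hx
  simpa [mul_assoc] using this

theorem center_ne_bot [Fact p.Prime] {T : Subgroup Ω} [Finite T] (hT : IsPGroup p T) (hne : T ≠ ⊥) :
    T ⊓ Subgroup.centralizer (T : Set Ω) ≠ ⊥ := by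
  obtain ⟨z, hz, hz1, hzc⟩ := exists_central_mem' hT le_rfl (fun g hg => Subgroup.le_normalizer hg) hne
  intro h
  have : z ∈ T ⊓ Subgroup.centralizer (T : Set Ω) :=
    ⟨hz, Subgroup.mem_centralizer_iff.2 fun g hg => (hzc g hg)⟩
  rw [h, Subgroup.mem_bot] at this
  exact hz1 this

/-! ### The constrained case -/

section constrained

variable {T : Subgroup Ω} {E : FusionSystem T} {G : Type u} [Group G] {ι : T →* G} [Fact p.Prime]

/-- An element of order prime to `p` normalizing a subgroup and whose action on `Q W` is a `p`-element is trivial. -/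
theorem eq_one_of_coprime_conj [Finite T] [Finite G] (hT : IsPGroup p T) {TG : Sylow p G} (hreal : E.IsRealizedBy ι)
    (hTG : (TG : Subgroup G) = ι.range) (hcent : Subgroup.centralizer ((pCore p G : Subgroup G) : Set G) ≤ pCore p G)
    {Q : Subgroup Ω} (hQ : E.IsNormal Q) (hC : centralizerIn T Q ≤ Q) {W : Subgroup Ω} (hWT : W ≤ T)
    {y : G} (hyc : (orderOf y).Coprime p)
    (hconjW : ∀ w (hw : w ∈ W), ∃ w' ∈ W, ∃ hw' : w' ∈ T, y * ι ⟨w, hWT hw⟩ * y⁻¹ = ι ⟨w', hw'⟩)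
    (hP : ∀ (hXT : Q ⊔ W ≤ T), ∀ β ∈ E.autGroup (Q ⊔ W),
      (∀ x : ↥(Q ⊔ W), ι ⟨(β x : ↥(Q ⊔ W)), hXT (β x).2⟩ = y * ι ⟨x, hXT x.2⟩ * y⁻¹) → ∃ n : ℕ, β ^ p ^ n = 1) : y = 1 := by
  have hQT : Q ≤ T := hQ.1
  have hN : T ≤ Subgroup.normalizer (Q : Set Ω) :=
    Cfsg.Agent.Lib.Fusion.NormalCR.StronglyClosed.le_normalizer
      (Cfsg.Agent.Lib.Fusion.NormalCR.IsNormal.stronglyClosed hQ)
  set V : Subgroup G := (Q.subgroupOf T).map ι with hV
  have hVmem : ∀ q : Q, ι ⟨q, hQT q.2⟩ ∈ V := fun q => ⟨⟨q, hQT q.2⟩, q.2, rfl⟩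
  have hVconj : ∀ (g : G), ∀ v ∈ V, g * v * g⁻¹ ∈ V := by
    rintro g _ ⟨⟨q, hqS⟩, hq, rfl⟩
    obtain ⟨q', hq'⟩ := Cfsg.Agent.Lib.Fusion.ModelUniq.exists_conj_Q hreal hTG hcent hQ hQT hN g
      ⟨q, hq⟩
    rw [show (⟨q, hqS⟩ : T) = ⟨((⟨q, hq⟩ : Q) : Ω), hQT hq⟩ from rfl, hq']
    exact hVmem q'
  have hVc : ∀ g : G, (∀ q : Q, g * ι ⟨q, hQT q.2⟩ * g⁻¹ = ι ⟨q, hQT q.2⟩) → g ∈ V := by
    intro g hg
    obtain ⟨z, rfl⟩ := Cfsg.Agent.Lib.Fusion.ModelUniq.exists_center_of_centralizes hreal hTG hcent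
      hQ hQT hN hC g hg
    exact hVmem z
  have hVp : ∀ v ∈ V, ∃ n : ℕ, v ^ p ^ n = 1 := by
    rintro _ ⟨q, -, rfl⟩
    obtain ⟨n, hn⟩ := hT q
    refine ⟨n, ?_⟩
    rw [← map_pow, hn, map_one]
  set X : Subgroup Ω := Q ⊔ W with hX
  have hXT : X ≤ T := sup_le hQT hWT
  have hWX : W ≤ X := le_sup_right
  have hQX : Q ≤ X := le_sup_left
  have hconjQ : ∀ q (hq : q ∈ Q), ∃ q' ∈ Q, ∃ hq' : q' ∈ T, y * ι ⟨q, hQT hq⟩ * y⁻¹ = ι ⟨q', hq'⟩ := by
    intro q hq
    obtain ⟨⟨q', hq'T⟩, hq', e⟩ := hVconj y _ (hVmem ⟨q, hq⟩)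
    exact ⟨q', hq', hq'T, e.symm⟩
  have hWNQ : W ≤ Subgroup.normalizer (Q : Set Ω) := hWT.trans hN
  have hconjX : ∀ r (hr : r ∈ X), ∃ r' ∈ X, ∃ hr' : r' ∈ T, y * ι ⟨r, hXT hr⟩ * y⁻¹ = ι ⟨r', hr'⟩ := by
    intro r hr
    have hr2 : r ∈ W ⊔ Q := by rwa [sup_comm]
    obtain ⟨w, hw, q, hq, rfl⟩ := Cfsg.Agent.Lib.Fusion.GroupSylow.exists_mul_of_mem_sup hWNQ hr2
    obtain ⟨q', hq', hq'T, e1⟩ := hconjQ q hq
    obtain ⟨w', hw', hw'T, e2⟩ := hconjW w hw
    refine ⟨w' * q', X.mul_mem (hWX hw') (hQX hq'), T.mul_mem hw'T hq'T, ?_⟩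
    have e3 : (⟨w * q, hXT hr⟩ : T) = ⟨w, hWT hw⟩ * ⟨q, hQT hq⟩ := rfl
    have e4 : (⟨w' * q', T.mul_mem hw'T hq'T⟩ : T) = ⟨w', hw'T⟩ * ⟨q', hq'T⟩ := rfl
    rw [e3, e4, map_mul, map_mul, ← e1, ← e2]
    group
  obtain ⟨ψ, hψ, hψv⟩ := Cfsg.Agent.Lib.Fusion.Model.exists_hom_of_conj hreal hXT y (by
    rintro ⟨r, hr⟩
    obtain ⟨r', -, hr'T, e⟩ := hconjX r hr
    show y * ι ⟨r, hXT hr⟩ * y⁻¹ ∈ ι.range
    rw [e]
    exact ⟨_, rfl⟩)
  have hψX : ∀ r : X, ψ r ∈ X := by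
    rintro ⟨r, hr⟩
    obtain ⟨r', hr', hr'T, e⟩ := hconjX r hr
    obtain ⟨hs, hse⟩ := hψv ⟨r, hr⟩
    have : ι ⟨ψ ⟨r, hr⟩, hs⟩ = ι ⟨r', hr'T⟩ := by
      rw [hse]
      exact e
    have h2 := congrArg Subtype.val (hreal.1 this)
    simp only at h2
    rw [h2]
    exact hr'
  have : Finite X := finite_of_le hXT
  set β : MulAut X := autOfHom ψ (E.injective_of_mem hψ) hψX with hβ
  have hβmem : β ∈ E.autGroup X := autOfHom_mem hψ hψX
  have hβι : ∀ x : X, ι ⟨(β x : X), hXT (β x).2⟩ = y * ι ⟨x, hXT x.2⟩ * y⁻¹ := by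
    intro x
    obtain ⟨hs, hse⟩ := hψv x
    rw [← hse]
    rfl
  obtain ⟨n, hn⟩ := hP hXT β hβmem hβι
  have he : β ^ orderOf y = 1 := pow_eq_one_of_conj hreal.1 hXT hβι (pow_orderOf_eq_one y)
  have hβ1 : β = 1 := by
    have hg := pow_gcd_eq_one.2 ⟨he, hn⟩
    have hcop : Nat.gcd (orderOf y) (p ^ n) = 1 := Nat.Coprime.pow_right n hyc
    rwa [hcop, pow_one] at hg
  have hyV : y ∈ V := by
    apply hVc
    intro q
    have h1 := hβι ⟨q, hQX q.2⟩
    rw [hβ1] at h1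
    exact h1.symm
  obtain ⟨m, hm⟩ := hVp y hyV
  have hg := pow_gcd_eq_one.2 ⟨pow_orderOf_eq_one y, hm⟩
  have hcop : Nat.gcd (orderOf y) (p ^ m) = 1 := Nat.Coprime.pow_right m hyc
  rwa [hcop, pow_one] at hg

/-- A model with normal `p`-complement is a `p`-group. -/
theorem nil_of_hnpc [Finite T] [Finite G] (hT : IsPGroup p T) {TG : Sylow p G} (hreal : E.IsRealizedBy ι)
    (hTG : (TG : Subgroup G) = ι.range) (hcent : Subgroup.centralizer ((pCore p G : Subgroup G) : Set G) ≤ pCore p G)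
    {Q : Subgroup Ω} (hQ : E.IsNormal Q) (hC : centralizerIn T Q ≤ Q) (hHNC : HasNormalPComplement p G) : Nil p E := by
  have hQT : Q ≤ T := hQ.1
  have hN : T ≤ Subgroup.normalizer (Q : Set Ω) :=
    Cfsg.Agent.Lib.Fusion.NormalCR.StronglyClosed.le_normalizer
      (Cfsg.Agent.Lib.Fusion.NormalCR.IsNormal.stronglyClosed hQ)
  set V : Subgroup G := (Q.subgroupOf T).map ι with hV
  have hVmem : ∀ q : Q, ι ⟨q, hQT q.2⟩ ∈ V := fun q => ⟨⟨q, hQT q.2⟩, q.2, rfl⟩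
  have hVconj : ∀ (g : G), ∀ v ∈ V, g * v * g⁻¹ ∈ V := by
    rintro g _ ⟨⟨q, hqS⟩, hq, rfl⟩
    obtain ⟨q', hq'⟩ := Cfsg.Agent.Lib.Fusion.ModelUniq.exists_conj_Q hreal hTG hcent hQ hQT hN g
      ⟨q, hq⟩
    rw [show (⟨q, hqS⟩ : T) = ⟨((⟨q, hq⟩ : Q) : Ω), hQT hq⟩ from rfl, hq']
    exact hVmem q'
  have hVc : ∀ g : G, (∀ q : Q, g * ι ⟨q, hQT q.2⟩ * g⁻¹ = ι ⟨q, hQT q.2⟩) → g ∈ V := by
    intro g hg
    obtain ⟨z, rfl⟩ := Cfsg.Agent.Lib.Fusion.ModelUniq.exists_center_of_centralizes hreal hTG hcent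
      hQ hQT hN hC g hg
    exact hVmem z
  have hVp : ∀ v ∈ V, ∃ n : ℕ, v ^ p ^ n = 1 := by
    rintro _ ⟨q, -, rfl⟩
    obtain ⟨n, hn⟩ := hT q
    refine ⟨n, ?_⟩
    rw [← map_pow, hn, map_one]
  obtain ⟨K, hKn, hK1, hK2⟩ := Cfsg.Agent.Lib.Transfer.Basic.hasNormalPComplement_iff.mp hHNC
  have hKpow : ∀ x ∈ K, x ^ Nat.card K = 1 := fun x hx => by
    have := pow_card_eq_one' (x := (⟨x, hx⟩ : K))
    exact congrArg Subtype.val this
  have hKV : ∀ w ∈ K, w ∈ V → w = 1 := by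
    intro w hwK hwV
    obtain ⟨m, hm⟩ := hVp w hwV
    have hg := pow_gcd_eq_one.2 ⟨hKpow w hwK, hm⟩
    have hcop : Nat.gcd (Nat.card K) (p ^ m) = 1 := Nat.Coprime.pow_right m hK1
    rwa [hcop, pow_one] at hg
  have hKbot : K = ⊥ := by
    rw [eq_bot_iff]
    intro x hx
    rw [Subgroup.mem_bot]
    apply hKV x hx
    apply hVc
    intro q
    have h1 : x * ι ⟨q, hQT q.2⟩ * x⁻¹ * (ι ⟨q, hQT q.2⟩)⁻¹ = 1 := by
      apply hKV
      · have h2 : ι ⟨q, hQT q.2⟩ * x⁻¹ * (ι ⟨q, hQT q.2⟩)⁻¹ ∈ K := hKn.conj_mem _ (K.inv_mem hx) _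
        have : x * ι ⟨q, hQT q.2⟩ * x⁻¹ * (ι ⟨q, hQT q.2⟩)⁻¹ =
            x * (ι ⟨q, hQT q.2⟩ * x⁻¹ * (ι ⟨q, hQT q.2⟩)⁻¹) := by group
        rw [this]
        exact K.mul_mem hx h2
      · exact V.mul_mem (hVconj x _ (hVmem q)) (V.inv_mem (hVmem q))
    exact mul_inv_eq_one.1 h1
  have hGp : ∀ g : G, ∃ n : ℕ, g ^ p ^ n = 1 := by
    intro g
    obtain ⟨n, hn⟩ := hK2 (QuotientGroup.mk g)
    refine ⟨n, ?_⟩
    have h1 : ((g ^ p ^ n : G) : G ⧸ K) = 1 := hn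
    rw [QuotientGroup.eq_one_iff, hKbot, Subgroup.mem_bot] at h1
    exact h1
  rintro P hP ⟨β, hβ⟩
  have hm := autGroup_mem_hom hP hβ
  obtain ⟨g, hg⟩ := Cfsg.Agent.Lib.Fusion.Model.exists_conj_of_mem hreal hm
  obtain ⟨n, hn⟩ := hGp g
  refine ⟨n, Subtype.ext ?_⟩
  exact pow_eq_one_of_conj hreal.1 hP (fun x => hg x _ _) hn

/-- **The constrained case**: through a model and the group theorem. -/
theorem nil_of_constrained [Finite T] (hT : IsPGroup p T) (hG : E.IsModel p G ι)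
    (hfree : p ≠ 2 ∨ ¬ Involves (Equiv.Perm (Fin 4)) G) {Q : Subgroup Ω} (hQ : E.IsNormal Q) (hC : centralizerIn T Q ≤ Q)
    (hZ : LocalC p E (T ⊓ Subgroup.centralizer (T : Set Ω))) (hJ : LocalP p E (thompsonSubgroupAOf T)) : Nil p E := by
  classical
  obtain ⟨hfin, hreal, ⟨TG, hTG⟩, hcent⟩ := hG
  haveI := hfin
  have hZT : T ⊓ Subgroup.centralizer (T : Set Ω) ≤ T := inf_le_left
  have hJT : thompsonSubgroupAOf T ≤ T := wOf_le (W := jW) T
  -- the images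
  have hZmap : (TG : Subgroup G) ⊓ Subgroup.centralizer ((TG : Subgroup G) : Set G) =
      ((T ⊓ Subgroup.centralizer (T : Set Ω)).subgroupOf T).map ι := by
    ext y
    constructor
    · rintro ⟨h1, h2⟩
      have h1' : y ∈ ι.range := hTG ▸ h1
      obtain ⟨t, rfl⟩ := h1'
      refine ⟨t, ?_, rfl⟩
      refine Subgroup.mem_subgroupOf.2 ⟨t.2, Subgroup.mem_centralizer_iff.2 fun s hs => ?_⟩
      have h3 := Subgroup.mem_centralizer_iff.1 h2 (ι ⟨s, hs⟩) (by rw [hTG]; exact ⟨_, rfl⟩)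
      rw [← map_mul, ← map_mul] at h3
      exact congrArg Subtype.val (hreal.1 h3)
    · rintro ⟨t, ht, rfl⟩
      have ht' := Subgroup.mem_subgroupOf.1 ht
      refine ⟨by rw [hTG]; exact ⟨_, rfl⟩, Subgroup.mem_centralizer_iff.2 fun s hs => ?_⟩
      have hs' : s ∈ ι.range := hTG ▸ hs
      obtain ⟨s', rfl⟩ := hs'
      rw [← map_mul, ← map_mul]
      congr 1
      apply Subtype.ext
      exact Subgroup.mem_centralizer_iff.1 ht'.2 _ s'.2
  have hJmap : thompsonSubgroupAOf (TG : Subgroup G) = ((thompsonSubgroupAOf T).subgroupOf T).map ι :=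
    (map_wOf_model (jW_isPFunctor (p := p)) hT hreal.1 hTG).symm
  have hTN : T ≤ Subgroup.normalizer (thompsonSubgroupAOf T : Set Ω) := le_normalizer_wOf (W := jW) jW_isPFunctor hT
  -- the normalizer
  have hNp : IsPGroup p (Subgroup.normalizer (thompsonSubgroupAOf (TG : Subgroup G) : Set G)) := by
    refine Cfsg.Agent.Lib.Coprime.Stability.isPGroup_of_forall_coprime Fact.out _ fun y hy hyc => ?_
    rw [hJmap] at hy
    refine eq_one_of_coprime_conj hT hreal hTG hcent hQ hC hJT hyc ?_ ?_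
    · intro w hw
      have h1 : ι ⟨w, hJT hw⟩ ∈ ((thompsonSubgroupAOf T).subgroupOf T).map ι := ⟨⟨w, hJT hw⟩, hw, rfl⟩
      obtain ⟨⟨w', hw'T⟩, hw', e⟩ := (Subgroup.mem_normalizer_iff.1 hy _).1 h1
      exact ⟨w', hw', hw'T, e.symm⟩
    · intro hXT β hβ hβι
      refine hJ _ hXT le_sup_right (hXT.trans hTN) β hβ ?_
      rintro ⟨x, hxX⟩ hxW
      have hxW' : x ∈ thompsonSubgroupAOf T := hxW
      have h1 : ι ⟨x, hJT hxW'⟩ ∈ ((thompsonSubgroupAOf T).subgroupOf T).map ι := ⟨⟨x, hJT hxW'⟩, hxW', rfl⟩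
      obtain ⟨⟨w', hw'T⟩, hw', e⟩ := (Subgroup.mem_normalizer_iff.1 hy _).1 h1
      have h2 : ι ⟨_, hXT (β ⟨x, hxX⟩).2⟩ = ι ⟨w', hw'T⟩ := (hβι ⟨x, hxX⟩).trans e.symm
      have h3 := congrArg Subtype.val (hreal.1 h2)
      simp only at h3
      rw [h3]
      exact hw'
  -- the centralizer
  have hCp : IsPGroup p (Subgroup.centralizer
      (((TG : Subgroup G) ⊓ Subgroup.centralizer ((TG : Subgroup G) : Set G) : Subgroup G) : Set G)) := by
    refine Cfsg.Agent.Lib.Coprime.Stability.isPGroup_of_forall_coprime Fact.out _ fun y hy hyc => ?_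
    rw [hZmap] at hy
    have hfix : ∀ w (hw : w ∈ T ⊓ Subgroup.centralizer (T : Set Ω)), y * ι ⟨w, hZT hw⟩ * y⁻¹ = ι ⟨w, hZT hw⟩ := by
      intro w hw
      have h1 := Subgroup.mem_centralizer_iff.1 hy (ι ⟨w, hZT hw⟩) ⟨⟨w, hZT hw⟩, hw, rfl⟩
      rw [← h1]
      group
    refine eq_one_of_coprime_conj hT hreal hTG hcent hQ hC hZT hyc ?_ ?_
    · intro w hw
      exact ⟨w, hw, hZT hw, hfix w hw⟩
    · intro hXT β hβ hβι
      refine hZ _ hXT le_sup_right ?_ β hβ ?_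
      · intro x hx
        refine Subgroup.mem_centralizer_iff.2 fun z hz => ?_
        exact (Subgroup.mem_centralizer_iff.1 (hz : z ∈ T ⊓ Subgroup.centralizer (T : Set Ω)).2 x (hXT hx)).symm
      · rintro ⟨x, hxX⟩ hxW
        have hxW' : x ∈ T ⊓ Subgroup.centralizer (T : Set Ω) := hxW
        have h2 : ι ⟨_, hXT (β ⟨x, hxX⟩).2⟩ = ι ⟨x, hZT hxW'⟩ := (hβι ⟨x, hxX⟩).trans (hfix x hxW')
        exact congrArg (fun t : T => (t : Ω)) (hreal.1 h2)
  have hHNC : HasNormalPComplement p G := Cfsg.Agent.S2800.result TG hfree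
    (Cfsg.Agent.Lib.Transfer.FunctorComplement.isPGroup_hnpc hCp)
    (Cfsg.Agent.Lib.Transfer.FunctorComplement.isPGroup_hnpc hNp)
  exact nil_of_hnpc hT hreal hTG hcent hQ hC hHNC

end constrained

/-! ### The quotient step -/

section quotient

variable {T : Subgroup Ω} {E : FusionSystem T} [Fact p.Prime]

/-- A normal subgroup with automizer a `p`-group and nilpotent quotient: the system is nilpotent. -/
theorem nil_of_normal_factor [Finite T] (hT : IsPGroup p T) (hsat : E.IsSaturated p) {Q : Subgroup Ω}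
    (hQ : E.IsNormal Q) (hAutQ : IsPGroup p (E.autGroup Q)) [(Q.subgroupOf T).Normal]
    {Ē : FusionSystem (⊤ : Subgroup (↥T ⧸ Q.subgroupOf T))}
    (hĒ : E.IsFactorSystem Q (QuotientGroup.mk' (Q.subgroupOf T)) Ē) (hNilĒ : Nil p Ē) : Nil p E := by
  classical
  have hQT : Q ≤ T := hQ.1
  have hSC : E.StronglyClosed Q := Cfsg.Agent.Lib.Fusion.NormalCR.IsNormal.stronglyClosed hQ
  let Ω₁ : Type u := ↥T ⧸ Q.subgroupOf T
  let θ : T →* Ω₁ := QuotientGroup.mk' (Q.subgroupOf T)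
  have hker : ∀ s : T, θ s = 1 ↔ (s : Ω) ∈ Q := fun s => by
    rw [QuotientGroup.mk'_apply, QuotientGroup.eq_one_iff, Subgroup.mem_subgroupOf]
  have hα := isSurjectiveMorphism_of_isFactorSystem hT hsat hSC hĒ
  -- `Nil E`
  have hX : ∀ X : Subgroup Ω, Q ≤ X → X ≤ T → IsPGroup p (E.autGroup X) := by
    intro X hQX hXT b
    have hfinA : Finite (E.autGroup X) := finite_autGroup hXT
    have : Finite X := finite_of_le hXT
    obtain ⟨a, m, hm, hfac⟩ := Nat.exists_eq_pow_mul_and_not_dvd (orderOf_pos b).ne' p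
      (Fact.out : p.Prime).ne_one
    refine ⟨a, ?_⟩
    have hmp : m.Coprime p := ((Nat.Prime.coprime_iff_not_dvd Fact.out).2 hm).symm
    set g₀ : E.autGroup X := b ^ p ^ a with hg₀
    have hg₀m : g₀ ^ m = 1 := by
      rw [hg₀, ← pow_mul, ← hfac, pow_orderOf_eq_one]
    set g : MulAut X := (g₀ : MulAut X) with hg
    have hgA : g ∈ E.autGroup X := g₀.2
    have hgm : g ^ m = 1 := by
      rw [hg]
      exact_mod_cast congrArg Subtype.val hg₀m
    apply Subtype.ext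
    show (g₀ : MulAut X) = 1
    apply eq_one_of_stable hT hXT hgm hmp
    · -- trivial on `Q`
      have hgQ : ∀ q : Q, (X.subtype.comp g.toMonoidHom).comp (Subgroup.inclusion hQX) q ∈ Q := fun q =>
        Cfsg.Agent.Lib.Fusion.Factor.map_mem_of_stronglyClosed E hSC hQX (autGroup_mem_hom hXT hgA) q.2
      have hψQ : (X.subtype.comp g.toMonoidHom).comp (Subgroup.inclusion hQX) ∈ E.Hom Q :=
        res_mem (autGroup_mem_hom hXT hgA) hQX
      have : Finite Q := finite_of_le hQT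
      have hαA := autOfHom_mem hψQ hgQ
      set α : MulAut Q := autOfHom _ (E.injective_of_mem hψQ) hgQ with hα'
      have hαg : ∀ x : Q, ((g ⟨x, hQX x.2⟩ : X) : Ω) = α x := fun x => rfl
      have hαm : α ^ m = 1 := pow_eq_one_of_res hQX hαg hgm
      obtain ⟨n, hn⟩ := hAutQ ⟨α, hαA⟩
      have hn' : α ^ p ^ n = 1 := congrArg Subtype.val hn
      have h1 := pow_gcd_eq_one.2 ⟨hαm, hn'⟩
      have hcop : Nat.gcd m (p ^ n) = 1 := Nat.Coprime.pow_right n hmp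
      rw [hcop, pow_one] at h1
      intro x hxQ
      have h2 := hαg ⟨x, hxQ⟩
      rw [h1] at h2
      exact h2
    · -- trivial on `X / Q`
      intro x
      have hle : imageAlong θ X ≤ (⊤ : Subgroup Ω₁) := le_top
      have hbar : autMap hα.1 hXT hle g₀ = 1 := by
        have h1 : (autMap hα.1 hXT hle g₀) ^ m = 1 := by
          rw [← map_pow, hg₀m, map_one]
        obtain ⟨n, hn⟩ := hNilĒ (imageAlong θ X) hle (autMap hα.1 hXT hle g₀)
        have h2 := pow_gcd_eq_one.2 ⟨h1, hn⟩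
        have hcop : Nat.gcd m (p ^ n) = 1 := Nat.Coprime.pow_right n hmp
        rwa [hcop, pow_one] at h2
      have h3 := autMap_apply hα.1 hXT hle g₀ x
      rw [hbar] at h3
      have h4 : θ ⟨x, hXT x.2⟩ = θ ⟨(g x : X), hXT (g x).2⟩ := congrArg Subtype.val h3
      have h5 : θ (⟨x, hXT x.2⟩⁻¹ * ⟨(g x : X), hXT (g x).2⟩) = 1 := by
        rw [map_mul, map_inv, ← h4, inv_mul_cancel]
      exact (hker _).1 h5
  rintro P hP ⟨β, hβ⟩
  have hm := autGroup_mem_hom hP hβ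
  obtain ⟨ψ, hψ, hag, himg⟩ := hQ.2 P _ hm
  have hPQT : P ⊔ Q ≤ T := sup_le hP hQT
  have hψX : ∀ x : ↥(P ⊔ Q), ψ x ∈ P ⊔ Q := by
    refine Cfsg.Agent.Lib.Fusion.LocalSystems.map_mem_sup_of_ext _ (fun x => ?_) (fun x => ?_)
    · rw [hag]
      exact (le_sup_left : P ≤ P ⊔ Q) (β x).2
    · exact (le_sup_right : Q ≤ P ⊔ Q) (himg.le ⟨_, x.2, rfl⟩)
  have : Finite ↥(P ⊔ Q) := finite_of_le hPQT
  have hβ₁ := autOfHom_mem hψ hψX
  obtain ⟨n, hn⟩ := hX _ le_sup_right hPQT ⟨_, hβ₁⟩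
  have hn' : autOfHom _ (E.injective_of_mem hψ) hψX ^ p ^ n = 1 := congrArg Subtype.val hn
  refine ⟨n, Subtype.ext ?_⟩
  exact pow_eq_one_of_res (le_sup_left : P ≤ P ⊔ Q) (fun x => hag x) hn'

/-- The quotient `Ē` of `E` by a normal `Q`, together with the morphism. -/
theorem centric_or_nil' [Finite T] (hT : IsPGroup p T) (hsat : E.IsSaturated p) {Q : Subgroup Ω}
    (hQ : E.IsNormal Q)
    (hlocal : ∀ R : Subgroup Ω, Q < R → R ≤ T → T ≤ Subgroup.normalizer (R : Set Ω) → LocalP p E R)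
    (hq : ∀ [(Q.subgroupOf T).Normal] (Ē : FusionSystem (⊤ : Subgroup (↥T ⧸ Q.subgroupOf T))),
      E.IsFactorSystem Q (QuotientGroup.mk' (Q.subgroupOf T)) Ē → Ē.IsSaturated p →
      E.IsSurjectiveMorphism Ē (QuotientGroup.mk' (Q.subgroupOf T)) →
      ¬ centralizerIn T Q ≤ Q → Nil p Ē) :
    centralizerIn T Q ≤ Q ∨ Nil p E := by
  classical
  by_cases hC : centralizerIn T Q ≤ Q
  · exact Or.inl hC
  refine Or.inr ?_
  have hQT : Q ≤ T := hQ.1
  have hSC : E.StronglyClosed Q := Cfsg.Agent.Lib.Fusion.NormalCR.IsNormal.stronglyClosed hQ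
  have hN : T ≤ Subgroup.normalizer (Q : Set Ω) :=
    Cfsg.Agent.Lib.Fusion.NormalCR.StronglyClosed.le_normalizer hSC
  have hQn : (Q.subgroupOf T).Normal := by
    refine ⟨fun x hx g => ?_⟩
    rw [Subgroup.mem_subgroupOf] at hx ⊢
    exact (Subgroup.mem_normalizer_iff.1 (hN g.2) _).1 hx
  -- the factor system
  let Ω₁ : Type u := ↥T ⧸ Q.subgroupOf T
  let θ : T →* Ω₁ := QuotientGroup.mk' (Q.subgroupOf T)
  have hθs : Function.Surjective θ := QuotientGroup.mk'_surjective _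
  have hker : ∀ s : T, θ s = 1 ↔ (s : Ω) ∈ Q := fun s => by
    rw [QuotientGroup.mk'_apply, QuotientGroup.eq_one_iff, Subgroup.mem_subgroupOf]
  have hrange : θ.range = ⊤ := MonoidHom.range_eq_top.2 hθs
  obtain ⟨Ē, hĒ⟩ := exists_isFactorSystem E hSC θ hker hrange
  have hα := isSurjectiveMorphism_of_isFactorSystem hT hsat hSC hĒ
  have hĒsat : Ē.IsSaturated p := isSaturated_image hT hsat hα
  have hNilĒ : Nil p Ē := hq Ē hĒ hĒsat hα hC
  -- `M = Q C_T(Q)` is good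
  set C : Subgroup Ω := centralizerIn T Q with hCdef
  have hCT : C ≤ T := inf_le_left
  set M : Subgroup Ω := Q ⊔ C with hM
  have hMT : M ≤ T := sup_le hQT hCT
  have hQM : Q < M := by
    refine lt_of_le_of_ne le_sup_left ?_
    intro h
    exact hC ((le_sup_right : C ≤ Q ⊔ C).trans_eq h.symm)
  have hMN : T ≤ Subgroup.normalizer (M : Set Ω) := fun t ht =>
    Cfsg.Agent.Lib.Fusion.KNormalizer.mem_normalizer_sup (hN ht) (mem_normalizer_centralizerIn ht (hN ht))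
  have hLM := hlocal M hQM hMT hMN
  -- `Aut_E(Q)` is a `p`-group
  have hAutQ : IsPGroup p (E.autGroup Q) := by
    rintro ⟨α, hαA⟩
    have hm := autGroup_mem_hom hQT hαA
    have hr : (Q.subtype.comp α.toMonoidHom).range = Q := by
      ext y
      constructor
      · rintro ⟨x, rfl⟩
        exact (α x).2
      · intro hy
        exact ⟨α.symm ⟨y, hy⟩, by simp⟩
    have hFN : E.IsFullyNormalized Q := Cfsg.Agent.Lib.Fusion.ModelF.isFullyNormalized_of_le_normalizer hQT hN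
    obtain ⟨ψ, hψ, hag⟩ := (fullyNormalized_receptive hT hsat hFN).2 Q _ hm hr
    have hME : M ≤ extender T Q (Q.subtype.comp α.toMonoidHom) :=
      sup_le (le_extender hQT (map_mem_S hm)) centralizerIn_le_extender
    have hψM : ψ.comp (Subgroup.inclusion hME) ∈ E.Hom M := res_mem hψ hME
    have hmapQ : (Q.subgroupOf M).map (ψ.comp (Subgroup.inclusion hME)) = Q :=
      map_subgroupOf_of_agree le_sup_left hr (fun x hQ hK => hag x hQ (hME hK))
    have hagQ : ∀ x : Q, (ψ.comp (Subgroup.inclusion hME)) (Subgroup.inclusion le_sup_left x) = α x :=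
      fun x => hag x x.2 _
    have hψMM : ∀ x : M, (ψ.comp (Subgroup.inclusion hME)) x ∈ M := by
      refine Cfsg.Agent.Lib.Fusion.LocalSystems.map_mem_sup_of_ext _ (fun x => ?_) (fun x => ?_)
      · rw [hagQ]
        exact (le_sup_left : Q ≤ M) (α x).2
      · have h1 := Cfsg.Agent.Lib.Fusion.Saturated.map_mem_centralizer hmapQ
          (Subgroup.inclusion le_sup_right x) x.2.2
        exact (le_sup_right : C ≤ M) ⟨map_mem_S hψM _, h1⟩
    have : Finite M := finite_of_le hMT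
    have hβ := autOfHom_mem hψM hψMM
    obtain ⟨n, hn⟩ := LocalP.isPGroup hLM hMT ⟨_, hβ⟩
    have hn' : autOfHom _ (E.injective_of_mem hψM) hψMM ^ p ^ n = 1 := congrArg Subtype.val hn
    refine ⟨n, Subtype.ext ?_⟩
    exact pow_eq_one_of_res (le_sup_left : Q ≤ M) hagQ hn'
  exact nil_of_normal_factor hT hsat hQ hAutQ hĒ hNilĒ

/-- The statement to be proved, for all `p`-groups of order below `n`. -/
def ThAt (p n : ℕ) : Prop :=
  ∀ (Ω : Type u) [Group Ω] (S : Subgroup Ω) [Finite S] (F : FusionSystem S), IsPGroup p S → F.IsSaturated p →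
    (p ≠ 2 ∨ F.IsSectionFree p (Equiv.Perm (Fin 4))) → Nat.card S < n →
    LocalC p F (S ⊓ Subgroup.centralizer (S : Set Ω)) → LocalP p F (thompsonSubgroupAOf S) → Nil p F

/-- The quotient step with the induction hypothesis. -/
theorem centric_or_nil_th [Finite T] (hT : IsPGroup p T) (hsat : E.IsSaturated p) {Q : Subgroup Ω}
    (hQ : E.IsNormal Q) (hne : Q ≠ ⊥) (hp : p ≠ 2 ∨ E.IsSectionFree p (Equiv.Perm (Fin 4)))
    (IH : ThAt.{u} p (Nat.card T))
    (hlocal : ∀ R : Subgroup Ω, Q < R → R ≤ T → T ≤ Subgroup.normalizer (R : Set Ω) → LocalP p E R) :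
    centralizerIn T Q ≤ Q ∨ Nil p E := by
  refine centric_or_nil' hT hsat hQ hlocal ?_
  intro hQn Ē hĒ hĒsat hα hC
  have hQT : Q ≤ T := hQ.1
  let Ω₁ : Type u := ↥T ⧸ Q.subgroupOf T
  let θ : T →* Ω₁ := QuotientGroup.mk' (Q.subgroupOf T)
  have hθs : Function.Surjective θ := QuotientGroup.mk'_surjective _
  have hker : ∀ s : T, θ s = 1 ↔ (s : Ω) ∈ Q := fun s => by
    rw [QuotientGroup.mk'_apply, QuotientGroup.eq_one_iff, Subgroup.mem_subgroupOf]
  have hfin₁ : Finite Ω₁ := inferInstanceAs (Finite (↥T ⧸ Q.subgroupOf T))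
  have hfinS : Finite (⊤ : Subgroup Ω₁) := inferInstance
  have hpΩ₁ : IsPGroup p Ω₁ := IsPGroup.of_surjective hT θ hθs
  have hpTop : IsPGroup p (⊤ : Subgroup Ω₁) := hpΩ₁.to_subgroup ⊤
  have hcard : Nat.card (⊤ : Subgroup Ω₁) < Nat.card T := by
    rw [Subgroup.card_top]
    have h1 : Nat.card T = Nat.card Ω₁ * Nat.card (Q.subgroupOf T) :=
      Subgroup.card_eq_card_quotient_mul_card_subgroup _
    have h2 : 1 < Nat.card (Q.subgroupOf T) := by
      have : Nontrivial (Q.subgroupOf T) := by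
        obtain ⟨⟨x, hx⟩, hx1⟩ := Subgroup.ne_bot_iff_exists_ne_one.mp hne
        refine ⟨⟨⟨⟨x, hQT hx⟩, hx⟩, 1, fun h => hx1 ?_⟩⟩
        apply Subtype.ext
        exact congrArg (fun y : Q.subgroupOf T => ((y : T) : Ω)) h
      have : Finite (Q.subgroupOf T) := inferInstance
      exact Finite.one_lt_card
    have h3 : 0 < Nat.card Ω₁ := Nat.card_pos
    rw [h1]
    nlinarith
  obtain ⟨c, hcT, hcQ⟩ := Set.not_subset.1 hC
  have hΩ₁ne : (⊤ : Subgroup Ω₁) ≠ ⊥ := by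
    intro h
    have h1 : θ ⟨c, hcT.1⟩ ∈ (⊤ : Subgroup Ω₁) := trivial
    rw [h, Subgroup.mem_bot] at h1
    exact hcQ ((hker _).1 h1)
  have key : ∀ W' : Subgroup Ω₁, W' ≠ ⊥ → (∀ t : T, θ t ∈ Subgroup.normalizer (W' : Set Ω₁)) → LocalP p Ē W' := by
    intro W' hWne hWn
    refine localP_of_surjective hα _ hWn (hlocal _ ?_ (preimage_le θ _) fun t ht =>
      mem_normalizer_preimage (s := ⟨t, ht⟩) (hWn _))
    refine lt_of_le_of_ne (le_preimage hQT hker _) ?_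
    intro h
    apply hWne
    rw [eq_bot_iff]
    intro w hw
    obtain ⟨s, rfl⟩ := hθs w
    have hs : (s : Ω) ∈ preimageAlong θ W' := mem_preimage.2 ⟨s.2, hw⟩
    rw [← h] at hs
    rw [Subgroup.mem_bot]
    exact (hker s).2 hs
  have htopN : ∀ x : Ω₁, x ∈ Subgroup.normalizer ((⊤ : Subgroup Ω₁) : Set Ω₁) := fun x => by
    rw [Subgroup.mem_normalizer_iff]
    intro y
    simp
  refine IH Ω₁ ⊤ Ē hpTop hĒsat (hp.imp id fun h => isSectionFree_factor hT hsat hQ h hĒ) hcard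
    (LocalP.localC (key _ (center_ne_bot hpTop hΩ₁ne) fun t => mem_normalizer_center (htopN _)))
    (key _ (wOf_ne_bot (W := jW) jW_isPFunctor hpTop hΩ₁ne) fun t =>
      mem_normalizer_wOf (W := jW) jW_isPFunctor hpTop (htopN _))

end quotient

variable [Fact p.Prime]

/-- One step of the induction. -/
theorem th_step [Finite S] (hS : IsPGroup p S) (hF : F.IsSaturated p)
    (hp : p ≠ 2 ∨ F.IsSectionFree p (Equiv.Perm (Fin 4))) (IH : ThAt.{u} p (Nat.card S))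
    (hZ : LocalC p F (S ⊓ Subgroup.centralizer (S : Set Ω))) (hJ : LocalP p F (thompsonSubgroupAOf S)) : Nil p F := by
  classical
  by_contra hnil
  have hne : (QQ p F).Nonempty := by
    unfold Nil at hnil
    push Not at hnil
    obtain ⟨P, hP, hnp⟩ := hnil
    have hPne : P ≠ ⊥ := by
      rintro rfl
      exact hnp (isPGroup_autGroup_bot F)
    obtain ⟨R', hR', -⟩ := exists_QQ_of_bad hS hF hP hPne (fun h => hnp (LocalP.isPGroup h hP))
    exact ⟨R', hR'⟩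
  obtain ⟨R₀, hR₀⟩ := hne
  obtain ⟨Q, hQ𝒬, -, hstar⟩ := exists_good_Q hS hF hR₀
  obtain ⟨hQne, hQFN, hQbad⟩ := id hQ𝒬
  have hQS : Q ≤ S := hQFN.1
  set T : Subgroup Ω := normalizerIn S Q with hTdef
  let E : FusionSystem T := normalizerSystem F Q hQS
  have hE : F.IsNormalizerSystem Q E := normalizerSystem_isNormalizerSystem F Q hQS
  have hEF : ∀ P, E.Hom P ⊆ F.Hom P := fun P φ hφ => by
    rw [hE P] at hφ
    exact hφ.1
  have hTS : T ≤ S := normalizerIn_le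
  have : Finite T := finite_of_le hTS
  have hTp : IsPGroup p T := hS.to_le hTS
  have hEsat : E.IsSaturated p := Cfsg.Agent.Lib.Fusion.KNormalizer.isSaturated_normalizerSystem hS hF hQFN hE
  have hEnil : ¬ Nil p E := fun h => hQbad (localP_of_nil_normalizer hE h)
  have hEp : p ≠ 2 ∨ E.IsSectionFree p (Equiv.Perm (Fin 4)) :=
    hp.imp id fun h => isSectionFree_normalizerSystem hS hF h hQFN hE
  have hQT : Q ≤ T := le_normalizerIn hQS
  have hTne : T ≠ ⊥ := fun h => hQne (le_bot_iff.1 (h ▸ hQT))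
  -- Step 1: `Q` is normal in `S`
  have hTeq : T = S := by
    by_contra hne
    have hlt : T < S := lt_of_le_of_ne hTS hne
    apply hEnil
    have hNT : T < normalizerIn S T := Cfsg.Agent.Lib.Fusion.AlperinInduct.lt_normalizerIn hS hlt
    have hfinNT : Finite (normalizerIn S T) := finite_of_le normalizerIn_le
    have hcN : Nat.card T < Nat.card (normalizerIn S T) :=
      Cfsg.Agent.Lib.Fusion.AlperinInduct.card_lt_of_lt normalizerIn_le hNT
    have hZT : T ⊓ Subgroup.centralizer (T : Set Ω) ≤ S := inf_le_left.trans hTS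
    have hJT : thompsonSubgroupAOf T ≤ S := (wOf_le (W := jW) T).trans hTS
    have h1 : mu S Q < mu S (T ⊓ Subgroup.centralizer (T : Set Ω)) := by
      apply mu_lt_of_card_lt hQS
      have hfin : Finite (normalizerIn S (T ⊓ Subgroup.centralizer (T : Set Ω))) := finite_of_le normalizerIn_le
      refine lt_of_lt_of_le hcN (Subgroup.card_le_of_le ?_)
      rintro g ⟨hgS, hgT⟩
      exact ⟨hgS, mem_normalizer_center hgT⟩
    have h2 : mu S Q < mu S (thompsonSubgroupAOf T) := by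
      apply mu_lt_of_card_lt hQS
      have hfin : Finite (normalizerIn S (thompsonSubgroupAOf T)) := finite_of_le normalizerIn_le
      refine lt_of_lt_of_le hcN (Subgroup.card_le_of_le ?_)
      rintro g ⟨hgS, hgT⟩
      exact ⟨hgS, mem_normalizer_wOf (W := jW) jW_isPFunctor hTp hgT⟩
    refine IH _ T E hTp hEsat hEp (Cfsg.Agent.Lib.Fusion.AlperinInduct.card_lt_of_lt le_rfl hlt) ?_ ?_
    · exact LocalP.localC (LocalP.mono hEF hTS (hstar _ hZT (center_ne_bot hTp hTne) h1))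
    · exact LocalP.mono hEF hTS (hstar _ hJT (wOf_ne_bot (W := jW) jW_isPFunctor hTp hTne) h2)
  have hSQ : S ≤ Subgroup.normalizer (Q : Set Ω) := fun g hg => by
    have : g ∈ T := hTeq.ge hg
    exact this.2
  have hEn := isNormal_normalizerSystem hQS hE
  have hcardT : Nat.card T = Nat.card S := by rw [hTeq]
  -- Step 2: `Q` is centric
  have hlocal : ∀ R : Subgroup Ω, Q < R → R ≤ T → T ≤ Subgroup.normalizer (R : Set Ω) → LocalP p E R := by
    intro R hQR hRT hTR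
    refine LocalP.mono hEF hTS (hstar R (hRT.trans hTS) ?_ ?_)
    · rintro rfl
      exact hQne (le_bot_iff.1 hQR.le)
    · have : Finite R := finite_of_le (hRT.trans hTS)
      refine mu_lt_of_card_eq ?_ (Cfsg.Agent.Lib.Fusion.AlperinInduct.card_lt_of_lt (hRT.trans hTS) hQR)
      have h1 : normalizerIn S R = S := inf_eq_left.2 (hTeq ▸ hTR)
      rw [← hTdef, hTeq, h1]
  rcases centric_or_nil_th hTp hEsat hEn hQne hEp (hcardT ▸ IH) hlocal with hC | hC
  swap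
  · exact hEnil hC
  have hCS : centralizerIn S Q ≤ Q := by
    have e : centralizerIn T Q = centralizerIn S Q := by rw [hTeq]
    rwa [e] at hC
  -- Step 3: the constrained case
  have hFC : F.IsFullyCentralized Q := (fullyNormalized_props hS hF hQFN).1
  have hcen : F.IsCentric Q := Cfsg.Agent.S5104.result p hS F hF Q hFC hCS
  obtain ⟨L, _, ι, hG⟩ := exists_model_normalizerSystem hS hF hQFN hcen hE
  have hfreeL : p ≠ 2 ∨ ¬ Involves (Equiv.Perm (Fin 4)) L := hp.imp id fun h => h Q hQFN hcen E hE L ι hG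
  have e1 : T ⊓ Subgroup.centralizer (T : Set Ω) = S ⊓ Subgroup.centralizer (S : Set Ω) := by rw [hTeq]
  have e2 : thompsonSubgroupAOf T = thompsonSubgroupAOf S := by rw [hTeq]
  refine hEnil (nil_of_constrained hTp hG hfreeL hEn hC ?_ ?_)
  · rw [e1]
    exact hZ.mono hEF hTS
  · rw [e2]
    exact LocalP.mono hEF hTS hJ

theorem thAt (n : ℕ) : ThAt.{u} p n := by
  induction n with
  | zero => intro Ω _ S _ F _ _ _ h; omega
  | succ n ih =>
    intro Ω _ S _ F hS hF hp hlt hZ hJ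
    exact th_step hS hF hp (fun Ω' _ S' _ F' h1 h2 h3 h4 => ih Ω' S' F' h1 h2 h3 (by omega)) hZ hJ

/-- **Thompson's theorem for saturated fusion systems.** -/
theorem nil_of_local [Finite S] (hS : IsPGroup p S) (hF : F.IsSaturated p)
    (hp : p ≠ 2 ∨ F.IsSectionFree p (Equiv.Perm (Fin 4)))
    (hZ : LocalC p F (S ⊓ Subgroup.centralizer (S : Set Ω))) (hJ : LocalP p F (thompsonSubgroupAOf S)) : Nil p F :=
  thAt _ Ω S F hS hF hp (Nat.lt_succ_self _) hZ hJ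

/-- If `C_F(R)` is inner then `LocalC F R`. -/
theorem localC_of_inner [Finite S] (hS : IsPGroup p S) {R : Subgroup Ω} (hRS : R ≤ S)
    {C : FusionSystem (centralizerIn S R)} (hC : F.IsCentralizerSystem R C)
    (h : ∀ P, C.Hom P = (innerFusionSystem (centralizerIn S R)).Hom P) : LocalC p F R := by
  intro X hXS hRX hXc β hβ hfix
  have hm := autGroup_mem_hom hXS hβ
  have hmC : X.subtype.comp β.toMonoidHom ∈ C.Hom X := by
    rw [hC X]
    refine ⟨hm, fun x hx => ⟨hXS hx, hXc hx⟩, fun x => ⟨hXS (β x).2, hXc (β x).2⟩, ?_⟩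
    obtain ⟨ψ, hψ, hψe⟩ := Cfsg.Agent.Lib.Fusion.Joins.exists_hom_of_eq F (sup_eq_left.2 hRX).symm _ hm
    refine ⟨ψ, hψ, fun x => hψe x x.2 _, fun x => ?_⟩
    have h1 := hψe (x : Ω) (hRX x.2) ((le_sup_right : R ≤ X ⊔ R) x.2)
    refine Eq.trans h1 ?_
    exact hfix ⟨x, hRX x.2⟩ x.2
  rw [h] at hmC
  obtain ⟨-, g, hg, hgφ⟩ := hmC
  have hβ' : β ∈ autInducedBy (centralizerIn S R) X := mem_autInducedBy_iff.2 ⟨g, hg, hgφ⟩
  obtain ⟨n, hn⟩ := isPGroup_autInducedBy (hS.to_le centralizerIn_le) X ⟨β, hβ'⟩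
  exact ⟨n, congrArg Subtype.val hn⟩

end Cfsg.Agent.Lib.Fusion.ThompsonF
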