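/-
A saturated system (`p` odd or `S₄`-free) with `Aut_F(Q)` a `p`-group for all nontrivial characteristic `Q ≤ S` is nilpotent.
-/
import Mathlib
import Cfsg.Agent.Lib.Fusion.ThompsonF

set_option autoImplicit false
set_option linter.style.haveILetI false

namespace Cfsg.Agent.Lib.Fusion.CharAut

open Cfsg Cfsg.FusionSystem Cfsg.Agent.Lib.Fusion.Basic Cfsg.Agent.Lib.Fusion.Saturated
  Cfsg.Agent.Lib.Fusion.Saturated2 Cfsg.Agent.Lib.Fusion.ModelLocal Cfsg.Agent.Lib.Fusion.QdFree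
  Cfsg.Agent.Lib.Fusion.GT.Local Cfsg.Agent.Lib.Fusion.GT.Constrained
  Cfsg.Agent.Lib.Fusion.GT.Quotient Cfsg.Agent.Lib.Fusion.GT.Main
  Cfsg.Agent.Lib.Fusion.GFunctor Cfsg.Agent.Lib.Fusion.WeakControl
  Cfsg.Agent.Lib.Fusion.Image Cfsg.Agent.Lib.Fusion.FactorMorphism Cfsg.Agent.Lib.Fusion.Factor
  Cfsg.Agent.Lib.Fusion.LocalSystems Cfsg.Agent.Lib.Fusion.QdFreeFactor Cfsg.Agent.Lib.Fusion.ThompsonF
  Cfsg.Agent.Lib.Fusion.GlaubermanMain

universe u

variable {Ω : Type u} [Group Ω] {S : Subgroup Ω} {F : FusionSystem S} {p : ℕ} [Fact p.Prime]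

/-- **Lemma A**: a subgroup containing its centralizer in `S`, with `p`-group automizer. -/
theorem localP_of_centric [Finite S] (hS : IsPGroup p S) {D : Subgroup Ω} (hC : centralizerIn S D ≤ D)
    (hAut : IsPGroup p (F.autGroup D)) : LocalP p F D := by
  classical
  intro X hXS hDX hXN β hβ hinv
  have hfinA : Finite (F.autGroup X) := finite_autGroup hXS
  have hfinX : Finite X := finite_of_le hXS
  let b : F.autGroup X := ⟨β, hβ⟩
  obtain ⟨a, m, hm, hfac⟩ := Nat.exists_eq_pow_mul_and_not_dvd (orderOf_pos b).ne' p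
    (Fact.out : p.Prime).ne_one
  refine ⟨a, ?_⟩
  have hmp : m.Coprime p := ((Nat.Prime.coprime_iff_not_dvd Fact.out).2 hm).symm
  have hg₀m : (b ^ p ^ a) ^ m = 1 := by
    rw [← pow_mul, ← hfac, pow_orderOf_eq_one]
  obtain ⟨g, hgdef⟩ : ∃ g : MulAut X, g = β ^ p ^ a := ⟨_, rfl⟩
  have hgA : g ∈ F.autGroup X := by
    rw [hgdef]
    exact pow_mem hβ _
  have hgm : g ^ m = 1 := by
    rw [hgdef]
    exact congrArg Subtype.val hg₀m
  have hginv : ∀ (j : ℕ) (x : X), (x : Ω) ∈ D → (((β ^ j) x : X) : Ω) ∈ D := by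
    intro j
    induction j with
    | zero => intro x hx; simpa using hx
    | succ j ih =>
      intro x hx
      rw [pow_succ]
      exact ih (β x) (hinv x hx)
  have hgD : ∀ x : X, (x : Ω) ∈ D → ((g x : X) : Ω) ∈ D := fun x hx => by
    rw [hgdef]
    exact hginv _ x hx
  have hfix : ∀ x : X, (x : Ω) ∈ D → ((g x : X) : Ω) = x := by
    have hgQ : ∀ q : D, (X.subtype.comp g.toMonoidHom).comp (Subgroup.inclusion hDX) q ∈ D := fun q =>
      hgD (Subgroup.inclusion hDX q) q.2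
    have hψQ : (X.subtype.comp g.toMonoidHom).comp (Subgroup.inclusion hDX) ∈ F.Hom D :=
      res_mem (autGroup_mem_hom hXS hgA) hDX
    have hfinD : Finite D := finite_of_le (hDX.trans hXS)
    have hαA := autOfHom_mem hψQ hgQ
    set α : MulAut D := autOfHom _ (F.injective_of_mem hψQ) hgQ with hα'
    have hαg : ∀ x : D, ((g ⟨x, hDX x.2⟩ : X) : Ω) = α x := fun x => rfl
    have hαm : α ^ m = 1 := pow_eq_one_of_res hDX hαg hgm
    obtain ⟨n, hn⟩ := hAut ⟨α, hαA⟩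
    have hn' : α ^ p ^ n = 1 := congrArg Subtype.val hn
    have h1 := pow_gcd_eq_one.2 ⟨hαm, hn'⟩
    have hcop : Nat.gcd m (p ^ n) = 1 := Nat.Coprime.pow_right n hmp
    rw [hcop, pow_one] at h1
    intro x hxD
    have h2 := hαg ⟨x, hxD⟩
    rw [h1] at h2
    exact h2
  have hstab : ∀ x : X, (x : Ω)⁻¹ * ((g x : X) : Ω) ∈ D := by
    intro x
    apply hC
    refine ⟨S.mul_mem (S.inv_mem (hXS x.2)) (hXS (g x).2), Subgroup.mem_centralizer_iff.2 fun j hj => ?_⟩
    have hjX : j ∈ X := hDX hj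
    have hy : (x : Ω) * j * (x : Ω)⁻¹ ∈ D := (Subgroup.mem_normalizer_iff.1 (hXN x.2) j).1 hj
    have h1 := hfix (x * ⟨j, hjX⟩ * x⁻¹) hy
    have h2 := hfix ⟨j, hjX⟩ hj
    rw [map_mul, map_mul, map_inv] at h1
    have h3 : ((g x : X) : Ω) * ((g ⟨j, hjX⟩ : X) : Ω) * ((g x : X) : Ω)⁻¹ = (x : Ω) * j * (x : Ω)⁻¹ := h1
    rw [h2] at h3
    have h4 : j * ((x : Ω)⁻¹ * ((g x : X) : Ω)) = ((x : Ω)⁻¹ * ((g x : X) : Ω)) * j := by
      have : (x : Ω) * (j * ((x : Ω)⁻¹ * ((g x : X) : Ω))) = ((g x : X) : Ω) * j := by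
        have h5 : (x : Ω) * j * (x : Ω)⁻¹ * ((g x : X) : Ω) = ((g x : X) : Ω) * j := by
          rw [← h3]
          group
        rw [← h5]
        group
      apply mul_left_cancel (a := (x : Ω))
      rw [this]
      group
    exact h4
  have hg1 : g = 1 := eq_one_of_stable hS hXS hgm hmp hfix hstab
  rw [← hgdef, hg1]

/-- Maps of a subsystem: `p`-group automizers. -/
theorem isPGroup_autGroup_mono {T : Subgroup Ω} {E : FusionSystem T} (hEF : ∀ P, E.Hom P ⊆ F.Hom P) (hTS : T ≤ S)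
    {Q : Subgroup Ω} (hQ : Q ≤ T) (h : IsPGroup p (F.autGroup Q)) : IsPGroup p (E.autGroup Q) := by
  rintro ⟨β, hβ⟩
  have hm := autGroup_mem_hom hQ hβ
  have hβ' : β ∈ F.autGroup Q := (mem_autGroup_iff (hQ.trans hTS)).2 (hEF _ hm)
  obtain ⟨n, hn⟩ := h ⟨β, hβ'⟩
  have h3 : β ^ p ^ n = 1 := congrArg Subtype.val hn
  exact ⟨n, Subtype.ext h3⟩

section surj

variable {T : Subgroup Ω} {E : FusionSystem T} {Ω' : Type*} [Group Ω'] {F' : FusionSystem (⊤ : Subgroup Ω')}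

omit [Fact p.Prime] in
/-- Automizers in an image. -/
theorem isPGroup_autGroup_of_surjective [Finite T] {α : T →* Ω'}
    (hα : E.IsSurjectiveMorphism F' α) (X' : Subgroup Ω')
    (hloc : IsPGroup p (E.autGroup (preimageAlong α X'))) : IsPGroup p (F'.autGroup X') := by
  rintro ⟨β', hβ'⟩
  have hm' := autGroup_mem_hom (le_top) hβ'
  set X : Subgroup Ω := preimageAlong α X' with hX
  have hkey : ∃ φ : X →* Ω, φ ∈ E.Hom X ∧ InducedAlong α φ (X'.subtype.comp β'.toMonoidHom) :=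
    hα.2.2 X' le_top _ hm'
  obtain ⟨φ, hφ, hp, hv, hmem, he⟩ := hkey
  have hXT : X ≤ T := preimage_le α X'
  have hφX : ∀ x : X, φ x ∈ X := by
    intro x
    refine mem_preimage.2 ⟨hv x, ?_⟩
    rw [← he x]
    exact (β' _).2
  have : Finite X := finite_of_le hXT
  set β : MulAut X := autOfHom φ (E.injective_of_mem hφ) hφX with hβ
  have hβmem : β ∈ E.autGroup X := autOfHom_mem hφ hφX
  have hβα : ∀ x : X, α ⟨(β x : X), hXT (β x).2⟩ = β' ⟨α ⟨x, hXT x.2⟩, hmem x⟩ := fun x => (he x).symm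
  obtain ⟨n, hn⟩ := hloc ⟨β, hβmem⟩
  have hn' : β ^ p ^ n = 1 := congrArg Subtype.val hn
  refine ⟨n, Subtype.ext ?_⟩
  show β' ^ p ^ n = 1
  -- transport of powers
  have hpow : ∀ (j : ℕ) (x : X), ((β' ^ j) ⟨α ⟨x, hXT x.2⟩, hmem x⟩ : X') =
      α ⟨((β ^ j) x : X), hXT ((β ^ j) x).2⟩ := by
    intro j
    induction j with
    | zero => intro x; simp
    | succ j ih =>
      intro x
      have e1 : (β' ^ (j + 1)) ⟨α ⟨x, hXT x.2⟩, hmem x⟩ =
          (β' ^ j) (β' ⟨α ⟨x, hXT x.2⟩, hmem x⟩) := by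
        rw [pow_succ]
        rfl
      have e2 : β' ⟨α ⟨x, hXT x.2⟩, hmem x⟩ = ⟨α ⟨(β x : X), hXT (β x).2⟩, hmem (β x)⟩ :=
        Subtype.ext (hβα x).symm
      have e3 : (β ^ (j + 1)) x = (β ^ j) (β x) := by
        rw [pow_succ]
        rfl
      rw [e1, e2, e3]
      exact ih (β x)
  ext y
  have hy : (y : Ω') ∈ α.range := by
    rw [hα.2.1]
    trivial
  obtain ⟨s, hs⟩ := hy
  have hsX : (s : Ω) ∈ X := mem_preimage.2 ⟨s.2, by
    show α _ ∈ X'
    have : (⟨(s : Ω), s.2⟩ : T) = s := rfl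
    rw [this, hs]
    exact y.2⟩
  have h1 := hpow (p ^ n) ⟨s, hsX⟩
  rw [hn'] at h1
  have e : (⟨α ⟨((⟨(s : Ω), hsX⟩ : X) : Ω), hXT hsX⟩, hmem ⟨s, hsX⟩⟩ : X') = y :=
    Subtype.ext hs
  rw [e] at h1
  rw [h1]
  exact hs

end surj

/-! ### Characteristic subgroups -/

/-- The centre is characteristic. -/
theorem center_characteristic (S : Subgroup Ω) : ((S ⊓ Subgroup.centralizer (S : Set Ω)).subgroupOf S).Characteristic := by
  have e : (S ⊓ Subgroup.centralizer (S : Set Ω)).subgroupOf S = Subgroup.center S := by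
    ext x
    rw [Subgroup.mem_subgroupOf, Subgroup.mem_center_iff]
    constructor
    · rintro ⟨-, h⟩ g
      exact Subtype.ext (Subgroup.mem_centralizer_iff.1 h _ g.2)
    · intro h
      refine ⟨x.2, Subgroup.mem_centralizer_iff.2 fun g hg => ?_⟩
      exact congrArg Subtype.val (h ⟨g, hg⟩)
  rw [e]
  infer_instance

/-- `J(S)` is characteristic. -/
theorem thompson_characteristic [Finite S] (hS : IsPGroup p S) : ((thompsonSubgroupAOf S).subgroupOf S).Characteristic := by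
  have e : (thompsonSubgroupAOf S).subgroupOf S = thompsonSubgroupA S := subgroupOf_wOf (W := jW) S
  rw [e, Subgroup.characteristic_iff_map_eq]
  intro σ
  exact Cfsg.Agent.Lib.Fusion.GroupFree.map_thompson σ

/-- `C_S(J(S)) ≤ J(S)`. -/
theorem centralizerIn_thompson_le [Finite S] : centralizerIn S (thompsonSubgroupAOf S) ≤ thompsonSubgroupAOf S := by
  classical
  intro x hx
  have hset : ({A : Subgroup S | IsMulCommutative A}).Finite := Set.toFinite _
  have hne' : ({A : Subgroup S | IsMulCommutative A}).Nonempty := by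
    refine ⟨⊥, ⟨⟨?_⟩⟩⟩
    rintro ⟨a, ha⟩ ⟨b, hb⟩
    apply Subtype.ext
    show a * b = b * a
    rw [Subgroup.mem_bot.1 ha, Subgroup.mem_bot.1 hb]
  obtain ⟨A, hA, hmax⟩ := Set.exists_max_image _ (fun A : Subgroup S => Nat.card A) hset hne'
  have hAm : A ∈ maxAbelianSubgroups S := ⟨hA, fun B hB => hmax B hB⟩
  have hAJ : A ≤ thompsonSubgroupA S := le_sSup hAm
  have hxS : x ∈ S := hx.1
  have hcomm : ∀ a ∈ A, (a : S) * ⟨x, hxS⟩ = ⟨x, hxS⟩ * a := by
    intro a ha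
    apply Subtype.ext
    exact Subgroup.mem_centralizer_iff.1 hx.2 _ ⟨a, hAJ ha, rfl⟩
  have hPP : Cfsg.Agent.Lib.PGroup.ZJ.PP 0 (A ⊔ Subgroup.zpowers (⟨x, hxS⟩ : S)) := by
    refine Cfsg.Agent.Lib.PGroup.ZJ.PP_sup_zpowers (Cfsg.Agent.Lib.PGroup.ZJ.PP_zero_iff.2 hA) (pow_zero _) ?_
    intro a ha
    exact (hcomm a ha).symm
  have hle := hmax _ (Cfsg.Agent.Lib.PGroup.ZJ.PP_zero_iff.1 hPP)
  have hEq : A = A ⊔ Subgroup.zpowers (⟨x, hxS⟩ : S) := Subgroup.eq_of_le_of_card_ge le_sup_left hle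
  have hxA : (⟨x, hxS⟩ : S) ∈ A := by
    rw [hEq]
    exact (le_sup_right : _ ≤ A ⊔ Subgroup.zpowers (⟨x, hxS⟩ : S)) (Subgroup.mem_zpowers _)
  exact ⟨⟨x, hxS⟩, hAJ hxA, rfl⟩

/-- Preimages of characteristic subgroups modulo a characteristic subgroup. -/
theorem preimage_characteristic {Z : Subgroup S} [hZn : Z.Normal] [hZc : Z.Characteristic] {Y : Subgroup (S ⧸ Z)}
    (hY : (Y.subgroupOf (⊤ : Subgroup (S ⧸ Z))).Characteristic) :
    ((preimageAlong (QuotientGroup.mk' Z) Y).subgroupOf S).Characteristic := by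
  have e : (preimageAlong (QuotientGroup.mk' Z) Y).subgroupOf S = Y.comap (QuotientGroup.mk' Z) := by
    show ((Y.comap (QuotientGroup.mk' Z)).map S.subtype).subgroupOf S = _
    exact Subgroup.comap_map_eq_self_of_injective S.subtype_injective _
  rw [e, Subgroup.characteristic_iff_comap_eq]
  intro σ
  have hZσ : Z.map σ.toMonoidHom = Z := Subgroup.characteristic_iff_map_eq.1 hZc σ
  let σb : (S ⧸ Z) ≃* (S ⧸ Z) := QuotientGroup.congr Z Z σ hZσ
  let ϕ : (⊤ : Subgroup (S ⧸ Z)) ≃* (⊤ : Subgroup (S ⧸ Z)) :=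
    Subgroup.topEquiv.trans (σb.trans Subgroup.topEquiv.symm)
  have h1 := Subgroup.characteristic_iff_comap_eq.1 hY ϕ
  ext x
  have h2 : (⟨(x : S ⧸ Z), Subgroup.mem_top _⟩ : (⊤ : Subgroup (S ⧸ Z))) ∈ (Y.subgroupOf ⊤).comap ϕ.toMonoidHom ↔
      (⟨(x : S ⧸ Z), Subgroup.mem_top _⟩ : (⊤ : Subgroup (S ⧸ Z))) ∈ Y.subgroupOf ⊤ := by
    rw [h1]
  exact h2

/-- The hypothesis on characteristic subgroups. -/
def CharP (p : ℕ) (F : FusionSystem S) : Prop :=
  ∀ Q : Subgroup Ω, Q ≤ S → Q ≠ ⊥ → (Q.subgroupOf S).Characteristic → IsPGroup p (F.autGroup Q)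

/-- The inductive step. -/
theorem nil_step [Finite S] (hS : IsPGroup p S) (hF : F.IsSaturated p)
    (hp : p ≠ 2 ∨ F.IsSectionFree p (Equiv.Perm (Fin 4))) (h : CharP p F)
    (IH₁ : ∀ (S' : Subgroup Ω) (F' : FusionSystem S'), S' ≤ S → F'.IsSaturated p →
      (p ≠ 2 ∨ F'.IsSectionFree p (Equiv.Perm (Fin 4))) → (∀ P, F'.Hom P ⊆ F.Hom P) →
      (∃ P, ∃ φ ∈ F.Hom P, φ ∉ F'.Hom P) → CharP p F' → Nil p F')
    (IH₂ : ∀ (Ω' : Type u) [Group Ω'] (S' : Subgroup Ω') [Finite S'] (F' : FusionSystem S'), IsPGroup p S' →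
      F'.IsSaturated p → (p ≠ 2 ∨ F'.IsSectionFree p (Equiv.Perm (Fin 4))) → CharP p F' →
      Nat.card S' < Nat.card S → Nil p F') : Nil p F := by
  classical
  by_cases hSbot : S = ⊥
  · intro P hP
    have hP' : P = ⊥ := le_bot_iff.1 (hSbot ▸ hP)
    rw [hP']
    exact isPGroup_autGroup_bot F
  have hZS : S ⊓ Subgroup.centralizer (S : Set Ω) ≤ S := inf_le_left
  have hZne := center_ne_bot hS hSbot
  have hZchar := center_characteristic S
  have hZP := h _ hZS hZne hZchar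
  have hSN : S ≤ Subgroup.normalizer ((S ⊓ Subgroup.centralizer (S : Set Ω) : Subgroup Ω) : Set Ω) := fun g hg =>
    mem_normalizer_center (Subgroup.le_normalizer hg)
  have hNS : normalizerIn S (S ⊓ Subgroup.centralizer (S : Set Ω)) = S := inf_eq_left.2 hSN
  have hFN : F.IsFullyNormalized (S ⊓ Subgroup.centralizer (S : Set Ω)) :=
    Cfsg.Agent.Lib.Fusion.ModelF.isFullyNormalized_of_le_normalizer hZS hSN
  let N := normalizerSystem F (S ⊓ Subgroup.centralizer (S : Set Ω)) hZS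
  have hN : F.IsNormalizerSystem (S ⊓ Subgroup.centralizer (S : Set Ω)) N :=
    normalizerSystem_isNormalizerSystem F _ hZS
  by_cases hall : ∀ (P : Subgroup Ω) (φ : P →* Ω), φ ∈ F.Hom P → φ ∈ N.Hom P
  · -- `Z(S)` is normal
    have hZn : F.IsNormal (S ⊓ Subgroup.centralizer (S : Set Ω)) := by
      refine ⟨hZS, fun P φ hφ => ?_⟩
      have h1 := hall P φ hφ
      rw [hN P] at h1
      obtain ⟨-, -, -, ψ, hψ, h2, h3⟩ := h1
      exact ⟨ψ, hψ, h2, h3⟩
    have hSC := Cfsg.Agent.Lib.Fusion.NormalCR.IsNormal.stronglyClosed hZn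
    set Z := S ⊓ Subgroup.centralizer (S : Set Ω) with hZdef
    haveI hQn : (Z.subgroupOf S).Normal := by
      refine ⟨fun x hx g => ?_⟩
      rw [Subgroup.mem_subgroupOf] at hx ⊢
      exact (Subgroup.mem_normalizer_iff.1 (hSN g.2) _).1 hx
    haveI := hZchar
    let Ω₁ : Type u := ↥S ⧸ Z.subgroupOf S
    let θ : S →* Ω₁ := QuotientGroup.mk' (Z.subgroupOf S)
    have hθs : Function.Surjective θ := QuotientGroup.mk'_surjective _
    have hker : ∀ s : S, θ s = 1 ↔ (s : Ω) ∈ Z := fun s => by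
      rw [QuotientGroup.mk'_apply, QuotientGroup.eq_one_iff, Subgroup.mem_subgroupOf]
    have hrange : θ.range = ⊤ := MonoidHom.range_eq_top.2 hθs
    obtain ⟨Ē, hĒ⟩ := exists_isFactorSystem F hSC θ hker hrange
    have hα := isSurjectiveMorphism_of_isFactorSystem hS hF hSC hĒ
    have hĒsat : Ē.IsSaturated p := isSaturated_image hS hF hα
    have hfin₁ : Finite Ω₁ := inferInstanceAs (Finite (↥S ⧸ Z.subgroupOf S))
    have hfinS : Finite (⊤ : Subgroup Ω₁) := inferInstance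
    have hpΩ₁ : IsPGroup p Ω₁ := IsPGroup.of_surjective hS θ hθs
    have hpTop : IsPGroup p (⊤ : Subgroup Ω₁) := hpΩ₁.to_subgroup ⊤
    have hcard : Nat.card (⊤ : Subgroup Ω₁) < Nat.card S := by
      rw [Subgroup.card_top]
      have h1 : Nat.card S = Nat.card Ω₁ * Nat.card (Z.subgroupOf S) :=
        Subgroup.card_eq_card_quotient_mul_card_subgroup _
      have h2 : 1 < Nat.card (Z.subgroupOf S) := by
        have : Nontrivial (Z.subgroupOf S) := by
          obtain ⟨⟨x, hx⟩, hx1⟩ := Subgroup.ne_bot_iff_exists_ne_one.mp hZne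
          refine ⟨⟨⟨⟨x, hZS hx⟩, hx⟩, 1, fun h => hx1 ?_⟩⟩
          apply Subtype.ext
          exact congrArg (fun y : Z.subgroupOf S => ((y : S) : Ω)) h
        have : Finite (Z.subgroupOf S) := inferInstance
        exact Finite.one_lt_card
      have h3 : 0 < Nat.card Ω₁ := Nat.card_pos
      rw [h1]
      nlinarith
    have hĒnil : Nil p Ē := by
      refine IH₂ Ω₁ ⊤ Ē hpTop hĒsat (hp.imp id fun h => isSectionFree_factor hS hF hZn h hĒ) ?_ hcard
      intro Y _ hYne hYchar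
      refine isPGroup_autGroup_of_surjective hα Y (h _ (preimage_le θ Y) ?_ (preimage_characteristic hYchar))
      intro hbot
      have h1 : Z ≤ preimageAlong θ Y := le_preimage hZS hker Y
      rw [hbot] at h1
      exact hZne (le_bot_iff.1 h1)
    exact nil_of_normal_factor hS hF hZn hZP hĒ hĒnil
  · -- `N_F(Z(S))` is a strict subsystem
    push Not at hall
    obtain ⟨P, φ, hφ, hφn⟩ := hall
    have hsub : ∀ P, N.Hom P ⊆ F.Hom P := fun P φ hφ => by
      rw [hN P] at hφ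
      exact hφ.1
    have hfinT : Finite (normalizerIn S (S ⊓ Subgroup.centralizer (S : Set Ω))) := finite_of_le normalizerIn_le
    have hNnil : Nil p N := by
      refine IH₁ _ N normalizerIn_le (Cfsg.Agent.Lib.Fusion.KNormalizer.isSaturated_normalizerSystem hS hF hFN hN)
        (hp.imp id fun h => isSectionFree_normalizerSystem hS hF h hFN hN) hsub ⟨P, φ, hφ, hφn⟩ ?_
      intro Q hQ hQne hQchar
      have hchar' : (Q.subgroupOf S).Characteristic := hNS ▸ hQchar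
      exact isPGroup_autGroup_mono hsub normalizerIn_le hQ (h Q (hQ.trans normalizerIn_le) hQne hchar')
    have hJS : thompsonSubgroupAOf S ≤ S := wOf_le (W := jW) S
    have hJne : thompsonSubgroupAOf S ≠ ⊥ := wOf_ne_bot (W := jW) jW_isPFunctor hS hSbot
    exact nil_of_local hS hF hp (LocalP.localC (localP_of_nil_normalizer hN hNnil))
      (localP_of_centric hS centralizerIn_thompson_le (h _ hJS hJne (thompson_characteristic hS)))

/-- **Main theorem.** -/
theorem nil_of_char : ∀ (n : ℕ) (Ω : Type u) [Group Ω] (S : Subgroup Ω) [Finite S] (F : FusionSystem S), Nat.card S = n →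
    IsPGroup p S → F.IsSaturated p → (p ≠ 2 ∨ F.IsSectionFree p (Equiv.Perm (Fin 4))) → CharP p F → Nil p F := by
  intro n
  induction n using Nat.strong_induction_on with
  | _ n ih =>
  intro Ω _ S _ F hn hS hF hp hc
  suffices H : ∀ (m : ℕ) (S' : Subgroup Ω) [Finite S'] (F' : FusionSystem S'), Nat.card S' = n → (mapsOf F').ncard = m →
      IsPGroup p S' → F'.IsSaturated p → (p ≠ 2 ∨ F'.IsSectionFree p (Equiv.Perm (Fin 4))) → CharP p F' → Nil p F' from
    H _ S F hn rfl hS hF hp hc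
  intro m
  induction m using Nat.strong_induction_on with
  | _ m ihm =>
  intro S' _ F' hn' hm hS' hF' hp' hc'
  refine nil_step hS' hF' hp' hc' ?_ ?_
  · intro S₂ F₂ hS₂ hsat₂ hp₂' hsub hstrict hc₂
    haveI : Finite S₂ := finite_of_le hS₂
    have hp₂ : IsPGroup p S₂ := isPGroup_of_le hS' hS₂
    by_cases hcl : Nat.card S₂ < n
    · exact ih _ hcl Ω S₂ F₂ rfl hp₂ hsat₂ hp₂' hc₂
    · have hc'' : Nat.card S₂ = n := le_antisymm (by rw [← hn']; exact card_le_S hS₂) (not_lt.1 hcl)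
      refine ihm _ ?_ S₂ F₂ hc'' rfl hp₂ hsat₂ hp₂' hc₂
      rw [← hm]
      exact ncard_mapsOf_lt hsub hstrict
  · intro Ω' _ S₂ _ F₂ hp₂ hsat₂ hp₂' hc₂ hcl
    exact ih _ (hn' ▸ hcl) Ω' S₂ F₂ rfl hp₂ hsat₂ hp₂' hc₂

end Cfsg.Agent.Lib.Fusion.CharAut
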