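/-
Normal subgroups and quasisimple subnormal subsystems: `O_p(F)` centralizes every component.
-/
import Mathlib
import Cfsg.Agent.Lib.Fusion.LiftSys
import Cfsg.Agent.Lib.Fusion.NormalPair
import Cfsg.Agent.Lib.Fusion.Abelian
import Cfsg.Agent.Lib.Fusion.KNormalizer
import Cfsg.Agent.Lib.Fusion.ModelF
import Cfsg.Agent.Lib.Fusion.Hyperfocal
import Cfsg.Agent.Lib.Fusion.Solvable

set_option autoImplicit false
set_option linter.style.haveILetI false

namespace Cfsg.Agent.Lib.Fusion.CoreCentral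

open Cfsg Cfsg.FusionSystem Cfsg.Agent.Lib.Fusion.Basic Cfsg.Agent.Lib.Fusion.Saturated
open Cfsg.Agent.Lib.Fusion.Saturated2 (autOfHom autOfHom_mem)
open Cfsg.Agent.Lib.Fusion.LocalSystems (map_mem_sup_of_ext range_ext_eq centralizerSystem)
open Cfsg.Agent.Lib.Fusion.Joins (exists_hom_of_eq)
open Cfsg.Agent.Lib.Fusion.LiftSys
open Cfsg.Agent.Lib.Fusion.NormalPair
open Cfsg.Agent.Lib.Fusion.NormalCR
open Cfsg.Agent.Lib.Fusion.Abelian (isSaturated_inner autGroup_inner_le)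

variable {Ω : Type*} [Group Ω] {S : Subgroup Ω} {F : FusionSystem S}

section Inner

variable [Finite S] {p : ℕ} [hp : Fact p.Prime] {Q : Subgroup Ω}

/-- The inner system of a subgroup normal in `F` is normal in `F`. -/
theorem isNormalIn_inner (hS : IsPGroup p S) (hF : F.IsSaturated p) (hQ : F.IsNormal Q) :
    (innerFusionSystem Q).IsNormalIn F p := by
  have hQS : Q ≤ S := hQ.1
  have hQsc := IsNormal.stronglyClosed hQ
  haveI hfinQ : Finite Q := finite_of_le hQS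
  have hQp : IsPGroup p Q := isPGroup_of_le hS hQS
  refine ⟨⟨isSaturated_inner hQp, hF, ?_, hQsc, ?_, ?_⟩, ?_⟩
  · rintro P φ ⟨hP, g, hg, h⟩
    have e : φ = conjHom P g := by
      ext x
      exact h x
    rw [e]
    exact F.conj_mem (hP.trans hQS) (hQS hg)
  · intro P hPT φ hφ α hα
    obtain ⟨hP, g, hg, h⟩ := hφ
    have hR : (P.subgroupOf Q).map (Q.subtype.comp α.toMonoidHom) ≤ Q := by
      rintro _ ⟨x, -, rfl⟩
      exact (α x).2
    refine ⟨conjHom _ (α ⟨g, hg⟩ : Q), (innerFusionSystem Q).conj_mem hR (α ⟨g, hg⟩).2, fun x hφx hαx => ?_⟩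
    show ((α ⟨g, hg⟩ : Q) : Ω) * ((α ⟨x, hPT x.2⟩ : Q) : Ω) * ((α ⟨g, hg⟩ : Q) : Ω)⁻¹ = ((α ⟨φ x, hφx⟩ : Q) : Ω)
    have e : (⟨φ x, hφx⟩ : Q) = ⟨g, hg⟩ * ⟨x, hPT x.2⟩ * ⟨g, hg⟩⁻¹ := Subtype.ext (h x)
    rw [e, map_mul, map_mul, map_inv]
    rfl
  · intro P hPT φ hφ
    obtain ⟨ψ₁, hψ₁, hψ₁a, hψ₁Q⟩ := hQ.2 P φ hφ
    have hsup : P ⊔ Q = Q := sup_eq_right.2 hPT
    obtain ⟨ψ, hψ, hψe⟩ := exists_hom_of_eq F hsup ψ₁ hψ₁
    have hv : ∀ x, ψ x ∈ Q := by
      intro x
      have e := hψe x (le_sup_right (a := P) x.2) x.2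
      have e' : ψ x = ψ₁ ⟨x, le_sup_right (a := P) x.2⟩ := e
      rw [e']
      exact hψ₁Q.le ⟨_, x.2, rfl⟩
    refine ⟨autOfHom ψ (F.injective_of_mem hψ) hv, autOfHom_mem hψ hv, P.subtype,
      subtype_mem hPT, fun x hx => ?_⟩
    have h1 := hψe x (le_sup_left (a := P) x.2) (hPT x.2)
    have h2 := hψ₁a x
    show φ x = ψ ⟨x, hPT x.2⟩
    rw [← h2]
    exact h1.symm
  · intro α hα
    obtain ⟨x, hx, hxα⟩ := mem_autInducedBy_iff.1 (autGroup_inner_le Q Q hα)
    have hN : x ∈ Subgroup.normalizer ((↑(Q ⊔ centralizerIn S Q) : Set Ω)) :=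
      Subgroup.le_normalizer (le_sup_left (a := Q) hx)
    have hH : Q ⊔ centralizerIn S Q ≤ S := sup_le hQS inf_le_left
    refine ⟨normConj x hN, autInducedBy_le_autGroup hH (normConj_mem_autInducedBy (hQS hx) hN), fun y => ?_,
      fun c hc => ?_⟩
    · rw [hxα]
      rfl
    · refine ⟨?_, ?_⟩
      · have h1 := Subgroup.mem_centralizer_iff.1 hc.2 x hx
        have e : (c : Ω)⁻¹ * ((normConj x hN c : ↥(Q ⊔ centralizerIn S Q)) : Ω) = 1 := by
          show (c : Ω)⁻¹ * (x * c * x⁻¹) = 1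
          rw [h1]
          group
        rw [e]
        exact one_mem _
      · have h1 := Subgroup.mem_centralizer_iff.1 hc.2 x hx
        have e : (c : Ω)⁻¹ * ((normConj x hN c : ↥(Q ⊔ centralizerIn S Q)) : Ω) = 1 := by
          show (c : Ω)⁻¹ * (x * c * x⁻¹) = 1
          rw [h1]
          group
        rw [e]
        exact one_mem _

end Inner

section FactorNormal

open Cfsg.Agent.Lib.Fusion.Factor Cfsg.Agent.Lib.Fusion.FactorMorphism

variable {Ω' : Type*} [Group Ω'] {S' : Subgroup Ω'} [Finite S] {p : ℕ} [hp : Fact p.Prime]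

/-- The image of a normal subgroup in a factor system is normal. -/
theorem isNormal_factor {S₀ Q : Subgroup Ω} (hS₀ : F.StronglyClosed S₀) {θ : S →* Ω'} {E : FusionSystem S'}
    (hE : F.IsFactorSystem S₀ θ E) (hQ : F.IsNormal Q) : E.IsNormal (imageAlong θ Q) := by
  obtain ⟨hS₀S, hker, hrange, hiff⟩ := hE
  have hQr : imageAlong θ Q ≤ θ.range := by
    rintro _ ⟨s, -, rfl⟩
    exact ⟨s, rfl⟩
  refine ⟨hrange ▸ hQr, fun P' φ' hφ' => ?_⟩
  obtain ⟨hP'S', φ, hφ, hP, hφv, hPm, hφe⟩ := (hiff P' φ').1 hφ'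
  have hP'r : P' ≤ θ.range := hrange ▸ hP'S'
  have hRS : (preimageAlong θ P') ≤ S := preimage_le θ P'
  have hS₀R : S₀ ≤ (preimageAlong θ P') := le_preimage hS₀S hker P'
  obtain ⟨ψ₁, hψ₁, hψ₁a, hψ₁Q⟩ := hQ.2 (preimageAlong θ P') φ hφ
  have hMS : (preimageAlong θ P') ⊔ Q ≤ S := sup_le hRS hQ.1
  have himg : imageAlong θ ((preimageAlong θ P') ⊔ Q) = P' ⊔ imageAlong θ Q := by
    have h1 : ((preimageAlong θ P') ⊔ Q).subgroupOf S = (preimageAlong θ P').subgroupOf S ⊔ Q.subgroupOf S := Subgroup.subgroupOf_sup hRS hQ.1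
    show (((preimageAlong θ P') ⊔ Q).subgroupOf S).map θ = _
    rw [h1, Subgroup.map_sup]
    congr 1
    apply le_antisymm
    · rintro _ ⟨s, hs, rfl⟩
      exact (mem_preimage.1 (Subgroup.mem_subgroupOf.1 hs)).2
    · intro y hy
      obtain ⟨s, rfl⟩ := hP'r hy
      exact ⟨s, Subgroup.mem_subgroupOf.2 (mem_preimage.2 ⟨s.2, hy⟩), rfl⟩
  have hset : preimageAlong θ (P' ⊔ imageAlong θ Q) = (preimageAlong θ P') ⊔ Q := by
    rw [← himg, preimage_image hS₀S hMS hker]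
    exact sup_eq_left.2 (hS₀R.trans le_sup_left)
  obtain ⟨ψ, hψ, hψe⟩ := exists_hom_of_eq F hset.symm ψ₁ hψ₁
  have hM'r : P' ⊔ imageAlong θ Q ≤ θ.range := sup_le hP'r hQr
  obtain ⟨ψb, hind⟩ := exists_induced hS₀ hker hM'r hψ
  have hψbE : ψb ∈ E.Hom (P' ⊔ imageAlong θ Q) := (hiff _ _).2 ⟨hrange ▸ hM'r, ψ, hψ, hind⟩
  obtain ⟨hle, hv, hmem, he⟩ := hind
  have hRM : ∀ {x : Ω}, x ∈ (preimageAlong θ P') → x ∈ preimageAlong θ (P' ⊔ imageAlong θ Q) := fun hx => by
    rw [hset]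
    exact le_sup_left (a := (preimageAlong θ P')) hx
  have hQM : ∀ {x : Ω}, x ∈ Q → x ∈ preimageAlong θ (P' ⊔ imageAlong θ Q) := fun hx => by
    rw [hset]
    exact le_sup_right (a := (preimageAlong θ P')) hx
  have hval : ∀ (x : Ω) (hx : x ∈ (preimageAlong θ P') ⊔ Q) (hx' : x ∈ preimageAlong θ (P' ⊔ imageAlong θ Q)),
      ψ ⟨x, hx'⟩ = ψ₁ ⟨x, hx⟩ := fun x hx hx' => hψe x hx hx'
  refine ⟨ψb, hψbE, fun x => ?_, ?_⟩
  · obtain ⟨s, hs⟩ := hP'r x.2
    have hsR : (s : Ω) ∈ (preimageAlong θ P') := mem_preimage.2 ⟨s.2, by rw [hs]; exact x.2⟩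
    have e1 := he ⟨s, hRM hsR⟩
    have e2 := hφe ⟨s, hsR⟩
    have e3 : ψ ⟨s, hRM hsR⟩ = φ ⟨s, hsR⟩ := by
      rw [hval s (le_sup_left (a := (preimageAlong θ P')) hsR)]
      exact hψ₁a ⟨s, hsR⟩
    have e4 : Subgroup.inclusion le_sup_left x = (⟨θ ⟨s, hle (hRM hsR)⟩, hmem ⟨s, hRM hsR⟩⟩ : ↥(P' ⊔ imageAlong θ Q)) :=
      Subtype.ext hs.symm
    have e5 : x = (⟨θ ⟨s, hP (show (s : Ω) ∈ (preimageAlong θ P') from hsR)⟩, hPm ⟨s, hsR⟩⟩ : P') := Subtype.ext hs.symm
    rw [e4, e1]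
    conv_rhs => rw [e5]
    rw [e2]
    exact congrArg θ (Subtype.ext e3)
  · ext y
    constructor
    · rintro ⟨z, hz, rfl⟩
      obtain ⟨s, hs, hsz⟩ := (show (z : Ω') ∈ imageAlong θ Q from hz)
      have hsQ : (s : Ω) ∈ Q := hs
      have e1 := he ⟨s, hQM hsQ⟩
      have e4 : z = (⟨θ ⟨s, hle (hQM hsQ)⟩, hmem ⟨s, hQM hsQ⟩⟩ : ↥(P' ⊔ imageAlong θ Q)) := Subtype.ext hsz.symm
      rw [e4, e1]
      have e3 : ψ ⟨s, hQM hsQ⟩ = ψ₁ ⟨s, le_sup_right (a := (preimageAlong θ P')) hsQ⟩ := hval s _ _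
      refine ⟨⟨ψ ⟨s, hQM hsQ⟩, hv _⟩, ?_, rfl⟩
      refine Subgroup.mem_subgroupOf.2 ?_
      show ψ ⟨s, hQM hsQ⟩ ∈ Q
      rw [e3]
      exact hψ₁Q.le ⟨_, hsQ, rfl⟩
    · rintro ⟨s, hs, rfl⟩
      have hsQ : (s : Ω) ∈ Q := hs
      obtain ⟨q, hq, hqe⟩ := hψ₁Q.ge hsQ
      have hqQ : (q : Ω) ∈ Q := hq
      have e1 := he ⟨q, hQM hqQ⟩
      have e3 : ψ ⟨q, hQM hqQ⟩ = s := by
        rw [hval q q.2]
        exact hqe
      have hqS : (q : Ω) ∈ S := hMS q.2
      refine ⟨⟨θ ⟨q, hle (hQM hqQ)⟩, hmem ⟨q, hQM hqQ⟩⟩, ?_, ?_⟩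
      · exact Subgroup.mem_subgroupOf.2 ⟨⟨q, hle (hQM hqQ)⟩, hqQ, rfl⟩
      · refine e1.trans ?_
        congr 1
        exact Subtype.ext e3

/-- A normal subgroup of a quasisimple system is central. -/
theorem le_center_of_quasisimple (hS : IsPGroup p S) (hq : F.Quasisimple p) {Q : Subgroup Ω} (hQ : F.IsNormal Q) :
    Q ≤ F.center := by
  classical
  have hF := hq.1
  have hZc := Cfsg.Agent.Lib.Fusion.Joins.isCentral_center F
  have hZ : F.StronglyClosed F.center := by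
    refine ⟨hZc.1, fun R hR φ hφ x => ?_⟩
    obtain ⟨ψ, -, hag, hfix⟩ := hZc.2 R φ hφ
    have h1 := hfix ⟨x, hR x.2⟩
    have e : Subgroup.inclusion (le_sup_left : R ≤ R ⊔ F.center) x =
        Subgroup.inclusion (le_sup_right : F.center ≤ R ⊔ F.center) ⟨x, hR x.2⟩ := Subtype.ext rfl
    rw [← hag x, e, h1]
    exact hR x.2
  let θ : S →* (S ⧸ (F.center).subgroupOf S) := QuotientGroup.mk' ((F.center).subgroupOf S)
  have hker : ∀ s : S, θ s = 1 ↔ (s : Ω) ∈ F.center := fun s => by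
    show ((s : S) : S ⧸ (F.center).subgroupOf S) = 1 ↔ _
    rw [QuotientGroup.eq_one_iff, Subgroup.mem_subgroupOf]
  have hrange : θ.range = ⊤ := MonoidHom.range_eq_top.2 (QuotientGroup.mk'_surjective _)
  obtain ⟨E, hE⟩ := exists_isFactorSystem F hZ θ hker hrange
  have hsimple := hq.2.2 E hE
  have hS' : IsPGroup p ↥(⊤ : Subgroup (S ⧸ (F.center).subgroupOf S)) :=
    Cfsg.Agent.Lib.Fusion.Solvable.isPGroup_top_quotient hS F.center
  have hQb := isNormal_factor hZ hE hQ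
  have hin := isNormalIn_inner hS' hsimple.1 hQb
  rcases hsimple.2.2 _ _ hin with hbot | ⟨htop, heq⟩
  · intro q hq'
    have h1 : θ ⟨q, hQ.1 hq'⟩ ∈ imageAlong θ Q := ⟨⟨q, hQ.1 hq'⟩, hq', rfl⟩
    rw [hbot] at h1
    exact (hker _).1 h1
  · exfalso
    apply hsimple.2.1
    have hfac := Cfsg.Agent.Lib.Fusion.FactorHyperfocal.hyperfocal_factor hS hF hZ hE
    have hhyp : (F.hyperfocalSubgroup p).subgroupOf S = ⊤ := by
      rw [hq.2.1]
      exact Subgroup.subgroupOf_self S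
    rw [hhyp, ← MonoidHom.range_eq_map, hrange] at hfac
    rw [← hfac, eq_bot_iff]
    refine Cfsg.Agent.Lib.Fusion.Hyperfocal.hyperfocal_le (fun P hPS α hco x => ?_)
    have hα : (α : MulAut P) ∈ autInducedBy (⊤ : Subgroup (S ⧸ (F.center).subgroupOf S)) P := by
      have h1 : E.autGroup P ≤ autInducedBy (⊤ : Subgroup (S ⧸ (F.center).subgroupOf S)) P := by
        refine (Subgroup.closure_le _).2 ?_
        intro a ha
        have ha' : P.subtype.comp a.toMonoidHom ∈ E.Hom P := ha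
        rw [← heq P] at ha'
        obtain ⟨-, g, -, h⟩ := ha'
        exact Subgroup.subset_closure ⟨g, trivial, fun y => h y⟩
      exact h1 α.2
    have hpg := isPGroup_autInducedBy hS' P
    have hone : (⟨α, hα⟩ : autInducedBy (⊤ : Subgroup (S ⧸ (F.center).subgroupOf S)) P) = 1 := by
      refine eq_one_of_pow_coprime hpg hco ?_
      apply Subtype.ext
      show (α : MulAut P) ^ orderOf α = 1
      rw [← Subgroup.orderOf_coe]
      exact pow_orderOf_eq_one _
    have hα1 : (α : MulAut P) = 1 := congrArg Subtype.val hone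
    rw [hα1]
    simp

end FactorNormal

section Subnormal

variable {p : ℕ}

/-- Lifts of `p'`-elements: a map with a lift trivial on `Q₁` and modulo `Q₁` gives a lift fixing `Q`. -/
theorem pprime_fix [Finite S] [hp : Fact p.Prime] (hS : IsPGroup p S) {Q Q₁ P : Subgroup Ω} (hQS : Q ≤ S) (hPS : P ≤ S)
    (hQ₁ : Q₁ ≤ Q) {α : MulAut P} (hco : Nat.Coprime (orderOf α) p) {ψ : ↥(P ⊔ Q) →* Ω} (hψ : ψ ∈ F.Hom (P ⊔ Q))
    (hψa : ∀ x : P, ψ (Subgroup.inclusion le_sup_left x) = α x)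
    (hψ₁ : ∀ q : Q₁, ψ ⟨q, le_sup_right (a := P) (hQ₁ q.2)⟩ = q)
    (hψb : ∀ q : Q, (q : Ω)⁻¹ * ψ (Subgroup.inclusion le_sup_right q) ∈ Q₁) :
    ∃ ψ' ∈ F.Hom (P ⊔ Q), (∀ x : P, ψ' (Subgroup.inclusion le_sup_left x) = α x) ∧
      ∀ q : Q, ψ' (Subgroup.inclusion le_sup_right q) = q := by
  classical
  have hPN : P ≤ P ⊔ Q := le_sup_left
  have hQN : Q ≤ P ⊔ Q := le_sup_right
  have hNS : P ⊔ Q ≤ S := sup_le hPS hQS
  haveI hfinN : Finite ↥(P ⊔ Q) := finite_of_le hNS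
  haveI hfinQ : Finite Q := finite_of_le hQS
  have hψQ : ∀ x : ↥(P ⊔ Q), (x : Ω) ∈ Q → ψ x ∈ Q := by
    intro x hx
    have h1 := hQ₁ (hψb ⟨x, hx⟩)
    have h2 : (x : Ω) * ((x : Ω)⁻¹ * ψ x) ∈ Q := Q.mul_mem hx h1
    rwa [mul_inv_cancel_left] at h2
  have hv : ∀ x, ψ x ∈ P ⊔ Q := by
    intro x
    refine map_mem_sup_of_ext ψ (fun y => ?_) (fun y => ?_) x
    · rw [hψa]
      exact hPN (α y).2
    · exact hQN (hψQ _ y.2)
  let a : MulAut ↥(P ⊔ Q) := autOfHom ψ (F.injective_of_mem hψ) hv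
  have ha : a ∈ F.autGroup (P ⊔ Q) := autOfHom_mem hψ hv
  have hav : ∀ x : ↥(P ⊔ Q), ((a x : ↥(P ⊔ Q)) : Ω) = ψ x := fun _ => rfl
  have hpP : ∀ (k : ℕ) (x : P), (((a ^ k) (Subgroup.inclusion hPN x) : ↥(P ⊔ Q)) : Ω) = ((α ^ k) x : P) := by
    intro k
    induction k with
    | zero => intro x; rfl
    | succ k ih =>
      intro x
      rw [pow_succ', pow_succ', MulAut.mul_apply, MulAut.mul_apply, hav]
      have e : (a ^ k) (Subgroup.inclusion hPN x) = Subgroup.inclusion hPN ((α ^ k) x) := Subtype.ext (ih x)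
      rw [e, hψa]
  have hpQ : ∀ (k : ℕ) (x : ↥(P ⊔ Q)), (x : Ω) ∈ Q → (((a ^ k) x : ↥(P ⊔ Q)) : Ω) ∈ Q := by
    intro k
    induction k with
    | zero => intro x hx; exact hx
    | succ k ih =>
      intro x hx
      rw [pow_succ', MulAut.mul_apply, hav]
      exact hψQ _ (ih x hx)
  have hpQ₁ : ∀ (k : ℕ) (x : ↥(P ⊔ Q)), (x : Ω) ∈ Q₁ → (((a ^ k) x : ↥(P ⊔ Q)) : Ω) = x := by
    intro k
    induction k with
    | zero => intro x hx; rfl
    | succ k ih =>
      intro x hx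
      rw [pow_succ', MulAut.mul_apply, hav]
      have e : (a ^ k) x = x := Subtype.ext (ih x hx)
      rw [e]
      exact hψ₁ ⟨x, hx⟩
  have hpb : ∀ (k : ℕ) (x : ↥(P ⊔ Q)), (x : Ω) ∈ Q → (x : Ω)⁻¹ * ((a ^ k) x : ↥(P ⊔ Q)) ∈ Q₁ := by
    intro k
    induction k with
    | zero => intro x hx; simp
    | succ k ih =>
      intro x hx
      rw [pow_succ', MulAut.mul_apply, hav]
      have h1 := ih x hx
      have h2 := hψb ⟨(a ^ k) x, hpQ k x hx⟩
      have e : (x : Ω)⁻¹ * ψ ((a ^ k) x) = ((x : Ω)⁻¹ * ((a ^ k) x : ↥(P ⊔ Q))) *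
          ((((a ^ k) x : ↥(P ⊔ Q)) : Ω)⁻¹ * ψ ((a ^ k) x)) := by group
      rw [e]
      exact Q₁.mul_mem h1 h2
  obtain ⟨u, hu, hucop⟩ := Cfsg.Agent.Lib.Fusion.FactorHyperfocal.exists_pow_coprime hp.out a (orderOf_pos a) hco
  have hαu : α ^ u = α := by
    have := (pow_eq_pow_iff_modEq (x := α) (n := u) (m := 1)).2 hu
    rwa [pow_one] at this
  let a' : MulAut ↥(P ⊔ Q) := a ^ u
  have ha'F : a' ∈ F.autGroup (P ⊔ Q) := Subgroup.pow_mem _ ha u
  have ha'P : ∀ x : P, ((a' (Subgroup.inclusion le_sup_left x) : ↥(P ⊔ Q)) : Ω) = α x := by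
    intro x
    have h1 := hpP u x
    rw [hαu] at h1
    exact h1
  have ha'Q : ∀ x : ↥(P ⊔ Q), (x : Ω) ∈ Q → ((a' x : ↥(P ⊔ Q)) : Ω) ∈ Q := hpQ u
  let b : MulAut Q := NormalPair.resAut a' hQN ha'Q
  have hb : b ^ orderOf a' = 1 := by
    ext x
    have h1 := NormalPair.resAut_pow a' hQN ha'Q (orderOf a') x
    rw [pow_orderOf_eq_one] at h1
    exact h1
  have hstable : ∀ g : Q, g⁻¹ * b g ∈ (⊥ : Subgroup Q) := by
    refine stable_coprime (isPGroup_of_le hS hQS) b hb hucop ⊥ (Q₁.subgroupOf Q) (fun g hg => ?_) (fun g => ?_)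
      (fun g hg => ?_)
    · rw [Subgroup.mem_bot] at hg ⊢
      rw [hg, map_one]
    · exact Subgroup.mem_subgroupOf.2 (hpb u (Subgroup.inclusion hQN g) g.2)
    · have hg' : ((g : Q) : Ω) ∈ Q₁ := Subgroup.mem_subgroupOf.1 hg
      rw [Subgroup.mem_bot]
      have h1 : b g = g := Subtype.ext (hpQ₁ u (Subgroup.inclusion hQN g) hg')
      rw [h1]
      simp
  refine ⟨(P ⊔ Q).subtype.comp a'.toMonoidHom, autGroup_mem_hom hNS ha'F, fun x => ha'P x, fun q => ?_⟩
  have h1 := hstable q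
  rw [Subgroup.mem_bot, inv_mul_eq_one] at h1
  exact (congrArg (fun z : Q => (z : Ω)) h1).symm

/-- **Components centralize normal subgroups**: a quasisimple subnormal subsystem of `F` lies in `C_F(Q)`, for `Q ⊴ F`. -/
theorem subnormal_central {U S : Subgroup Ω} {C : FusionSystem U} {F : FusionSystem S} {p : ℕ}
    (h : C.IsSubnormalIn F p) : ∀ [Fact p.Prime], C.Quasisimple p → ∀ [Finite S], IsPGroup p S → ∀ Q : Subgroup Ω, F.IsNormal Q →
      ∀ P : Subgroup Ω, C.Hom P ⊆ F.centralizerHom Q P := by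
  induction h with
  | refl F p =>
    intro hp hq hfin hS Q hQ P φ hφ
    have hle := le_center_of_quasisimple hS hq hQ
    have hZc := Cfsg.Agent.Lib.Fusion.Joins.isCentral_center F
    have hPS : P ≤ U := source_le hφ
    have hcent : ∀ {s : Ω}, s ∈ U → s ∈ centralizerIn U Q := by
      intro s hs
      refine ⟨hs, ?_⟩
      show s ∈ Subgroup.centralizer (Q : Set Ω)
      rw [Subgroup.mem_centralizer_iff]
      intro q hq'
      exact (F.center_le_centralizer (hle hq') s hs).symm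
    refine ⟨hφ, fun x hx => hcent (hPS hx), fun x => hcent (map_mem_S hφ x), ?_⟩
    obtain ⟨ψ, hψ, hag, hfix⟩ := hZc.2 P φ hφ
    have hl : P ⊔ Q ≤ P ⊔ F.center := sup_le_sup_left hle P
    refine ⟨ψ.comp (Subgroup.inclusion hl), res_mem hψ hl, fun x => hag x, fun x => ?_⟩
    exact hfix ⟨x, hle x.2⟩
  | @step T S C D F p hCD hDF ih =>
    intro hp hq hfin hS Q hQ
    have hinv := hDF.1.2.2
    have hTS : T ≤ S := hinv.2.1.1
    haveI hfinT : Finite T := finite_of_le hTS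
    have hTp : IsPGroup p T := isPGroup_of_le hS hTS
    have hQ₁ : D.IsNormal (Q ⊓ T) := NormalPair.isNormal_inf hS hDF hQ
    have hih := ih hq hTp (Q ⊓ T) hQ₁
    have hCF : C.IsSubsystemOf F := fun P φ hφ => hinv.1 P (hih P hφ).1
    have hUT : U ≤ T := le_S_of_subsystem (fun P φ hφ => (hih P hφ).1)
    have hUS : U ≤ S := hUT.trans hTS
    have hQS : Q ≤ S := hQ.1
    -- lifts of maps of `C`
    have hlift : ∀ {P : Subgroup Ω} {φ : P →* Ω}, φ ∈ C.Hom P →
        ∃ ψ ∈ F.Hom (P ⊔ Q), (∀ x : P, ψ (Subgroup.inclusion le_sup_left x) = φ x) ∧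
          (∀ q : ↥(Q ⊓ T), ψ ⟨q, le_sup_right (a := P) q.2.1⟩ = q) ∧
          ∀ q : Q, (q : Ω)⁻¹ * ψ (Subgroup.inclusion le_sup_right q) ∈ Q ⊓ T := by
      intro P φ hφ
      obtain ⟨-, -, -, ρ, hρ, hρa, hρb⟩ := hih P hφ
      obtain ⟨-, ψ₁, hψ₁, hψ₁a, hψ₁b⟩ := NormalPair.exists_lift hS hDF hQ hρ
      have hsup : (P ⊔ (Q ⊓ T)) ⊔ Q = P ⊔ Q :=
        le_antisymm (sup_le (sup_le le_sup_left (inf_le_left.trans le_sup_right)) le_sup_right)
          (sup_le (le_sup_left.trans le_sup_left) le_sup_right)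
      obtain ⟨ψ, hψ, hψe⟩ := exists_hom_of_eq F hsup ψ₁ hψ₁
      refine ⟨ψ, hψ, fun x => ?_, fun q => ?_, fun q => ?_⟩
      · have h1 := hψe x (le_sup_left (a := P ⊔ (Q ⊓ T)) (le_sup_left (a := P) x.2)) (le_sup_left (a := P) x.2)
        have h2 := hψ₁a ⟨x, le_sup_left (a := P) x.2⟩
        have h3 := hρa x
        exact h1.trans (h2.trans h3)
      · have h1 := hψe q (le_sup_left (a := P ⊔ (Q ⊓ T)) (le_sup_right (a := P) q.2)) (le_sup_right (a := P) q.2.1)
        have h2 := hψ₁a ⟨q, le_sup_right (a := P) q.2⟩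
        have h3 := hρb q
        exact h1.trans (h2.trans h3)
      · have h1 := hψe q (le_sup_right (a := P ⊔ (Q ⊓ T)) q.2) (le_sup_right (a := P) q.2)
        have h2 := hψ₁b q
        show (q : Ω)⁻¹ * ψ ⟨q, le_sup_right (a := P) q.2⟩ ∈ Q ⊓ T
        rw [h1]
        exact h2
    -- `p'`-elements fix `Q`
    have hfix : ∀ {P : Subgroup Ω} (_ : P ≤ U) {α : MulAut P}, α ∈ C.autGroup P → Nat.Coprime (orderOf α) p →
        ∃ ψ' ∈ F.Hom (P ⊔ Q), (∀ x : P, ψ' (Subgroup.inclusion le_sup_left x) = α x) ∧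
          ∀ q : Q, ψ' (Subgroup.inclusion le_sup_right q) = q := by
      intro P hPU α hα hco
      obtain ⟨ψ, hψ, hψa, hψ₁, hψb⟩ := hlift (autGroup_mem_hom hPU hα)
      exact pprime_fix hS hQS (hPU.trans hUS) inf_le_left hco hψ hψa hψ₁ hψb
    have hQsc := IsNormal.stronglyClosed hQ
    -- `U` centralizes `Q`
    have hUcen : U ≤ Subgroup.centralizer (Q : Set Ω) := by
      rw [← hq.2.1]
      refine Cfsg.Agent.Lib.Fusion.Hyperfocal.hyperfocal_le (fun P hPU α hco x => ?_)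
      obtain ⟨ψ', hψ', ha, hf⟩ := hfix hPU α.2 (by rwa [Subgroup.orderOf_coe])
      rw [Subgroup.mem_centralizer_iff]
      intro q hq'
      have hxS : (x : Ω) ∈ S := hUS (hPU x.2)
      have hz : (x : Ω) * q * (x : Ω)⁻¹ ∈ Q := StronglyClosed.conj_mem hQsc hxS hq'
      have h1 := hf ⟨_, hz⟩
      have e : Subgroup.inclusion le_sup_right (⟨_, hz⟩ : Q) = Subgroup.inclusion (le_sup_left : P ≤ P ⊔ Q) x *
          Subgroup.inclusion le_sup_right (⟨q, hq'⟩ : Q) * (Subgroup.inclusion (le_sup_left : P ≤ P ⊔ Q) x)⁻¹ :=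
        Subtype.ext rfl
      rw [e, map_mul, map_mul, map_inv, ha, hf] at h1
      simp only at h1
      set y : Ω := (((α : MulAut P) x : P) : Ω) with hy
      have h2 : y * q * y⁻¹ = (x : Ω) * q * (x : Ω)⁻¹ := h1
      show q * ((x : Ω)⁻¹ * y) = ((x : Ω)⁻¹ * y) * q
      calc q * ((x : Ω)⁻¹ * y) = (x : Ω)⁻¹ * ((x : Ω) * q * (x : Ω)⁻¹) * y := by group
        _ = (x : Ω)⁻¹ * (y * q * y⁻¹) * y := by rw [h2]
        _ = ((x : Ω)⁻¹ * y) * q := by group
    have hc : ∀ t ∈ U, ∀ q ∈ Q, q⁻¹ * (t * q * t⁻¹) ∈ (⊥ : Subgroup Ω) := by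
      intro t ht q hq'
      have h1 := Subgroup.mem_centralizer_iff.1 (hUcen ht) q hq'
      rw [Subgroup.mem_bot, ← h1]
      group
    haveI hfinU : Finite U := finite_of_le hUS
    have hUp : IsPGroup p U := isPGroup_of_le hS hUS
    let D₀ := liftSys C F hCF Q ⊥ hQS bot_le hc
    have hle : C ≤ D₀ := by
      refine Cfsg.Agent.Lib.Fusion.Alperin.le_of_essential hUp hq.1 (fun P hP => ?_)
      have hPU : P ≤ U := by
        rcases hP with rfl | he
        · exact le_rfl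
        · exact he.1.1
      have hauto : C.IsFullyAutomized p P := by
        rcases hP with rfl | he
        · exact (fullyNormalized_props hUp hq.1 (isFullyNormalized_top C)).2
        · exact (fullyNormalized_props hUp hq.1 he.2.1).2
      refine autGroup_le_of_pprime hauto (fun α hα hco => mem_autGroup_of_mem ?_)
      obtain ⟨ψ', hψ', ha, hf⟩ := hfix hPU hα hco
      refine ⟨autGroup_mem_hom hPU hα, ψ', hψ', ha, fun q => ?_⟩
      rw [hf, Subgroup.mem_bot]
      simp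
    intro P φ hφ
    obtain ⟨-, ψ, hψ, hag, hb⟩ := hle P hφ
    have hPU : P ≤ U := source_le hφ
    refine ⟨hCF P hφ, fun x hx => ⟨hUS (hPU hx), hUcen (hPU hx)⟩, fun x => ⟨hUS (map_mem_S hφ x), hUcen (map_mem_S hφ x)⟩,
      ψ, hψ, hag, fun q => ?_⟩
    have h1 := hb q
    rw [Subgroup.mem_bot, inv_mul_eq_one] at h1
    exact h1.symm

end Subnormal

section CentralizerNormal

variable [Finite S] {p : ℕ} [hp : Fact p.Prime] {Q : Subgroup Ω}

/-- Two homomorphisms on `A ⊔ B` agreeing on `A` and `B` are equal. -/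
theorem hom_ext_sup {G : Type*} [Group G] {A B : Subgroup Ω} {f g : ↥(A ⊔ B) →* G}
    (hA : ∀ x : A, f (Subgroup.inclusion le_sup_left x) = g (Subgroup.inclusion le_sup_left x))
    (hB : ∀ x : B, f (Subgroup.inclusion le_sup_right x) = g (Subgroup.inclusion le_sup_right x)) : f = g := by
  let W : Subgroup Ω := (MonoidHom.eqLocus f g).map (A ⊔ B).subtype
  have h1 : A ≤ W := fun x hx => ⟨⟨x, le_sup_left (a := A) hx⟩, hA ⟨x, hx⟩, rfl⟩
  have h2 : B ≤ W := fun x hx => ⟨⟨x, le_sup_right (a := A) hx⟩, hB ⟨x, hx⟩, rfl⟩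
  ext y
  obtain ⟨y', hy', hyy⟩ := (sup_le h1 h2) y.2
  have : y' = y := Subtype.ext hyy
  rw [← this]
  exact hy'

theorem isFullyCentralized_of_isNormal (hQ : F.IsNormal Q) : F.IsFullyCentralized Q := by
  refine ⟨hQ.1, fun Q' hQ' => ?_⟩
  have hQsc := IsNormal.stronglyClosed hQ
  haveI : Finite Q := finite_of_le hQ.1
  obtain ⟨φ, hφ, hr⟩ := hQ'
  have h1 := range_eq_of_card hφ (fun x => hQsc.2 Q le_rfl φ hφ x) le_rfl
  rw [← hr, h1]

/-- `C_S(Q)` is strongly closed, for `Q ⊴ F`. -/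
theorem stronglyClosed_centralizerIn (hQ : F.IsNormal Q) : F.StronglyClosed (centralizerIn S Q) := by
  refine ⟨inf_le_left, fun K hK φ hφ x => ⟨map_mem_S hφ x, ?_⟩⟩
  show φ x ∈ Subgroup.centralizer (Q : Set Ω)
  rw [Subgroup.mem_centralizer_iff]
  intro q' hq'
  obtain ⟨ψ, hψ, hag, himg⟩ := hQ.2 K φ hφ
  obtain ⟨q, hq, rfl⟩ := himg.ge hq'
  have hqQ : (q : Ω) ∈ Q := hq
  have h1 := Subgroup.mem_centralizer_iff.1 (hK x.2).2 q hqQ
  have e : q * Subgroup.inclusion le_sup_left x = Subgroup.inclusion le_sup_left x * q := Subtype.ext h1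
  rw [← hag x, ← map_mul, ← map_mul, e]

/-- **`C_F(Q)` is normal in `F`**, for `Q ⊴ F`. -/
theorem isNormalIn_centralizerSystem (hS : IsPGroup p S) (hF : F.IsSaturated p) (hQ : F.IsNormal Q) :
    (centralizerSystem F Q hQ.1).IsNormalIn F p := by
  classical
  have hQS : Q ≤ S := hQ.1
  have hQsc := IsNormal.stronglyClosed hQ
  have hVsc := stronglyClosed_centralizerIn hQ
  have hVS : centralizerIn S Q ≤ S := inf_le_left
  have hFC := isFullyCentralized_of_isNormal hQ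
  refine ⟨⟨Cfsg.Agent.Lib.Fusion.KNormalizer.isSaturated_centralizerSystem hS hF hFC
    (Cfsg.Agent.Lib.Fusion.LocalSystems.centralizerSystem_isCentralizerSystem F Q hQS), hF,
    fun P φ hφ => hφ.1, hVsc, ?_, ?_⟩, ?_⟩
  · -- invariance
    intro P hPV φ hφ a ha
    obtain ⟨hφF, hPC, hφv, φh, hφh, hφha, hφhQ⟩ := hφ
    have haF := autGroup_mem_hom hVS ha
    obtain ⟨ah, hah, haha, hahQ⟩ := hQ.2 _ _ haF
    have hle : P ⊔ Q ≤ centralizerIn S Q ⊔ Q := sup_le_sup_right hPV Q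
    have hah₁ := res_mem hah hle
    set W : Subgroup Ω := (P.subgroupOf (centralizerIn S Q)).map ((centralizerIn S Q).subtype.comp a.toMonoidHom) with hW
    have hWV : W ≤ centralizerIn S Q := by
      rintro _ ⟨x, -, rfl⟩
      exact (a x).2
    have hWS : W ≤ S := hWV.trans hVS
    have hr : (ah.comp (Subgroup.inclusion hle)).range = W ⊔ Q := by
      apply le_antisymm
      · rintro _ ⟨x, rfl⟩
        refine map_mem_sup_of_ext (ah.comp (Subgroup.inclusion hle)) (fun y => ?_) (fun y => ?_) x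
        · refine le_sup_left (a := W) ?_
          have := haha ⟨y, hPV y.2⟩
          exact ⟨⟨y, hPV y.2⟩, y.2, this.symm⟩
        · exact le_sup_right (a := W) (hahQ.le ⟨_, y.2, rfl⟩)
      · refine sup_le ?_ ?_
        · rintro _ ⟨x, hx, rfl⟩
          have hxP : (x : Ω) ∈ P := hx
          exact ⟨⟨x, le_sup_left (a := P) hxP⟩, haha x⟩
        · intro q hq
          obtain ⟨z, hz, hze⟩ := hahQ.ge hq
          exact ⟨⟨z, le_sup_right (a := P) (show (z : Ω) ∈ Q from hz)⟩, hze⟩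
    obtain ⟨ι, hι, hιr, hι1, hι2⟩ := exists_inv hah₁ hr
    have hιv : ∀ y, ι y ∈ P ⊔ Q := fun y => by
      rw [← hιr]
      exact ⟨y, rfl⟩
    have hφhv : ∀ u, φh u ∈ centralizerIn S Q ⊔ Q := by
      intro u
      refine map_mem_sup_of_ext φh (fun y => ?_) (fun y => ?_) u
      · rw [hφha]
        exact le_sup_left (a := centralizerIn S Q) (hφv y)
      · rw [hφhQ]
        exact le_sup_right (a := centralizerIn S Q) y.2
    have hc1 : φh.comp (ι.codRestrict (P ⊔ Q) hιv) ∈ F.Hom (W ⊔ Q) := F.comp_mem hι hφh hιv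
    have hc2 := F.comp_mem hc1 hah (fun y => hφhv _)
    set χh : ↥(W ⊔ Q) →* Ω := ah.comp ((φh.comp (ι.codRestrict (P ⊔ Q) hιv)).codRestrict _ (fun y => hφhv _)) with hχh
    have hval : ∀ (x : P) (hx : ((a ⟨x, hPV x.2⟩ : centralizerIn S Q) : Ω) ∈ W ⊔ Q) (hφx : φ x ∈ centralizerIn S Q),
        χh ⟨_, hx⟩ = ((a ⟨φ x, hφx⟩ : centralizerIn S Q) : Ω) := by
      intro x hx hφx
      have e1 : (ah.comp (Subgroup.inclusion hle)) (Subgroup.inclusion le_sup_left x) = ((a ⟨x, hPV x.2⟩ : centralizerIn S Q) : Ω) :=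
        haha ⟨x, hPV x.2⟩
      have e2 : ι ⟨_, hx⟩ = (Subgroup.inclusion le_sup_left x : ↥(P ⊔ Q)) := by
        have := hι1 (Subgroup.inclusion le_sup_left x) (by rw [e1]; exact hx)
        rw [← this]
        congr 1
        exact Subtype.ext e1.symm
      have e3 : ι.codRestrict (P ⊔ Q) hιv ⟨_, hx⟩ = Subgroup.inclusion le_sup_left x := Subtype.ext e2
      have e4 : (φh.comp (ι.codRestrict (P ⊔ Q) hιv)) ⟨_, hx⟩ = φ x := by
        simp only [MonoidHom.comp_apply]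
        rw [e3, hφha]
      have e5 : (φh.comp (ι.codRestrict (P ⊔ Q) hιv)).codRestrict _ (fun y => hφhv _) ⟨_, hx⟩ =
          Subgroup.inclusion le_sup_left (⟨φ x, hφx⟩ : centralizerIn S Q) := Subtype.ext e4
      rw [hχh]
      simp only [MonoidHom.comp_apply]
      rw [e5, haha]
      rfl
    have hWsub : W ≤ W ⊔ Q := le_sup_left
    refine ⟨χh.comp (Subgroup.inclusion hWsub), ⟨res_mem hc2 hWsub, hWV, ?_, χh, hc2, fun x => rfl, fun q => ?_⟩, fun x hφx hαx => ?_⟩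
    · rintro ⟨_, x, hx, rfl⟩
      have hxP : (x : Ω) ∈ P := hx
      have := hval ⟨x, hxP⟩ (hWsub ⟨x, hx, rfl⟩) (hφv ⟨x, hxP⟩)
      show χh ⟨_, _⟩ ∈ _
      simp only at this
      rw [show χh ⟨_, hWsub ⟨x, hx, rfl⟩⟩ = _ from this]
      exact (a _).2
    · -- fixes `Q`
      obtain ⟨z, hz, hze⟩ := hahQ.ge q.2
      have hzQ : (z : Ω) ∈ Q := hz
      have hzm : (z : Ω) ∈ P ⊔ Q := le_sup_right (a := P) hzQ
      have e1 : (ah.comp (Subgroup.inclusion hle)) ⟨z, hzm⟩ = q := hze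
      have e2 : ι (Subgroup.inclusion le_sup_right q) = (⟨z, hzm⟩ : ↥(P ⊔ Q)) := by
        have := hι1 ⟨z, hzm⟩ (by rw [e1]; exact le_sup_right (a := W) q.2)
        rw [← this]
        congr 1
        exact Subtype.ext e1.symm
      have e3 : ι.codRestrict (P ⊔ Q) hιv (Subgroup.inclusion le_sup_right q) = ⟨z, hzm⟩ := Subtype.ext e2
      have e4 : (φh.comp (ι.codRestrict (P ⊔ Q) hιv)) (Subgroup.inclusion le_sup_right q) = z := by
        simp only [MonoidHom.comp_apply]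
        rw [e3]
        exact hφhQ ⟨z, hzQ⟩
      have e5 : (φh.comp (ι.codRestrict (P ⊔ Q) hιv)).codRestrict _ (fun y => hφhv _) (Subgroup.inclusion le_sup_right q) =
          z := Subtype.ext e4
      rw [hχh]
      simp only [MonoidHom.comp_apply]
      rw [e5]
      exact hze
    · exact hval x (hWsub hαx) hφx
  · -- Frattini
    intro P hPV φ hφ
    obtain ⟨φt, hφt, hφta, hφtQ⟩ := hQ.2 P φ hφ
    have hQinj := F.injective_of_mem hφt
    let g : MulAut Q := Cfsg.Agent.Lib.Fusion.Normal.autOfMapEq φt hQinj le_sup_right hφtQ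
    have hgv : ∀ x : Q, ((g x : Q) : Ω) = φt (Subgroup.inclusion le_sup_right x) := fun x => rfl
    have hgF : Q.subtype.comp g.toMonoidHom ∈ F.Hom Q := mem_of_eq_res hφt le_sup_right (fun x => rfl)
    have hFN := Cfsg.Agent.Lib.Fusion.ModelF.isFullyNormalized_of_le_normalizer (F := F) hQS
      (StronglyClosed.le_normalizer hQsc)
    have hQr := fullyNormalized_receptive hS hF hFN
    have hgr : (Q.subtype.comp g.toMonoidHom).range = Q := by
      ext y
      constructor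
      · rintro ⟨z, rfl⟩
        exact (g z).2
      · intro hy
        exact ⟨g⁻¹ ⟨y, hy⟩, by simp⟩
    obtain ⟨g₀, hg₀, hg₀a⟩ := hQr.2 Q _ hgF hgr
    have hext : Q ⊔ centralizerIn S Q ≤ extender S Q (Q.subtype.comp g.toMonoidHom) :=
      sup_centralizerIn_le_extender hQS (map_mem_S hgF)
    have hgh := res_mem hg₀ hext
    set gh : ↥(Q ⊔ centralizerIn S Q) →* Ω := g₀.comp (Subgroup.inclusion hext) with hghd
    have hghQ : ∀ x : Q, gh (Subgroup.inclusion le_sup_left x) = g x := by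
      intro x
      exact hg₀a x x.2 (hext (le_sup_left (a := Q) x.2))
    have hghV : ∀ x : centralizerIn S Q, gh (Subgroup.inclusion le_sup_right x) ∈ centralizerIn S Q :=
      fun x => stronglyClosed_apply hVsc hgh _ x.2
    have hghv : ∀ x, gh x ∈ Q ⊔ centralizerIn S Q := by
      intro x
      refine map_mem_sup_of_ext gh (fun y => ?_) (fun y => ?_) x
      · rw [hghQ]
        exact le_sup_left (a := Q) (g y).2
      · exact le_sup_right (a := Q) (hghV y)
    have hNS : Q ⊔ centralizerIn S Q ≤ S := sup_le hQS hVS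
    haveI hfinN : Finite ↥(Q ⊔ centralizerIn S Q) := finite_of_le hNS
    have hghr : gh.range = Q ⊔ centralizerIn S Q := range_eq_of_card hgh hghv le_rfl
    obtain ⟨ι, hι, hιr, hι1, hι2⟩ := exists_inv hgh hghr
    -- the automorphism of `V`
    haveI hfinV : Finite (centralizerIn S Q) := finite_of_le hVS
    have hghV' := res_mem hgh (le_sup_right : centralizerIn S Q ≤ Q ⊔ centralizerIn S Q)
    let a : MulAut (centralizerIn S Q) := autOfHom (gh.comp (Subgroup.inclusion le_sup_right))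
      (F.injective_of_mem hghV') hghV
    have ha : a ∈ F.autGroup (centralizerIn S Q) := autOfHom_mem hghV' hghV
    -- `φ₀`
    have hφtv : ∀ u, φt u ∈ Q ⊔ centralizerIn S Q := by
      intro u
      refine map_mem_sup_of_ext φt (fun y => ?_) (fun y => ?_) u
      · rw [hφta]
        exact le_sup_right (a := Q) (hVsc.2 P hPV φ hφ y)
      · exact le_sup_left (a := Q) (hφtQ.le ⟨_, y.2, rfl⟩)
    have hψ : ι.comp (φt.codRestrict _ hφtv) ∈ F.Hom (P ⊔ Q) := F.comp_mem hφt hι hφtv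
    set ψ : ↥(P ⊔ Q) →* Ω := ι.comp (φt.codRestrict _ hφtv) with hψd
    have hPN : P ≤ P ⊔ Q := le_sup_left
    have hψfix : ∀ q : Q, ψ (Subgroup.inclusion le_sup_right q) = q := by
      intro q
      have e1 : φt.codRestrict _ hφtv (Subgroup.inclusion le_sup_right q) =
          (⟨gh (Subgroup.inclusion le_sup_left q), hghv _⟩ : ↥(Q ⊔ centralizerIn S Q)) := by
        apply Subtype.ext
        show φt (Subgroup.inclusion le_sup_right q) = gh (Subgroup.inclusion le_sup_left q)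
        rw [hghQ, hgv]
      show ι (φt.codRestrict _ hφtv (Subgroup.inclusion le_sup_right q)) = q
      rw [e1, hι1]
      rfl
    have hφ₀v : ∀ x : P, ψ (Subgroup.inclusion hPN x) ∈ centralizerIn S Q := by
      intro x
      have e1 : φt.codRestrict _ hφtv (Subgroup.inclusion hPN x) =
          Subgroup.inclusion le_sup_right (⟨φ x, hVsc.2 P hPV φ hφ x⟩ : centralizerIn S Q) := Subtype.ext (hφta x)
      show ι (φt.codRestrict _ hφtv (Subgroup.inclusion hPN x)) ∈ _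
      rw [e1]
      exact stronglyClosed_apply hVsc hι _ (hVsc.2 P hPV φ hφ x)
    refine ⟨a, ha, ψ.comp (Subgroup.inclusion hPN), ⟨res_mem hψ hPN, hPV, hφ₀v, ψ, hψ, fun x => rfl, hψfix⟩,
      fun x hx => ?_⟩
    have e1 : φt.codRestrict _ hφtv (Subgroup.inclusion hPN x) =
        (⟨φ x, le_sup_right (a := Q) (hVsc.2 P hPV φ hφ x)⟩ : ↥(Q ⊔ centralizerIn S Q)) := Subtype.ext (hφta x)
    have e2 : ψ (Subgroup.inclusion hPN x) = ι ⟨φ x, le_sup_right (a := Q) (hVsc.2 P hPV φ hφ x)⟩ := by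
      show ι (φt.codRestrict _ hφtv (Subgroup.inclusion hPN x)) = _
      rw [e1]
    have hmem : ι ⟨φ x, le_sup_right (a := Q) (hVsc.2 P hPV φ hφ x)⟩ ∈ Q ⊔ centralizerIn S Q :=
      hιr.le ⟨_, rfl⟩
    have h3 := hι2 ⟨φ x, le_sup_right (a := Q) (hVsc.2 P hPV φ hφ x)⟩ hmem
    show φ x = gh (Subgroup.inclusion le_sup_right ⟨_, hx⟩)
    refine h3.symm.trans ?_
    exact congrArg gh (Subtype.ext e2.symm)
  · -- extension condition
    intro α hα
    obtain ⟨hφF, -, -, ψ, hψ, hψa, hψfix⟩ := autGroup_mem_hom (F := centralizerSystem F Q hQS) le_rfl hα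
    have hVN : centralizerIn S Q ≤ centralizerIn S Q ⊔ Q := le_sup_left
    have hQN : Q ≤ centralizerIn S Q ⊔ Q := le_sup_right
    have hNS : centralizerIn S Q ⊔ Q ≤ S := sup_le hVS hQS
    haveI hfinN : Finite ↥(centralizerIn S Q ⊔ Q) := finite_of_le hNS
    have hψv : ∀ x, ψ x ∈ centralizerIn S Q ⊔ Q := by
      intro x
      refine map_mem_sup_of_ext ψ (fun y => ?_) (fun y => ?_) x
      · rw [hψa]
        exact hVN (α y).2
      · rw [hψfix]
        exact hQN y.2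
    have hψr : ψ.range = centralizerIn S Q ⊔ Q := range_eq_of_card hψ hψv le_rfl
    have hnorm : S ≤ Subgroup.normalizer ((centralizerIn S Q ⊔ Q : Subgroup Ω) : Set Ω) := fun s hs =>
      Cfsg.Agent.Lib.Fusion.KNormalizer.mem_normalizer_sup (StronglyClosed.le_normalizer hVsc hs)
        (StronglyClosed.le_normalizer hQsc hs)
    have hFN := Cfsg.Agent.Lib.Fusion.ModelF.isFullyNormalized_of_le_normalizer (F := F) hNS hnorm
    have hNr := fullyNormalized_receptive hS hF hFN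
    obtain ⟨ψh, hψh, hψha⟩ := hNr.2 _ ψ hψ hψr
    have hcv : ∀ {v : Ω}, v ∈ centralizerIn S (centralizerIn S Q) → v ∈ extender S (centralizerIn S Q ⊔ Q) ψ := by
      intro v hv
      have hvS : v ∈ S := hv.1
      have hvN := hnorm hvS
      refine extender_closure_mem hvS hvN hvS (fun x hx => ?_)
      -- the two homomorphisms agree
      have hfg : ψ.comp (normConj v hvN).toMonoidHom = (MulAut.conj v).toMonoidHom.comp ψ := by
        refine hom_ext_sup (fun y => ?_) (fun y => ?_)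
        · have h1 := Subgroup.mem_centralizer_iff.1 hv.2 y y.2
          have e1 : (normConj v hvN) (Subgroup.inclusion hVN y) = Subgroup.inclusion hVN y := by
            apply Subtype.ext
            show v * (y : Ω) * v⁻¹ = y
            rw [← h1]
            group
          show ψ ((normConj v hvN) (Subgroup.inclusion hVN y)) = v * ψ (Subgroup.inclusion hVN y) * v⁻¹
          rw [e1, hψa]
          have h2 := Subgroup.mem_centralizer_iff.1 hv.2 (α y : centralizerIn S Q) (α y).2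
          show ((α y : centralizerIn S Q) : Ω) = v * ((α y : centralizerIn S Q) : Ω) * v⁻¹
          rw [← h2]
          group
        · have hz : v * (y : Ω) * v⁻¹ ∈ Q := StronglyClosed.conj_mem hQsc hvS y.2
          have e1 : (normConj v hvN) (Subgroup.inclusion hQN y) = Subgroup.inclusion hQN ⟨_, hz⟩ := Subtype.ext rfl
          show ψ ((normConj v hvN) (Subgroup.inclusion hQN y)) = v * ψ (Subgroup.inclusion hQN y) * v⁻¹
          rw [e1, hψfix, hψfix]
      have h1 := congrArg (fun f : ↥(centralizerIn S Q ⊔ Q) →* Ω => f x) hfg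
      exact h1
    have hhat : centralizerIn S Q ⊔ centralizerIn S (centralizerIn S Q) ≤ extender S (centralizerIn S Q ⊔ Q) ψ :=
      sup_le (hVN.trans (le_extender hNS (map_mem_S hψ))) (fun v hv => hcv hv)
    have hNext : centralizerIn S Q ⊔ Q ≤ extender S (centralizerIn S Q ⊔ Q) ψ := le_extender hNS (map_mem_S hψ)
    have hψ₁ := res_mem hψh hhat
    set ψ₁ : ↥(centralizerIn S Q ⊔ centralizerIn S (centralizerIn S Q)) →* Ω := ψh.comp (Subgroup.inclusion hhat) with hψ₁d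
    have hψ₁V : ∀ x : centralizerIn S Q, ψ₁ (Subgroup.inclusion le_sup_left x) = α x := by
      intro x
      have h1 := hψha x (hVN x.2) (hhat (le_sup_left (a := centralizerIn S Q) x.2))
      refine h1.trans (hψa x)
    have hz : ∀ (c : Ω) (hc : c ∈ centralizerIn S (centralizerIn S Q))
        (hc' : c ∈ centralizerIn S Q ⊔ centralizerIn S (centralizerIn S Q)),
        c⁻¹ * ψ₁ ⟨c, hc'⟩ ∈ centralizerIn S Q ⊓ Subgroup.centralizer ((centralizerIn S Q : Subgroup Ω) : Set Ω) := by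
      intro c hc hc'
      have hcE := hhat hc'
      set z : Ω := c⁻¹ * ψ₁ ⟨c, hc'⟩ with hzd
      have hzS : z ∈ S := S.mul_mem (S.inv_mem hc.1) (map_mem_S hψ₁ _)
      have hcN := hnorm hc.1
      have key : ∀ x : ↥(centralizerIn S Q ⊔ Q), z * ψ x = ψ x * z := by
        intro x
        have hxm : c * (x : Ω) * c⁻¹ ∈ centralizerIn S Q ⊔ Q :=
          (Subgroup.mem_normalizer_iff.1 hcN _).1 x.2
        have h1 : ψh ⟨c * x * c⁻¹, hNext hxm⟩ = ψ ⟨c * x * c⁻¹, hxm⟩ := hψha _ hxm (hNext hxm)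
        have e1 : (⟨c * x * c⁻¹, hNext hxm⟩ : extender S (centralizerIn S Q ⊔ Q) ψ) =
            ⟨c, hcE⟩ * ⟨x, hNext x.2⟩ * ⟨c, hcE⟩⁻¹ := Subtype.ext rfl
        have h2 : ψh ⟨x, hNext x.2⟩ = ψ x := hψha _ x.2 (hNext x.2)
        rw [e1, map_mul, map_mul, map_inv, h2] at h1
        have h3 : ψh ⟨c, hcE⟩ = ψ₁ ⟨c, hc'⟩ := rfl
        rw [h3] at h1
        have h4 : ψ ⟨c * x * c⁻¹, hxm⟩ = c * ψ x * c⁻¹ := by
          have := congrArg (fun f : ↥(centralizerIn S Q ⊔ Q) →* Ω => f x) (show ψ.comp (normConj c hcN).toMonoidHom =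
            (MulAut.conj c).toMonoidHom.comp ψ from by
              refine hom_ext_sup (fun y => ?_) (fun y => ?_)
              · have h1 := Subgroup.mem_centralizer_iff.1 hc.2 y y.2
                have e1 : (normConj c hcN) (Subgroup.inclusion hVN y) = Subgroup.inclusion hVN y := by
                  apply Subtype.ext
                  show c * (y : Ω) * c⁻¹ = y
                  rw [← h1]
                  group
                show ψ ((normConj c hcN) (Subgroup.inclusion hVN y)) = c * ψ (Subgroup.inclusion hVN y) * c⁻¹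
                rw [e1, hψa]
                have h2 := Subgroup.mem_centralizer_iff.1 hc.2 (α y : centralizerIn S Q) (α y).2
                show ((α y : centralizerIn S Q) : Ω) = c * ((α y : centralizerIn S Q) : Ω) * c⁻¹
                rw [← h2]
                group
              · have hz : c * (y : Ω) * c⁻¹ ∈ Q := StronglyClosed.conj_mem hQsc hc.1 y.2
                have e1 : (normConj c hcN) (Subgroup.inclusion hQN y) = Subgroup.inclusion hQN ⟨_, hz⟩ := Subtype.ext rfl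
                show ψ ((normConj c hcN) (Subgroup.inclusion hQN y)) = c * ψ (Subgroup.inclusion hQN y) * c⁻¹
                rw [e1, hψfix, hψfix])
          exact this
        rw [h4] at h1
        rw [hzd]
        have h5 : ψ₁ ⟨c, hc'⟩ * ψ x * (ψ₁ ⟨c, hc'⟩)⁻¹ = c * ψ x * c⁻¹ := h1
        calc c⁻¹ * ψ₁ ⟨c, hc'⟩ * ψ x = c⁻¹ * (ψ₁ ⟨c, hc'⟩ * ψ x * (ψ₁ ⟨c, hc'⟩)⁻¹) * ψ₁ ⟨c, hc'⟩ := by group
          _ = c⁻¹ * (c * ψ x * c⁻¹) * ψ₁ ⟨c, hc'⟩ := by rw [h5]
          _ = ψ x * (c⁻¹ * ψ₁ ⟨c, hc'⟩) := by group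
      have hall : ∀ y ∈ centralizerIn S Q ⊔ Q, y * z = z * y := by
        intro y hy
        have hyr : y ∈ ψ.range := by rw [hψr]; exact hy
        obtain ⟨x, rfl⟩ := hyr
        exact (key x).symm
      refine ⟨⟨hzS, ?_⟩, ?_⟩
      · show z ∈ Subgroup.centralizer (Q : Set Ω)
        rw [Subgroup.mem_centralizer_iff]
        intro q hq
        exact hall q (hQN hq)
      · show z ∈ Subgroup.centralizer ((centralizerIn S Q : Subgroup Ω) : Set Ω)
        rw [Subgroup.mem_centralizer_iff]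
        intro v hv
        exact hall v (hVN hv)
    have hψ₁v : ∀ x, ψ₁ x ∈ centralizerIn S Q ⊔ centralizerIn S (centralizerIn S Q) := by
      intro x
      refine map_mem_sup_of_ext ψ₁ (fun y => ?_) (fun y => ?_) x
      · rw [hψ₁V]
        exact le_sup_left (a := centralizerIn S Q) (α y).2
      · have h1 := hz y y.2 (le_sup_right (a := centralizerIn S Q) y.2)
        have e : ψ₁ (Subgroup.inclusion le_sup_right y) =
            (y : Ω) * ((y : Ω)⁻¹ * ψ₁ ⟨y, le_sup_right (a := centralizerIn S Q) y.2⟩) := by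
          rw [mul_inv_cancel_left]
          rfl
        rw [e]
        exact Subgroup.mul_mem _ (le_sup_right (a := centralizerIn S Q) y.2) (le_sup_left (a := centralizerIn S Q) h1.1)
    have hhS : centralizerIn S Q ⊔ centralizerIn S (centralizerIn S Q) ≤ S := sup_le hVS inf_le_left
    haveI hfinH : Finite ↥(centralizerIn S Q ⊔ centralizerIn S (centralizerIn S Q)) := finite_of_le hhS
    refine ⟨autOfHom ψ₁ (F.injective_of_mem hψ₁) hψ₁v, autOfHom_mem hψ₁ hψ₁v, fun x => hψ₁V x, fun c hc => ?_⟩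
    exact hz c hc c.2

end CentralizerNormal

end Cfsg.Agent.Lib.Fusion.CoreCentral
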