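/-
If the alternating chain of residual subsystems terminates, the system is constrained and its model is `p`-soluble.
-/
import Mathlib
import Cfsg.Agent.Lib.Fusion.ResidSeries4
import Cfsg.Agent.Lib.Fusion.Hyperfocal
import Cfsg.Agent.Lib.Fusion.Tate

set_option autoImplicit false

namespace Cfsg.Agent.Lib.Fusion.ResidSeries

open Cfsg Cfsg.FusionSystem Cfsg.Agent.Lib.Fusion.Basic
open Cfsg.Agent.Lib.Fusion.Joins (exists_hom_of_eq isNormal_core)
open Cfsg.Agent.Lib.Fusion.PPrime
open Cfsg.Agent.Lib.Fusion.Saturated (finite_autGroup)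

variable {Ω : Type*} [Group Ω] {S : Subgroup Ω}

/-- The system is constrained, and the automizer of its largest normal subgroup is `p`-soluble. -/
def QQ (F : FusionSystem S) (p : ℕ) : Prop := F.IsConstrained p ∧ IsPSolvable p (F.autGroup F.core)

section main

variable [Finite S] {p : ℕ} [hp : Fact p.Prime]

/-- The part of `O_p(E)` in `T` lies in `O_p(D)`, for `D` normal in `E` over `T`. -/
theorem inf_core_le (hS : IsPGroup p S) {E : FusionSystem S} {T : Subgroup Ω} {D : FusionSystem T}
    (hD : D.IsNormalIn E p) : T ⊓ E.core ≤ D.core := by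
  classical
  obtain ⟨⟨hDs, -, hsub, hTc, -, -⟩, -⟩ := hD
  have hTS : T ≤ S := hTc.1
  haveI : Finite T := finite_of_le hTS
  have hTp : IsPGroup p T := isPGroup_of_le hS hTS
  have hR := isNormal_core E
  have hRs := NormalCR.IsNormal.stronglyClosed hR
  set Q : Subgroup Ω := T ⊓ E.core with hQ
  have hQT : Q ≤ T := inf_le_left
  haveI : Finite Q := finite_of_le hQT
  have hext : ∀ (P : Subgroup Ω) (hP : P ≤ Q) (φ : P →* Ω), φ ∈ D.Hom P → ∃ f : Q →* Ω, (∀ x : Q, f x ∈ Q) ∧
      Function.Injective f ∧ ∀ x : P, f (Subgroup.inclusion hP x) = φ x := by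
    intro P hP φ hφ
    obtain ⟨ψ, hψ, hag, himg⟩ := hR.2 P φ (hsub P hφ)
    have hQsup : Q ≤ P ⊔ E.core := (inf_le_right : Q ≤ E.core).trans le_sup_right
    have hres := res_mem hψ hQsup
    refine ⟨ψ.comp (Subgroup.inclusion hQsup), fun x => ⟨hTc.2 Q hQT _ hres x, ?_⟩,
      E.injective_of_mem hres, fun x => hag x⟩
    have hx : (x : Ω) ∈ E.core := (inf_le_right : Q ≤ E.core) x.2
    have h1 : ψ (Subgroup.inclusion hQsup x) ∈ (E.core.subgroupOf (P ⊔ E.core)).map ψ := ⟨_, hx, rfl⟩
    rw [himg] at h1
    exact h1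
  have hsc := stronglyClosed_uc_of_ext (F := D) hQT hext
  obtain ⟨n, hn⟩ := exists_uc_eq (isPGroup_of_le hTp hQT)
  exact le_sSup (isNormal_of_uc hTp hDs (hn ▸ hsc n) hsc)

/-- The first half of the step. -/
theorem isPSolvable_of_normal_pPower (hS : IsPGroup p S) {E : FusionSystem S} (hE : E.IsSaturated p) {T : Subgroup Ω}
    {D : FusionSystem T} (hD : D.IsNormalIn E p) (hi : D.HasPPowerIndexIn E p)
    (hDs : IsPSolvable p (D.autGroup D.core)) : IsPSolvable p (E.autGroup E.core) := by
  classical
  have hR := isNormal_core E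
  have hRS : E.core ≤ S := hR.1
  have hR₀ : E.IsNormal D.core := isNormal_core_of_isNormalIn hS hE hD
  have hR₀R : D.core ≤ E.core := le_sSup hR₀
  have hTS : T ≤ S := hD.1.2.2.2.1.1
  haveI : Finite T := finite_of_le hTS
  have hR₀T : D.core ≤ T := (isNormal_core D).1
  have hRp : IsPGroup p E.core := isPGroup_of_le hS hRS
  haveI : Finite E.core := finite_of_le hRS
  haveI : Finite D.core := finite_of_le hR₀T
  haveI : Finite (E.autGroup E.core) := finite_autGroup hRS
  haveI : Finite (E.autGroup D.core) := finite_autGroup (hR₀T.trans hTS)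
  haveI : Finite (D.autGroup D.core) := finite_autGroup hR₀T
  have hsc := NormalCR.IsNormal.stronglyClosed hR₀
  let ρ := rho hsc hRS hR₀R
  have hker : IsPGroup p ρ.ker := by
    refine isPGroup_of_no_coprime fun b hb => ?_
    have hb' : Nat.Coprime (orderOf ((b : E.autGroup E.core) : MulAut E.core)) p := by
      rw [Subgroup.orderOf_coe, Subgroup.orderOf_coe]
      exact hb
    have hfix : ∀ r : D.core, (((b : E.autGroup E.core) : MulAut E.core) ⟨r, hR₀R r.2⟩ : E.core).1 = r := by
      intro r
      have h1 : ρ (b : E.autGroup E.core) = 1 := b.2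
      have h2 := congrArg (fun c : E.autGroup D.core => ((c : MulAut D.core) r : D.core).1) h1
      exact h2
    have h1 : ((b : E.autGroup E.core) : MulAut E.core) = 1 := by
      refine eq_one_of_coprime_of_fix hRp hb' (D.core.subgroupOf E.core) (fun r hr => ?_) fun u => ?_
      · exact Subtype.ext (hfix ⟨r, hr⟩)
      · have h2 := diff_mem_hyperfocal hRS (b : E.autGroup E.core).2 hb' u
        refine inf_core_le hS hD ⟨hi.2.1 h2, ?_⟩
        exact E.core.mul_mem (E.core.inv_mem u.2) (Subtype.property _)
    exact Subtype.ext (Subtype.ext h1)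
  -- the top part
  have hX : IsPSolvable p (E.autGroup D.core) := by
    refine isPSolvable_of_pResidual ?_
    have hle := hi.2.2 D.core hR₀T
    let ι : pResidual p (E.autGroup D.core) →* D.autGroup D.core :=
      { toFun := fun x => ⟨x.1.1, hle ⟨x.1, x.2, rfl⟩⟩
        map_one' := rfl
        map_mul' := fun _ _ => rfl }
    have hι : Function.Injective ι := fun a b h =>
      Subtype.ext (Subtype.ext (congrArg (fun c : D.autGroup D.core => (c : MulAut D.core)) h))
    exact Solvable.PSeries.isPSolvable_of_injective hι hDs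
  refine Solvable.PSeries.isPSolvable_of_normal_quotient ρ.ker ?_ ?_
  · exact isPSolvable_of_isPGroup hker
  · exact Solvable.PSeries.isPSolvable_of_injective (QuotientGroup.kerLift_injective ρ) hX

/-- The second half of the step. -/
theorem isPSolvable_of_primeToP {F E : FusionSystem S} (hi : E.HasPrimeToPIndexIn F p) {R : Subgroup Ω} (hRS : R ≤ S)
    (hEs : IsPSolvable p (E.autGroup R)) : IsPSolvable p (F.autGroup R) := by
  classical
  haveI : Finite R := finite_of_le hRS
  haveI : Finite (E.autGroup R) := finite_autGroup hRS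
  haveI : Finite (F.autGroup R) := finite_autGroup hRS
  refine isPSolvable_of_pElts ?_
  have hle := hi.2 R hRS
  let ι : pElts p (F.autGroup R) →* E.autGroup R :=
    { toFun := fun x => ⟨x.1.1, hle ⟨x.1, x.2, rfl⟩⟩
      map_one' := rfl
      map_mul' := fun _ _ => rfl }
  have hι : Function.Injective ι := fun a b h =>
    Subtype.ext (Subtype.ext (congrArg (fun c : E.autGroup R => (c : MulAut R)) h))
  exact Solvable.PSeries.isPSolvable_of_injective hι hEs

/-- `O_p(O^{p'}(F)) = O_p(F)`. -/
theorem core_residSys (hS : IsPGroup p S) {F : FusionSystem S} (hF : F.IsSaturated p) : (residSys F p).core = F.core := by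
  refine le_antisymm (le_sSup (isNormal_core_of_isNormalIn hS hF (isNormalIn_residSys hS hF))) ?_
  exact le_sSup (isNormal_of_le hS (residSys_saturated hS hF) (residSys_le F p) (isNormal_core F))

/-- The step: `QQ` passes from the residual system up. -/
theorem QQ_step (hS : IsPGroup p S) {F : FusionSystem S} (hF : F.IsSaturated p)
    {D : FusionSystem ((residSys F p).hyperfocalSubgroup p)} (hD : (residSys F p).IsPResidual p D) (hDQ : QQ D p) :
    QQ F p := by
  have hEs := residSys_saturated hS hF
  have hTS : (residSys F p).hyperfocalSubgroup p ≤ S := Hyperfocal.hyperfocal_le_S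
  have hDn : D.IsNormalIn (residSys F p) p :=
    PPowerNormal.isNormalIn_of_pPowerIndex hS hEs hTS (Tate.normal_hyperfocal_subgroupOf) le_rfl hD.1 hD.2
  have hcore := core_residSys hS hF
  have hC := centralizerIn_core_le hS hEs hDn le_rfl hDQ.1
  rw [hcore] at hC
  refine ⟨⟨hF, F.core, isNormal_core F, ModelLocal.isCentric_of_isNormal (isNormal_core F) hC⟩, ?_⟩
  have h1 := isPSolvable_of_normal_pPower hS hEs hDn hD.2 hDQ.2
  rw [hcore] at h1
  exact isPSolvable_of_primeToP (residSys_main hS hF).1 (isNormal_core F).1 h1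

/-- On the trivial group. -/
theorem QQ_of_eq_bot {F : FusionSystem S} (h : S = ⊥) (hF : F.IsSaturated p) : QQ F p := by
  subst h
  refine ⟨⟨hF, ⊥, Joins.isNormal_bot F, bot_le, fun Q _ => inf_le_left.trans bot_le⟩, ?_⟩
  have hc : F.core = ⊥ := le_bot_iff.1 (isNormal_core F).1
  haveI : Subsingleton F.core := by
    rw [hc]
    infer_instance
  haveI : Subsingleton (MulAut F.core) := ⟨fun a b => MulEquiv.ext fun x => Subsingleton.elim _ _⟩
  haveI : Subsingleton (F.autGroup F.core) := inferInstance
  exact Cfsg.Agent.Lib.Coprime.PSolvable.isPSolvable_of_subsingleton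

end main

/-- **A terminating chain gives a constrained system with `p`-soluble automizer.** -/
theorem QQ_of_terminating {q : ℕ} {S : Subgroup Ω} {F : FusionSystem S} (h : F.HasTerminatingResidualSeries q) :
    Fact q.Prime → Finite S → IsPGroup q S → F.IsSaturated q → QQ F q := by
  induction h with
  | trivial F p h =>
    intro _ _ _ hF
    exact QQ_of_eq_bot h hF
  | @step S F E p D hE hD _ ih =>
    intro hp hfin hS hF
    have hEe := eq_residSys hS hF hE
    subst hEe
    have hTS : (residSys F p).hyperfocalSubgroup p ≤ S := Hyperfocal.hyperfocal_le_S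
    haveI : Finite ↥((residSys F p).hyperfocalSubgroup p) := finite_of_le hTS
    exact QQ_step hS hF hD (ih hp inferInstance (isPGroup_of_le hS hTS) hD.1)

end Cfsg.Agent.Lib.Fusion.ResidSeries
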