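/-
A saturated fusion system is constrained if and only if it has no components.
-/
import Mathlib
import Cfsg.Agent.Lib.Fusion.CLift10
import Cfsg.Agent.Lib.Fusion.CoreCentral
import Cfsg.Agent.Lib.Fusion.ResidSeries5
import Cfsg.Agent.Lib.Fusion.PPowerNormal
import Cfsg.Agent.Lib.Fusion.PTheta5
import Cfsg.Agent.S5148

set_option autoImplicit false
set_option linter.style.haveILetI false
set_option linter.unusedSectionVars false

namespace Cfsg.Agent.Lib.Fusion.CompMain

open Cfsg Cfsg.FusionSystem Cfsg.Agent.Lib.Fusion.Basic Cfsg.Agent.Lib.Fusion.Saturated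
open Cfsg.Agent.Lib.Fusion.Saturated2 (autOfHom autOfHom_mem)
open Cfsg.Agent.Lib.Fusion.Joins (exists_hom_of_eq isNormal_core isCentral_center)
open Cfsg.Agent.Lib.Fusion.NormalCR
open Cfsg.Agent.Lib.Fusion.FactorMorphism
open Cfsg.Agent.Lib.Fusion.CLift
open Cfsg.Agent.Lib.Fusion.CoreCentral (subnormal_central isNormalIn_centralizerSystem)
open Cfsg.Agent.Lib.Fusion.LocalSystems (centralizerSystem)
open Cfsg.Agent.Lib.Fusion.ResidSeries
open Cfsg.Agent.Lib.Fusion.PPrime (residSys residSys_saturated residSys_le residSys_main isPPrimeResidual_residSys)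
open Cfsg.Agent.Lib.Fusion.ModelLocal (isCentric_of_isNormal)
open Cfsg.Agent.Lib.Fusion.Hyperfocal (hyperfocal_le_S stronglyClosed_hyperfocal)

variable {Ω : Type*} [Group Ω] {S : Subgroup Ω} {p : ℕ} [hp : Fact p.Prime]

/-- A central subgroup is normal. -/
theorem isNormal_of_isCentral {F : FusionSystem S} {Z : Subgroup Ω} (h : F.IsCentral Z) : F.IsNormal Z := by
  refine ⟨h.1, fun P φ hφ => ?_⟩
  obtain ⟨ψ, hψ, h1, h2⟩ := h.2 P φ hφ
  refine ⟨ψ, hψ, h1, ?_⟩
  ext y
  constructor
  · rintro ⟨x, hx, rfl⟩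
    have hx' : (x : Ω) ∈ Z := hx
    have e : x = Subgroup.inclusion le_sup_right ⟨(x : Ω), hx'⟩ := Subtype.ext rfl
    rw [e, h2]
    exact hx'
  · intro hy
    exact ⟨Subgroup.inclusion le_sup_right ⟨y, hy⟩, hy, h2 ⟨y, hy⟩⟩

section Forward

variable [Finite S]

/-- A constrained system has no component. -/
theorem no_comp_of_constrained (hS : IsPGroup p S) {F : FusionSystem S} (hc : F.IsConstrained p) {T : Subgroup Ω}
    {C : FusionSystem T} (hC : C.IsComponentIn F p) : False := by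
  obtain ⟨hsub, hq⟩ := hC
  obtain ⟨-, Q, hQn, hQc⟩ := hc
  have h := subnormal_central hsub hq hS Q hQn
  have hm : T.subtype ∈ F.centralizerHom Q T := h T (subtype_mem (F := C) (le_rfl : T ≤ T))
  have hle : T ≤ centralizerIn S Q := hm.2.1
  have hTS : T ≤ S := hle.trans centralizerIn_le
  have hTQ : T ≤ Q := hle.trans (hQc.2 Q (Basic.IsConj.refl hQc.1))
  haveI : Finite T := finite_of_le hTS
  apply Cfsg.Agent.S5148.result p (hS.to_le hTS) C hq
  refine ⟨⟨fun a b => Subtype.ext ?_⟩⟩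
  exact (Subgroup.mem_centralizer_iff.1 (hle b.2).2 a (hTQ a.2))

end Forward

section Invariant

variable [Finite S] {F M : FusionSystem S}

/-- The inverse of a map, as a map. -/
theorem symm_hom {P P₁ : Subgroup Ω} {χ : P →* Ω} (hχ : χ ∈ F.Hom P) (e : P ≃* P₁) (he : ∀ x : P, ((e x : P₁) : Ω) = χ x) :
    P.subtype.comp e.symm.toMonoidHom ∈ F.Hom P₁ := by
  have hr : χ.range = P₁ := by
    ext y
    constructor
    · rintro ⟨x, rfl⟩
      rw [← he]
      exact (e x).2
    · intro hy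
      exact ⟨e.symm ⟨y, hy⟩, by rw [← he]; simp⟩
  obtain ⟨ψ, hψ, -, h1, -⟩ := exists_inv hχ hr
  have e1 : P.subtype.comp e.symm.toMonoidHom = ψ := by
    ext y
    obtain ⟨x, rfl⟩ := e.surjective y
    have hmem : χ x ∈ P₁ := by
      rw [← he]
      exact (e x).2
    have h2 := h1 x hmem
    have e3 : (⟨χ x, hmem⟩ : P₁) = e x := Subtype.ext (he x).symm
    rw [e3] at h2
    rw [h2]
    simp
  rw [e1]
  exact hψ

/-- `p`-elements of `Aut_F(P)` are in `Aut_M(P)`, for `M` invariant in `F` over `S`. -/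
theorem pelt_mem (hS : IsPGroup p S) (hF : F.IsSaturated p) (hM : M.IsInvariantIn F) {P : Subgroup Ω} (hPS : P ≤ S)
    {α : MulAut P} (hα : α ∈ F.autGroup P) (hk : ∃ k : ℕ, α ^ p ^ k = 1) : α ∈ M.autGroup P := by
  classical
  obtain ⟨P₁, ⟨χ, hχ, hr⟩, hFN⟩ := exists_fullyNormalized (F := F) hPS
  let e : P ≃* P₁ := isoOfRange (F.injective_of_mem hχ) hr
  have he : ∀ x, ((e x : P₁) : Ω) = χ x := fun _ => rfl
  have ha₁ := congr_mem_autGroup hχ e he hα
  obtain ⟨k, hk⟩ := hk
  have hk₁ : (MulAut.congr e α) ^ p ^ k = 1 := by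
    rw [← map_pow, hk, map_one]
  have hP₁S := hFN.1
  haveI : Finite (F.autGroup P₁) := finite_autGroup hP₁S
  obtain ⟨-, R, hR⟩ := (fullyNormalized_props hS hF hFN).2
  let b : F.autGroup P₁ := ⟨_, ha₁⟩
  have hzp : IsPGroup p (Subgroup.zpowers b) :=
    Cfsg.Agent.Lib.Fusion.Saturated2.isPGroup_zpowers_of_pow (Subtype.ext hk₁)
  obtain ⟨g, hg⟩ := exists_conj_le_sylow R hzp
  have h1 := hg b (Subgroup.mem_zpowers b)
  rw [hR] at h1
  have h2 : (g : MulAut P₁) * MulAut.congr e α * (g : MulAut P₁)⁻¹ ∈ autInducedBy S P₁ := Subgroup.mem_subgroupOf.1 h1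
  have h3 : (g : MulAut P₁) * MulAut.congr e α * (g : MulAut P₁)⁻¹ ∈ M.autGroup P₁ := autInducedBy_le_autGroup hP₁S h2
  have hg' := autGroup_mem_hom hP₁S (Subgroup.inv_mem _ g.2)
  have h4 := Cfsg.Agent.Lib.Fusion.NormalPair.congr_mem_autGroup hM hP₁S hg' ((g : MulAut P₁)⁻¹) (fun _ => rfl) h3
  have e1 : MulAut.congr ((g : MulAut P₁)⁻¹) ((g : MulAut P₁) * MulAut.congr e α * (g : MulAut P₁)⁻¹) = MulAut.congr e α := by
    rw [congr_self]
    group
  rw [e1] at h4
  have h5 := Cfsg.Agent.Lib.Fusion.NormalPair.congr_mem_autGroup hM hP₁S (symm_hom hχ e he) e.symm (fun _ => rfl) h4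
  have e2 : MulAut.congr e.symm (MulAut.congr e α) = α := by
    ext x
    simp [MulAut.congr_apply]
  rwa [e2] at h5

/-- A normal subsystem over `S` of the residual system contains it. -/
theorem residSys_le_of_normal (hS : IsPGroup p S) (hF : F.IsSaturated p) (hM : M.IsNormalIn (residSys F p) p) (P : Subgroup Ω) :
    (residSys F p).Hom P ⊆ M.Hom P := by
  have hD := residSys_saturated hS hF
  have hinv : M.IsInvariantIn (residSys F p) := hM.1.2.2
  refine (isPPrimeResidual_residSys hS hF).2.2 M hM.1.1 ⟨fun P _ h => residSys_le F p P (hinv.1 P h), fun P hPS => ?_⟩ P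
  rw [Subgroup.map_le_iff_le_comap, Subgroup.closure_le]
  rintro α ⟨k, hk⟩
  have h1 := (residSys_main hS hF).1.2 P hPS (Subgroup.mem_map_of_mem _ (Subgroup.subset_closure ⟨k, hk⟩))
  refine pelt_mem hS hD hinv hPS h1 ⟨k, ?_⟩
  have h2 : α ^ p ^ k = 1 := by
    rw [← hk]
    exact pow_orderOf_eq_one α
  exact congrArg Subtype.val h2

end Invariant

section Main

variable [Finite S] {F : FusionSystem S}

theorem normal_of_sc {T : Subgroup Ω} (hT : F.StronglyClosed T) : (T.subgroupOf S).Normal :=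
  ⟨fun _ hn g => Subgroup.mem_subgroupOf.2 (StronglyClosed.conj_mem hT g.2 (Subgroup.mem_subgroupOf.1 hn))⟩

/-- The factor system modulo the centre is simple, in the reduced situation. -/
theorem isSimple_factor (hS : IsPGroup p S) (hF : F.IsSaturated p) (hne : ¬ S ≤ F.center)
    (hdich : ∀ {T : Subgroup Ω} {E : FusionSystem T}, E.IsNormalIn F p → T ≠ S → T ≤ F.center)
    (hmin : ∀ {T : Subgroup Ω} {M : FusionSystem T}, M.IsNormalIn F p → T = S → ∀ P, F.Hom P ⊆ M.Hom P)
    {E : FusionSystem (⊤ : Subgroup (S ⧸ (F.center).subgroupOf S))}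
    (hE : F.IsFactorSystem F.center (QuotientGroup.mk' ((F.center).subgroupOf S)) E) : E.IsSimple p := by
  classical
  have hZc := isCentral_center F
  have hZsc := central_sc hZc
  have hmor := isSurjectiveMorphism_of_isFactorSystem hS hF hZsc hE
  have hEs : E.IsSaturated p := Cfsg.Agent.Lib.Fusion.Image.isSaturated_image hS hF hmor
  refine ⟨hEs, ?_, fun T' N hN => ?_⟩
  · intro h
    apply hne
    intro s hs
    have h1 : QuotientGroup.mk' ((F.center).subgroupOf S) ⟨s, hs⟩ ∈ (⊤ : Subgroup (S ⧸ (F.center).subgroupOf S)) := trivial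
    rw [h] at h1
    exact (hE.2.1 ⟨s, hs⟩).1 h1
  · have c : Ctx p F F.center (preimageAlong (QuotientGroup.mk' ((F.center).subgroupOf S)) T')
        (QuotientGroup.mk' ((F.center).subgroupOf S)) E N := ⟨hS, hF, hZc, hE, hN, rfl⟩
    have hsurj : ∀ y : S ⧸ (F.center).subgroupOf S, ∃ s : S, QuotientGroup.mk' ((F.center).subgroupOf S) s = y :=
      fun y => QuotientGroup.mk'_surjective _ y
    obtain ⟨M, hM, hM1, hM2⟩ := lift_theorem c
    by_cases hT : preimageAlong (QuotientGroup.mk' ((F.center).subgroupOf S)) T' = S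
    · right
      have htop : T' = ⊤ := by
        rw [eq_top_iff]
        intro y _
        obtain ⟨s, rfl⟩ := hsurj y
        have hs : (s : Ω) ∈ preimageAlong (QuotientGroup.mk' ((F.center).subgroupOf S)) T' := by
          rw [hT]
          exact s.2
        exact (mem_preimage.1 hs).2
      refine ⟨htop, fun P' => Set.Subset.antisymm (c.hinvN.1 P') (fun φ' hφ' => ?_)⟩
      obtain ⟨hP', φ, hφ, hind⟩ := (c.hiff _ _).1 hφ'
      obtain ⟨β, hβ, hind₂⟩ := hM1 _ φ (hmin hM hT _ hφ)
      obtain ⟨β', hβ', hβ'e⟩ := exists_hom_of_eq N (image_preimage c hP') β hβ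
      have e : β' = φ' := by
        ext ⟨y, hy⟩
        obtain ⟨s, rfl⟩ := hsurj y
        have hsP : (s : Ω) ∈ preimageAlong (QuotientGroup.mk' ((F.center).subgroupOf S)) P' := mem_preimage.2 ⟨s.2, hy⟩
        obtain ⟨h0, hv, hmem, he⟩ := hind
        obtain ⟨h0', hv', hmem', he'⟩ := hind₂
        have h1 := he ⟨s, hsP⟩
        have h2 := he' ⟨s, hsP⟩
        have hy' : QuotientGroup.mk' ((F.center).subgroupOf S) s ∈ imageAlong (QuotientGroup.mk' ((F.center).subgroupOf S))
            (preimageAlong (QuotientGroup.mk' ((F.center).subgroupOf S)) P') := hmem' ⟨s, hsP⟩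
        rw [hβ'e _ hy' hy]
        exact h2.trans h1.symm
      rw [← e]
      exact hβ'
    · left
      have h1 := hdich hM hT
      rw [Subgroup.eq_bot_iff_forall]
      intro y hy
      obtain ⟨s, rfl⟩ := hsurj y
      have hs : (s : Ω) ∈ preimageAlong (QuotientGroup.mk' ((F.center).subgroupOf S)) T' := mem_preimage.2 ⟨s.2, hy⟩
      exact (hE.2.1 s).2 (h1 hs)

/-- The reduced situation. -/
theorem exists_component_reduced (hS : IsPGroup p S) (hF : F.IsSaturated p) (hnc : ¬ F.IsConstrained p)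
    (hmin₀ : ∀ M : FusionSystem S, M.IsNormalIn F p → ∀ P, F.Hom P ⊆ M.Hom P)
    (IH : ∀ (T : Subgroup Ω) [Finite T], Nat.card T < Nat.card S → IsPGroup p T → ∀ E : FusionSystem T, E.IsSaturated p →
      ¬ E.IsConstrained p → ∃ (U : Subgroup Ω) (C : FusionSystem U), C.IsComponentIn E p) :
    ∃ (T : Subgroup Ω) (C : FusionSystem T), C.IsComponentIn F p := by
  classical
  by_contra hno
  have hmin : ∀ {T : Subgroup Ω} {M : FusionSystem T}, M.IsNormalIn F p → T = S → ∀ P, F.Hom P ⊆ M.Hom P := by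
    intro T M hM h
    subst h
    exact hmin₀ M hM
  have hlocal : ∀ {T : Subgroup Ω} {E : FusionSystem T}, E.IsNormalIn F p → T ≠ S → E.IsConstrained p := by
    intro T E hE hne
    by_contra hEc
    have hTS : T ≤ S := hE.1.2.2.2.1.1
    haveI : Finite T := finite_of_le hTS
    have hlt : Nat.card T < Nat.card S := Cfsg.Agent.Lib.Fusion.Saturated2.card_lt_of_lt (lt_of_le_of_ne hTS hne)
    obtain ⟨U, C, hC⟩ := IH T hlt (hS.to_le hTS) E hE.1.1 hEc
    exact hno ⟨U, C, .step hC.1 hE, hC.2⟩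
  have hQ := isNormal_core F
  have hconstr : centralizerIn S F.core ≤ F.core → False := fun hcen =>
    hnc ⟨hF, F.core, hQ, isCentric_of_isNormal hQ hcen⟩
  have hcentral : F.IsCentral F.core := by
    by_cases h : centralizerIn S F.core = S
    · have hm := hmin (isNormalIn_centralizerSystem hS hF hQ) h
      refine ⟨hQ.1, fun P φ hφ => ?_⟩
      obtain ⟨-, -, -, ψ, hψ, h1, h2⟩ := hm P hφ
      exact ⟨ψ, hψ, h1, h2⟩
    · exfalso
      have hC := isNormalIn_centralizerSystem hS hF hQ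
      obtain ⟨-, Q₂, hQ₂n, hQ₂c⟩ := hlocal hC h
      have hR := isNormal_core_of_isNormalIn hS hF hC
      have hRQ : (centralizerSystem F F.core hQ.1).core ≤ F.core := le_sSup hR
      have hQ₂R : Q₂ ≤ (centralizerSystem F F.core hQ.1).core := le_sSup hQ₂n
      refine hconstr (fun w hw => ?_)
      have h3 : w ∈ centralizerIn (centralizerIn S F.core) Q₂ :=
        ⟨hw, Subgroup.mem_centralizer_iff.2 fun y hy => Subgroup.mem_centralizer_iff.1 hw.2 y (hRQ (hQ₂R hy))⟩
      exact hRQ (hQ₂R (hQ₂c.2 Q₂ (Basic.IsConj.refl hQ₂c.1) h3))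
  have hcoreZ : F.core ≤ F.center := le_sSup hcentral
  have hZcore : F.center ≤ F.core := le_sSup (isNormal_of_isCentral (isCentral_center F))
  have hdich : ∀ {T : Subgroup Ω} {E : FusionSystem T}, E.IsNormalIn F p → T ≠ S → T ≤ F.center := by
    intro T E hE hne
    obtain ⟨-, Q₂, hQ₂n, hQ₂c⟩ := hlocal hE hne
    have hTS : T ≤ S := hE.1.2.2.2.1.1
    haveI : Finite T := finite_of_le hTS
    have hR := isNormal_core_of_isNormalIn hS hF hE
    have hQ₂Z : Q₂ ≤ F.center := (le_sSup hQ₂n : Q₂ ≤ E.core).trans ((le_sSup hR : E.core ≤ F.core).trans hcoreZ)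
    intro t ht
    have h3 : t ∈ centralizerIn T Q₂ :=
      ⟨ht, Subgroup.mem_centralizer_iff.2 fun y hy => central_comm (isCentral_center F) (hQ₂Z hy) (hTS ht) |>.symm⟩
    exact hQ₂Z (hQ₂c.2 Q₂ (Basic.IsConj.refl hQ₂c.1) h3)
  have hH : F.hyperfocalSubgroup p = S := by
    by_contra hne
    obtain ⟨E, hEs, hEi⟩ := Cfsg.Agent.Lib.Fusion.PTheta.exists_pPowerIndex (p := p) _ S rfl F hS hF _ hyperfocal_le_S le_rfl
    have hEn := Cfsg.Agent.Lib.Fusion.PPowerNormal.isNormalIn_of_pPowerIndex hS hF hyperfocal_le_S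
      (normal_of_sc (stronglyClosed_hyperfocal hS hF)) le_rfl hEs hEi
    exact hnc (isConstrained_of_residual hS hF hEn le_rfl (hlocal hEn hne))
  have hne : ¬ S ≤ F.center := fun h => hconstr (fun w hw => hZcore (h hw.1))
  exact hno ⟨S, F, .refl F p, hF, hH, fun E hE => isSimple_factor hS hF hne hdich hmin hE⟩

/-- A system which is not constrained has a component. -/
theorem exists_component (n : ℕ) : ∀ (S : Subgroup Ω) [Finite S], Nat.card S = n → IsPGroup p S → ∀ F : FusionSystem S,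
    F.IsSaturated p → ¬ F.IsConstrained p → ∃ (T : Subgroup Ω) (C : FusionSystem T), C.IsComponentIn F p := by
  induction n using Nat.strong_induction_on with
  | _ n ih =>
    intro S _ hn hS F hF hnc
    have hDs := residSys_saturated hS hF
    have hDn := isNormalIn_residSys hS hF
    have hDnc : ¬ (residSys F p).IsConstrained p := fun h => hnc (isConstrained_of_residual hS hF hDn hyperfocal_le_S h)
    obtain ⟨T, C, hC⟩ := exists_component_reduced hS hDs hDnc (fun M hM P => residSys_le_of_normal hS hF hM P)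
      (fun T _ hlt hTp E hE hEc => ih _ (hn ▸ hlt) T rfl hTp E hE hEc)
    exact ⟨T, C, .step hC.1 hDn, hC.2⟩

/-- **A saturated system is constrained iff it has no component.** -/
theorem isConstrained_iff (hS : IsPGroup p S) (hF : F.IsSaturated p) :
    F.IsConstrained p ↔ ¬ ∃ (T : Subgroup Ω) (C : FusionSystem T), C.IsComponentIn F p := by
  constructor
  · rintro hc ⟨T, C, hC⟩
    exact no_comp_of_constrained hS hc hC
  · intro h
    by_contra hnc
    exact h (exists_component _ S rfl hS F hF hnc)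

end Main

end Cfsg.Agent.Lib.Fusion.CompMain
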