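/-
Constrained systems: normalizer systems of fully normalized subgroups are constrained.
-/
import Mathlib
import Cfsg.Agent.Lib.Fusion.CompMain
import Cfsg.Agent.Lib.Fusion.ModelLocal
import Cfsg.Agent.Lib.Fusion.GroupSylow

set_option autoImplicit false
set_option linter.style.haveILetI false
set_option linter.unusedSectionVars false

namespace Cfsg.Agent.Lib.Fusion.CompChar

open Cfsg Cfsg.FusionSystem Cfsg.Agent.Lib.Fusion.Basic Cfsg.Agent.Lib.Fusion.Saturated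
open Cfsg.Agent.Lib.Fusion.Saturated2 (autOfHom autOfHom_mem lt_normalizerIn card_lt_of_lt)
open Cfsg.Agent.Lib.Fusion.Joins (exists_hom_of_eq isNormal_core)
open Cfsg.Agent.Lib.Fusion.LocalSystems (map_mem_sup_of_ext)
open Cfsg.Agent.Lib.Fusion.NormalCR
open Cfsg.Agent.Lib.Fusion.CoreCentral (subnormal_central)
open Cfsg.Agent.Lib.Fusion.CompMain (isConstrained_iff)
open Cfsg.Agent.Lib.Fusion.ModelLocal (mem_normalizerSystem isNormal_normalizerSystem isCentric_of_isNormal)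

variable {Ω : Type*} [Group Ω] {p : ℕ} [hp : Fact p.Prime]

section Coprime

/-- A `p'`-automorphism acting trivially modulo a fixed element is trivial there. -/
theorem fix_step {B : Type*} [Group B] [Finite B] (hB : IsPGroup p B) (a : MulAut B) (ha : Nat.Coprime (orderOf a) p)
    {x c : B} (hc : a c = c) (he : a x = x * c) : a x = x := by
  have hk : ∀ k : ℕ, (a ^ k) x = x * c ^ k := by
    intro k
    induction k with
    | zero => simp
    | succ k ih =>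
      rw [pow_succ', MulAut.mul_apply, ih, map_mul, map_pow, hc, he, pow_succ', mul_assoc]
  have h1 : c ^ orderOf a = 1 := by
    have h2 := hk (orderOf a)
    rw [pow_orderOf_eq_one] at h2
    have h3 : x = x * c ^ orderOf a := h2
    exact mul_eq_left.1 h3.symm
  obtain ⟨k, hk'⟩ := hB c
  have h4 : orderOf c ∣ orderOf a := orderOf_dvd_of_pow_eq_one h1
  have h5 : orderOf c ∣ p ^ k := orderOf_dvd_of_pow_eq_one hk'
  have h6 : Nat.Coprime (orderOf a) (p ^ k) := Nat.Coprime.pow_right k ha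
  have h7 : orderOf c = 1 := Nat.eq_one_of_dvd_coprimes h6 h4 h5
  rw [orderOf_eq_one_iff.1 h7, mul_one] at he
  exact he

/-- A `p'`-automorphism fixing `P` pointwise and preserving `A ≥ P` with `C_A(P) ≤ P` fixes `A` pointwise. -/
theorem fix_of_chain {B A P : Subgroup Ω} [Finite B] (hB : IsPGroup p B) (a : MulAut B) (ha : Nat.Coprime (orderOf a) p)
    (hAB : A ≤ B) (hPA : P ≤ A) (hA : ∀ x : B, (x : Ω) ∈ A → ((a x : B) : Ω) ∈ A)
    (hP : ∀ x : B, (x : Ω) ∈ P → ((a x : B) : Ω) = x)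
    (hC : ∀ c ∈ A, (∀ x ∈ P, c * x = x * c) → c ∈ P) : ∀ x : B, (x : Ω) ∈ A → ((a x : B) : Ω) = x := by
  haveI hfA : Finite A := finite_of_le hAB
  have hAp : IsPGroup p A := isPGroup_of_le hB hAB
  have step : ∀ W : Subgroup Ω, P ≤ W → W ≤ A → (∀ x : B, (x : Ω) ∈ W → ((a x : B) : Ω) = x) →
      ∀ x : B, (x : Ω) ∈ normalizerIn A W → ((a x : B) : Ω) = x := by
    intro W hPW hWA hfix b hb
    have hbA : (b : Ω) ∈ A := hb.1
    have hbN : (b : Ω) ∈ Subgroup.normalizer (W : Set Ω) := hb.2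
    have hcen : ∀ w ∈ W, (((b⁻¹ * a b : B) : Ω)) * w = w * ((b⁻¹ * a b : B) : Ω) := by
      intro w hw
      have hwB : w ∈ B := hAB (hWA hw)
      have h1 := hfix ⟨w, hwB⟩ hw
      have hw' : (b : Ω) * w * (b : Ω)⁻¹ ∈ W := (Subgroup.mem_normalizer_iff.1 hbN w).1 hw
      have h2 := hfix (b * ⟨w, hwB⟩ * b⁻¹) hw'
      rw [map_mul, map_mul, map_inv] at h2
      have h3 : a ⟨w, hwB⟩ = ⟨w, hwB⟩ := Subtype.ext h1
      rw [h3] at h2
      have h4 : ((a b : B) : Ω) * w * ((a b : B) : Ω)⁻¹ = (b : Ω) * w * (b : Ω)⁻¹ := h2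
      show (b : Ω)⁻¹ * ((a b : B) : Ω) * w = w * ((b : Ω)⁻¹ * ((a b : B) : Ω))
      have h5 : ((a b : B) : Ω) * w = (b : Ω) * w * (b : Ω)⁻¹ * ((a b : B) : Ω) := by
        rw [← h4]
        group
      rw [mul_assoc, h5]
      group
    have hcA : ((b⁻¹ * a b : B) : Ω) ∈ A := A.mul_mem (A.inv_mem hbA) (hA b hbA)
    have hcP : ((b⁻¹ * a b : B) : Ω) ∈ P := hC _ hcA (fun x hx => hcen x (hPW hx))
    have hc : a (b⁻¹ * a b) = b⁻¹ * a b := Subtype.ext (hP _ hcP)
    have he : a b = b * (b⁻¹ * a b) := (mul_inv_cancel_left b (a b)).symm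
    have := fix_step hB a ha hc he
    exact congrArg Subtype.val this
  have key : ∀ n : ℕ, ∀ W : Subgroup Ω, P ≤ W → W ≤ A → (∀ x : B, (x : Ω) ∈ W → ((a x : B) : Ω) = x) →
      Nat.card A - Nat.card W = n → ∀ x : B, (x : Ω) ∈ A → ((a x : B) : Ω) = x := by
    intro n
    induction n using Nat.strong_induction_on with
    | _ n ih =>
      intro W hPW hWA hfix hn
      by_cases hWe : W = A
      · subst hWe
        exact hfix
      · have hlt : W < A := lt_of_le_of_ne hWA hWe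
        have hlt' : W < normalizerIn A W := lt_normalizerIn hAp hlt
        haveI : Finite (normalizerIn A W) := finite_of_le normalizerIn_le
        have hc1 := card_lt_of_lt hlt'
        have hc2 := card_lt_of_lt hlt
        have hc3 : Nat.card (normalizerIn A W) ≤ Nat.card A :=
          Nat.card_le_card_of_injective (Subgroup.inclusion normalizerIn_le) (Subgroup.inclusion_injective _)
        exact ih (Nat.card A - Nat.card (normalizerIn A W)) (by omega) (normalizerIn A W) (hPW.trans hlt'.le)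
          normalizerIn_le (step W hPW hWA hfix) rfl
  exact key _ P le_rfl hPA hP rfl

/-- An automorphism of a `p`-group fixing `P` pointwise, preserving `R`, with `C_{PR}(P) ≤ P` and `C(R) ≤ R`,
is of `p`-power order. -/
theorem exists_pow_eq_one_of_fix {S B P R : Subgroup Ω} [Finite S] (hS : IsPGroup p S) (hBS : B ≤ S) (hPB : P ≤ B)
    (hRB : R ≤ B) (hsup : ∀ c ∈ P ⊔ R, (∀ x ∈ P, c * x = x * c) → c ∈ P) (hcR : centralizerIn S R ≤ R) (a : MulAut B)
    (haP : ∀ x : B, (x : Ω) ∈ P → ((a x : B) : Ω) = x) (haR : ∀ x : B, (x : Ω) ∈ R → ((a x : B) : Ω) ∈ R) :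
    ∃ k : ℕ, a ^ (p ^ k) = 1 := by
  haveI : Finite B := finite_of_le hBS
  haveI : Finite (MulAut B) := Finite.of_injective (fun α : MulAut B => (α : B → B))
    (fun a b h => MulEquiv.ext (congrFun h))
  have hBp : IsPGroup p B := isPGroup_of_le hS hBS
  have hn : orderOf a ≠ 0 := (orderOf_pos a).ne'
  obtain ⟨k, m, hm, hkm⟩ := Nat.exists_eq_pow_mul_and_not_dvd hn p hp.out.ne_one
  refine ⟨k, ?_⟩
  have hord : orderOf (a ^ p ^ k) = m := by
    rw [orderOf_pow' a (pow_ne_zero k hp.out.ne_zero), hkm, Nat.gcd_eq_right (dvd_mul_right _ _),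
      Nat.mul_div_cancel_left _ (pow_pos hp.out.pos k)]
  have hco : Nat.Coprime (orderOf (a ^ p ^ k)) p := by
    rw [hord]
    exact ((Nat.Prime.coprime_iff_not_dvd hp.out).2 hm).symm
  have hiP : ∀ (j : ℕ) (x : B), (x : Ω) ∈ P → (((a ^ j) x : B) : Ω) = x := by
    intro j
    induction j with
    | zero => intro x _; rfl
    | succ j ih =>
      intro x hx
      rw [pow_succ', MulAut.mul_apply, haP _ (by rw [ih x hx]; exact hx), ih x hx]
  have hiR : ∀ (j : ℕ) (x : B), (x : Ω) ∈ R → (((a ^ j) x : B) : Ω) ∈ R := by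
    intro j
    induction j with
    | zero => intro x hx; exact hx
    | succ j ih =>
      intro x hx
      rw [pow_succ', MulAut.mul_apply]
      exact haR _ (ih x hx)
  have hle : P ⊔ R ≤ B := sup_le hPB hRB
  have hfix1 := fix_of_chain (A := P ⊔ R) (P := P) hBp (a ^ p ^ k) hco hle le_sup_left
    (fun x hx => by
      have := map_mem_sup_of_ext (R := P ⊔ R)
        ((B.subtype.comp (a ^ p ^ k).toMonoidHom).comp (Subgroup.inclusion hle))
        (fun y => ?_) (fun y => ?_) ⟨x, hx⟩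
      · exact this
      · have := hiP (p ^ k) ⟨y, hPB y.2⟩ y.2
        have e : ((B.subtype.comp (a ^ p ^ k).toMonoidHom).comp (Subgroup.inclusion hle))
            (Subgroup.inclusion le_sup_left y) = (((a ^ p ^ k) ⟨y, hPB y.2⟩ : B) : Ω) := rfl
        rw [e, this]
        exact (le_sup_left : P ≤ P ⊔ R) y.2
      · have := hiR (p ^ k) ⟨y, hRB y.2⟩ y.2
        exact (le_sup_right : R ≤ P ⊔ R) this)
    (fun x hx => hiP _ x hx) hsup
  have hfix2 := fix_of_chain (A := B) (P := R) hBp (a ^ p ^ k) hco le_rfl hRB (fun x _ => ((a ^ p ^ k) x).2)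
    (fun x hx => hfix1 x ((le_sup_right : R ≤ P ⊔ R) hx))
    (fun c hc h => hcR ⟨hBS hc, Subgroup.mem_centralizer_iff.2 (fun x hx => (h x hx).symm)⟩)
  exact MulEquiv.ext (fun x => Subtype.ext (hfix2 x x.2))

end Coprime

section Quasi

/-- A quasisimple system has an automorphism group which is not a `p`-group. -/
theorem false_of_pelement {T : Subgroup Ω} [Finite T] {K : FusionSystem T} (hT : IsPGroup p T) (hq : K.Quasisimple p)
    (h : ∀ V : Subgroup Ω, V ≤ T → ∀ α ∈ K.autGroup V, ∃ k : ℕ, α ^ (p ^ k) = 1) : False := by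
  have hbot : K.hyperfocalSubgroup p = ⊥ := by
    rw [hyperfocalSubgroup, Subgroup.closure_eq_bot_iff]
    rintro y ⟨V, α, x, hV, hα, rfl⟩
    have hres : pResidual p (K.autGroup V) ≤ ⊥ := by
      rw [pResidual, Subgroup.closure_le]
      intro g hg
      obtain ⟨k, hk⟩ := h V hV g g.2
      have h1 : g ^ p ^ k = 1 := Subtype.ext hk
      have h5 := orderOf_dvd_of_pow_eq_one h1
      have hg' : Nat.Coprime (orderOf g) p := hg
      have h7 : orderOf g = 1 := Nat.Coprime.eq_one_of_dvd (Nat.Coprime.pow_right k hg') h5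
      exact orderOf_eq_one_iff.1 h7
    have hα1 : α = 1 := hres hα
    rw [hα1]
    simp
  have hTb : T = ⊥ := hq.2.1.symm.trans hbot
  apply Cfsg.Agent.S5148.result p hT K hq
  refine ⟨⟨fun a b => Subtype.ext ?_⟩⟩
  have ha : (a : Ω) = 1 := Subgroup.mem_bot.1 (hTb.le a.2)
  have hb : (b : Ω) = 1 := Subgroup.mem_bot.1 (hTb.le b.2)
  show (a : Ω) * b = b * a
  rw [ha, hb]

end Quasi

section Local

variable {S : Subgroup Ω} {F : FusionSystem S} {U : Subgroup Ω}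

/-- An element normalizes `U` iff its image under a map preserving `U` does. -/
theorem mem_normalizer_of_image {W : Subgroup Ω} {ψ : W →* Ω} (hinj : Function.Injective ψ) (hUW : U ≤ W)
    (hψ : (U.subgroupOf W).map ψ = U) {x : W} (hx : ψ x ∈ Subgroup.normalizer (U : Set Ω)) :
    (x : Ω) ∈ Subgroup.normalizer (U : Set Ω) := by
  rw [Subgroup.mem_normalizer_iff] at hx ⊢
  intro u
  constructor
  · intro hu
    have h1 : ψ ⟨u, hUW hu⟩ ∈ U := hψ.le ⟨⟨u, hUW hu⟩, hu, rfl⟩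
    have h2 := (hx _).1 h1
    have h3 : ψ (x * ⟨u, hUW hu⟩ * x⁻¹) = ψ x * ψ ⟨u, hUW hu⟩ * (ψ x)⁻¹ := by
      rw [map_mul, map_mul, map_inv]
    rw [← h3] at h2
    obtain ⟨z, hz, hze⟩ := hψ.ge h2
    have h5 : (z : Ω) = (x : Ω) * u * (x : Ω)⁻¹ := congrArg Subtype.val (hinj hze)
    rw [← h5]
    exact hz
  · intro hu
    have hv : (x : Ω) * u * (x : Ω)⁻¹ ∈ W := hUW hu
    have huW : u ∈ W := by
      have := W.mul_mem (W.mul_mem (W.inv_mem x.2) hv) x.2
      have e : (x : Ω)⁻¹ * ((x : Ω) * u * (x : Ω)⁻¹) * (x : Ω) = u := by group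
      rwa [e] at this
    have h1 : ψ ⟨(x : Ω) * u * (x : Ω)⁻¹, hv⟩ ∈ U := hψ.le ⟨⟨_, hv⟩, hu, rfl⟩
    have e : (⟨(x : Ω) * u * (x : Ω)⁻¹, hv⟩ : W) = x * ⟨u, huW⟩ * x⁻¹ := rfl
    rw [e, map_mul, map_mul, map_inv] at h1
    have h2 := (hx _).2 h1
    obtain ⟨z, hz, hze⟩ := hψ.ge h2
    have h5 : (z : Ω) = u := congrArg Subtype.val (hinj hze)
    rw [← h5]
    exact hz

/-- `R ∩ N_S(U)` is normal in `N_F(U)`, for `R ⊴ F`. -/
theorem isNormal_inf_normalizer [Finite S] {R : Subgroup Ω} (hR : F.IsNormal R) (hUS : U ≤ S)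
    {N : FusionSystem (normalizerIn S U)} (hN : F.IsNormalizerSystem U N) : N.IsNormal (R ⊓ normalizerIn S U) := by
  refine ⟨inf_le_right, fun V φ hφ => ?_⟩
  rw [hN V] at hφ
  obtain ⟨hφF, hVM, hφv, ψ₁, hψ₁, hψ₁a, hψ₁U⟩ := hφ
  obtain ⟨ψ₂, hψ₂, hψ₂a, hψ₂R⟩ := hR.2 _ ψ₁ hψ₁
  have hUM : U ≤ normalizerIn S U := le_normalizerIn hUS
  have hU₂ : U ≤ (V ⊔ U) ⊔ R := le_sup_of_le_left le_sup_right
  have hψ₂U : (U.subgroupOf ((V ⊔ U) ⊔ R)).map ψ₂ = U := by
    refine Eq.trans ?_ hψ₁U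
    ext y
    constructor
    · rintro ⟨x, hx, rfl⟩
      have hx' : (x : Ω) ∈ U := hx
      refine ⟨⟨x, (le_sup_right : U ≤ V ⊔ U) hx'⟩, hx', ?_⟩
      exact (hψ₂a ⟨x, (le_sup_right : U ≤ V ⊔ U) hx'⟩).symm
    · rintro ⟨x, hx, rfl⟩
      exact ⟨Subgroup.inclusion le_sup_left x, hx, hψ₂a x⟩
  -- the map on `(V ⊔ (R ⊓ (normalizerIn S U))) ⊔ U`
  have hZ : V ⊔ (R ⊓ (normalizerIn S U)) ≤ (normalizerIn S U) := sup_le hVM inf_le_right
  have hZ₁ : (V ⊔ (R ⊓ (normalizerIn S U))) ⊔ U ≤ (normalizerIn S U) := sup_le hZ hUM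
  have hZ₂ : (V ⊔ (R ⊓ (normalizerIn S U))) ⊔ U ≤ (V ⊔ U) ⊔ R :=
    sup_le (sup_le (le_sup_of_le_left le_sup_left) (inf_le_left.trans le_sup_right)) hU₂
  have hres : ψ₂.comp (Subgroup.inclusion hZ₂) ∈ N.Hom ((V ⊔ (R ⊓ (normalizerIn S U))) ⊔ U) := by
    refine mem_normalizerSystem hN le_sup_right hZ₁ (res_mem hψ₂ hZ₂) ?_
    ext y
    constructor
    · rintro ⟨x, hx, rfl⟩
      exact hψ₂U.le ⟨Subgroup.inclusion hZ₂ x, hx, rfl⟩
    · intro hy
      obtain ⟨x, hx, rfl⟩ := hψ₂U.ge hy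
      have hx' : (x : Ω) ∈ U := hx
      exact ⟨⟨x, (le_sup_right : U ≤ (V ⊔ (R ⊓ (normalizerIn S U))) ⊔ U) hx'⟩, hx', rfl⟩
  have hZ₃ : V ⊔ (R ⊓ (normalizerIn S U)) ≤ (V ⊔ (R ⊓ (normalizerIn S U))) ⊔ U := le_sup_left
  have hres₂ := res_mem (F := N) hres hZ₃
  refine ⟨_, hres₂, fun x => ?_, ?_⟩
  · refine Eq.trans ?_ (hψ₁a x)
    exact hψ₂a (Subgroup.inclusion le_sup_left x)
  · have hinj : Function.Injective ψ₂ := F.injective_of_mem hψ₂
    ext y
    constructor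
    · rintro ⟨x, hx, rfl⟩
      have hx' : (x : Ω) ∈ R ⊓ (normalizerIn S U) := hx
      have hxW : (x : Ω) ∈ (V ⊔ U) ⊔ R := hZ₂ (hZ₃ x.2)
      have e : (ψ₂.comp (Subgroup.inclusion hZ₂)).comp (Subgroup.inclusion hZ₃) x = ψ₂ ⟨x, hxW⟩ := rfl
      rw [e]
      refine ⟨hψ₂R.le ⟨⟨x, hxW⟩, hx'.1, rfl⟩, map_mem_S hψ₂ _, ?_⟩
      exact Cfsg.Agent.Lib.Fusion.Saturated.map_mem_normalizer hψ₂U ⟨x, hxW⟩ hx'.2.2
    · rintro ⟨hyR, hyS, hyN⟩
      obtain ⟨x, hx, rfl⟩ := hψ₂R.ge hyR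
      have hxR : (x : Ω) ∈ R := hx
      have hxN : (x : Ω) ∈ Subgroup.normalizer (U : Set Ω) := mem_normalizer_of_image hinj hU₂ hψ₂U hyN
      have hxS : (x : Ω) ∈ S := hR.1 hxR
      have hxM : (x : Ω) ∈ (normalizerIn S U) := ⟨hxS, hxN⟩
      have hxZ : (x : Ω) ∈ V ⊔ (R ⊓ (normalizerIn S U)) := (le_sup_right : R ⊓ (normalizerIn S U) ≤ V ⊔ (R ⊓ (normalizerIn S U))) ⟨hxR, hxM⟩
      exact ⟨⟨x, hxZ⟩, ⟨hxR, hxM⟩, rfl⟩

end Local

section L1

variable {S : Subgroup Ω} [Finite S] {F : FusionSystem S} {U : Subgroup Ω}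

/-- **Normalizer systems of a constrained system are constrained.** -/
theorem isConstrained_normalizer (hS : IsPGroup p S) (hFc : F.IsConstrained p) (hFN : F.IsFullyNormalized U)
    {N : FusionSystem (normalizerIn S U)} (hN : F.IsNormalizerSystem U N) : N.IsConstrained p := by
  classical
  obtain ⟨hF, R, hRn, hRc⟩ := hFc
  have hUS : U ≤ S := hFN.1
  have hNs := Cfsg.Agent.Lib.Fusion.KNormalizer.isSaturated_normalizerSystem hS hF hFN hN
  by_contra hnc
  have hMS : normalizerIn S U ≤ S := normalizerIn_le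
  haveI hfM : Finite (normalizerIn S U) := finite_of_le hMS
  have hMp : IsPGroup p (normalizerIn S U) := isPGroup_of_le hS hMS
  have hex : ∃ (T : Subgroup Ω) (K : FusionSystem T), K.IsComponentIn N p := by
    by_contra h
    exact hnc ((isConstrained_iff hMp hNs).2 h)
  obtain ⟨T, K, hsn, hq⟩ := hex
  have hPn : N.IsNormal N.core := isNormal_core N
  have hPM : N.core ≤ normalizerIn S U := hPn.1
  have hUP : U ≤ N.core := le_sSup (isNormal_normalizerSystem hUS hN)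
  have hRP : R ⊓ normalizerIn S U ≤ N.core := le_sSup (isNormal_inf_normalizer hRn hUS hN)
  have hc := subnormal_central hsn hq hMp N.core hPn
  have hTM : T ≤ centralizerIn (normalizerIn S U) N.core :=
    (hc T (subtype_mem (F := K) (le_rfl : T ≤ T))).2.1
  have hTS : T ≤ normalizerIn S U := hTM.trans centralizerIn_le
  haveI : Finite T := finite_of_le hTS
  have hRS : R ≤ S := hRn.1
  have hRnorm : S ≤ Subgroup.normalizer (R : Set Ω) := StronglyClosed.le_normalizer (IsNormal.stronglyClosed hRn)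
  have hRcen : centralizerIn S R ≤ R := hRc.2 R (Basic.IsConj.refl hRc.1)
  apply false_of_pelement (isPGroup_of_le hMp hTS) hq
  intro V hVT α hα
  have hφ : V.subtype.comp α.toMonoidHom ∈ K.Hom V := autGroup_mem_hom hVT hα
  obtain ⟨-, hV, -, ψ₁, hψ₁, hψ₁a, hψ₁P⟩ := hc V hφ
  have hψ₁F : ψ₁ ∈ F.Hom (V ⊔ N.core) := by
    rw [hN] at hψ₁
    exact hψ₁.1
  obtain ⟨ψ₂, hψ₂, hψ₂a, hψ₂R⟩ := hRn.2 _ ψ₁ hψ₁F
  have hBS : (V ⊔ N.core) ⊔ R ≤ S := source_le hψ₂
  haveI hfB : Finite ↥((V ⊔ N.core) ⊔ R) := finite_of_le hBS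
  have hVB : V ≤ (V ⊔ N.core) ⊔ R := le_sup_of_le_left le_sup_left
  have hPB : N.core ≤ (V ⊔ N.core) ⊔ R := le_sup_of_le_left le_sup_right
  have hRB : R ≤ (V ⊔ N.core) ⊔ R := le_sup_right
  have hv₁ : ∀ x, ψ₁ x ∈ (V ⊔ N.core) := by
    refine map_mem_sup_of_ext ψ₁ (fun y => ?_) (fun y => ?_)
    · rw [hψ₁a]
      exact (le_sup_left : V ≤ V ⊔ N.core) (α y).2
    · rw [hψ₁P]
      exact (le_sup_right : N.core ≤ V ⊔ N.core) y.2
  have hv : ∀ x, ψ₂ x ∈ (V ⊔ N.core) ⊔ R := by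
    refine map_mem_sup_of_ext ψ₂ (fun y => ?_) (fun y => ?_)
    · rw [hψ₂a]
      exact (le_sup_left : V ⊔ N.core ≤ _) (hv₁ y)
    · exact hRB (hψ₂R.le ⟨Subgroup.inclusion le_sup_right y, y.2, rfl⟩)
  have haV : ∀ (x : Ω) (hx : x ∈ V), ψ₂ ⟨x, hVB hx⟩ = α ⟨x, hx⟩ := by
    intro x hx
    have h1 := hψ₂a ⟨x, (le_sup_left : V ≤ V ⊔ N.core) hx⟩
    have h2 := hψ₁a ⟨x, hx⟩
    exact h1.trans h2
  have haP : ∀ (x : Ω) (hx : x ∈ N.core), ψ₂ ⟨x, hPB hx⟩ = x := by
    intro x hx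
    have h1 := hψ₂a ⟨x, (le_sup_right : N.core ≤ V ⊔ N.core) hx⟩
    have h2 := hψ₁P ⟨x, hx⟩
    exact h1.trans h2
  have hsup : ∀ c ∈ N.core ⊔ R, (∀ x ∈ N.core, c * x = x * c) → c ∈ N.core := by
    intro c hcm hcc
    have hPnorm : N.core ≤ Subgroup.normalizer (R : Set Ω) := (hPM.trans hMS).trans hRnorm
    obtain ⟨b, hb, r, hr, rfl⟩ := Cfsg.Agent.Lib.Fusion.GroupSylow.exists_mul_of_mem_sup hPnorm hcm
    have hbM : b ∈ normalizerIn S U := hPM hb
    have hbrN : b * r ∈ Subgroup.normalizer (U : Set Ω) := by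
      rw [Subgroup.mem_normalizer_iff]
      intro u
      constructor
      · intro hu
        rw [hcc u (hUP hu)]
        have e : u * (b * r) * (b * r)⁻¹ = u := by group
        rwa [e]
      · intro hu
        have hbr : b * r ∈ S := S.mul_mem (hMS hbM) (hRS hr)
        have h1 := U.mul_mem (U.mul_mem (U.inv_mem (U.one_mem)) hu) (U.one_mem)
        have hu' : (b * r) * u * (b * r)⁻¹ ∈ N.core := hUP hu
        have h2 : (b * r)⁻¹ * ((b * r) * u * (b * r)⁻¹) * (b * r) = u := by group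
        have h3 := hcc _ hu'
        have h4 : (b * r) * u * (b * r)⁻¹ = u := by
          have h5 : (b * r) * ((b * r) * u * (b * r)⁻¹) * (b * r)⁻¹ = (b * r) * u * (b * r)⁻¹ := by
            rw [h3]
            group
          exact mul_left_cancel (a := b * r) (mul_right_cancel (b := (b * r)⁻¹) (by simpa [mul_assoc] using h5))
        rwa [h4] at hu
    have hrN : r ∈ Subgroup.normalizer (U : Set Ω) := by
      have := Subgroup.mul_mem _ (Subgroup.inv_mem _ hbM.2) hbrN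
      simpa using this
    have hrP : r ∈ N.core := hRP ⟨hr, hRS hr, hrN⟩
    exact N.core.mul_mem hb hrP
  obtain ⟨k, hk⟩ := exists_pow_eq_one_of_fix hS hBS hPB hRB hsup hRcen
    (autOfHom ψ₂ (F.injective_of_mem hψ₂) hv) (fun x hx => haP x hx) (fun x hx => hψ₂R.le ⟨x, hx, rfl⟩)
  refine ⟨k, ?_⟩
  have hpow : ∀ (j : ℕ) (x : V), (((autOfHom ψ₂ (F.injective_of_mem hψ₂) hv) ^ j) ⟨x, hVB x.2⟩ : ↥((V ⊔ N.core) ⊔ R)) =
      ⟨((α ^ j) x : V), hVB ((α ^ j) x).2⟩ := by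
    intro j
    induction j with
    | zero => intro x; rfl
    | succ j ih =>
      intro x
      rw [pow_succ', MulAut.mul_apply, ih, pow_succ', MulAut.mul_apply]
      exact Subtype.ext (haV _ _)
  ext x
  have h1 := hpow (p ^ k) x
  rw [hk] at h1
  exact (congrArg Subtype.val h1).symm

end L1

end Cfsg.Agent.Lib.Fusion.CompChar
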