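/-
If `X ≤ O_p(F)` is central in `S` and `C_F(X)` is constrained, so is `F`; comparison of `N_{C_F(X)}(U)` with `C_{N_F(U)}(X)`.
-/
import Mathlib
import Cfsg.Agent.Lib.Fusion.CompChar1

set_option autoImplicit false
set_option linter.style.haveILetI false
set_option linter.unusedSectionVars false

namespace Cfsg.Agent.Lib.Fusion.CompChar

open Cfsg Cfsg.FusionSystem Cfsg.Agent.Lib.Fusion.Basic Cfsg.Agent.Lib.Fusion.Saturated
open Cfsg.Agent.Lib.Fusion.Joins (exists_hom_of_eq isNormal_core)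
open Cfsg.Agent.Lib.Fusion.LocalSystems (centralizerSystem centralizerSystem_isCentralizerSystem)
open Cfsg.Agent.Lib.Fusion.NormalCR
open Cfsg.Agent.Lib.Fusion.CoreCentral (isNormalIn_centralizerSystem)
open Cfsg.Agent.Lib.Fusion.ResidSeries (isNormal_core_of_isNormalIn)
open Cfsg.Agent.Lib.Fusion.ModelLocal (mem_normalizerSystem isCentric_of_isNormal)

variable {Ω : Type*} [Group Ω] {p : ℕ} [hp : Fact p.Prime] {S : Subgroup Ω} {F : FusionSystem S}

/-- Fusion systems with the same maps are equal. -/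
theorem fs_ext {E₁ E₂ : FusionSystem S} (h : ∀ P, E₁.Hom P = E₂.Hom P) : E₁ = E₂ := by
  cases E₁
  cases E₂
  congr
  funext P
  exact h P

/-- A map on `W ≥ X` fixing `X` is a map of the centralizer system. -/
theorem mem_centralizerHom_of_le {X W : Subgroup Ω} {ψ : W →* Ω} (hψ : ψ ∈ F.Hom W) (hXW : X ≤ W)
    (hW : W ≤ centralizerIn S X) (hv : ∀ x, ψ x ∈ centralizerIn S X)
    (hfix : ∀ x : X, ψ (Subgroup.inclusion hXW x) = x) : ψ ∈ F.centralizerHom X W := by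
  have hle : W ⊔ X ≤ W := sup_le le_rfl hXW
  exact ⟨hψ, hW, hv, ψ.comp (Subgroup.inclusion hle), res_mem hψ hle, fun x => rfl, fun x => hfix x⟩

/-- **Key step**: if `X ≤ O_p(F)`, `S` centralizes `X` and `C_F(X)` is constrained, then `F` is constrained. -/
theorem isConstrained_of_centralizer [Finite S] (hS : IsPGroup p S) (hF : F.IsSaturated p) {X : Subgroup Ω}
    (hXc : X ≤ F.core) (hXS : S ≤ Subgroup.centralizer (X : Set Ω)) {S₀ : Subgroup Ω} (hS₀ : S₀ = S)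
    {H : FusionSystem S₀} (hH : ∀ P, H.Hom P = F.centralizerHom X P) (hc : H.IsConstrained p) : F.IsConstrained p := by
  subst hS₀
  have hQ : F.IsNormal F.core := isNormal_core F
  have hXWle : ∀ {W : Subgroup Ω}, W ≤ S₀ → W ≤ centralizerIn S₀ X := fun hW => le_inf hW (hW.trans hXS)
  have hmem : ∀ {W : Subgroup Ω} {ψ : W →* Ω}, ψ ∈ F.Hom W → ∀ hXW : X ≤ W,
      (∀ x : X, ψ (Subgroup.inclusion hXW x) = x) → ψ ∈ H.Hom W := by
    intro W ψ hψ hXW hfix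
    rw [hH]
    exact mem_centralizerHom_of_le hψ hXW (hXWle (source_le hψ))
      (fun x => ⟨map_mem_S hψ x, hXS (map_mem_S hψ x)⟩) hfix
  have hQn : H.IsNormal F.core := by
    refine ⟨hQ.1, fun V φ hφ => ?_⟩
    rw [hH] at hφ
    obtain ⟨-, -, -, χ, hχ, hχa, hχX⟩ := hφ
    obtain ⟨ψ, hψ, hψa, hψQ⟩ := hQ.2 _ χ hχ
    have e : (V ⊔ X) ⊔ F.core = V ⊔ F.core := by
      rw [sup_assoc, sup_eq_right.2 hXc]
    obtain ⟨ψ', hψ', hψ'e⟩ := exists_hom_of_eq F e ψ hψ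
    have hXW : X ≤ V ⊔ F.core := hXc.trans le_sup_right
    refine ⟨ψ', hmem hψ' hXW (fun x => ?_), fun x => ?_, ?_⟩
    · have h0 : (x : Ω) ∈ V ⊔ X := (le_sup_right : X ≤ V ⊔ X) x.2
      have h1 := hψ'e x ((le_sup_left : V ⊔ X ≤ (V ⊔ X) ⊔ F.core) h0) (hXW x.2)
      refine h1.trans ?_
      refine Eq.trans (hψa ⟨x, h0⟩) (hχX x)
    · have h0 : (x : Ω) ∈ V ⊔ X := (le_sup_left : V ≤ V ⊔ X) x.2
      have h1 := hψ'e x ((le_sup_left : V ⊔ X ≤ (V ⊔ X) ⊔ F.core) h0) ((le_sup_left : V ≤ V ⊔ F.core) x.2)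
      refine h1.trans ?_
      refine Eq.trans (hψa ⟨x, h0⟩) (hχa x)
    · refine Eq.trans ?_ hψQ
      ext y
      constructor
      · rintro ⟨a, ha, rfl⟩
        have ha' : (a : Ω) ∈ F.core := ha
        have h0 : (a : Ω) ∈ (V ⊔ X) ⊔ F.core := (le_sup_right : F.core ≤ (V ⊔ X) ⊔ F.core) ha'
        exact ⟨⟨a, h0⟩, ha', (hψ'e a h0 a.2).symm⟩
      · rintro ⟨a, ha, rfl⟩
        have ha' : (a : Ω) ∈ F.core := ha
        have h0 : (a : Ω) ∈ V ⊔ F.core := (le_sup_right : F.core ≤ V ⊔ F.core) ha'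
        exact ⟨⟨a, h0⟩, ha', hψ'e a a.2 h0⟩
  have hD'n := isNormalIn_centralizerSystem hS hc.1 hQn
  have hD'c := Cfsg.Agent.Lib.Fusion.ModelLocal.isConstrained_of_isNormalIn hS hc hD'n
  have hDn := isNormalIn_centralizerSystem hS hF hQ
  have heq : centralizerSystem H F.core hQ.1 = centralizerSystem F F.core hQ.1 := by
    apply fs_ext
    intro P
    rw [centralizerSystem_isCentralizerSystem H F.core hQ.1 P, centralizerSystem_isCentralizerSystem F F.core hQ.1 P]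
    have hHF : ∀ P, H.Hom P ⊆ F.Hom P := fun P φ hφ => by
      rw [hH] at hφ
      exact hφ.1
    ext φ
    constructor
    · rintro ⟨hφ, h1, h2, ψ, hψ, h3, h4⟩
      exact ⟨hHF _ hφ, h1, h2, ψ, hHF _ hψ, h3, h4⟩
    · rintro ⟨hφ, h1, h2, ψ, hψ, h3, h4⟩
      have hXW : X ≤ P ⊔ F.core := hXc.trans le_sup_right
      have hψH : ψ ∈ H.Hom (P ⊔ F.core) := hmem hψ hXW (fun x => h4 ⟨x, hXc x.2⟩)
      exact ⟨mem_of_eq_res (F := H) hψH le_sup_left (fun x => (h3 x).symm), h1, h2, ψ, hψH, h3, h4⟩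
  rw [heq] at hD'c
  obtain ⟨-, W, hWn, hWc⟩ := hD'c
  have hWD : W ≤ (centralizerSystem F F.core hQ.1).core := le_sSup hWn
  have hDQ : (centralizerSystem F F.core hQ.1).core ≤ F.core := le_sSup (isNormal_core_of_isNormalIn hS hF hDn)
  have hWQ : W ≤ F.core := hWD.trans hDQ
  have hT : centralizerIn S₀ F.core ≤ F.core := by
    intro t ht
    apply hWQ
    apply hWc.2 W (Basic.IsConj.refl hWc.1)
    refine ⟨ht, Subgroup.mem_centralizer_iff.2 fun w hw => ?_⟩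
    exact Subgroup.mem_centralizer_iff.1 ht.2 w (hWQ hw)
  exact ⟨hF, F.core, hQ, isCentric_of_isNormal hQ hT⟩

section Compare

variable {X U : Subgroup Ω}

/-- `N_{C_F(X)}(U)` and `C_{N_F(U)}(X)` have the same maps, when `X ≤ U` and `N_S(U)` centralizes `X`. -/
theorem normalizerHom_centralizer_eq (hXU : X ≤ U) (hUS : U ≤ S)
    (hMX : normalizerIn S U ≤ Subgroup.centralizer (X : Set Ω))
    {G : FusionSystem (centralizerIn S X)} (hG : F.IsCentralizerSystem X G)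
    {N : FusionSystem (normalizerIn S U)} (hN : F.IsNormalizerSystem U N) (P : Subgroup Ω) :
    G.normalizerHom U P = N.centralizerHom X P := by
  have hUM : U ≤ normalizerIn S U := le_normalizerIn hUS
  have hMC : normalizerIn S U ≤ centralizerIn (normalizerIn S U) X := le_inf le_rfl hMX
  ext φ
  constructor
  · rintro ⟨hφG, hPN, hv, ψ, hψG, hψa, hψU⟩
    have hPM : P ≤ normalizerIn S U := fun x hx => ⟨(hPN hx).1.1, (hPN hx).2⟩
    have hvM : ∀ x : P, φ x ∈ normalizerIn S U := fun x => ⟨(hv x).1.1, (hv x).2⟩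
    rw [hG P] at hφG
    rw [hG _] at hψG
    obtain ⟨hψF, -, -, ψ', hψ', hψ'a, hψ'X⟩ := hψG
    have hfix : ∀ (x : Ω) (hx : x ∈ X), ψ ⟨x, (le_sup_right : U ≤ P ⊔ U) (hXU hx)⟩ = x := by
      intro x hx
      have h1 := hψ'a ⟨x, (le_sup_right : U ≤ P ⊔ U) (hXU hx)⟩
      have h2 := hψ'X ⟨x, hx⟩
      exact h1.symm.trans h2
    have hψN : ψ ∈ N.Hom (P ⊔ U) := mem_normalizerSystem hN le_sup_right (sup_le hPM hUM) hψF hψU
    have hφN : φ ∈ N.Hom P := by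
      rw [hN P]
      exact ⟨hφG.1, hPM, hvM, ψ, hψF, hψa, hψU⟩
    have hle : P ⊔ X ≤ P ⊔ U := sup_le_sup_left hXU P
    refine ⟨hφN, hPM.trans hMC, fun x => hMC (hvM x), ψ.comp (Subgroup.inclusion hle), res_mem (F := N) hψN hle,
      fun x => ?_, fun x => hfix x x.2⟩
    exact hψa x
  · rintro ⟨hφN, hPC, hvC, χ, hχ, hχa, hχX⟩
    have hPM : P ≤ normalizerIn S U := hPC.trans inf_le_left
    have hvM : ∀ x : P, φ x ∈ normalizerIn S U := fun x => (hvC x).1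
    rw [hN _] at hχ
    obtain ⟨-, -, -, ψ, hψ, hψa, hψU⟩ := hχ
    have e : (P ⊔ X) ⊔ U = P ⊔ U := by
      rw [sup_assoc, sup_eq_right.2 hXU]
    obtain ⟨ψ₁, hψ₁, hψ₁e⟩ := exists_hom_of_eq F e ψ hψ
    have hP₁ : P ≤ P ⊔ X := le_sup_left
    have hX₁ : X ≤ P ⊔ X := le_sup_right
    have hψ₁U : (U.subgroupOf (P ⊔ U)).map ψ₁ = U := by
      refine Eq.trans ?_ hψU
      ext y
      constructor
      · rintro ⟨a, ha, rfl⟩
        have ha' : (a : Ω) ∈ U := ha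
        have h0 : (a : Ω) ∈ (P ⊔ X) ⊔ U := (le_sup_right : U ≤ (P ⊔ X) ⊔ U) ha'
        exact ⟨⟨a, h0⟩, ha', (hψ₁e a h0 a.2).symm⟩
      · rintro ⟨a, ha, rfl⟩
        have ha' : (a : Ω) ∈ U := ha
        have h0 : (a : Ω) ∈ P ⊔ U := (le_sup_right : U ≤ P ⊔ U) ha'
        exact ⟨⟨a, h0⟩, ha', hψ₁e a a.2 h0⟩
    have hXW : X ≤ P ⊔ U := hXU.trans le_sup_right
    have hWM : P ⊔ U ≤ normalizerIn S U := sup_le hPM hUM
    have hval : ∀ x : ↥(P ⊔ U), ψ₁ x ∈ normalizerIn S U := fun x =>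
      ⟨map_mem_S hψ₁ x, Cfsg.Agent.Lib.Fusion.Saturated.map_mem_normalizer hψ₁U x (hWM x.2).2⟩
    have hψ₁G : ψ₁ ∈ G.Hom (P ⊔ U) := by
      rw [hG _]
      refine mem_centralizerHom_of_le hψ₁ hXW (le_inf (source_le hψ₁) (hWM.trans hMX))
        (fun x => ⟨map_mem_S hψ₁ x, hMX (hval x)⟩) (fun x => ?_)
      have h0 : (x : Ω) ∈ (P ⊔ X) ⊔ U := (le_sup_left : P ⊔ X ≤ (P ⊔ X) ⊔ U) (hX₁ x.2)
      have h1 := hψ₁e x h0 (hXW x.2)
      refine h1.trans ?_
      exact (hψa ⟨x, hX₁ x.2⟩).trans (hχX x)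
    have hag : ∀ x : P, ψ₁ (Subgroup.inclusion le_sup_left x) = φ x := by
      intro x
      have h0 : (x : Ω) ∈ (P ⊔ X) ⊔ U := (le_sup_left : P ⊔ X ≤ (P ⊔ X) ⊔ U) (hP₁ x.2)
      have h1 := hψ₁e x h0 ((le_sup_left : P ≤ P ⊔ U) x.2)
      refine h1.trans ?_
      exact (hψa ⟨x, hP₁ x.2⟩).trans (hχa x)
    have hφG : φ ∈ G.Hom P := mem_of_eq_res (F := G) hψ₁G le_sup_left (fun x => (hag x).symm)
    refine ⟨hφG, fun x hx => ⟨⟨(hPM hx).1, hMX (hPM hx)⟩, (hPM hx).2⟩,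
      fun x => ⟨⟨(hvM x).1, hMX (hvM x)⟩, (hvM x).2⟩, ψ₁, hψ₁G, hag, hψ₁U⟩

/-- `normalizerIn (centralizerIn S X) U = normalizerIn S U`, when `N_S(U)` centralizes `X`. -/
theorem normalizerIn_centralizerIn_eq (hMX : normalizerIn S U ≤ Subgroup.centralizer (X : Set Ω)) :
    normalizerIn (centralizerIn S X) U = normalizerIn S U := by
  apply le_antisymm
  · intro x hx
    exact ⟨hx.1.1, hx.2⟩
  · intro x hx
    exact ⟨⟨hx.1, hMX hx⟩, hx.2⟩

/-- `U` stays fully normalized in `C_F(X)`. -/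
theorem isFullyNormalized_in_centralizer [Finite S] (hU : F.IsFullyNormalized U) (hUC : U ≤ centralizerIn S X)
    (hMX : normalizerIn S U ≤ Subgroup.centralizer (X : Set Ω)) {G : FusionSystem (centralizerIn S X)}
    (hG : F.IsCentralizerSystem X G) : G.IsFullyNormalized U := by
  refine ⟨hUC, ?_⟩
  rintro Q ⟨φ, hφ, hr⟩
  rw [hG U] at hφ
  have h2 := hU.2 Q ⟨φ, hφ.1, hr⟩
  rw [normalizerIn_centralizerIn_eq hMX]
  refine le_trans ?_ h2
  haveI : Finite (normalizerIn S Q) := finite_of_le normalizerIn_le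
  have hle : normalizerIn (centralizerIn S X) Q ≤ normalizerIn S Q := fun x hx => ⟨hx.1.1, hx.2⟩
  exact Nat.card_le_card_of_injective (Subgroup.inclusion hle) (Subgroup.inclusion_injective hle)

end Compare

end Cfsg.Agent.Lib.Fusion.CompChar
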