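/-
Every saturated fusion system is of characteristic `p`-type or of component type.
-/
import Mathlib
import Cfsg.Agent.Lib.Fusion.CompChar2
import Cfsg.Agent.Lib.Fusion.SubnormalConstrained
import Cfsg.Agent.Lib.PGroup.Basic

set_option autoImplicit false
set_option linter.style.haveILetI false
set_option linter.unusedSectionVars false

namespace Cfsg.Agent.Lib.Fusion.CompChar

open Cfsg Cfsg.FusionSystem Cfsg.Agent.Lib.Fusion.Basic Cfsg.Agent.Lib.Fusion.Saturated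
open Cfsg.Agent.Lib.Fusion.Joins (exists_hom_of_eq isNormal_core)
open Cfsg.Agent.Lib.Fusion.LocalSystems (centralizerSystem centralizerSystem_isCentralizerSystem normalizerSystem
  normalizerSystem_isNormalizerSystem)
open Cfsg.Agent.Lib.Fusion.CompMain (isConstrained_iff)
open Cfsg.Agent.Lib.Fusion.ModelLocal (mem_normalizerSystem isCentric_of_isNormal isNormal_normalizerSystem)
open Cfsg.Agent.Lib.Fusion.Transport
open Cfsg.Agent.Lib.Fusion.Pullback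
open Cfsg.Agent.Lib.Fusion.SubnormalConstrained (isConstrained_rev)

section Forward

variable {Ω Ω' : Type*} [Group Ω] [Group Ω'] {ι : Ω' →* Ω} {T' : Subgroup Ω'} {T : Subgroup Ω}
  {E' : FusionSystem T'} {E : FusionSystem T}

/-- Constrainedness passes forward along a transport (to a saturated system). -/
theorem isConstrained_fwd [Finite T] {p : ℕ} [Fact p.Prime] (h : IsTransportAlong ι E' E) (hs : E.IsSaturated p)
    (hE' : E'.IsConstrained p) : E.IsConstrained p := by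
  obtain ⟨-, Q', hQ'n, hQ'c⟩ := hE'
  have hQ'T : Q' ≤ T' := hQ'n.1
  have hQT : Q'.map ι ≤ T := by
    rw [← h.map_eq]
    exact Subgroup.map_mono hQ'T
  have hQn : E.IsNormal (Q'.map ι) := by
    refine ⟨hQT, fun P φ hφ => ?_⟩
    have hP : P ≤ T := source_le hφ
    obtain ⟨P', hP', rfl⟩ := exists_map_eq h hP
    obtain ⟨ψ', hψ', hag, him⟩ := hQ'n.2 P' _ (pull_mem h hφ)
    have e : (P' ⊔ Q').map ι = P'.map ι ⊔ Q'.map ι := Subgroup.map_sup _ _ _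
    obtain ⟨ψ, hψ, hψe⟩ := exists_hom_of_eq E e _ (push_mem h hψ')
    have hval : ∀ (a : Ω') (ha : a ∈ P' ⊔ Q') (hb : ι a ∈ P'.map ι ⊔ Q'.map ι),
        ψ ⟨ι a, hb⟩ = ι (ψ' ⟨a, ha⟩) := by
      intro a ha hb
      have h1 := hψe (ι a) ⟨a, ha, rfl⟩ hb
      refine h1.trans ?_
      exact push_apply ι h.inj ψ' ⟨a, ha⟩
    refine ⟨ψ, hψ, ?_, ?_⟩
    · rintro ⟨_, a, ha, rfl⟩
      have h1 := hval a ((le_sup_left : P' ≤ P' ⊔ Q') ha) ((le_sup_left : P'.map ι ≤ _) ⟨a, ha, rfl⟩)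
      refine h1.trans ?_
      have h2 := hag ⟨a, ha⟩
      have h3 : ψ' ⟨a, (le_sup_left : P' ≤ P' ⊔ Q') ha⟩ = _ := h2
      rw [h3]
      exact pull_apply ι h.inj φ _ ⟨a, ha⟩
    · ext y
      constructor
      · rintro ⟨⟨_, hb⟩, ⟨a, ha, rfl⟩, rfl⟩
        have ha' : a ∈ P' ⊔ Q' := (le_sup_right : Q' ≤ P' ⊔ Q') ha
        rw [hval a ha' hb]
        exact ⟨_, him.le ⟨⟨a, ha'⟩, ha, rfl⟩, rfl⟩
      · rintro ⟨b, hb, rfl⟩
        obtain ⟨⟨a, ha'⟩, ha, hab⟩ := him.ge hb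
        have hb' : ι b ∈ P'.map ι ⊔ Q'.map ι := (le_sup_right : Q'.map ι ≤ _) ⟨b, hb, rfl⟩
        have ham : ι a ∈ P'.map ι ⊔ Q'.map ι := (le_sup_right : Q'.map ι ≤ _) ⟨a, ha, rfl⟩
        refine ⟨⟨ι a, ham⟩, ⟨a, ha, rfl⟩, ?_⟩
        rw [hval a ha' ham, hab]
  refine ⟨hs, Q'.map ι, hQn, isCentric_of_isNormal hQn ?_⟩
  intro t ht
  have ht' : t ∈ T'.map ι := by
    rw [h.map_eq]
    exact ht.1
  obtain ⟨t', ht'T, rfl⟩ := ht'
  refine ⟨t', hQ'c.2 Q' (Basic.IsConj.refl hQ'c.1) ⟨ht'T, Subgroup.mem_centralizer_iff.2 fun q hq => ?_⟩, rfl⟩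
  apply h.inj
  rw [map_mul, map_mul]
  exact Subgroup.mem_centralizer_iff.1 ht.2 _ ⟨q, hq, rfl⟩

end Forward

variable {Ω : Type*} [Group Ω] {p : ℕ} [hp : Fact p.Prime] {S : Subgroup Ω} {F : FusionSystem S}

section Conj

/-- Transport of a map along a map `Φ` on `M`. -/
theorem exists_conj_hom {M W : Subgroup Ω} {Φ : M →* Ω} (hΦ : Φ ∈ F.Hom M) (hW : W ≤ M) {ψ : W →* Ω}
    (hψ : ψ ∈ F.Hom W) (hv : ∀ x, ψ x ∈ M) :
    ∃ ψ₁ ∈ F.Hom ((W.subgroupOf M).map Φ), ∀ (x : W) (h : Φ ⟨x, hW x.2⟩ ∈ (W.subgroupOf M).map Φ),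
      ψ₁ ⟨Φ ⟨x, hW x.2⟩, h⟩ = Φ ⟨ψ x, hv x⟩ := by
  have hres : Φ.comp (Subgroup.inclusion hW) ∈ F.Hom W := res_mem hΦ hW
  have hrange : (Φ.comp (Subgroup.inclusion hW)).range = (W.subgroupOf M).map Φ := by
    ext y
    constructor
    · rintro ⟨x, rfl⟩
      exact ⟨Subgroup.inclusion hW x, x.2, rfl⟩
    · rintro ⟨x, hx, rfl⟩
      exact ⟨⟨x, hx⟩, rfl⟩
  obtain ⟨θ, hθ, hθr, hθ1, -⟩ := exists_inv hres hrange
  have hθv : ∀ y, θ y ∈ W := fun y => hθr.le ⟨y, rfl⟩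
  have h1 : ψ.comp (θ.codRestrict W hθv) ∈ F.Hom _ := comp_mem' hθ hψ hθv (fun y => rfl)
  have h2 : Φ.comp ((ψ.comp (θ.codRestrict W hθv)).codRestrict M (fun y => hv _)) ∈ F.Hom _ :=
    comp_mem' h1 hΦ (fun y => hv _) (fun y => rfl)
  refine ⟨_, h2, fun x h => ?_⟩
  show Φ ⟨ψ (θ.codRestrict W hθv ⟨Φ ⟨x, hW x.2⟩, h⟩), _⟩ = _
  congr 2
  congr 1
  apply Subtype.ext
  exact hθ1 x h

/-- Transport of a map of `N_F(U)` to a map of `N_F(U₁)` along a map `N_S(U) → N_S(U₁)`. -/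
theorem normalizerHom_conj {U U₁ : Subgroup Ω} {Φ : ↥(normalizerIn S U) →* Ω} (hΦ : Φ ∈ F.Hom (normalizerIn S U))
    (hr : Φ.range = normalizerIn S U₁) (hU : (U.subgroupOf (normalizerIn S U)).map Φ = U₁) (hUS : U ≤ S)
    {V : Subgroup Ω} (hVM : V ≤ normalizerIn S U) {ω : V →* Ω} (hω : ω ∈ F.normalizerHom U V) {V₁ : Subgroup Ω}
    (hV₁ : V₁ = (V.subgroupOf (normalizerIn S U)).map Φ) {ω₁ : V₁ →* Ω}
    (he : ∀ (x : V) (h : Φ ⟨x, hVM x.2⟩ ∈ V₁) (h' : ω x ∈ normalizerIn S U), ω₁ ⟨Φ ⟨x, hVM x.2⟩, h⟩ = Φ ⟨ω x, h'⟩) :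
    ω₁ ∈ F.normalizerHom U₁ V₁ := by
  subst hV₁
  obtain ⟨hωF, -, hωv, ψ, hψ, hψa, hψU⟩ := hω
  have hUM : U ≤ normalizerIn S U := le_normalizerIn hUS
  have hW : V ⊔ U ≤ normalizerIn S U := sup_le hVM hUM
  have hψv : ∀ x, ψ x ∈ normalizerIn S U := fun x =>
    ⟨map_mem_S hψ x, Cfsg.Agent.Lib.Fusion.Saturated.map_mem_normalizer hψU x (hW x.2).2⟩
  obtain ⟨ψ₁, hψ₁, hψ₁e⟩ := exists_conj_hom hΦ hW hψ hψv
  have e₁ : ((V ⊔ U).subgroupOf (normalizerIn S U)).map Φ = (V.subgroupOf (normalizerIn S U)).map Φ ⊔ U₁ := by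
    rw [Subgroup.subgroupOf_sup hVM hUM, Subgroup.map_sup, hU]
  obtain ⟨ψ₂, hψ₂, hψ₂e⟩ := exists_hom_of_eq F e₁ ψ₁ hψ₁
  have hval : ∀ (x : ↥(V ⊔ U)) (h : Φ ⟨x, hW x.2⟩ ∈ (V.subgroupOf (normalizerIn S U)).map Φ ⊔ U₁),
      ψ₂ ⟨Φ ⟨x, hW x.2⟩, h⟩ = Φ ⟨ψ x, hψv x⟩ := by
    intro x h
    have h1 : Φ ⟨x, hW x.2⟩ ∈ ((V ⊔ U).subgroupOf (normalizerIn S U)).map Φ := ⟨⟨x, hW x.2⟩, x.2, rfl⟩
    exact (hψ₂e _ h1 h).trans (hψ₁e x h1)
  have hag : ∀ x : ↥((V.subgroupOf (normalizerIn S U)).map Φ), ψ₂ (Subgroup.inclusion le_sup_left x) = ω₁ x := by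
    rintro ⟨_, ⟨a, ha⟩, hav, rfl⟩
    have hav' : a ∈ V := hav
    have h1 := hval ⟨a, (le_sup_left : V ≤ V ⊔ U) hav'⟩ ((le_sup_left : _ ≤ _ ⊔ U₁) ⟨⟨a, ha⟩, hav, rfl⟩)
    have h2 := hψa ⟨a, hav'⟩
    have h3 := he ⟨a, hav'⟩ ⟨⟨a, ha⟩, hav, rfl⟩ (hωv ⟨a, hav'⟩)
    refine h1.trans (Eq.trans ?_ h3.symm)
    congr 2
  refine ⟨mem_of_eq_res hψ₂ le_sup_left (fun x => (hag x).symm), ?_, ?_, ψ₂, hψ₂, hag, ?_⟩
  · rintro _ ⟨a, -, rfl⟩
    exact hr.le ⟨a, rfl⟩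
  · rintro ⟨_, ⟨a, ha⟩, hav, rfl⟩
    have hav' : a ∈ V := hav
    rw [he ⟨a, hav'⟩ ⟨⟨a, ha⟩, hav, rfl⟩ (hωv ⟨a, hav'⟩)]
    exact hr.le ⟨_, rfl⟩
  · ext y
    constructor
    · rintro ⟨⟨_, hb⟩, hbU, rfl⟩
      obtain ⟨⟨a, ha⟩, hau, hae⟩ := hU.ge hbU
      subst hae
      have hau' : a ∈ U := hau
      have hm : a ∈ V ⊔ U := (le_sup_right : U ≤ V ⊔ U) hau'
      have h1 := hval ⟨a, hm⟩ hb
      show ψ₂ ⟨Φ ⟨a, ha⟩, hb⟩ ∈ U₁
      refine Eq.mp ?_ (show Φ ⟨ψ ⟨a, hm⟩, hψv ⟨a, hm⟩⟩ ∈ U₁ from ?_)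
      · exact congrArg (· ∈ U₁) h1.symm
      · rw [← hU]
        refine ⟨⟨ψ ⟨a, hm⟩, hψv ⟨a, hm⟩⟩, ?_, rfl⟩
        exact hψU.le ⟨⟨a, hm⟩, hau, rfl⟩
    · intro hy
      obtain ⟨⟨a, ha⟩, hau, rfl⟩ := hU.ge hy
      have hau' : a ∈ U := hau
      obtain ⟨⟨b, hb⟩, hbu, hbe⟩ := hψU.ge hau'
      have hbu' : b ∈ U := hbu
      have hbM : b ∈ normalizerIn S U := hUM hbu'
      have hmem : Φ ⟨b, hbM⟩ ∈ (V.subgroupOf (normalizerIn S U)).map Φ ⊔ U₁ :=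
        (le_sup_right : U₁ ≤ _) (hU.le ⟨⟨b, hbM⟩, hbu, rfl⟩)
      refine ⟨⟨Φ ⟨b, hbM⟩, hmem⟩, hU.le ⟨⟨b, hbM⟩, hbu, rfl⟩, ?_⟩
      have h1 := hval ⟨b, hb⟩ hmem
      refine h1.trans ?_
      congr 2

/-- Constrainedness transports between normalizer systems along `Φ : N_S(U) → N_S(U₁)`. -/
theorem isConstrained_transport [Finite S] {U U₁ : Subgroup Ω} (hUS : U ≤ S) (hU₁S : U₁ ≤ S)
    {Φ : ↥(normalizerIn S U) →* Ω} (hΦ : Φ ∈ F.Hom (normalizerIn S U)) (hr : Φ.range = normalizerIn S U₁)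
    (hU : (U.subgroupOf (normalizerIn S U)).map Φ = U₁) {N : FusionSystem (normalizerIn S U)}
    {N₁ : FusionSystem (normalizerIn S U₁)} (hN : F.IsNormalizerSystem U N) (hN₁ : F.IsNormalizerSystem U₁ N₁)
    (hNs : N.IsSaturated p) (hc : N₁.IsConstrained p) : N.IsConstrained p := by
  have hι : Function.Injective Φ := F.injective_of_mem hΦ
  have hT : normalizerIn S U₁ ≤ Φ.range := hr.ge
  have h₁ := isTransportAlong_pullback N₁ Φ hι hT
  have hE' := isConstrained_rev h₁ hc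
  haveI : Finite (normalizerIn S U) := finite_of_le normalizerIn_le
  obtain ⟨θ, hθ, hθr, hθ1, hθ2⟩ := exists_inv hΦ hr
  have hθv : ∀ y, θ y ∈ normalizerIn S U := fun y => hθr.le ⟨y, rfl⟩
  have hUM : U ≤ normalizerIn S U := le_normalizerIn hUS
  have hU' : (U₁.subgroupOf (normalizerIn S U₁)).map θ = U := by
    ext y
    constructor
    · rintro ⟨⟨_, hb⟩, hbU, rfl⟩
      obtain ⟨a, hau, hae⟩ := hU.ge hbU
      have hau' : (a : Ω) ∈ U := hau
      subst hae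
      have := hθ1 a (hr.le ⟨a, rfl⟩)
      rw [show (⟨Φ a, hb⟩ : ↥(normalizerIn S U₁)) = ⟨Φ a, hr.le ⟨a, rfl⟩⟩ from rfl, this]
      exact hau'
    · intro hy
      have hyM := hUM hy
      have hmem : Φ ⟨y, hyM⟩ ∈ normalizerIn S U₁ := hr.le ⟨_, rfl⟩
      exact ⟨⟨_, hmem⟩, hU.le ⟨⟨y, hyM⟩, hy, rfl⟩, hθ1 ⟨y, hyM⟩ hmem⟩
  refine isConstrained_fwd (ι := (normalizerIn S U).subtype) (E' := pullback N₁ Φ hι hT) ⟨Subtype.val_injective, ?_, ?_⟩ hNs hE'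
  · ext x
    constructor
    · rintro ⟨a, -, rfl⟩
      exact a.2
    · intro hx
      exact ⟨⟨x, hx⟩, hr.le ⟨_, rfl⟩, rfl⟩
  · intro P' ω ω' he
    have hVM : P'.map (normalizerIn S U).subtype ≤ normalizerIn S U := by
      rintro _ ⟨a, -, rfl⟩
      exact a.2
    rw [hN _]
    show _ ↔ push Φ hι ω' ∈ N₁.Hom (P'.map Φ)
    rw [hN₁ _]
    constructor
    · intro hω
      refine normalizerHom_conj hΦ hr hU hUS hVM hω ?_ ?_
      · ext y
        constructor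
        · rintro ⟨a, ha, rfl⟩
          exact ⟨a, by simpa [Subgroup.mem_subgroupOf] using ha, rfl⟩
        · rintro ⟨a, ha, rfl⟩
          refine ⟨a, ?_, rfl⟩
          simpa [Subgroup.mem_subgroupOf] using ha
      · rintro ⟨_, a, ha, rfl⟩ h h'
        have h1 := he ⟨a, ha⟩
        have h2 := push_apply Φ hι ω' ⟨a, ha⟩
        have h3 : (⟨Φ ⟨_, hVM ⟨a, ha, rfl⟩⟩, h⟩ : ↥(P'.map Φ)) = ⟨Φ a, ⟨a, ha, rfl⟩⟩ := Subtype.ext rfl
        rw [h3]
        refine h2.trans ?_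
        congr 1
        exact Subtype.ext h1.symm
    · intro hω
      have hV₁M : P'.map Φ ≤ normalizerIn S U₁ := by
        rintro _ ⟨a, -, rfl⟩
        exact hr.le ⟨a, rfl⟩
      refine normalizerHom_conj hθ hθr hU' hU₁S hV₁M hω ?_ ?_
      · ext y
        constructor
        · rintro ⟨a, ha, rfl⟩
          have hmem : Φ a ∈ normalizerIn S U₁ := hr.le ⟨a, rfl⟩
          exact ⟨⟨_, hmem⟩, Subgroup.mem_subgroupOf.2 ⟨a, ha, rfl⟩, hθ1 a hmem⟩
        · rintro ⟨⟨_, hb⟩, hbm, rfl⟩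
          obtain ⟨a, ha, hae⟩ := Subgroup.mem_subgroupOf.1 hbm
          subst hae
          refine ⟨a, ha, ?_⟩
          exact (hθ1 a hb).symm
      · rintro ⟨_, a, ha, rfl⟩ h h'
        have hmem : Φ a ∈ normalizerIn S U₁ := hr.le ⟨a, rfl⟩
        have e0 := hθ1 a hmem
        have h3 : (⟨θ ⟨_, hV₁M ⟨a, ha, rfl⟩⟩, h⟩ : ↥(P'.map (normalizerIn S U).subtype)) =
            ⟨(a : Ω), ⟨a, ha, rfl⟩⟩ := Subtype.ext e0
        rw [h3]
        have h1 := he ⟨a, ha⟩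
        have h2 := push_apply Φ hι ω' ⟨a, ha⟩
        have hm2 : Φ (ω' ⟨a, ha⟩) ∈ normalizerIn S U₁ := hr.le ⟨_, rfl⟩
        have h4 : (⟨push Φ hι ω' ⟨Φ a, ⟨a, ha, rfl⟩⟩, h'⟩ : ↥(normalizerIn S U₁)) = ⟨Φ (ω' ⟨a, ha⟩), hm2⟩ :=
          Subtype.ext h2
        have h5 : (⟨(a : Ω), ⟨a, ha, rfl⟩⟩ : ↥(P'.map (normalizerIn S U).subtype)) = ⟨(a : Ω), ⟨a, ha, rfl⟩⟩ := rfl
        refine Eq.trans h1 ?_
        have h6 := hθ1 (ω' ⟨a, ha⟩) hm2
        refine Eq.trans ?_ (congrArg θ h4.symm)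
        exact h6.symm

end Conj

section Main

variable [Finite S]

/-- A central element of order `p` in `U`. -/
theorem exists_central_order_p (hS : IsPGroup p S) {U : Subgroup Ω} (hUS : U ≤ S) (hU : U ≠ ⊥) :
    ∃ x ∈ U, orderOf x = p ∧ normalizerIn S U ≤ Subgroup.centralizer ((Subgroup.zpowers x : Subgroup Ω) : Set Ω) := by
  have hMS : normalizerIn S U ≤ S := normalizerIn_le
  haveI : Finite (normalizerIn S U) := finite_of_le hMS
  have hMp : IsPGroup p (normalizerIn S U) := isPGroup_of_le hS hMS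
  have hUM : U ≤ normalizerIn S U := le_normalizerIn hUS
  haveI hn : (U.subgroupOf (normalizerIn S U)).Normal := by
    constructor
    intro n hn g
    rw [Subgroup.mem_subgroupOf] at hn ⊢
    exact (Subgroup.mem_normalizer_iff.1 g.2.2 n).1 hn
  have hne : U.subgroupOf (normalizerIn S U) ≠ ⊥ := by
    intro h
    apply hU
    rw [eq_bot_iff]
    intro x hx
    have : (⟨x, hUM hx⟩ : normalizerIn S U) ∈ U.subgroupOf (normalizerIn S U) := Subgroup.mem_subgroupOf.2 hx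
    rw [h, Subgroup.mem_bot] at this
    exact congrArg Subtype.val this
  have hne₂ := Cfsg.Agent.Lib.PGroup.Basic.inf_center_ne_bot hMp hne
  have hA : IsPGroup p ↥(U.subgroupOf (normalizerIn S U) ⊓ Subgroup.center (normalizerIn S U)) := hMp.to_subgroup _
  have hdvd : p ∣ Nat.card ↥(U.subgroupOf (normalizerIn S U) ⊓ Subgroup.center (normalizerIn S U)) := by
    rcases hA.card_eq_or_dvd with h | h
    · exact (hne₂ ((Subgroup.eq_bot_iff_card _).2 h)).elim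
    · exact h
  obtain ⟨x, hx⟩ := exists_prime_orderOf_dvd_card' p hdvd
  have hxU : (((x : normalizerIn S U) : Ω)) ∈ U := Subgroup.mem_subgroupOf.1 x.2.1
  have hord : orderOf ((x : normalizerIn S U) : Ω) = p := by
    rw [Subgroup.orderOf_coe, Subgroup.orderOf_coe, hx]
  refine ⟨_, hxU, hord, fun m hm => ?_⟩
  rw [Subgroup.mem_centralizer_iff]
  intro h hh
  have hc : ((x : normalizerIn S U) : Ω) * m = m * ((x : normalizerIn S U) : Ω) := by
    have := Subgroup.mem_center_iff.1 x.2.2 ⟨m, hm⟩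
    exact (congrArg Subtype.val this).symm
  have hle : Subgroup.zpowers ((x : normalizerIn S U) : Ω) ≤ Subgroup.centralizer {m} := by
    rw [Subgroup.zpowers_le, Subgroup.mem_centralizer_singleton_iff]
    exact hc
  have := Subgroup.mem_centralizer_singleton_iff.1 (hle hh)
  exact this

/-- **Every saturated system is of characteristic `p`-type or of component type.** -/
theorem char_or_comp (hS : IsPGroup p S) (hF : F.IsSaturated p) : F.IsOfCharacteristicPType p ∨ F.IsOfComponentType p := by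
  classical
  by_contra hcon
  obtain ⟨h1, h2⟩ := not_or.1 hcon
  apply h1
  intro U hU hFN N hN
  have hUS : U ≤ S := hFN.1
  have hMS : normalizerIn S U ≤ S := normalizerIn_le
  haveI hfM : Finite (normalizerIn S U) := finite_of_le hMS
  have hUM : U ≤ normalizerIn S U := le_normalizerIn hUS
  obtain ⟨x₀, hx₀U, hx₀o, hx₀c⟩ := exists_central_order_p hS hUS hU
  have hX₀U : Subgroup.zpowers x₀ ≤ U := Subgroup.zpowers_le.2 hx₀U
  have hX₀S : Subgroup.zpowers x₀ ≤ S := hX₀U.trans hUS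
  obtain ⟨X, hconj, hXFN⟩ := exists_fullyNormalized (F := F) hX₀S
  obtain ⟨φ₀, hφ₀, -, hφ₀X⟩ := exists_map_to_fullyNormalized hS hF hXFN hconj
  have hMN₀ : normalizerIn S U ≤ normalizerIn S (Subgroup.zpowers x₀) :=
    le_inf hMS (hx₀c.trans (centralizer_le_normalizer' _))
  have hΦ : φ₀.comp (Subgroup.inclusion hMN₀) ∈ F.Hom (normalizerIn S U) := res_mem hφ₀ hMN₀
  set Φ := φ₀.comp (Subgroup.inclusion hMN₀) with hΦdef
  have hΦinj : Function.Injective Φ := F.injective_of_mem hΦ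
  -- the image of `U`
  set U₁ := (U.subgroupOf (normalizerIn S U)).map Φ with hU₁def
  have hU₁S : U₁ ≤ S := by
    rintro _ ⟨a, -, rfl⟩
    exact map_mem_S hΦ a
  have hconjU : F.IsConj U U₁ := by
    refine ⟨Φ.comp (Subgroup.inclusion hUM), res_mem hΦ hUM, ?_⟩
    ext y
    constructor
    · rintro ⟨a, rfl⟩
      exact ⟨Subgroup.inclusion hUM a, a.2, rfl⟩
    · rintro ⟨a, ha, rfl⟩
      exact ⟨⟨a, ha⟩, rfl⟩
  have hX₀M : Subgroup.zpowers x₀ ≤ normalizerIn S U := hX₀U.trans hUM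
  have hXmem : ∀ y ∈ X, ∃ a : ↥(normalizerIn S U), (a : Ω) ∈ Subgroup.zpowers x₀ ∧ Φ a = y := by
    intro y hy
    rw [← hφ₀X] at hy
    obtain ⟨⟨a, ha⟩, hau, rfl⟩ := hy
    have hau' : a ∈ Subgroup.zpowers x₀ := hau
    exact ⟨⟨a, hX₀M hau'⟩, hau', rfl⟩
  have hXU₁ : X ≤ U₁ := by
    intro y hy
    obtain ⟨a, ha, rfl⟩ := hXmem y hy
    exact ⟨a, hX₀U ha, rfl⟩
  have hΦv : ∀ a, Φ a ∈ normalizerIn S U₁ := fun a =>
    ⟨map_mem_S hΦ a, Cfsg.Agent.Lib.Fusion.Saturated.map_mem_normalizer rfl a a.2.2⟩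
  haveI hfM₁ : Finite (normalizerIn S U₁) := finite_of_le normalizerIn_le
  have hr : Φ.range = normalizerIn S U₁ := range_eq_of_card hΦ hΦv (hFN.2 U₁ hconjU)
  have hcard : Nat.card (normalizerIn S U₁) = Nat.card (normalizerIn S U) := by
    rw [← hr]
    exact Nat.card_congr (MonoidHom.ofInjective hΦinj).toEquiv.symm
  have hU₁FN : F.IsFullyNormalized U₁ := by
    refine ⟨hU₁S, fun Q hQ => ?_⟩
    rw [hcard]
    exact hFN.2 Q (Basic.IsConj.trans hconjU hQ)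
  have hMX : normalizerIn S U₁ ≤ Subgroup.centralizer (X : Set Ω) := by
    rw [← hr]
    rintro _ ⟨m, rfl⟩
    rw [Subgroup.mem_centralizer_iff]
    intro z hz
    obtain ⟨a, ha, rfl⟩ := hXmem z hz
    rw [← map_mul, ← map_mul]
    congr 1
    apply Subtype.ext
    exact (Subgroup.mem_centralizer_iff.1 (hx₀c m.2) a ha)
  have hXS : X ≤ S := hXFN.1
  have hU₁M : U₁ ≤ normalizerIn S U₁ := le_normalizerIn hU₁S
  have hXC : normalizerIn S U₁ ≤ centralizerIn S X := le_inf normalizerIn_le hMX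
  -- the centralizer system of `X`
  have hG := centralizerSystem_isCentralizerSystem F X hXS
  have hXfc : F.IsFullyCentralized X := (fullyNormalized_props hS hF hXFN).1
  have hGs := Cfsg.Agent.Lib.Fusion.KNormalizer.isSaturated_centralizerSystem hS hF hXfc hG
  have hCS : centralizerIn S X ≤ S := centralizerIn_le
  haveI hfC : Finite (centralizerIn S X) := finite_of_le hCS
  have hCp : IsPGroup p (centralizerIn S X) := isPGroup_of_le hS hCS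
  have hcardX : Nat.card X = p := by
    rw [← Basic.IsConj.card_eq hconj, Nat.card_zpowers, hx₀o]
  have hGc : (centralizerSystem F X hXS).IsConstrained p := by
    refine (isConstrained_iff hCp hGs).2 ?_
    rintro ⟨T, D, hD⟩
    exact h2 ⟨X, hcardX, hXFN, _, hG, T, D, hD⟩
  have hU₁G := isFullyNormalized_in_centralizer hU₁FN (hU₁M.trans hXC) hMX hG
  have hH₀ := normalizerSystem_isNormalizerSystem (centralizerSystem F X hXS) U₁ (hU₁M.trans hXC)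
  have hH₀c := isConstrained_normalizer hCp hGc hU₁G hH₀
  have hN₁ := normalizerSystem_isNormalizerSystem F U₁ hU₁S
  have hN₁s := Cfsg.Agent.Lib.Fusion.KNormalizer.isSaturated_normalizerSystem hS hF hU₁FN hN₁
  have hM₁p : IsPGroup p (normalizerIn S U₁) := isPGroup_of_le hS normalizerIn_le
  have hXc : X ≤ (normalizerSystem F U₁ hU₁S).core :=
    hXU₁.trans (le_sSup (isNormal_normalizerSystem hU₁S hN₁))
  have hN₁c := isConstrained_of_centralizer hM₁p hN₁s hXc hMX (normalizerIn_centralizerIn_eq hMX)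
    (fun P => by
      rw [hH₀ P]
      exact normalizerHom_centralizer_eq hXU₁ hU₁S hMX hG hN₁ P) hH₀c
  have hNs := Cfsg.Agent.Lib.Fusion.KNormalizer.isSaturated_normalizerSystem hS hF hFN hN
  exact isConstrained_transport hUS hU₁S hΦ hr rfl hN hN₁ hNs hN₁c

end Main

end Cfsg.Agent.Lib.Fusion.CompChar
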