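/-
A saturated fusion system is constrained iff its generalized Fitting subsystem is the inner system of `O_p(F)`.
-/
import Mathlib
import Cfsg.Agent.Lib.Fusion.CompMain
import Cfsg.Agent.S5136
import Cfsg.Prelude.Def_FusionFitting

set_option autoImplicit false
set_option linter.style.haveILetI false
set_option linter.unusedSectionVars false

namespace Cfsg.Agent.Lib.Fusion.CompFit

open Cfsg Cfsg.FusionSystem Cfsg.Agent.Lib.Fusion.Basic Cfsg.Agent.Lib.Fusion.Saturated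
open Cfsg.Agent.Lib.Fusion.Joins (isNormal_core isNormal_bot)
open Cfsg.Agent.Lib.Fusion.FactorMorphism
open Cfsg.Agent.Lib.Fusion.CoreCentral (subnormal_central isNormalIn_inner)
open Cfsg.Agent.Lib.Fusion.CompMain

variable {Ω : Type*} [Group Ω] {S : Subgroup Ω} {p : ℕ} [hp : Fact p.Prime] [Finite S] {F : FusionSystem S}

/-- The system over the trivial subgroup lies in every system. -/
theorem inner_bot_le {T : Subgroup Ω} (D : FusionSystem T) : (innerFusionSystem (⊥ : Subgroup Ω)).IsSubsystemOf D := by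
  rintro P φ ⟨hP, g, hg, h⟩
  have hg1 : g = 1 := hg
  have e : φ = conjHom P 1 := by
    ext x
    rw [h x, hg1]
    rfl
  rw [e]
  exact D.conj_mem (hP.trans bot_le) (one_mem _)

/-- With no components the trivial system is the layer. -/
theorem isLayerOf_bot (hS : IsPGroup p S) (hF : F.IsSaturated p)
    (hno : ¬ ∃ (T : Subgroup Ω) (C : FusionSystem T), C.IsComponentIn F p) :
    (innerFusionSystem (⊥ : Subgroup Ω)).IsLayerOf F p := by
  refine ⟨isNormalIn_inner hS hF (isNormal_bot F), fun U C hC => (hno ⟨U, C, hC⟩).elim, fun R D _ _ => inner_bot_le D⟩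

/-- The central product of an inner system with the trivial system. -/
theorem isCentralProductOf_bot {Q : Subgroup Ω} [Finite Q] (hQ : IsPGroup p Q) :
    IsCentralProductOf (innerFusionSystem Q) (innerFusionSystem (⊥ : Subgroup Ω)) (innerFusionSystem Q) := by
  have hb : IsPGroup p (⊥ : Subgroup Ω) := IsPGroup.of_bot
  obtain ⟨D₀, hD₀⟩ := Cfsg.Agent.S5136.result p hQ hb (innerFusionSystem Q) (innerFusionSystem (⊥ : Subgroup Ω))
  let θ : ↥(Q.prod (⊥ : Subgroup Ω)) →* Ω := (MonoidHom.fst Ω Ω).comp (Q.prod (⊥ : Subgroup Ω)).subtype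
  have hθ : ∀ s : ↥(Q.prod (⊥ : Subgroup Ω)), θ s = (s : Ω × Ω).1 := fun _ => rfl
  have hsnd : ∀ s : ↥(Q.prod (⊥ : Subgroup Ω)), (s : Ω × Ω).2 = 1 := fun s => (Subgroup.mem_prod.1 s.2).2
  have hfst : ∀ s : ↥(Q.prod (⊥ : Subgroup Ω)), (s : Ω × Ω).1 ∈ Q := fun s => (Subgroup.mem_prod.1 s.2).1
  have hin : ∀ {x : Ω}, x ∈ Q → ((x, 1) : Ω × Ω) ∈ Q.prod (⊥ : Subgroup Ω) := fun hx =>
    Subgroup.mem_prod.2 ⟨hx, one_mem _⟩
  refine ⟨D₀, hD₀, ⊥, θ, bot_le, bot_inf_eq _, bot_inf_eq _, fun x hx => rfl, fun y hy => ?_, bot_le, fun s => ?_, ?_, ?_⟩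
  · have hy1 : y = 1 := (Subgroup.mem_prod.1 hy).2
    exact hy1.symm
  · constructor
    · intro h
      have h1 : (s : Ω × Ω).1 = 1 := h
      have h2 := hsnd s
      rw [Subgroup.mem_bot]
      exact Prod.ext h1 h2
    · intro h
      rw [Subgroup.mem_bot] at h
      show (s : Ω × Ω).1 = 1
      rw [h]
      rfl
  · ext x
    constructor
    · rintro ⟨s, rfl⟩
      exact hfst s
    · intro hx
      exact ⟨⟨(x, 1), hin hx⟩, rfl⟩
  · intro P' φ'
    constructor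
    · rintro ⟨hP', g, hg, h⟩
      have hle : preimageAlong θ P' ≤ Q.prod (⊥ : Subgroup Ω) := preimage_le θ P'
      refine ⟨hP', conjHom _ ((g, 1) : Ω × Ω), D₀.conj_mem hle (hin hg), hle, fun x => ?_, fun x => ?_, fun x => ?_⟩
      · exact (Q.prod (⊥ : Subgroup Ω)).mul_mem ((Q.prod (⊥ : Subgroup Ω)).mul_mem (hin hg) (hle x.2))
          ((Q.prod (⊥ : Subgroup Ω)).inv_mem (hin hg))
      · exact (mem_preimage.1 x.2).2
      · rw [h]
        rfl
    · rintro ⟨hP', φ, hφ, hP, hφv, hPm, he⟩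
      obtain ⟨hle, φ₁, hφ₁, φ₂, hφ₂, hφe⟩ := (hD₀ _ φ).1 hφ
      obtain ⟨hP₁, g, hg, hφ₁e⟩ := hφ₁
      refine ⟨hP', g, hg, fun x => ?_⟩
      have hxQ : (x : Ω) ∈ Q := hP' x.2
      have hx0 : ((x : Ω), (1 : Ω)) ∈ preimageAlong θ P' := mem_preimage.2 ⟨hin hxQ, x.2⟩
      have h1 := he ⟨_, hx0⟩
      have h2 := hφe ⟨_, hx0⟩ ⟨_, hx0, rfl⟩ ⟨_, hx0, rfl⟩
      have h3 := hφ₁e ⟨(x : Ω), ⟨_, hx0, rfl⟩⟩
      have h4 : θ ⟨φ ⟨_, hx0⟩, hφv ⟨_, hx0⟩⟩ = (φ ⟨_, hx0⟩).1 := rfl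
      rw [h4, h2] at h1
      have h5 : φ' x = φ₁ ⟨(x : Ω), ⟨_, hx0, rfl⟩⟩ := h1
      rw [h5, h3]

/-- **`F` constrained iff `F*(F) = O_p(F)`**. -/
theorem isConstrained_iff_fitting (hS : IsPGroup p S) (hF : F.IsSaturated p) :
    F.IsConstrained p ↔ (innerFusionSystem F.core).IsGeneralizedFittingOf F p := by
  have hcS : F.core ≤ S := (isNormal_core F).1
  haveI : Finite F.core := finite_of_le hcS
  constructor
  · intro hc
    exact ⟨⊥, innerFusionSystem ⊥, isLayerOf_bot hS hF ((isConstrained_iff hS hF).1 hc),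
      isCentralProductOf_bot (hS.to_le hcS)⟩
  · rintro ⟨T, E, hE, hcp⟩
    by_contra hnc
    have hex : ∃ (T : Subgroup Ω) (C : FusionSystem T), C.IsComponentIn F p := by
      by_contra hno
      exact hnc ((isConstrained_iff hS hF).2 hno)
    obtain ⟨T₁, C, hC⟩ := hex
    have hsub : C.IsSubsystemOf E := hE.2.1 T₁ C hC
    have hT₁T : T₁ ≤ T := source_le (hsub T₁ (subtype_mem (F := C) (le_rfl : T₁ ≤ T₁)))
    have hTc : T ≤ F.core := by
      obtain ⟨D₀, hD₀, Z, θ, -, -, -, -, h2, -, -, hr, -⟩ := hcp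
      intro y hy
      have hy' : ((1 : Ω), y) ∈ F.core.prod T := Subgroup.mem_prod.2 ⟨one_mem _, hy⟩
      rw [← h2 y hy']
      exact hr.le ⟨_, rfl⟩
    obtain ⟨hsn, hq⟩ := hC
    have h := subnormal_central hsn hq hS F.core (isNormal_core F)
    have hm : T₁.subtype ∈ F.centralizerHom F.core T₁ := h T₁ (subtype_mem (F := C) (le_rfl : T₁ ≤ T₁))
    have hle : T₁ ≤ centralizerIn S F.core := hm.2.1
    have hT₁S : T₁ ≤ S := hle.trans centralizerIn_le
    haveI : Finite T₁ := finite_of_le hT₁S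
    apply Cfsg.Agent.S5148.result p (hS.to_le hT₁S) C hq
    refine ⟨⟨fun a b => Subtype.ext ?_⟩⟩
    exact (Subgroup.mem_centralizer_iff.1 (hle b.2).2 a (hTc (hT₁T a.2)))

end Cfsg.Agent.Lib.Fusion.CompFit
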