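/-
Nonabelian groups of order `p³` and essential subgroups of order `p³`.
-/
import Mathlib
import Cfsg.Agent.Lib.Fusion.AbelianEssential
import Cfsg.Agent.Lib.PGroup.Extraspecial
import Cfsg.Agent.Lib.PGroup.CyclicMax

set_option autoImplicit false
set_option linter.style.haveILetI false

namespace Cfsg.Agent.Lib.Fusion.EssentialCube

open Cfsg.Agent.Lib.PGroup
open scoped commutatorElement

section Pure

variable {X : Type*} [Group X] [Finite X] {p : ℕ} [hp : Fact p.Prime]

theorem isCoatom_of_index_prime {M : Subgroup X} (hM : M.index = p) : IsCoatom M := by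
  refine ⟨fun h => ?_, fun K hK => ?_⟩
  · rw [h, Subgroup.index_top] at hM
    exact hp.out.one_lt.ne hM
  · have h1 : K.index ∣ M.index := Subgroup.index_dvd_of_le hK.le
    rw [hM] at h1
    rcases (Nat.dvd_prime hp.out).1 h1 with h2 | h2
    · exact Subgroup.index_eq_one.1 h2
    · exfalso
      have h3 := Subgroup.card_mul_index M
      have h4 := Subgroup.card_mul_index K
      rw [hM] at h3
      rw [h2] at h4
      have h5 : Nat.card M = Nat.card K :=
        Nat.eq_of_mul_eq_mul_right hp.out.pos (h3.trans h4.symm)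
      exact hK.ne (Subgroup.eq_of_le_of_card_ge hK.le h5.ge)

theorem frattini_le_of_index_prime {M : Subgroup X} (hM : M.index = p) : frattini X ≤ M :=
  frattini_le_coatom (isCoatom_of_index_prime hM)

/-- A nonabelian group of order `p³` is extraspecial. -/
theorem extraspecial_of_card_cube (hc : Nat.card X = p ^ 3) (hna : ∃ a b : X, a * b ≠ b * a) :
    Cfsg.IsExtraspecial p X ∧ (frattini X).index = p ^ 2 := by
  classical
  have hX : IsPGroup p X := IsPGroup.of_card hc
  obtain ⟨a, b, hab⟩ := hna
  have hcomm_of_cyclic : ¬ IsCyclic (X ⧸ Subgroup.center X) := by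
    intro h
    exact hab (((QuotientGroup.mk' (Subgroup.center X)).isMulCommutative_of_isCyclic_of_ker_le_center
      (by rw [QuotientGroup.ker_mk'])).is_comm.comm a b)
  have hnt : Nontrivial X := ⟨⟨a * b, b * a, hab⟩⟩
  have hZnt : Nontrivial (Subgroup.center X) := hX.center_nontrivial
  have hZdvd : Nat.card (Subgroup.center X) ∣ p ^ 3 := hc ▸ Subgroup.card_subgroup_dvd_card _
  obtain ⟨j, hj3, hj⟩ := (Nat.dvd_prime_pow hp.out).1 hZdvd
  have hidx : Nat.card (Subgroup.center X) * Nat.card (X ⧸ Subgroup.center X) = p ^ 3 := by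
    have h1 := Subgroup.card_eq_card_quotient_mul_card_subgroup (Subgroup.center X)
    rw [hc] at h1
    rw [mul_comm]
    exact h1.symm
  have hj0 : j ≠ 0 := by
    rintro rfl
    rw [pow_zero] at hj
    exact (Finite.one_lt_card (α := Subgroup.center X)).ne' hj
  have hj' : j = 1 := by
    have hj4 : j ≠ 3 := by
      rintro rfl
      apply hcomm_of_cyclic
      have h1 : Nat.card (X ⧸ Subgroup.center X) = 1 := by
        rw [hj] at hidx
        exact Nat.eq_of_mul_eq_mul_left (pow_pos hp.out.pos 3) (by rw [hidx, mul_one])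
      have : Subsingleton (X ⧸ Subgroup.center X) := (Nat.card_eq_one_iff_unique.1 h1).1
      exact isCyclic_of_subsingleton
    have hj5 : j ≠ 2 := by
      rintro rfl
      apply hcomm_of_cyclic
      have h1 : Nat.card (X ⧸ Subgroup.center X) = p := by
        rw [hj] at hidx
        have h2 : p ^ 2 * Nat.card (X ⧸ Subgroup.center X) = p ^ 2 * p := by
          rw [hidx]
          ring
        exact Nat.eq_of_mul_eq_mul_left (pow_pos hp.out.pos 2) h2
      exact isCyclic_of_prime_card h1
    omega
  rw [hj', pow_one] at hj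
  have hQc : Nat.card (X ⧸ Subgroup.center X) = p ^ 2 := by
    rw [hj] at hidx
    have h2 : p * Nat.card (X ⧸ Subgroup.center X) = p * p ^ 2 := by
      rw [hidx]
      ring
    exact Nat.eq_of_mul_eq_mul_left hp.out.pos h2
  have hQcomm := IsPGroup.isMulCommutative_of_card_eq_prime_sq hQc
  have hcommZ : commutator X ≤ Subgroup.center X := by
    rw [commutator_def, Subgroup.commutator_le]
    intro u _ v _
    have h1 : QuotientGroup.mk' (Subgroup.center X) ⁅u, v⁆ = 1 := by
      rw [map_commutatorElement, commutatorElement_eq_one_iff_mul_comm]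
      exact hQcomm.is_comm.comm _ _
    rw [← MonoidHom.mem_ker, QuotientGroup.ker_mk'] at h1
    exact h1
  have hpow : ∀ x : X, x ^ p ∈ Subgroup.center X := by
    intro x
    by_contra hx
    apply hcomm_of_cyclic
    set q := QuotientGroup.mk' (Subgroup.center X) x with hq
    have h1 : q ^ p ≠ 1 := by
      intro h
      apply hx
      rw [hq, ← map_pow, ← MonoidHom.mem_ker, QuotientGroup.ker_mk'] at h
      exact h
    have h2 : orderOf q ∣ p ^ 2 := hQc ▸ orderOf_dvd_natCard q
    obtain ⟨i, hi, hi'⟩ := (Nat.dvd_prime_pow hp.out).1 h2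
    have hi2 : i = 2 := by
      by_contra hne
      apply h1
      have h3 : orderOf q ∣ p := by
        rw [hi']
        have : i ≤ 1 := by omega
        exact (pow_dvd_pow p this).trans (by rw [pow_one])
      exact orderOf_dvd_iff_pow_eq_one.1 h3
    exact isCyclic_of_orderOf_eq_card q (by rw [hi', hi2, hQc])
  have hΦZ : frattini X ≤ Subgroup.center X :=
    ActionFrattini.frattini_le hX (Subgroup.center X) hcommZ hpow
  have hcne : commutator X ≠ ⊥ := by
    intro h
    apply hab
    have h1 : ⁅a, b⁆ ∈ commutator X :=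
      Subgroup.commutator_mem_commutator (Subgroup.mem_top a) (Subgroup.mem_top b)
    rw [h, Subgroup.mem_bot] at h1
    exact commutatorElement_eq_one_iff_mul_comm.1 h1
  have hceq : commutator X = Subgroup.center X := by
    have h1 : Nat.card (commutator X) ∣ p := hj ▸ Subgroup.card_dvd_of_le hcommZ
    rcases (Nat.dvd_prime hp.out).1 h1 with h2 | h2
    · exact absurd (Subgroup.eq_bot_of_card_eq _ h2) hcne
    · exact Subgroup.eq_of_le_of_card_ge hcommZ (by rw [h2, hj])
  have hΦeq : frattini X = Subgroup.center X :=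
    le_antisymm hΦZ (hceq.ge.trans (FrattiniBasis.commutator_le_frattini hX))
  refine ⟨⟨⟨hX, hΦeq, hceq⟩, hj⟩, ?_⟩
  rw [hΦeq, Subgroup.index_eq_card, hQc]

/-- Groups of order eight. -/
theorem order_eight_dichotomy (hc : Nat.card X = 8) (hna : ∃ a b : X, a * b ≠ b * a) :
    Nonempty (X ≃* QuaternionGroup 2) ∨ ∃ M : Subgroup X, (∀ α : MulAut X, ∀ x ∈ M, α x ∈ M) ∧ M.index = 2 := by
  classical
  obtain ⟨a, b, hab⟩ := hna
  obtain ⟨w, hw⟩ : ∃ w : X, w ^ 2 ≠ 1 := by
    by_contra hcon
    push Not at hcon
    have hinv : ∀ x : X, x⁻¹ = x := fun x => inv_eq_of_mul_eq_one_left (by rw [← pow_two, hcon])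
    apply hab
    rw [← hinv (a * b), mul_inv_rev, hinv, hinv]
  have hw8 : orderOf w ∣ 2 ^ 3 := by
    have := orderOf_dvd_natCard w
    rwa [hc] at this
  obtain ⟨i, hi, hi'⟩ := (Nat.dvd_prime_pow Nat.prime_two).1 hw8
  have hw4 : orderOf w = 4 := by
    have hi1 : i ≠ 0 := by
      rintro rfl
      apply hw
      rw [pow_zero] at hi'
      rw [orderOf_eq_one_iff.1 hi', one_pow]
    have hi2 : i ≠ 1 := by
      rintro rfl
      apply hw
      rw [pow_one] at hi'
      rw [← hi']
      exact pow_orderOf_eq_one w
    have hi3 : i ≠ 3 := by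
      rintro rfl
      exfalso
      apply hab
      haveI : IsCyclic X := isCyclic_of_orderOf_eq_card w (by rw [hi', hc]; norm_num)
      exact (IsCyclic.isMulCommutative : IsMulCommutative X).is_comm.comm a b
    have : i = 2 := by omega
    rw [hi', this]
    norm_num
  have hw41 : w ^ 4 = 1 := by
    rw [← hw4]
    exact pow_orderOf_eq_one w
  let M := Subgroup.zpowers w
  have hMc : Nat.card M = 4 := by
    rw [Nat.card_zpowers, hw4]
  have hMi : M.index = 2 := by
    have h1 := Subgroup.card_mul_index M
    rw [hMc, hc] at h1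
    omega
  haveI hMn : M.Normal := Subgroup.normal_of_index_eq_two hMi
  have hMtop : M ≠ ⊤ := by
    intro h
    rw [h, Subgroup.index_top] at hMi
    omega
  obtain ⟨t, ht⟩ : ∃ t, t ∉ M := by
    by_contra hcon
    push Not at hcon
    exact hMtop (eq_top_iff.2 fun x _ => hcon x)
  have hM4 : ∀ y ∈ M, y = 1 ∨ y = w ∨ y = w ^ 2 ∨ y = w ^ 3 := by
    intro y hy
    obtain ⟨k, hk⟩ := (mem_powers_iff_mem_zpowers (x := w) (y := y)).2 hy
    have hk' : w ^ k = y := hk
    rw [← hk']
    have h1 : w ^ k = w ^ (k % 4) := by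
      rw [← hw4]
      exact (pow_mod_orderOf w k).symm
    rw [h1]
    have h2 : k % 4 < 4 := Nat.mod_lt _ (by norm_num)
    interval_cases (k % 4)
    · left; rw [pow_zero]
    · right; left; rw [pow_one]
    · right; right; left; rfl
    · right; right; right; rfl
  have hw31 : w ^ 3 = w⁻¹ := by
    apply eq_inv_of_mul_eq_one_left
    rw [← pow_succ]
    exact hw41
  set y := t * w * t⁻¹ with hy
  have hyM : y ∈ M := hMn.conj_mem w (Subgroup.mem_zpowers w) t
  have hy2 : y ^ 2 = t * w ^ 2 * t⁻¹ := by rw [hy, conj_pow]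
  have hyinv : y = w⁻¹ := by
    rcases hM4 y hyM with h | h | h | h
    · exfalso
      apply hw
      have h1 : w = t⁻¹ * y * t := by rw [hy]; group
      rw [h1, h]
      group
    · exfalso
      apply hab
      have hcent : M ≤ Subgroup.center X := by
        rw [Subgroup.zpowers_le, Subgroup.mem_center_iff]
        have hC : Subgroup.centralizer ({w} : Set X) = ⊤ := by
          have h2 := (isCoatom_of_index_prime (p := 2) (hp := ⟨Nat.prime_two⟩) hMi).2 (Subgroup.centralizer ({w} : Set X)) ?_
          · exact h2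
          · refine lt_of_le_of_ne ?_ ?_
            · rw [Subgroup.zpowers_le, Subgroup.mem_centralizer_singleton_iff]
            · rintro h3
              apply ht
              rw [h3, Subgroup.mem_centralizer_singleton_iff]
              rw [hy] at h
              exact mul_inv_eq_iff_eq_mul.1 h
        intro g
        have h2 : g ∈ Subgroup.centralizer ({w} : Set X) := by rw [hC]; trivial
        rw [Subgroup.mem_centralizer_singleton_iff] at h2
        exact h2
      haveI : IsCyclic (X ⧸ M) := isCyclic_of_prime_card (p := 2) (hp := ⟨Nat.prime_two⟩) (by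
        rw [← Subgroup.index_eq_card]
        exact hMi)
      exact ((QuotientGroup.mk' M).isMulCommutative_of_isCyclic_of_ker_le_center
        (by rw [QuotientGroup.ker_mk']; exact hcent)).is_comm.comm a b
    · exfalso
      have h1 : y ^ 2 = 1 := by
        rw [h, ← pow_mul]
        exact hw41
      apply hw
      rw [hy2] at h1
      have h2 : w ^ 2 = t⁻¹ * (t * w ^ 2 * t⁻¹) * t := by group
      rw [h2, h1]
      group
    · rw [h, hw31]
  have htt : t * t ∈ M := Subgroup.mul_self_mem_of_index_two hMi t
  have hconj : ∀ k : ℤ, t * w ^ k * t⁻¹ = (w ^ k)⁻¹ := by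
    intro k
    rw [← conj_zpow, ← hy, hyinv, inv_zpow]
  have hinvt : t * t = w ^ 2 ∨ t * t = 1 := by
    have h1 : t * (t * t) * t⁻¹ = t * t := by group
    rcases hM4 _ htt with h | h | h | h
    · exact Or.inr h
    · exfalso
      rw [h] at h1
      have h2 := hconj 1
      rw [zpow_one] at h2
      rw [h2] at h1
      apply hw
      rw [pow_two]
      nth_rw 1 [← h1]
      group
    · exact Or.inl h
    · exfalso
      rw [h, hw31] at h1
      have h2 := hconj (-1)
      rw [zpow_neg_one, inv_inv] at h2
      rw [h2] at h1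
      apply hw
      rw [pow_two]
      nth_rw 1 [h1]
      group
  rcases hinvt with h | h
  · left
    haveI : NeZero 2 := ⟨by norm_num⟩
    exact Cfsg.Agent.Lib.PGroup.CyclicMax.quaternionEquivOfGens 2 (by rw [hc]) w t (by rw [hw4]) h (by rw [← hy]; exact hyinv) ht
  · right
    have hout : ∀ x, x ∉ M → x ^ 2 = 1 := by
      intro x hx
      have h1 : t⁻¹ * x ∈ M := by
        rw [Subgroup.mul_mem_iff_of_index_two hMi]
        simp [ht, hx]
      obtain ⟨k, hk⟩ := Subgroup.mem_zpowers_iff.1 h1
      have h2 : x = t * w ^ k := by rw [hk]; group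
      rw [h2, pow_two]
      have e : t * w ^ k * (t * w ^ k) = (t * w ^ k * t⁻¹) * (t * t) * w ^ k := by group
      rw [e, hconj, h]
      group
    refine ⟨M, fun α x hx => ?_, hMi⟩
    have hαw : α w ∈ M := by
      by_contra hcon
      apply hw
      apply α.injective
      rw [map_pow, hout _ hcon, map_one]
    obtain ⟨k, rfl⟩ := Subgroup.mem_zpowers_iff.1 hx
    rw [map_zpow]
    exact Subgroup.zpow_mem _ hαw k

end Pure

section Fusion

open Cfsg Cfsg.FusionSystem Cfsg.Agent.Lib.Fusion.Basic Cfsg.Agent.Lib.Fusion.EssentialSmall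
  Cfsg.Agent.Lib.Fusion.AbelianEssential

variable {Ω : Type*} [Group Ω] {S : Subgroup Ω} [Finite S] {p : ℕ} [hp : Fact p.Prime]
  {F : FusionSystem S} {H : Subgroup Ω}

/-- **S5186**, core. -/
theorem essential_cube (hS : IsPGroup p S) (hE : F.IsEssential p H) (hcard : Nat.card H = p ^ 3) :
    Cfsg.IsElementaryAbelian p H ∨ (Odd p ∧ Cfsg.IsExtraspecial p ↥H ∧ ∀ x ∈ H, x ^ p = 1) ∨
      (p = 2 ∧ Nonempty (↥H ≃* QuaternionGroup 2)) := by
  classical
  have hHS : H ≤ S := hE.1.1
  haveI hfH : Finite H := finite_of_le hHS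
  have hHp : IsPGroup p H := isPGroup_of_le hS hHS
  by_cases hab : ∀ a b : H, a * b = b * a
  · by_cases hexp : ∀ x ∈ H, x ^ p = 1
    · exact Or.inl ⟨⟨⟨hab⟩⟩, hexp⟩
    · exfalso
      push Not at hexp
      obtain ⟨x, hx, hxp⟩ := hexp
      have hidx : (frattini H).index ≤ p ^ 2 := by
        have h1 : (⟨x, hx⟩ : H) ^ p ∈ frattini H := Cfsg.Agent.Lib.PGroup.FrattiniBasis.pow_mem_frattini hHp _
        have h2 : frattini H ≠ ⊥ := by
          intro h
          rw [h, Subgroup.mem_bot] at h1
          exact hxp (congrArg (fun t : H => (t : Ω)) h1)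
        have h3 : IsPGroup p (frattini H) := hHp.to_subgroup _
        obtain ⟨j, hj⟩ := IsPGroup.iff_card.1 h3
        have hj0 : j ≠ 0 := by
          rintro rfl
          rw [pow_zero] at hj
          exact h2 (Subgroup.eq_bot_of_card_eq _ hj)
        have h4 : p ≤ Nat.card (frattini H) := by
          rw [hj]
          exact Nat.le_self_pow hj0 p
        have h5 := Subgroup.card_mul_index (frattini H)
        rw [hcard] at h5
        have h6 : p * (frattini H).index ≤ p * p ^ 2 := by
          calc p * (frattini H).index ≤ Nat.card (frattini H) * (frattini H).index :=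
                Nat.mul_le_mul_right _ h4
            _ = p * p ^ 2 := by rw [h5]; ring
        exact Nat.le_of_mul_le_mul_left h6 hp.out.pos
      rcases abelian_essential hS hE ⟨⟨hab⟩⟩ hidx with ⟨-, h⟩ | ⟨-, k, ⟨e⟩⟩
      · rw [hcard] at h
        exact absurd (Nat.pow_right_injective hp.out.two_le h) (by norm_num)
      · have h1 := Nat.card_congr e.toEquiv
        rw [hcard, Nat.card_congr Multiplicative.toAdd, Nat.card_prod, Nat.card_zmod, ← pow_add] at h1
        have h2 := Nat.pow_right_injective hp.out.two_le h1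
        omega
  · push Not at hab
    obtain ⟨a, b, hab⟩ := hab
    obtain ⟨hext, hidx⟩ := extraspecial_of_card_cube hcard ⟨a, b, hab⟩
    by_cases hp2 : p = 2
    · subst hp2
      rcases order_eight_dichotomy (X := H) (by rw [hcard]; norm_num) ⟨a, b, hab⟩ with h | ⟨M, h1, h2⟩
      · exact Or.inr (Or.inr ⟨rfl, h⟩)
      · exact (false_of_invariant_max hS hE h1 (frattini_le_of_index_prime h2) h2 hidx.le).elim
    · by_cases hM : Subgroup.closure {x : H | x ^ p = 1} = ⊤
      · refine Or.inr (Or.inl ⟨hp.out.odd_of_ne_two hp2, hext, fun x hx => ?_⟩)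
        have h1 : (⟨x, hx⟩ : H) ∈ Subgroup.closure {x : H | x ^ p = 1} := by rw [hM]; trivial
        have h2 := Cfsg.Agent.Lib.PGroup.Extraspecial.pow_eq_one_of_mem_closure hp2
          (Cfsg.Agent.Lib.PGroup.Extraspecial.IsExtraspecial.comm_mem_center hext) h1
        exact congrArg (fun t : H => (t : Ω)) h2
      · exfalso
        have hle := Cfsg.Agent.Lib.PGroup.Extraspecial.IsExtraspecial.index_closure_le hp2 hext
        have hdvd : (Subgroup.closure {x : H | x ^ p = 1}).index ∣ p ^ 3 := hcard ▸ Subgroup.index_dvd_card _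
        obtain ⟨j, -, hj⟩ := (Nat.dvd_prime_pow hp.out).1 hdvd
        have hj1 : j = 1 := by
          have hj0 : j ≠ 0 := by
            rintro rfl
            rw [pow_zero] at hj
            exact hM (Subgroup.index_eq_one.1 hj)
          have h2 : p ^ j ≤ p ^ 1 := by
            rw [← hj, pow_one]
            exact hle
          have h3 := (Nat.pow_le_pow_iff_right hp.out.one_lt).1 h2
          omega
        rw [hj1, pow_one] at hj
        refine false_of_invariant_max hS hE ?_ (frattini_le_of_index_prime hj) hj hidx.le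
        intro α x hx
        have h1 : Subgroup.closure {x : H | x ^ p = 1} ≤
            (Subgroup.closure {x : H | x ^ p = 1}).comap (MulEquiv.toMonoidHom α) := by
          rw [Subgroup.closure_le]
          intro y hy
          apply Subgroup.subset_closure
          show (α y) ^ p = 1
          rw [← map_pow, (hy : y ^ p = 1), map_one]
        exact h1 hx

end Fusion

end Cfsg.Agent.Lib.Fusion.EssentialCube
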