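/-
Two `p`-elements of `GL₂(p)` generating different cyclic groups: a basis in which (powers of them) are the
standard transvections.
-/
import Mathlib
import Cfsg.Agent.Lib.Fusion.Resist.GL

set_option autoImplicit false
set_option linter.style.haveILetI false

namespace Cfsg.Agent.Lib.Fusion.EssentialPlane

open Cfsg.Agent.Lib.Fusion.Resist.GL

section Linear

variable {p : ℕ} [hp : Fact p.Prime] {V : Type*} [AddCommGroup V] [Module (ZMod p) V] [Finite V]

/-- Two linear automorphisms agreeing on a spanning pair are equal. -/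
theorem eq_of_pair (hV : Module.finrank (ZMod p) V ≤ 2) {e w : V}
    (hli : LinearIndependent (ZMod p) ![e, w]) {x y : V ≃ₗ[ZMod p] V} (h1 : x e = y e)
    (h2 : x w = y w) : x = y := by
  classical
  haveI : Module.Finite (ZMod p) V := Module.Finite.of_finite
  have hcard : Fintype.card (Fin 2) = Module.finrank (ZMod p) V := by
    have h3 := hli.fintype_card_le_finrank
    simp only [Fintype.card_fin] at h3 ⊢
    omega
  have hspan := hli.span_eq_top_of_card_eq_finrank hcard
  ext v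
  have hv : v ∈ Submodule.span (ZMod p) (Set.range ![e, w]) := by
    rw [hspan]
    trivial
  rw [Matrix.range_cons, Matrix.range_cons, Matrix.range_empty, Set.union_empty,
    Set.singleton_union, Submodule.mem_span_pair] at hv
  obtain ⟨a, c, rfl⟩ := hv
  simp only [map_add, map_smul, h1, h2]

/-- The basis. -/
theorem plane_basis (hV : Module.finrank (ZMod p) V = 2) (x y : V ≃ₗ[ZMod p] V) {k l : ℕ}
    (hx : x ^ p ^ k = 1) (hy : y ^ p ^ l = 1) (hx1 : x ≠ 1) (hy1 : y ≠ 1)
    (hnot : y ∉ Subgroup.zpowers x) :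
    ∃ (e₁ e₂ : V) (m n : ℕ), LinearIndependent (ZMod p) ![e₁, e₂] ∧ (x ^ m) e₁ = e₁ ∧
      (x ^ m) e₂ = e₁ + e₂ ∧ (y ^ n) e₂ = e₂ ∧ (y ^ n) e₁ = e₂ + e₁ := by
  classical
  haveI : Module.Finite (ZMod p) V := Module.Finite.of_finite
  have hVle : Module.finrank (ZMod p) V ≤ 2 := hV.le
  haveI : Nontrivial V := Module.nontrivial_of_finrank_pos (R := ZMod p) (by omega)
  obtain ⟨v, hv⟩ := exists_ne (0 : V)
  obtain ⟨e₁, he₁, hxe₁⟩ := exists_fixed x hx v hv
  obtain ⟨e₂, he₂, hye₂⟩ := exists_fixed y hy v hv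
  have hli : LinearIndependent (ZMod p) ![e₁, e₂] := by
    rw [LinearIndependent.pair_iff' he₁]
    intro a ha
    have ha0 : a ≠ 0 := by
      rintro rfl
      rw [zero_smul] at ha
      exact he₂ ha.symm
    have hye₁ : y e₁ = e₁ := by
      have h1 : a • y e₁ = a • e₁ := by
        rw [← map_smul, ha, hye₂]
      exact smul_right_injective V ha0 h1
    obtain ⟨w, hw⟩ : ∃ w, w ∉ Submodule.span (ZMod p) {e₁} := by
      by_contra hcon
      push Not at hcon
      have h1 : Submodule.span (ZMod p) {e₁} = ⊤ := eq_top_iff.2 fun z _ => hcon z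
      have h2 := finrank_span_singleton (K := ZMod p) he₁
      rw [h1, finrank_top] at h2
      omega
    have hliw : LinearIndependent (ZMod p) ![e₁, w] := by
      rw [LinearIndependent.pair_iff' he₁]
      intro b hb
      apply hw
      rw [Submodule.mem_span_singleton]
      exact ⟨b, hb⟩
    obtain ⟨d, hd⟩ := exists_add_smul hVle x hx he₁ hxe₁ w
    obtain ⟨d', hd'⟩ := exists_add_smul hVle y hy he₁ hye₁ w
    have hd0 : d ≠ 0 := by
      rintro rfl
      apply hx1
      refine eq_of_pair hVle hliw hxe₁ ?_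
      rw [hd, zero_smul, add_zero]
      rfl
    apply hnot
    have hyx : y = x ^ (d' * d⁻¹).val := by
      refine eq_of_pair hVle hliw ?_ ?_
      · rw [hye₁, pow_apply_fixed x hxe₁]
      · rw [hd', pow_apply_add_smul x hxe₁ hd, ZMod.natCast_zmod_val, mul_assoc, inv_mul_cancel₀ hd0,
          mul_one]
    rw [hyx]
    exact Subgroup.npow_mem_zpowers x _
  obtain ⟨d, hd⟩ := exists_add_smul hVle x hx he₁ hxe₁ e₂
  have hd0 : d ≠ 0 := by
    rintro rfl
    apply hx1
    refine eq_of_pair hVle hli hxe₁ ?_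
    rw [hd, zero_smul, add_zero]
    rfl
  obtain ⟨d', hd'⟩ := exists_add_smul hVle y hy he₂ hye₂ e₁
  have hd'0 : d' ≠ 0 := by
    rintro rfl
    apply hy1
    have hli' : LinearIndependent (ZMod p) ![e₂, e₁] := by
      rw [LinearIndependent.pair_iff] at hli ⊢
      intro s t hst
      have := hli t s (by rw [add_comm]; exact hst)
      exact ⟨this.2, this.1⟩
    refine eq_of_pair hVle hli' hye₂ ?_
    rw [hd', zero_smul, add_zero]
    rfl
  refine ⟨e₁, e₂, d⁻¹.val, d'⁻¹.val, hli, pow_apply_fixed x hxe₁ _, ?_, pow_apply_fixed y hye₂ _, ?_⟩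
  · rw [pow_apply_add_smul x hxe₁ hd, ZMod.natCast_zmod_val, inv_mul_cancel₀ hd0, one_smul, add_comm]
  · rw [pow_apply_add_smul y hye₂ hd', ZMod.natCast_zmod_val, inv_mul_cancel₀ hd'0, one_smul, add_comm]

end Linear

section Group

variable {p : ℕ} [hp : Fact p.Prime]

theorem finrank_eq_of_card {V : Type*} [AddCommGroup V] [Module (ZMod p) V] [Finite V] {n : ℕ}
    (h2 : Nat.card V = p ^ n) : Module.finrank (ZMod p) V = n := by
  haveI : Module.Finite (ZMod p) V := Module.Finite.of_finite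
  have h1 : Nat.card V = Nat.card (ZMod p) ^ Module.finrank (ZMod p) V :=
    Module.natCard_eq_pow_finrank
  rw [h2, Nat.card_zmod] at h1
  exact (Nat.pow_right_injective hp.out.two_le h1).symm

/-- The group form of `plane_basis`, on a vector space. -/
theorem exists_plane₀ {V : Type*} [AddCommGroup V] [Module (ZMod p) V] [Finite V]
    (hV : Module.finrank (ZMod p) V = 2) {u v : MulAut (Multiplicative V)}
    (hu : ∃ k : ℕ, u ^ p ^ k = 1) (hv : ∃ k : ℕ, v ^ p ^ k = 1)
    (hu1 : u ≠ 1) (hv1 : v ≠ 1) (hnot : v ∉ Subgroup.zpowers u) :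
    ∃ (z₁ z₂ : Multiplicative V) (m n : ℕ), z₁ ≠ 1 ∧ z₂ ≠ 1 ∧ Subgroup.zpowers z₁ ⊓ Subgroup.zpowers z₂ = ⊥ ∧
      (u ^ m) z₁ = z₁ ∧ (u ^ m) z₂ = z₁ * z₂ ∧ (v ^ n) z₂ = z₂ ∧ (v ^ n) z₁ = z₂ * z₁ ∧
      ∀ c : MulAut (Multiplicative V), c z₁ = z₁ → c z₂ = z₂ → c = 1 := by
  classical
  let L₀ : MulAut (Multiplicative V) → (V ≃ₗ[ZMod p] V) := fun α =>
    (AddEquiv.toMultiplicative.symm α).toLinearEquiv (fun c x => ZMod.map_smul (AddEquiv.toMultiplicative.symm α) c x)
  let L : MulAut (Multiplicative V) →* (V ≃ₗ[ZMod p] V) :=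
    MonoidHom.mk' L₀ (fun α β => by
      ext x
      rfl)
  have hLa : ∀ (α : MulAut (Multiplicative V)) (a : Multiplicative V), L α (Multiplicative.toAdd a) = Multiplicative.toAdd (α a) := fun _ _ => rfl
  have hLinj : Function.Injective L := by
    intro α β h
    ext a
    have h1 := congrArg (fun f => f (Multiplicative.toAdd a)) h
    exact Multiplicative.toAdd.injective h1
  obtain ⟨k, hk⟩ := hu
  obtain ⟨l, hl⟩ := hv
  have hx : (L u) ^ p ^ k = 1 := by rw [← map_pow, hk, map_one]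
  have hy : (L v) ^ p ^ l = 1 := by rw [← map_pow, hl, map_one]
  have hx1 : L u ≠ 1 := fun h => hu1 (hLinj (h.trans (map_one L).symm))
  have hy1 : L v ≠ 1 := fun h => hv1 (hLinj (h.trans (map_one L).symm))
  have hn : L v ∉ Subgroup.zpowers (L u) := by
    rintro ⟨i, hi⟩
    apply hnot
    refine ⟨i, hLinj ?_⟩
    show L (u ^ i) = L v
    rw [map_zpow]
    exact hi
  obtain ⟨e₁, e₂, m, n, hli, h1, h2, h3, h4⟩ := plane_basis hV (L u) (L v) hx hy hx1 hy1 hn
  have hne₁ : e₁ ≠ 0 := by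
    have := hli.ne_zero 0
    simpa using this
  have hne₂ : e₂ ≠ 0 := by
    have := hli.ne_zero 1
    simpa using this
  refine ⟨Multiplicative.ofAdd e₁, Multiplicative.ofAdd e₂, m, n, fun h => hne₁ (Multiplicative.ofAdd.injective h),
    fun h => hne₂ (Multiplicative.ofAdd.injective h), ?_, ?_, ?_, ?_, ?_, ?_⟩
  · rw [eq_bot_iff]
    rintro y ⟨hy₁, hy₂⟩
    obtain ⟨i, hi⟩ := Subgroup.mem_zpowers_iff.1 hy₁
    obtain ⟨j, hj⟩ := Subgroup.mem_zpowers_iff.1 hy₂
    have h6 : i • e₁ = j • e₂ := by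
      apply Multiplicative.ofAdd.injective
      show (Multiplicative.ofAdd e₁) ^ i = (Multiplicative.ofAdd e₂) ^ j
      rw [hi, hj]
    have h5 : (i : ZMod p) • e₁ + (-(j : ZMod p)) • e₂ = 0 := by
      rw [← Int.cast_smul_eq_zsmul (ZMod p) i, ← Int.cast_smul_eq_zsmul (ZMod p) j] at h6
      rw [neg_smul, ← sub_eq_add_neg, h6, sub_self]
    have h7 := (LinearIndependent.pair_iff.1 hli) _ _ h5
    have h8 : i • e₁ = 0 := by
      rw [← Int.cast_smul_eq_zsmul (ZMod p) i, h7.1, zero_smul]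
    rw [Subgroup.mem_bot, ← hi]
    show Multiplicative.ofAdd (i • e₁) = 1
    rw [h8]
    rfl
  · exact Multiplicative.toAdd.injective (by rw [← hLa, map_pow]; exact h1)
  · exact Multiplicative.toAdd.injective (by rw [← hLa, map_pow]; exact h2)
  · exact Multiplicative.toAdd.injective (by rw [← hLa, map_pow]; exact h3)
  · exact Multiplicative.toAdd.injective (by rw [← hLa, map_pow]; exact h4)
  · intro c hc1 hc2
    apply hLinj
    rw [map_one]
    exact eq_of_pair hV.le hli (congrArg Multiplicative.toAdd hc1) (congrArg Multiplicative.toAdd hc2)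

/-- The group form of `plane_basis`, for a group with commuting elements. -/
theorem exists_plane {A : Type*} [Finite A] [Group A] (hcomm : ∀ a b : A, a * b = b * a) (hpA : ∀ a : A, a ^ p = 1)
    (hc : Nat.card A = p ^ 2) {u v : MulAut A} (hu : ∃ k : ℕ, u ^ p ^ k = 1) (hv : ∃ k : ℕ, v ^ p ^ k = 1)
    (hu1 : u ≠ 1) (hv1 : v ≠ 1) (hnot : v ∉ Subgroup.zpowers u) :
    ∃ (z₁ z₂ : A) (m n : ℕ), z₁ ≠ 1 ∧ z₂ ≠ 1 ∧ Subgroup.zpowers z₁ ⊓ Subgroup.zpowers z₂ = ⊥ ∧
      (u ^ m) z₁ = z₁ ∧ (u ^ m) z₂ = z₁ * z₂ ∧ (v ^ n) z₂ = z₂ ∧ (v ^ n) z₁ = z₂ * z₁ ∧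
      ∀ c : MulAut A, c z₁ = z₁ → c z₂ = z₂ → c = 1 := by
  letI iC : CommGroup A := { (inferInstance : Group A) with mul_comm := hcomm }
  have hpow : ∀ x : Additive A, p • x = 0 := by
    intro x
    show Additive.ofMul ((Additive.toMul x) ^ p) = 0
    rw [hpA]
    rfl
  letI iM : Module (ZMod p) (Additive A) := AddCommGroup.zmodModule hpow
  haveI iF : Finite (Additive A) := Finite.of_equiv A Additive.ofMul
  have h2 : Nat.card (Additive A) = p ^ 2 := (Nat.card_congr Additive.ofMul.symm).trans hc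
  have hV : Module.finrank (ZMod p) (Additive A) = 2 := finrank_eq_of_card h2
  exact exists_plane₀ (V := Additive A) hV hu hv hu1 hv1 hnot

end Group

end Cfsg.Agent.Lib.Fusion.EssentialPlane
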