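/-
Basic facts on central products of fusion systems and on generalized Fitting subsystems.
-/
import Mathlib
import Cfsg.Agent.Lib.Fusion.CompMain
import Cfsg.Agent.Lib.Fusion.GoodLift7
import Cfsg.Agent.S5150
import Cfsg.Prelude.Def_FusionFitting

set_option autoImplicit false
set_option linter.style.haveILetI false
set_option linter.unusedSectionVars false

namespace Cfsg.Agent.Lib.Fusion.FitBasic

open Cfsg Cfsg.FusionSystem Cfsg.Agent.Lib.Fusion.Basic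
open Cfsg.Agent.Lib.Fusion.Joins (isNormal_core isCentral_center)
open Cfsg.Agent.Lib.Fusion.FactorMorphism (preimage_le mem_preimage)

variable {Ω : Type*} [Group Ω]

section CP

variable {T₁ T₂ U : Subgroup Ω} {θ : ↥(T₁.prod T₂) →* Ω}

theorem pair_left {x : Ω} (hx : x ∈ T₁) : ((x, 1) : Ω × Ω) ∈ T₁.prod T₂ :=
  Subgroup.mem_prod.2 ⟨hx, one_mem _⟩

theorem pair_right {y : Ω} (hy : y ∈ T₂) : ((1, y) : Ω × Ω) ∈ T₁.prod T₂ :=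
  Subgroup.mem_prod.2 ⟨one_mem _, hy⟩

/-- `θ` is the multiplication map. -/
theorem theta_apply (h1 : ∀ (x : Ω) (hx : ((x, 1) : Ω × Ω) ∈ T₁.prod T₂), θ ⟨(x, 1), hx⟩ = x)
    (h2 : ∀ (y : Ω) (hy : ((1, y) : Ω × Ω) ∈ T₁.prod T₂), θ ⟨(1, y), hy⟩ = y) (s : ↥(T₁.prod T₂)) :
    θ s = (s : Ω × Ω).1 * (s : Ω × Ω).2 := by
  have hs := Subgroup.mem_prod.1 s.2
  have e : s = ⟨((s : Ω × Ω).1, 1), pair_left hs.1⟩ * ⟨(1, (s : Ω × Ω).2), pair_right hs.2⟩ := by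
    apply Subtype.ext
    apply Prod.ext
    · show (s : Ω × Ω).1 = (s : Ω × Ω).1 * 1
      rw [mul_one]
    · show (s : Ω × Ω).2 = 1 * (s : Ω × Ω).2
      rw [one_mul]
  calc θ s = θ (⟨((s : Ω × Ω).1, 1), pair_left hs.1⟩ * ⟨(1, (s : Ω × Ω).2), pair_right hs.2⟩) := congrArg θ e
    _ = _ := by rw [map_mul, h1, h2]

/-- The two factors commute. -/
theorem comm_of_theta (h1 : ∀ (x : Ω) (hx : ((x, 1) : Ω × Ω) ∈ T₁.prod T₂), θ ⟨(x, 1), hx⟩ = x)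
    (h2 : ∀ (y : Ω) (hy : ((1, y) : Ω × Ω) ∈ T₁.prod T₂), θ ⟨(1, y), hy⟩ = y) {x y : Ω} (hx : x ∈ T₁) (hy : y ∈ T₂) :
    x * y = y * x := by
  have e : (⟨(x, 1), pair_left hx⟩ * ⟨(1, y), pair_right hy⟩ : ↥(T₁.prod T₂))
      = ⟨(1, y), pair_right hy⟩ * ⟨(x, 1), pair_left hx⟩ := by
    apply Subtype.ext
    apply Prod.ext
    · show x * 1 = 1 * x
      rw [mul_one, one_mul]
    · show 1 * y = y * 1
      rw [mul_one, one_mul]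
  have := congrArg θ e
  rwa [map_mul, map_mul, h1, h2] at this

end CP

section Sub

variable {S : Subgroup Ω}

/-- A subnormal subsystem is a subsystem. -/
theorem subnormal_le {T : Subgroup Ω} {C : FusionSystem T} {F : FusionSystem S} {p : ℕ}
    (h : C.IsSubnormalIn F p) : C.IsSubsystemOf F := by
  induction h with
  | refl F p => exact fun _ _ h => h
  | step _ h2 ih => exact fun P φ hφ => h2.1.2.2.1 P (ih P hφ)

end Sub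

section CP2

variable {T₁ T₂ U : Subgroup Ω} {E₁ : FusionSystem T₁} {E₂ : FusionSystem T₂} {D : FusionSystem U}

/-- Data extracted from a central product. -/
structure CPData (E₁ : FusionSystem T₁) (E₂ : FusionSystem T₂) (D : FusionSystem U) (D₀ : FusionSystem (T₁.prod T₂))
    (Z : Subgroup (Ω × Ω)) (θ : ↥(T₁.prod T₂) →* Ω) : Prop where
  prod : IsProductSystem E₁ E₂ D₀
  central : Z ≤ D₀.center
  left : ∀ (x : Ω) (hx : ((x, 1) : Ω × Ω) ∈ T₁.prod T₂), θ ⟨(x, 1), hx⟩ = x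
  right : ∀ (y : Ω) (hy : ((1, y) : Ω × Ω) ∈ T₁.prod T₂), θ ⟨(1, y), hy⟩ = y
  fac : D₀.IsFactorSystem Z θ D

variable {D₀ : FusionSystem (T₁.prod T₂)} {Z : Subgroup (Ω × Ω)} {θ : ↥(T₁.prod T₂) →* Ω}

theorem CPData.theta (h : CPData E₁ E₂ D D₀ Z θ) (s : ↥(T₁.prod T₂)) : θ s = (s : Ω × Ω).1 * (s : Ω × Ω).2 :=
  theta_apply h.left h.right s

theorem CPData.comm (h : CPData E₁ E₂ D D₀ Z θ) {x y : Ω} (hx : x ∈ T₁) (hy : y ∈ T₂) : x * y = y * x :=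
  comm_of_theta h.left h.right hx hy

theorem CPData.left_le (h : CPData E₁ E₂ D D₀ Z θ) : T₁ ≤ U := by
  intro x hx
  rw [← h.fac.2.2.1]
  exact ⟨⟨(x, 1), pair_left hx⟩, h.left x _⟩

theorem CPData.right_le (h : CPData E₁ E₂ D D₀ Z θ) : T₂ ≤ U := by
  intro x hx
  rw [← h.fac.2.2.1]
  exact ⟨⟨(1, x), pair_right hx⟩, h.right x _⟩

theorem CPData.le_sup (h : CPData E₁ E₂ D D₀ Z θ) : U ≤ T₁ ⊔ T₂ := by
  rw [← h.fac.2.2.1]
  rintro _ ⟨s, rfl⟩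
  rw [h.theta]
  have hs := Subgroup.mem_prod.1 s.2
  exact Subgroup.mul_mem _ (Subgroup.mem_sup_left hs.1) (Subgroup.mem_sup_right hs.2)

/-- Every element of `U` is a product. -/
theorem CPData.exists_mul (h : CPData E₁ E₂ D D₀ Z θ) {u : Ω} (hu : u ∈ U) :
    ∃ s : ↥(T₁.prod T₂), θ s = u := by
  rw [← h.fac.2.2.1] at hu
  exact hu

/-- Every map of the second factor is a map of the central product. -/
theorem CPData.right_sub [Finite ↥(T₁.prod T₂)] (h : CPData E₁ E₂ D D₀ Z θ) : E₂.IsSubsystemOf D := by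
  classical
  intro R φ hφ
  have hRT : R ≤ T₂ := source_le hφ
  have hprod := h.prod
  obtain ⟨-, hker, -, hmem⟩ := h.fac
  refine (hmem R φ).2 ⟨hRT.trans h.right_le, ?_⟩
  set A : Subgroup (Ω × Ω) := (⊥ : Subgroup Ω).prod R with hA
  have hAT : A ≤ T₁.prod T₂ := fun x hx => by
    have hx' := Subgroup.mem_prod.1 hx
    refine Subgroup.mem_prod.2 ⟨?_, hRT hx'.2⟩
    rw [Subgroup.mem_bot.1 hx'.1]
    exact one_mem _
  have hAsnd : ∀ x : A, (x : Ω × Ω).2 ∈ R := fun x => (Subgroup.mem_prod.1 x.2).2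
  have hAfst : ∀ x : A, (x : Ω × Ω).1 = 1 := fun x => Subgroup.mem_bot.1 (Subgroup.mem_prod.1 x.2).1
  let s₂ : A →* R := (MonoidHom.snd Ω Ω).comp A.subtype |>.codRestrict R hAsnd
  let φ₀ : A →* Ω × Ω := MonoidHom.prod 1 (φ.comp s₂)
  have hφ₀e : ∀ x : A, φ₀ x = (1, φ ⟨(x : Ω × Ω).2, hAsnd x⟩) := fun x => rfl
  have hφ₀ : φ₀ ∈ D₀.Hom A := by
    refine (hprod A φ₀).2 ⟨hAT, ?_⟩
    have hfstle : A.map (MonoidHom.fst Ω Ω) ≤ T₁ := by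
      rintro _ ⟨x, hx, rfl⟩
      exact (Subgroup.mem_prod.1 (hAT hx)).1
    have hsndle : A.map (MonoidHom.snd Ω Ω) ≤ R := by
      rintro _ ⟨x, hx, rfl⟩
      exact (Subgroup.mem_prod.1 hx).2
    refine ⟨(A.map (MonoidHom.fst Ω Ω)).subtype, subtype_mem hfstle, φ.comp (Subgroup.inclusion hsndle),
      res_mem hφ hsndle, fun x h₁ h₂ => ?_⟩
    rw [hφ₀e]
    apply Prod.ext
    · exact (hAfst x).symm
    · rfl
  obtain ⟨ψ, hψ, hψa, hψb⟩ := (isCentral_center D₀).2 A φ₀ hφ₀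
  have hle : preimageAlong θ R ≤ A ⊔ D₀.center := by
    intro s hs
    obtain ⟨hsm, hsR⟩ := mem_preimage.1 hs
    have ha : ((1, θ ⟨s, hsm⟩) : Ω × Ω) ∈ A := Subgroup.mem_prod.2 ⟨one_mem _, hsR⟩
    have hz : ((1, θ ⟨s, hsm⟩) : Ω × Ω)⁻¹ * s ∈ Z := by
      have hmm : ((1, θ ⟨s, hsm⟩) : Ω × Ω)⁻¹ * s ∈ T₁.prod T₂ :=
        Subgroup.mul_mem _ (Subgroup.inv_mem _ (hAT ha)) hsm
      refine (hker ⟨_, hmm⟩).1 ?_
      have e : (⟨_, hmm⟩ : ↥(T₁.prod T₂)) = (⟨_, hAT ha⟩ : ↥(T₁.prod T₂))⁻¹ * ⟨s, hsm⟩ := rfl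
      rw [e, map_mul, map_inv, h.right]
      group
    have e : s = ((1, θ ⟨s, hsm⟩) : Ω × Ω) * (((1, θ ⟨s, hsm⟩) : Ω × Ω)⁻¹ * s) := by group
    rw [e]
    exact Subgroup.mul_mem _ (Subgroup.mem_sup_left ha) (Subgroup.mem_sup_right (h.central hz))
  refine ⟨ψ.comp (Subgroup.inclusion hle), res_mem hψ hle, preimage_le θ R, fun x => map_mem_S (res_mem hψ hle) x,
    fun x => (mem_preimage.1 x.2).2, fun x => ?_⟩
  obtain ⟨hsm, hsR⟩ := mem_preimage.1 x.2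
  set r := θ ⟨(x : Ω × Ω), hsm⟩ with hr
  have ha : ((1, r) : Ω × Ω) ∈ A := Subgroup.mem_prod.2 ⟨one_mem _, hsR⟩
  have hmm : ((1, r) : Ω × Ω)⁻¹ * (x : Ω × Ω) ∈ T₁.prod T₂ :=
    Subgroup.mul_mem _ (Subgroup.inv_mem _ (hAT ha)) hsm
  have hz : ((1, r) : Ω × Ω)⁻¹ * (x : Ω × Ω) ∈ Z := by
    refine (hker ⟨_, hmm⟩).1 ?_
    have e : (⟨_, hmm⟩ : ↥(T₁.prod T₂)) = (⟨_, hAT ha⟩ : ↥(T₁.prod T₂))⁻¹ * ⟨(x : Ω × Ω), hsm⟩ := rfl
    rw [e, map_mul, map_inv, h.right]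
    simp [hr]
  have e : Subgroup.inclusion hle x
      = Subgroup.inclusion le_sup_left (⟨_, ha⟩ : A) * Subgroup.inclusion le_sup_right ⟨_, h.central hz⟩ := by
    apply Subtype.ext
    show (x : Ω × Ω) = ((1, r) : Ω × Ω) * (((1, r) : Ω × Ω)⁻¹ * (x : Ω × Ω))
    group
  have e2 : (ψ.comp (Subgroup.inclusion hle)) x = φ₀ ⟨_, ha⟩ * (((1, r) : Ω × Ω)⁻¹ * (x : Ω × Ω)) := by
    show ψ (Subgroup.inclusion hle x) = _
    rw [e, map_mul, hψa, hψb]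
  have hφ₀v : φ₀ ⟨_, ha⟩ = (1, φ ⟨r, hsR⟩) := hφ₀e ⟨_, ha⟩
  have hφrT : φ ⟨r, hsR⟩ ∈ T₂ := map_mem_S hφ _
  have hfinal : ∀ w : Ω × Ω, (hw : w ∈ T₁.prod T₂) → w = (1, φ ⟨r, hsR⟩) * (((1, r) : Ω × Ω)⁻¹ * (x : Ω × Ω)) →
      θ ⟨w, hw⟩ = φ ⟨r, hsR⟩ := by
    intro w hw he
    have hq : (⟨w, hw⟩ : ↥(T₁.prod T₂)) = ⟨(1, φ ⟨r, hsR⟩), pair_right hφrT⟩ * ⟨_, hmm⟩ := Subtype.ext he
    rw [hq, map_mul, h.right, (hker ⟨_, hmm⟩).2 hz, mul_one]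
  exact (hfinal _ _ (by rw [e2, hφ₀v])).symm

end CP2

section Main

variable {S T U : Subgroup Ω} [Finite S] {p : ℕ} [hp : Fact p.Prime] {F : FusionSystem S} {E : FusionSystem T}
  {D : FusionSystem U} {D₀ : FusionSystem (F.core.prod T)} {Z : Subgroup (Ω × Ω)} {θ : ↥(F.core.prod T) →* Ω}

/-- The central product of `O_p(F)` with the layer is a subsystem of `F`. -/
theorem le_of_cp (hS : IsPGroup p S) (hF : F.IsSaturated p) (hL : E.IsLayerOf F p)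
    (h : CPData (innerFusionSystem F.core) E D D₀ Z θ) : D.IsSubsystemOf F := by
  classical
  intro P φ' hφ'
  obtain ⟨-, -, hr, hmem⟩ := h.fac
  obtain ⟨hPU, φ, hφ, hPle, hφv, hPm, he⟩ := (hmem P φ').1 hφ'
  obtain ⟨hle, φ₁, hφ₁, φ₂, hφ₂, hφe⟩ := (h.prod _ φ).1 hφ
  obtain ⟨hP₁, g, hg, hφ₁e⟩ := hφ₁
  have hQn := isNormal_core F
  have hQS : F.core ≤ S := hQn.1
  have hgS : g ∈ S := hQS hg
  obtain ⟨hφ₂F, hQ₂C, hvC, ψ₂, hψ₂, hψ₂a, hψ₂b⟩ := Cfsg.Agent.S5150.result p hS F hF E hL _ hφ₂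
  have hsplit : ∀ x : P, ∃ s : ↥(F.core.prod T), θ s = x := fun x => h.exists_mul (hPU x.2)
  have hinP₀ : ∀ (x : P) (s : ↥(F.core.prod T)), θ s = x → (s : Ω × Ω) ∈ preimageAlong θ P := by
    intro x s hs
    refine mem_preimage.2 ⟨s.2, ?_⟩
    have : θ ⟨(s : Ω × Ω), s.2⟩ = x := hs
    rw [this]
    exact x.2
  have hPsup : P ≤ (preimageAlong θ P).map (MonoidHom.snd Ω Ω) ⊔ F.core := by
    intro x hx
    obtain ⟨s, hs⟩ := hsplit ⟨x, hx⟩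
    have hsP := hinP₀ ⟨x, hx⟩ s hs
    have hs1 : x = (s : Ω × Ω).2 * (s : Ω × Ω).1 := by
      have h2 := h.theta s
      rw [hs] at h2
      exact h2.trans (h.comm (Subgroup.mem_prod.1 s.2).1 (Subgroup.mem_prod.1 s.2).2)
    rw [hs1]
    exact Subgroup.mul_mem _ (Subgroup.mem_sup_left ⟨_, hsP, rfl⟩)
      (Subgroup.mem_sup_right (Subgroup.mem_prod.1 s.2).1)
  have hχ := res_mem hψ₂ hPsup
  refine comp_mem' hχ (F.conj_mem (le_refl S) hgS) (fun x => map_mem_S hχ x) ?_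
  intro x
  obtain ⟨s, hs⟩ := hsplit x
  have hsP := hinP₀ x s hs
  have hm1 : (s : Ω × Ω).1 ∈ (preimageAlong θ P).map (MonoidHom.fst Ω Ω) := ⟨_, hsP, rfl⟩
  have hm2 : (s : Ω × Ω).2 ∈ (preimageAlong θ P).map (MonoidHom.snd Ω Ω) := ⟨_, hsP, rfl⟩
  have hsq := (Subgroup.mem_prod.1 s.2).1
  have hst := (Subgroup.mem_prod.1 s.2).2
  -- left side
  have hl : φ' x = g * (s : Ω × Ω).1 * g⁻¹ * φ₂ ⟨_, hm2⟩ := by
    have e1 := he ⟨_, hsP⟩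
    have e2 : (⟨θ ⟨(s : Ω × Ω), hPle hsP⟩, hPm ⟨_, hsP⟩⟩ : P) = x := Subtype.ext hs
    rw [e2] at e1
    rw [e1, h.theta]
    have e3 := hφe ⟨_, hsP⟩ hm1 hm2
    show (φ ⟨_, hsP⟩).1 * (φ ⟨_, hsP⟩).2 = _
    rw [e3]
    show φ₁ ⟨_, hm1⟩ * φ₂ ⟨_, hm2⟩ = _
    rw [hφ₁e]
  -- right side
  have hr' : (ψ₂.comp (Subgroup.inclusion hPsup)) x = φ₂ ⟨_, hm2⟩ * (s : Ω × Ω).1 := by
    have e0 : Subgroup.inclusion hPsup x = Subgroup.inclusion le_sup_left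
        (⟨_, hm2⟩ : ↥((preimageAlong θ P).map (MonoidHom.snd Ω Ω))) *
        Subgroup.inclusion le_sup_right (⟨_, hsq⟩ : F.core) := by
      apply Subtype.ext
      show (x : Ω) = (s : Ω × Ω).2 * (s : Ω × Ω).1
      have h2 := h.theta s
      rw [hs] at h2
      exact h2.trans (h.comm hsq hst)
    show ψ₂ (Subgroup.inclusion hPsup x) = _
    rw [e0, map_mul, hψ₂a, hψ₂b]
  rw [hl]
  show _ = g * ((ψ₂.comp (Subgroup.inclusion hPsup)) x) * g⁻¹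
  rw [hr']
  have hv : φ₂ ⟨_, hm2⟩ ∈ T := map_mem_S hφ₂ _
  have hc1 := h.comm hg hv
  have hc2 := h.comm (F.core.mul_mem (F.core.mul_mem hg hsq) (F.core.inv_mem hg)) hv
  rw [hc2]
  have e5 : g * (φ₂ ⟨_, hm2⟩ * (s : Ω × Ω).1) * g⁻¹ = (g * φ₂ ⟨_, hm2⟩) * ((s : Ω × Ω).1 * g⁻¹) := by group
  rw [e5, hc1]
  group

/-- Maps fixing `Y ≤ Z(O_p(F))`: extensions of maps of the central product which fix `Y` are in the central product. -/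
theorem ext_mem {Q : Subgroup Ω} {D₀ : FusionSystem (Q.prod T)} {θ : ↥(Q.prod T) →* Ω}
    (h : CPData (innerFusionSystem Q) E D D₀ Z θ) {Y : Subgroup Ω} (hYQ : Y ≤ Q)
    (hY1 : ∀ y ∈ Y, ∀ q ∈ Q, y * q = q * y) (hY2 : ∀ y ∈ Y, ∀ t ∈ T, y * t = t * y)
    {P : Subgroup Ω} {φ' : P →* Ω} (hφ' : φ' ∈ D.Hom P) {ψ : ↥(P ⊔ Y) →* Ω}
    (hψa : ∀ x : P, ψ (Subgroup.inclusion le_sup_left x) = φ' x)
    (hψb : ∀ x : Y, ψ (Subgroup.inclusion le_sup_right x) = x) : ψ ∈ D.Hom (P ⊔ Y) := by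
  classical
  obtain ⟨-, -, hr, hmem⟩ := h.fac
  obtain ⟨hPU, φ, hφ, hPle, hφv, hPm, he⟩ := (hmem P φ').1 hφ'
  obtain ⟨hle, φ₁, hφ₁, φ₂, hφ₂, hφe⟩ := (h.prod _ φ).1 hφ
  obtain ⟨hP₁, g, hg, hφ₁e⟩ := hφ₁
  have hYU : Y ≤ U := hYQ.trans h.left_le
  have hsupU : P ⊔ Y ≤ U := sup_le hPU hYU
  have hBle : preimageAlong θ (P ⊔ Y) ≤ Q.prod T := preimage_le θ _
  have hcommP : ∀ a ∈ P, ∀ y ∈ Y, y * a = a * y := by
    intro a ha y hy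
    obtain ⟨s, hs⟩ := h.exists_mul (hPU ha)
    rw [← hs, h.theta]
    have hs1 := (Subgroup.mem_prod.1 s.2).1
    have hs2 := (Subgroup.mem_prod.1 s.2).2
    rw [← mul_assoc, hY1 y hy _ hs1, mul_assoc, hY2 y hy _ hs2, mul_assoc]
  have hPY : ∀ (u : Ω), u ∈ P ⊔ Y → ∃ a ∈ P, ∃ y ∈ Y, u = a * y := by
    intro u hu
    refine Cfsg.Agent.Lib.Fusion.GroupSylow.exists_mul_of_mem_sup ?_ hu
    intro a ha
    refine Subgroup.mem_normalizer_iff.2 fun y => ?_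
    constructor
    · intro hy
      have hy' : y ∈ Y := hy
      have : a * y * a⁻¹ = y := by rw [← hcommP a ha y hy']; group
      show a * y * a⁻¹ ∈ Y
      rw [this]
      exact hy'
    · intro hy
      have hy' : a * y * a⁻¹ ∈ Y := hy
      have hc := hcommP a ha _ hy'
      have h3 : y = a * y * a⁻¹ := by
        have h4 : a * y * a⁻¹ * a = a * (a * y * a⁻¹) := hc
        have h5 : a * y * a⁻¹ * a = a * y := by group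
        rw [h5] at h4
        exact mul_left_cancel h4
      show y ∈ Y
      rw [h3]
      exact hy'
  -- the second coordinates of the preimage
  have hkey : ∀ s : Ω × Ω, s ∈ preimageAlong θ (P ⊔ Y) → ∃ y ∈ Y, ((y⁻¹, 1) : Ω × Ω) * s ∈ preimageAlong θ P := by
    intro s hs
    obtain ⟨hsm, hsv⟩ := mem_preimage.1 hs
    obtain ⟨a, ha, y, hy, hay⟩ := hPY _ hsv
    refine ⟨y, hy, mem_preimage.2 ⟨?_, ?_⟩⟩
    · exact Subgroup.mul_mem _ (pair_left (Q.inv_mem (hYQ hy))) hsm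
    · have e : θ ⟨((y⁻¹, 1) : Ω × Ω) * s, Subgroup.mul_mem _ (pair_left (Q.inv_mem (hYQ hy))) hsm⟩
          = y⁻¹ * θ ⟨s, hsm⟩ := by
        have e2 : (⟨((y⁻¹, 1) : Ω × Ω) * s, Subgroup.mul_mem _ (pair_left (Q.inv_mem (hYQ hy))) hsm⟩ : ↥(Q.prod T))
            = ⟨(y⁻¹, 1), pair_left (Q.inv_mem (hYQ hy))⟩ * ⟨s, hsm⟩ := rfl
        rw [e2, map_mul, h.left]
      have e3 : y⁻¹ * (a * y) = a := by
        rw [← mul_assoc, hcommP a ha y⁻¹ (Y.inv_mem hy), mul_assoc, inv_mul_cancel, mul_one]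
      rw [e, hay, e3]
      exact ha
  have hsnd : (preimageAlong θ (P ⊔ Y)).map (MonoidHom.snd Ω Ω) ≤ (preimageAlong θ P).map (MonoidHom.snd Ω Ω) := by
    rintro _ ⟨s, hs, rfl⟩
    obtain ⟨y, hy, hs'⟩ := hkey s hs
    exact ⟨_, hs', by simp⟩
  have hfst : (preimageAlong θ (P ⊔ Y)).map (MonoidHom.fst Ω Ω) ≤ Q := by
    rintro _ ⟨s, hs, rfl⟩
    exact (Subgroup.mem_prod.1 (hBle hs)).1
  let s₂ : ↥(preimageAlong θ (P ⊔ Y)) →* ↥((preimageAlong θ P).map (MonoidHom.snd Ω Ω)) :=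
    ((MonoidHom.snd Ω Ω).comp (preimageAlong θ (P ⊔ Y)).subtype).codRestrict _ (fun x => hsnd ⟨x, x.2, rfl⟩)
  let β : ↥(preimageAlong θ (P ⊔ Y)) →* Ω × Ω :=
    MonoidHom.prod ((MulAut.conj g).toMonoidHom.comp ((MonoidHom.fst Ω Ω).comp (preimageAlong θ (P ⊔ Y)).subtype))
      (φ₂.comp s₂)
  have hβ : β ∈ D₀.Hom (preimageAlong θ (P ⊔ Y)) :=
    (h.prod _ β).2 ⟨hBle, conjHom _ g, ⟨hfst, g, hg, fun x => rfl⟩, φ₂.comp (Subgroup.inclusion hsnd),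
      res_mem hφ₂ hsnd, fun x h₁ h₂ => rfl⟩
  refine (hmem (P ⊔ Y) ψ).2 ⟨hsupU, β, hβ, hBle, map_mem_S hβ, fun x => (mem_preimage.1 x.2).2, fun x => ?_⟩
  obtain ⟨y, hy, hs'⟩ := hkey x x.2
  have hxm : (x : Ω × Ω) ∈ Q.prod T := hBle x.2
  have hx1 := (Subgroup.mem_prod.1 hxm).1
  have hs'm : ((y⁻¹, 1) : Ω × Ω) * (x : Ω × Ω) ∈ Q.prod T := hPle hs'
  have e1 : θ ⟨((y⁻¹, 1) : Ω × Ω) * (x : Ω × Ω), hs'm⟩ = y⁻¹ * θ ⟨(x : Ω × Ω), hxm⟩ := by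
    have e2 : (⟨((y⁻¹, 1) : Ω × Ω) * (x : Ω × Ω), hs'm⟩ : ↥(Q.prod T))
        = ⟨(y⁻¹, 1), pair_left (Q.inv_mem (hYQ hy))⟩ * ⟨(x : Ω × Ω), hxm⟩ := rfl
    rw [e2, map_mul, h.left]
  have ha : θ ⟨((y⁻¹, 1) : Ω × Ω) * (x : Ω × Ω), hs'm⟩ ∈ P := (mem_preimage.1 hs').2
  have e2 : (⟨θ ⟨(x : Ω × Ω), hBle x.2⟩, (mem_preimage.1 x.2).2⟩ : ↥(P ⊔ Y))
      = Subgroup.inclusion le_sup_right (⟨y, hy⟩ : Y) * Subgroup.inclusion le_sup_left (⟨_, ha⟩ : P) := by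
    apply Subtype.ext
    show θ ⟨(x : Ω × Ω), hxm⟩ = y * θ ⟨((y⁻¹, 1) : Ω × Ω) * (x : Ω × Ω), hs'm⟩
    rw [e1, mul_inv_cancel_left]
  rw [e2, map_mul, hψa, hψb]
  have e8 : θ ⟨β x, map_mem_S hβ x⟩ = (β x).1 * (β x).2 := h.theta _
  rw [e8]
  have e3 := he ⟨_, hs'⟩
  have e4 : (⟨θ ⟨((y⁻¹, 1) : Ω × Ω) * (x : Ω × Ω), hPle hs'⟩, hPm ⟨_, hs'⟩⟩ : P) = ⟨_, ha⟩ := rfl
  rw [e4] at e3
  rw [e3, h.theta]
  have hm1 : (((y⁻¹, 1) : Ω × Ω) * (x : Ω × Ω)).1 ∈ (preimageAlong θ P).map (MonoidHom.fst Ω Ω) := ⟨_, hs', rfl⟩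
  have hm2 : (((y⁻¹, 1) : Ω × Ω) * (x : Ω × Ω)).2 ∈ (preimageAlong θ P).map (MonoidHom.snd Ω Ω) := ⟨_, hs', rfl⟩
  have e5 := hφe ⟨_, hs'⟩ hm1 hm2
  show y * ((φ ⟨_, hs'⟩).1 * (φ ⟨_, hs'⟩).2) = (β x).1 * (β x).2
  rw [e5]
  show y * (φ₁ ⟨_, hm1⟩ * φ₂ ⟨_, hm2⟩) = (g * (x : Ω × Ω).1 * g⁻¹) * φ₂ (s₂ x)
  rw [hφ₁e]
  have e6 : (⟨_, hm2⟩ : ↥((preimageAlong θ P).map (MonoidHom.snd Ω Ω))) = s₂ x := by
    apply Subtype.ext
    show 1 * (x : Ω × Ω).2 = (x : Ω × Ω).2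
    rw [one_mul]
  rw [e6]
  rw [← mul_assoc]
  congr 1
  show y * (g * (y⁻¹ * (x : Ω × Ω).1) * g⁻¹) = g * (x : Ω × Ω).1 * g⁻¹
  have e7 : y * (g * (y⁻¹ * (x : Ω × Ω).1) * g⁻¹) = (y * g) * (y⁻¹ * (x : Ω × Ω).1) * g⁻¹ := by group
  rw [e7, hY1 y hy g hg]
  group

variable (p) in
/-- The centre of the central product of `O_p(F)` and the layer contains every `Y` in `C_S(U)` centralized by it. -/
theorem le_core_of_fit (hS : IsPGroup p S) (hF : F.IsSaturated p) (hL : E.IsLayerOf F p)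
    {Y : Subgroup Ω} (hYT : Y ≤ centralizerIn S T) (hYE : ∀ P : Subgroup Ω, E.Hom P ⊆ F.centralizerHom Y P)
    (hYQ : Y ≤ centralizerIn S F.core) : Y ≤ F.core := by
  classical
  have hE := hL.1
  open Cfsg.Agent.Lib.Fusion.GoodLift in
  have hYC : Y ≤ CC hS hF hE := le_CC hS hF hE hYT hYE
  open Cfsg.Agent.Lib.Fusion.GoodLift in
  obtain ⟨E₁, hE₁n, hE₁c⟩ := exists_normal_centralizer hS hF hE
  open Cfsg.Agent.Lib.Fusion.GoodLift in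
  have hCS : CC hS hF hE ≤ S := CC_le_S hS hF hE
  open Cfsg.Agent.Lib.Fusion.GoodLift in
  have hCT : CC hS hF hE ≤ centralizerIn S T := CC_le hS hF hE
  haveI : Finite ↥(Cfsg.Agent.Lib.Fusion.GoodLift.CC hS hF hE) := finite_of_le hCS
  have hCp := isPGroup_of_le hS hCS
  -- no components
  have hno : ¬ ∃ (T' : Subgroup Ω) (C : FusionSystem T'), C.IsComponentIn E₁ p := by
    rintro ⟨T', C, hsn, hq⟩
    have hC : C.IsComponentIn F p := ⟨hsn.step hE₁n, hq⟩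
    have hsub : C.IsSubsystemOf E := hL.2.1 T' C hC
    have hT'T : T' ≤ T := source_le (hsub T' (subtype_mem (F := C) (le_rfl : T' ≤ T')))
    have hsub1 : C.IsSubsystemOf E₁ := subnormal_le hsn
    have hT'C : T' ≤ Cfsg.Agent.Lib.Fusion.GoodLift.CC hS hF hE :=
      source_le (hsub1 T' (subtype_mem (F := C) (le_rfl : T' ≤ T')))
    have hT'S : T' ≤ S := hT'C.trans hCS
    haveI : Finite T' := finite_of_le hT'S
    apply Cfsg.Agent.S5148.result p (isPGroup_of_le hS hT'S) C hq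
    refine ⟨⟨fun a b => Subtype.ext ?_⟩⟩
    exact (Subgroup.mem_centralizer_iff.1 (hCT (hT'C b.2)).2 a (hT'T a.2))
  have hc : E₁.IsConstrained p :=
    (Cfsg.Agent.Lib.Fusion.CompMain.isConstrained_iff hCp hE₁n.1.1).2 hno
  obtain ⟨-, R, hRn, hRc⟩ := hc
  have hR1 : R ≤ E₁.core := le_sSup hRn
  have hcn : F.IsNormal E₁.core := Cfsg.Agent.Lib.Fusion.ResidSeries.isNormal_core_of_isNormalIn hS hF hE₁n
  have hR2 : E₁.core ≤ F.core := le_sSup hcn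
  intro y hy
  apply hR2
  apply hR1
  apply hRc.2 R (Cfsg.Agent.Lib.Fusion.Basic.IsConj.refl hRc.1)
  exact ⟨hYC hy, Subgroup.centralizer_le (hR1.trans hR2) (hYQ hy).2⟩

end Main

end Cfsg.Agent.Lib.Fusion.FitBasic
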