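/-
Detecting the focal subgroup by a strongly closed subgroup: if `T` is strongly closed, contains the
commutators of `S`, and `Aut_F(S)` acts trivially on `S/T`, then every map acts trivially modulo `T`.
-/
import Mathlib
import Cfsg.Agent.Lib.Fusion.FNInduction
import Cfsg.Agent.Lib.Fusion.GroupSylow
import Cfsg.Agent.Lib.Fusion.Alperin

set_option autoImplicit false

namespace Cfsg.Agent.Lib.Fusion.FocalClosed

open Cfsg Cfsg.FusionSystem Cfsg.Agent.Lib.Fusion.Basic Cfsg.Agent.Lib.Fusion.Saturated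

variable {Ω : Type*} [Group Ω] {S : Subgroup Ω} {F : FusionSystem S}

/-- The automorphisms of `P` acting trivially modulo `T`. -/
def trivMod (P T : Subgroup Ω) : Subgroup (MulAut P) where
  carrier := {a | ∀ x : P, (x : Ω)⁻¹ * ((a x : P) : Ω) ∈ T}
  mul_mem' := by
    intro a b ha hb x
    have e : (x : Ω)⁻¹ * (((a * b) x : P) : Ω) =
        ((x : Ω)⁻¹ * ((b x : P) : Ω)) * (((b x : P) : Ω)⁻¹ * ((a (b x) : P) : Ω)) := by
      change (x : Ω)⁻¹ * ((a (b x) : P) : Ω) = _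
      group
    rw [e]
    exact T.mul_mem (hb x) (ha _)
  one_mem' := by
    intro x
    have e : (x : Ω)⁻¹ * (((1 : MulAut P) x : P) : Ω) = 1 := by
      change (x : Ω)⁻¹ * (x : Ω) = 1
      group
    rw [e]
    exact T.one_mem
  inv_mem' := by
    intro a ha x
    have h1 := ha (a⁻¹ x)
    have h2 : ((a (a⁻¹ x) : P) : Ω) = x := by simp
    rw [h2] at h1
    have e : (x : Ω)⁻¹ * ((a⁻¹ x : P) : Ω) = ((((a⁻¹ x : P) : Ω))⁻¹ * x)⁻¹ := by group
    rw [e]
    exact T.inv_mem h1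

theorem mem_trivMod {P T : Subgroup Ω} {a : MulAut P} :
    a ∈ trivMod P T ↔ ∀ x : P, (x : Ω)⁻¹ * ((a x : P) : Ω) ∈ T := Iff.rfl

/-- A strongly closed subgroup is preserved by maps. -/
theorem map_mem_of_stronglyClosed {T : Subgroup Ω} (hT : F.StronglyClosed T) {P : Subgroup Ω}
    {φ : P →* Ω} (hφ : φ ∈ F.Hom P) (x : P) (hx : (x : Ω) ∈ T) : φ x ∈ T := by
  have h := hT.2 (P ⊓ T) inf_le_right (φ.comp (Subgroup.inclusion inf_le_left))
    (res_mem hφ inf_le_left) ⟨x, x.2, hx⟩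
  exact h

theorem conj_trivMod_mem {T P : Subgroup Ω} (hT : F.StronglyClosed T) (hP : P ≤ S)
    {a c : MulAut P} (hc : c ∈ F.autGroup P) (ha : a ∈ trivMod P T) :
    c * a * c⁻¹ ∈ trivMod P T := by
  intro x
  set y : P := c⁻¹ x with hy
  have h1 : c y = x := by simp [hy]
  have hφ := autGroup_mem_hom hP hc
  have e : (x : Ω)⁻¹ * (((c * a * c⁻¹) x : P) : Ω) = ((c (y⁻¹ * a y) : P) : Ω) := by
    change (x : Ω)⁻¹ * ((c (a (c⁻¹ x)) : P) : Ω) = _
    rw [← hy, map_mul, map_inv, h1]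
    simp
  rw [e]
  exact map_mem_of_stronglyClosed hT hφ (y⁻¹ * a y) (ha y)

variable [Finite S] {p : ℕ} [Fact p.Prime]

/-- **Automorphisms of fully normalized subgroups.** -/
theorem autGroup_le_trivMod (hS : IsPGroup p S) (hF : F.IsSaturated p) {T P : Subgroup Ω}
    (hT : F.StronglyClosed T) (hST : ∀ g ∈ S, ∀ x ∈ S, x⁻¹ * (g * x * g⁻¹) ∈ T)
    (hP : F.IsFullyNormalized P) (hne : P ≠ S)
    (IH : ∀ (Q : Subgroup Ω) (ψ : Q →* Ω), Nat.card P < Nat.card Q → ψ ∈ F.Hom Q →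
      ∀ x : Q, (x : Ω)⁻¹ * ψ x ∈ T) :
    F.autGroup P ≤ trivMod P T := by
  classical
  have hPS : P ≤ S := hP.1
  have : Finite P := finite_of_le hPS
  have : Finite (MulAut P) := finite_mulAut hPS
  have : Finite (F.autGroup P) := finite_autGroup hPS
  have hlt := Alperin.lt_normalizerIn hS hPS hne
  obtain ⟨-, hPa⟩ := fullyNormalized_props hS hF hP
  have hPr := fullyNormalized_receptive hS hF hP
  obtain ⟨R, hR⟩ := hPa.2
  -- the extending automorphisms act trivially modulo `T`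
  have hext : Alperin.extendingAuts F P ≤ trivMod P T := by
    refine (Subgroup.closure_le _).2 ?_
    rintro α ⟨Q, hPQ, φ, hφ, hα⟩ x
    have h1 := IH Q φ (Set.ncard_lt_ncard (s := (P : Set Ω)) (t := (Q : Set Ω)) hPQ
      (Set.Finite.subset (Set.toFinite (S : Set Ω)) (source_le hφ))) hφ (Subgroup.inclusion hPQ.le x)
    rw [hα x] at h1
    exact h1
  have hRS : autInducedBy S P ≤ trivMod P T := by
    intro α hα
    obtain ⟨g, hg, h⟩ := mem_autInducedBy_iff.1 hα
    intro x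
    rw [h x]
    exact hST g hg x (hPS x.2)
  let A : Subgroup (MulAut P) := F.autGroup P
  let C : Subgroup A := (trivMod P T).subgroupOf A
  haveI hCn : C.Normal := by
    refine ⟨fun a ha c => ?_⟩
    exact conj_trivMod_mem hT hPS c.2 ha
  have hRC : (R : Subgroup A) ≤ C := by
    intro a ha
    rw [hR] at ha
    exact hRS ha
  let V : Sylow p C := R.subtype hRC
  have hFr := Sylow.normalizer_sup_eq_top V
  have hle : Subgroup.normalizer ((V.map C.subtype : Subgroup A) : Set A) ≤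
      Subgroup.normalizer ((C : Subgroup A) : Set A) := by
    rw [Subgroup.normalizer_eq_top (H := C)]
    exact le_top
  have hVR : (V.map C.subtype : Subgroup A) = (R : Subgroup A) := by
    have h1 : (V : Subgroup C) = (R : Subgroup A).subgroupOf C := rfl
    change (V : Subgroup C).map C.subtype = _
    rw [h1]
    exact Subgroup.map_subgroupOf_eq_of_le hRC
  intro a ha
  have htop : (⟨a, ha⟩ : A) ∈ (Subgroup.normalizer ((V.map C.subtype : Subgroup A) : Set A) ⊔ C) := by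
    rw [hFr]
    exact Subgroup.mem_top _
  obtain ⟨ν, hν, κ, hκ, he⟩ := Cfsg.Agent.Lib.Fusion.GroupSylow.exists_mul_of_mem_sup hle htop
  rw [hVR] at hν
  have he' : a = (ν : MulAut P) * (κ : MulAut P) := congrArg Subtype.val he
  rw [he']
  refine (trivMod P T).mul_mem (hext ?_) hκ
  -- `ν` normalizes `Aut_S(P)`, so it extends
  obtain ⟨g, hgN, hgP⟩ := SetLike.exists_of_lt hlt
  have hcg : normConj (P := P) g hgN.2 ∈ autInducedBy S P := normConj_mem_autInducedBy hgN.1 hgN.2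
  have hcgA : normConj (P := P) g hgN.2 ∈ A := autInducedBy_le_autGroup hPS hcg
  let c : A := ⟨_, hcgA⟩
  have hcR : c ∈ (R : Subgroup A) := by
    rw [hR]
    exact hcg
  have hνc : ν * c * ν⁻¹ ∈ (R : Subgroup A) := by
    have := (Subgroup.mem_normalizer_iff.1 hν c).1 hcR
    exact this
  rw [hR] at hνc
  obtain ⟨h, hh, hhc⟩ := mem_autInducedBy_iff.1 hνc
  refine Alperin.mem_extendingAuts_of_receptive hPr ν.2 hgN.1 hh hgN.2 hgP ?_
  intro x hx
  have h2 := hhc ((ν : MulAut P) x)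
  have h3 : (((F.autGroup P).subtype (ν * c * ν⁻¹)) ((ν : MulAut P) x)) =
      (ν : MulAut P) (normConj (P := P) g hgN.2 x) := by
    change (ν : MulAut P) (normConj (P := P) g hgN.2 ((ν : MulAut P)⁻¹ ((ν : MulAut P) x))) = _
    simp
  rw [h3] at h2
  have h4 : (⟨g * (x : Ω) * g⁻¹, hx⟩ : P) = normConj (P := P) g hgN.2 x := by
    apply Subtype.ext
    simp
  rw [h4]
  exact h2

/-- **The focal criterion**: if `T` is strongly closed, contains `[S,S]`, and `Aut_F(S)` acts trivially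
on `S/T`, then every map of a saturated system acts trivially modulo `T`. -/
theorem map_mem_of_strongly_closed (hS : IsPGroup p S) (hF : F.IsSaturated p) {T : Subgroup Ω}
    (hT : F.StronglyClosed T) (hST : ∀ g ∈ S, ∀ x ∈ S, x⁻¹ * (g * x * g⁻¹) ∈ T)
    (hAut : ∀ φ ∈ F.Hom S, ∀ x : S, (x : Ω)⁻¹ * φ x ∈ T) {P : Subgroup Ω} {φ : P →* Ω}
    (hφ : φ ∈ F.Hom P) (x : P) : (x : Ω)⁻¹ * φ x ∈ T := by
  refine FNInduction.fn_induction hS hF (fun P φ => ∀ x : P, (x : Ω)⁻¹ * φ x ∈ T) ?_ ?_ ?_ ?_ hφ x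
  · intro P R φ _ h1 h x
    exact h1 (Subgroup.inclusion h x)
  · intro P Q φ ψ _ _ h1 h2 h x
    have e : (x : Ω)⁻¹ * (ψ.comp (φ.codRestrict Q h)) x =
        ((x : Ω)⁻¹ * φ x) * ((φ x)⁻¹ * ψ ⟨φ x, h x⟩) := by
      change (x : Ω)⁻¹ * ψ ⟨φ x, h x⟩ = _
      group
    rw [e]
    exact T.mul_mem (h1 x) (h2 ⟨φ x, h x⟩)
  · intro P Q φ ψ _ _ hr hinv h1 y
    have hy : (y : Ω) ∈ φ.range := by rw [hr]; exact y.2
    obtain ⟨x, hx⟩ := hy
    have h2 : y = ⟨φ x, hx ▸ y.2⟩ := Subtype.ext hx.symm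
    rw [h2, hinv x _]
    have e : (φ x)⁻¹ * (x : Ω) = ((x : Ω)⁻¹ * φ x)⁻¹ := by group
    change (φ x)⁻¹ * (x : Ω) ∈ T
    rw [e]
    exact T.inv_mem (h1 x)
  · intro P φ hP hφ hr IH x
    by_cases hne : P = S
    · subst hne
      exact hAut φ hφ x
    · have hle := autGroup_le_trivMod hS hF hT hST hP hne IH
      have hm : ∀ y : P, φ y ∈ P := fun y => hr.le ⟨y, rfl⟩
      have hinj := F.injective_of_mem hφ
      let a : MulAut P := MulEquiv.ofBijective (φ.codRestrict P hm)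
        ⟨fun u v huv => hinj (congrArg Subtype.val huv), by
          rintro ⟨y, hy⟩
          have hy' : y ∈ φ.range := hr.ge hy
          obtain ⟨z, hz⟩ := hy'
          exact ⟨z, Subtype.ext hz⟩⟩
      have haA : a ∈ F.autGroup P := by
        apply mem_autGroup_of_mem
        have e : P.subtype.comp a.toMonoidHom = φ := by
          ext z
          rfl
        rw [e]
        exact hφ
      exact hle haA x

/-- The focal subgroup form. -/
theorem focal_le_of_strongly_closed (hS : IsPGroup p S) (hF : F.IsSaturated p) {T : Subgroup Ω}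
    (hT : F.StronglyClosed T) (hST : ∀ g ∈ S, ∀ x ∈ S, x⁻¹ * (g * x * g⁻¹) ∈ T)
    (hAut : ∀ φ ∈ F.Hom S, ∀ x : S, (x : Ω)⁻¹ * φ x ∈ T) : F.focalSubgroup ≤ T := by
  refine (Subgroup.closure_le _).2 ?_
  rintro y ⟨P, φ, x, hφ, rfl⟩
  exact map_mem_of_strongly_closed hS hF hT hST hAut hφ x

end Cfsg.Agent.Lib.Fusion.FocalClosed
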