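/-
Isomorphic transport of fusion systems, continued: images from factor systems, inverse pairs, transport of
subnormality, conjugates of subnormal subsystems.
-/
import Mathlib
import Cfsg.Agent.Lib.Fusion.IsoTr

set_option autoImplicit false

namespace Cfsg.Agent.Lib.Fusion.IsoTr

open Cfsg Cfsg.FusionSystem Cfsg.Agent.Lib.Fusion.Basic
open Cfsg.Agent.Lib.Fusion.Joins (exists_hom_of_eq)
open Cfsg.Agent.Lib.Fusion.FactorMorphism (preimage_le mem_preimage exists_induced)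

variable {Ω Ω' : Type*} [Group Ω] [Group Ω'] {S : Subgroup Ω} {θ : S →* Ω'}

theorem bot_stronglyClosed {T : Subgroup Ω} (E : FusionSystem T) : E.StronglyClosed ⊥ := by
  refine ⟨bot_le, fun R hR φ hφ x => ?_⟩
  have hx : x = 1 := Subtype.ext (Subgroup.mem_bot.1 (hR x.2))
  rw [hx, map_one]
  exact one_mem _

/-- Fusion systems with the same maps are equal. -/
theorem eq_of_hom {T : Subgroup Ω} {E₁ E₂ : FusionSystem T} (h : ∀ P, E₁.Hom P = E₂.Hom P) : E₁ = E₂ := by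
  cases E₁
  cases E₂
  congr
  funext P
  exact h P

section factor

variable {T : Subgroup Ω} {T' : Subgroup Ω'} {E : FusionSystem T} {E' : FusionSystem T'}

/-- A factor system modulo the trivial subgroup, read through a restriction of `θ`, is an image. -/
theorem rel_of_factor {θT : T →* Ω'} (hTS : T ≤ S) (hinj : Function.Injective θ)
    (hθT : ∀ x : T, θT x = θ ⟨x, hTS x.2⟩) (h : E.IsFactorSystem ⊥ θT E') : Rel θ E E' := by
  obtain ⟨-, hker, hrange, hiff⟩ := h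
  have hinjT : Function.Injective θT := by
    intro a b hab
    rw [hθT, hθT] at hab
    have := congrArg Subtype.val (hinj hab)
    exact Subtype.ext this
  have eimg : ∀ {P : Subgroup Ω}, P ≤ T → imageAlong θ P = imageAlong θT P := by
    intro P hP
    ext y
    rw [mem_image, mem_image]
    constructor
    · rintro ⟨x, hS, hx, rfl⟩
      exact ⟨x, hP hx, hx, hθT ⟨x, hP hx⟩⟩
    · rintro ⟨x, hS, hx, rfl⟩
      exact ⟨x, hTS hS, hx, (hθT ⟨x, hS⟩).symm⟩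
  have hT'r : T' ≤ θT.range := hrange.ge
  have epre : ∀ {P' : Subgroup Ω'}, P' ≤ T' → preimageAlong θ P' = preimageAlong θT P' := by
    intro P' hP'
    ext x
    rw [mem_preimage, mem_preimage]
    constructor
    · rintro ⟨hS, hx⟩
      obtain ⟨s, hs⟩ := hT'r (hP' hx)
      rw [hθT] at hs
      have : (s : Ω) = x := congrArg Subtype.val (hinj hs)
      refine ⟨this ▸ s.2, ?_⟩
      rw [hθT]
      exact hx
    · rintro ⟨hS, hx⟩
      rw [hθT] at hx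
      exact ⟨hTS hS, hx⟩
  refine ⟨hTS, ?_, ?_, ?_⟩
  · rw [eimg le_rfl, ← hrange]
    ext y
    constructor
    · rintro ⟨s, -, rfl⟩
      exact ⟨s, rfl⟩
    · rintro ⟨s, rfl⟩
      exact ⟨s, by simp, rfl⟩
  · intro P φ hφ
    have hPT : P ≤ T := (E.le_of_mem hφ).1
    have hP' : imageAlong θT P ≤ θT.range := image_le_range P
    have e := preimage_image hinjT hPT
    obtain ⟨ψ, hψ, hψe⟩ := exists_hom_of_eq E e.symm φ hφ
    obtain ⟨φ₁, hind⟩ := exists_induced (bot_stronglyClosed E) hker hP' hψ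
    have hφ₁ := (hiff _ φ₁).2 ⟨hrange ▸ hP', ψ, hψ, hind⟩
    obtain ⟨φ₂, hφ₂, he₂⟩ := exists_hom_of_eq E' (eimg hPT).symm φ₁ hφ₁
    obtain ⟨hle, hv, hmem, he⟩ := hind
    refine ⟨φ₂, hφ₂, hPT.trans hTS, fun x => hTS ((E.le_of_mem hφ).2 x), fun x => image_mem _ x.2, fun x => ?_⟩
    have hxp : (x : Ω) ∈ preimageAlong θT (imageAlong θT P) := e.ge x.2
    have h1 := he ⟨x, hxp⟩
    have h2 : ψ ⟨x, hxp⟩ = φ x := hψe x x.2 hxp
    have h3 : θT ⟨x, hPT x.2⟩ = θ ⟨x, hTS (hPT x.2)⟩ := hθT ⟨x, hPT x.2⟩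
    have hm : θ ⟨x, hTS (hPT x.2)⟩ ∈ imageAlong θT P := (eimg hPT) ▸ image_mem _ x.2
    rw [he₂ _ hm (image_mem _ x.2)]
    have e5 : (⟨θ ⟨x, hTS (hPT x.2)⟩, hm⟩ : ↥(imageAlong θT P)) = ⟨θT ⟨x, hle hxp⟩, hmem ⟨x, hxp⟩⟩ :=
      Subtype.ext h3.symm
    rw [e5, h1, hθT]
    congr 2
  · intro P' φ' hφ'
    obtain ⟨hP'T', ψ, hψ, hind⟩ := (hiff P' φ').1 hφ'
    have epr := epre hP'T'
    obtain ⟨φ, hφ, hφe⟩ := exists_hom_of_eq E epr.symm ψ hψ
    obtain ⟨hle, hv, hmem, he⟩ := hind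
    refine ⟨φ, hφ, preimage_le θ P', fun x => hTS ((E.le_of_mem hφ).2 x), ?_, fun x => ?_⟩
    · intro x
      exact (mem_preimage.1 x.2).2
    · have hx2 : (x : Ω) ∈ preimageAlong θT P' := epr ▸ x.2
      have h1 := he ⟨x, hx2⟩
      have h2 : φ x = ψ ⟨x, hx2⟩ := hφe x hx2 x.2
      have h3 : θT ⟨x, hle hx2⟩ = θ ⟨x, preimage_le θ P' x.2⟩ := hθT ⟨x, hle hx2⟩
      have e5 : (⟨θ ⟨x, preimage_le θ P' x.2⟩, (mem_preimage.1 x.2).2⟩ : P') = ⟨θT ⟨x, hle hx2⟩, hmem ⟨x, hx2⟩⟩ :=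
        Subtype.ext h3.symm
      rw [e5, h1, hθT]
      congr 2
      exact h2.symm

/-- Top-level form. -/
theorem rel_of_factor_top {θ : T →* Ω'} (hinj : Function.Injective θ) (h : E.IsFactorSystem ⊥ θ E') :
    Rel θ E E' :=
  rel_of_factor le_rfl hinj (fun _ => rfl) h

/-- Existence of the image. -/
theorem exists_rel [Finite S] (hinj : Function.Injective θ) (hTS : T ≤ S) (E : FusionSystem T) :
    ∃ E' : FusionSystem (imageAlong θ T), Rel θ E E' := by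
  haveI : Finite T := Finite.of_injective _ (Subgroup.inclusion_injective hTS)
  let θT : T →* Ω' := θ.comp (Subgroup.inclusion hTS)
  have hinjT : Function.Injective θT := hinj.comp (Subgroup.inclusion_injective hTS)
  have hker : ∀ s : T, θT s = 1 ↔ (s : Ω) ∈ (⊥ : Subgroup Ω) := by
    intro s
    rw [Subgroup.mem_bot]
    constructor
    · intro h
      have := hinjT (h.trans (map_one θT).symm)
      rw [this]
      rfl
    · intro h
      have : s = 1 := Subtype.ext h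
      rw [this, map_one]
  have hrange : θT.range = imageAlong θ T := by
    ext y
    rw [mem_image]
    constructor
    · rintro ⟨t, rfl⟩
      exact ⟨t, hTS t.2, t.2, rfl⟩
    · rintro ⟨x, hS, hx, rfl⟩
      exact ⟨⟨x, hx⟩, rfl⟩
  obtain ⟨E', hE'⟩ := Factor.exists_isFactorSystem E (bot_stronglyClosed E) θT hker hrange
  exact ⟨E', rel_of_factor hTS hinj (fun _ => rfl) hE'⟩

/-- An image is a factor system modulo the trivial subgroup. -/
theorem Rel.isFactorSystem {θ : T →* Ω'} (h : Rel θ E E') (hinj : Function.Injective θ) :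
    E.IsFactorSystem ⊥ θ E' := by
  refine ⟨bot_le, ?_, ?_, ?_⟩
  · intro s
    rw [Subgroup.mem_bot]
    constructor
    · intro hs
      have := hinj (hs.trans (map_one θ).symm)
      rw [this]
      rfl
    · intro hs
      have : s = 1 := Subtype.ext hs
      rw [this, map_one]
  · rw [← h.img]
    ext y
    constructor
    · rintro ⟨t, rfl⟩
      exact ⟨t, t.2, rfl⟩
    · rintro ⟨t, -, rfl⟩
      exact ⟨t, rfl⟩
  · intro P' φ'
    constructor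
    · intro hφ'
      exact ⟨(E'.le_of_mem hφ').1, h.down hφ'⟩
    · rintro ⟨hP', φ, hφ, hind⟩
      have hr : P' ≤ θ.range := by
        refine hP'.trans ?_
        rw [← h.img]
        exact image_le_range T
      obtain ⟨φ₁, hφ₁, hind₁⟩ := h.up hφ
      have e : imageAlong θ (preimageAlong θ P') = P' := image_preimage hr
      obtain ⟨φ₂, hφ₂, he₂⟩ := exists_hom_of_eq E' e φ₁ hφ₁
      have : φ' = φ₂ := by
        ext ⟨y, hy⟩
        obtain ⟨s, hs⟩ := hr hy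
        subst hs
        obtain ⟨hle, hv, hmem, he⟩ := hind
        obtain ⟨hle₁, hv₁, hmem₁, he₁⟩ := hind₁
        have hsp : (s : Ω) ∈ preimageAlong θ P' := mem_preimage.2 ⟨s.2, hy⟩
        have h1 := he ⟨s, hsp⟩
        have h2 := he₁ ⟨s, hsp⟩
        have h3 := he₂ (θ s) (hmem₁ ⟨s, hsp⟩) hy
        exact h1.trans (h2.symm.trans h3.symm)
      rw [this]
      exact hφ₂

end factor

/-! ### Inverse pairs -/

/-- `θ : S → S'` and `ρ : S' → S` are mutually inverse. -/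
structure InvPair {S' : Subgroup Ω'} (θ : S →* Ω') (ρ : S' →* Ω) : Prop where
  mem₁ : ∀ s : S, θ s ∈ S'
  eq₁ : ∀ s : S, ρ ⟨θ s, mem₁ s⟩ = s
  mem₂ : ∀ y : S', ρ y ∈ S
  eq₂ : ∀ y : S', θ ⟨ρ y, mem₂ y⟩ = y

section inv

variable {S' : Subgroup Ω'} {ρ : S' →* Ω}

theorem InvPair.symm (h : InvPair θ ρ) : InvPair ρ θ := ⟨h.mem₂, h.eq₂, h.mem₁, h.eq₁⟩

theorem InvPair.inj (h : InvPair θ ρ) : Function.Injective θ := by
  intro a b hab
  have h1 := h.eq₁ a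
  have h2 := h.eq₁ b
  have e : (⟨θ a, h.mem₁ a⟩ : S') = ⟨θ b, h.mem₁ b⟩ := Subtype.ext hab
  rw [e] at h1
  exact Subtype.ext (h1.symm.trans h2)

theorem exists_invPair (hinj : Function.Injective θ) (hr : θ.range = S') : ∃ ρ : S' →* Ω, InvPair θ ρ := by
  subst hr
  let ρ : θ.range →* Ω := S.subtype.comp (MonoidHom.ofInjective hinj).symm.toMonoidHom
  have h1 : ∀ s : S, ρ ⟨θ s, ⟨s, rfl⟩⟩ = s := by
    intro s
    have : (⟨θ s, ⟨s, rfl⟩⟩ : θ.range) = MonoidHom.ofInjective hinj s := rfl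
    show (((MonoidHom.ofInjective hinj).symm ⟨θ s, ⟨s, rfl⟩⟩ : S) : Ω) = s
    rw [this, MulEquiv.symm_apply_apply]
  refine ⟨ρ, fun s => ⟨s, rfl⟩, h1, fun y => ((MonoidHom.ofInjective hinj).symm y).2, ?_⟩
  rintro ⟨_, s, rfl⟩
  have := h1 s
  have e : (⟨ρ ⟨θ s, ⟨s, rfl⟩⟩, ((MonoidHom.ofInjective hinj).symm ⟨θ s, ⟨s, rfl⟩⟩).2⟩ : S) = s :=
    Subtype.ext this
  rw [e]

theorem InvPair.image_eq (h : InvPair θ ρ) {P' : Subgroup Ω'} (hP' : P' ≤ S') :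
    imageAlong ρ P' = preimageAlong θ P' := by
  ext x
  rw [mem_image, mem_preimage]
  constructor
  · rintro ⟨y, hS, hy, rfl⟩
    refine ⟨h.mem₂ _, ?_⟩
    rw [h.eq₂]
    exact hy
  · rintro ⟨hS, hx⟩
    refine ⟨θ ⟨x, hS⟩, h.mem₁ _, hx, ?_⟩
    exact h.eq₁ ⟨x, hS⟩

/-- Flip: an "up" for `ρ` gives a "down" for `θ`. -/
theorem InvPair.down_of_up (h : InvPair θ ρ) {T : Subgroup Ω} {E : FusionSystem T} (hTS : T ≤ S)
    {P' : Subgroup Ω'} (hP' : P' ≤ S') {φ' : P' →* Ω'}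
    (hu : ∃ φ ∈ E.Hom (imageAlong ρ P'), InducedAlong ρ φ' φ) :
    ∃ φ ∈ E.Hom (preimageAlong θ P'), InducedAlong θ φ φ' := by
  obtain ⟨φ₁, hφ₁, hle, hv, hmem, he⟩ := hu
  have e := h.image_eq hP'
  obtain ⟨φ₂, hφ₂, he₂⟩ := exists_hom_of_eq E e φ₁ hφ₁
  refine ⟨φ₂, hφ₂, preimage_le θ P', fun x => hTS ((E.le_of_mem hφ₂).2 x),
    fun x => (mem_preimage.1 x.2).2, fun x => ?_⟩
  have hxS : (x : Ω) ∈ S := preimage_le θ P' x.2
  have hy : θ ⟨x, hxS⟩ ∈ P' := (mem_preimage.1 x.2).2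
  have h1 := he ⟨_, hy⟩
  have h2 : ρ ⟨θ ⟨x, hxS⟩, hle hy⟩ = x := h.eq₁ ⟨x, hxS⟩
  have h3 : (⟨ρ ⟨θ ⟨x, hxS⟩, hle hy⟩, hmem ⟨_, hy⟩⟩ : ↥(imageAlong ρ P')) = ⟨x, e.ge x.2⟩ := Subtype.ext h2
  rw [h3] at h1
  have h4 : φ₂ x = φ₁ ⟨x, e.ge x.2⟩ := he₂ x (e.ge x.2) x.2
  have h5 := h.eq₂ ⟨φ' ⟨_, hy⟩, hv ⟨_, hy⟩⟩
  have h6 : (⟨φ₂ x, hTS ((E.le_of_mem hφ₂).2 x)⟩ : S) = ⟨ρ ⟨φ' ⟨_, hy⟩, hv ⟨_, hy⟩⟩, h.mem₂ _⟩ :=
    Subtype.ext (h4.trans h1)
  rw [h6]
  exact h5.symm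

/-- Flip: a "down" for `θ` gives an "up" for `ρ`. -/
theorem InvPair.up_of_down (h : InvPair θ ρ) {T : Subgroup Ω} {E : FusionSystem T} (hTS : T ≤ S)
    {P' : Subgroup Ω'} (hP' : P' ≤ S') {φ' : P' →* Ω'}
    (hd : ∃ φ ∈ E.Hom (preimageAlong θ P'), InducedAlong θ φ φ') :
    ∃ φ ∈ E.Hom (imageAlong ρ P'), InducedAlong ρ φ' φ := by
  obtain ⟨φ₁, hφ₁, hle, hv, hmem, he⟩ := hd
  have e := h.image_eq hP'
  obtain ⟨φ₂, hφ₂, he₂⟩ := exists_hom_of_eq E e.symm φ₁ hφ₁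
  have hval : ∀ x : P', ρ ⟨x, hP' x.2⟩ ∈ preimageAlong θ P' := by
    intro x
    rw [← e]
    exact image_mem _ x.2
  have hxe : ∀ x : P', φ' x = θ ⟨φ₁ ⟨_, hval x⟩, hv _⟩ := by
    intro x
    have h1 := he ⟨_, hval x⟩
    refine Eq.trans ?_ h1
    congr 1
    apply Subtype.ext
    exact (h.eq₂ ⟨x, hP' x.2⟩).symm
  have hv' : ∀ x : P', φ' x ∈ S' := by
    intro x
    rw [hxe]
    exact h.mem₁ _
  refine ⟨φ₂, hφ₂, hP', hv', fun x => image_mem _ x.2, fun x => ?_⟩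
  have h1 := he₂ _ (hval x) (image_mem _ x.2)
  rw [h1]
  have e2 : (⟨φ' x, hv' x⟩ : S') = ⟨θ ⟨φ₁ ⟨_, hval x⟩, hv _⟩, h.mem₁ _⟩ := Subtype.ext (hxe x)
  rw [e2, h.eq₁]

variable {T : Subgroup Ω} {T' : Subgroup Ω'} {E : FusionSystem T} {E' : FusionSystem T'}

theorem Rel.symm (hrel : Rel θ E E') (h : InvPair θ ρ) : Rel ρ E' E := by
  have hT'S' : T' ≤ S' := by
    rw [← hrel.img]
    rintro _ ⟨s, -, rfl⟩
    exact h.mem₁ s
  refine ⟨hT'S', ?_, ?_, ?_⟩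
  · rw [h.image_eq hT'S', ← hrel.img]
    exact preimage_image h.inj hrel.le
  · intro P' φ' hφ'
    exact h.up_of_down hrel.le (((E'.le_of_mem hφ').1).trans hT'S') (hrel.down hφ')
  · intro P φ hφ
    exact h.symm.down_of_up hT'S' ((E.le_of_mem hφ).1.trans hrel.le) (hrel.up hφ)

/-- A `Rel` from two "up"s. -/
theorem rel_of_up_up (h : InvPair θ ρ) (hTS : T ≤ S) (himg : imageAlong θ T = T')
    (hu : ∀ {P : Subgroup Ω} {φ : P →* Ω}, φ ∈ E.Hom P →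
      ∃ φ' ∈ E'.Hom (imageAlong θ P), InducedAlong θ φ φ')
    (hu' : ∀ {P' : Subgroup Ω'} {φ' : P' →* Ω'}, φ' ∈ E'.Hom P' →
      ∃ φ ∈ E.Hom (imageAlong ρ P'), InducedAlong ρ φ' φ) : Rel θ E E' := by
  have hT'S' : T' ≤ S' := by
    rw [← himg]
    rintro _ ⟨s, -, rfl⟩
    exact h.mem₁ s
  exact ⟨hTS, himg, hu, fun {P'} {φ'} hφ' =>
    h.down_of_up hTS ((E'.le_of_mem hφ').1.trans hT'S') (hu' hφ')⟩

end inv

section self

variable {U : Subgroup Ω} {F : FusionSystem U}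

/-- Conjugating a map of `F` along a pair of maps of `F` on `U`. -/
theorem up_of_hom {a b : U →* Ω} (h : InvPair a b) (ha : a ∈ F.Hom U) (hb : b ∈ F.Hom U) {P : Subgroup Ω}
    {φ : P →* Ω} (hφ : φ ∈ F.Hom P) : ∃ φ' ∈ F.Hom (imageAlong a P), InducedAlong a φ φ' := by
  have hPU := (F.le_of_mem hφ).1
  have hleU : imageAlong a P ≤ U := by
    rintro _ ⟨s, -, rfl⟩
    exact h.mem₁ s
  have hb₁ := res_mem hb hleU
  have hv₁ : ∀ y : ↥(imageAlong a P), (b.comp (Subgroup.inclusion hleU)) y ∈ P := by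
    rintro ⟨_, s, hs, rfl⟩
    show b ⟨a s, _⟩ ∈ P
    rw [h.eq₁ s]
    exact hs
  have hφ₁ := F.comp_mem hb₁ hφ hv₁
  have hv₂ : ∀ y, (φ.comp ((b.comp (Subgroup.inclusion hleU)).codRestrict P hv₁)) y ∈ U :=
    fun y => (F.le_of_mem hφ).2 _
  have hφ₂ := F.comp_mem hφ₁ ha hv₂
  refine ⟨_, hφ₂, hPU, (F.le_of_mem hφ).2, fun x => image_mem _ x.2, fun x => ?_⟩
  refine congrArg a (Subtype.ext ?_)
  exact congrArg φ (Subtype.ext (h.eq₁ ⟨x, hPU x.2⟩))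

/-- An element of `F.Hom U` is an automorphism of `F`. -/
theorem rel_self [Finite U] {γ : U →* Ω} (hγ : γ ∈ F.Hom U) : Rel γ F F := by
  have hinj : Function.Injective γ := F.injective_of_mem hγ
  have hle : γ.range ≤ U := by
    rintro _ ⟨x, rfl⟩
    exact (F.le_of_mem hγ).2 x
  have hr : γ.range = U := by
    apply Subgroup.eq_of_le_of_card_ge hle
    rw [Nat.card_congr (MonoidHom.ofInjective hinj).toEquiv.symm]
  obtain ⟨ρ, hρ⟩ := exists_invPair hinj hr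
  obtain ⟨ψ, hψ, hψe⟩ := F.inv_mem hγ
  obtain ⟨δ, hδ, hδe⟩ := exists_hom_of_eq F hr ψ hψ
  have hρm : ρ ∈ F.Hom U := by
    have : ρ = δ := by
      ext y
      obtain ⟨x, hx⟩ : (y : Ω) ∈ γ.range := hr.ge y.2
      have e1 : y = ⟨γ x, hρ.mem₁ x⟩ := Subtype.ext hx.symm
      rw [e1, hρ.eq₁, hδe (γ x) ⟨x, rfl⟩ (hρ.mem₁ x), hψe]
    rw [this]
    exact hδ
  refine rel_of_up_up hρ le_rfl ?_ (up_of_hom hρ hγ hρm) (up_of_hom hρ.symm hρm hγ)
  ext y
  rw [mem_image]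
  constructor
  · rintro ⟨x, hS, -, rfl⟩
    exact hρ.mem₁ _
  · intro hy
    obtain ⟨x, hx⟩ := hr.ge hy
    exact ⟨x, x.2, x.2, hx⟩

/-- `InvPair` for an automorphism. -/
theorem invPair_aut (a : MulAut U) :
    InvPair (U.subtype.comp a.toMonoidHom) (U.subtype.comp (a⁻¹ : MulAut U).toMonoidHom) := by
  refine ⟨fun s => (a s).2, fun s => ?_, fun y => (a⁻¹ y).2, fun y => ?_⟩
  · show (((a⁻¹ : MulAut U) ⟨(a s : U), (a s).2⟩ : U) : Ω) = s
    simp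
  · show ((a ⟨((a⁻¹ : MulAut U) y : U), ((a⁻¹ : MulAut U) y).2⟩ : U) : Ω) = y
    simp

/-- An invariant subsystem is transported to itself along elements of `Aut_F(V)`. -/
theorem rel_of_invariant {V : Subgroup Ω} {D : FusionSystem V} (h : D.IsInvariantIn F) {a : MulAut V}
    (ha : a ∈ F.autGroup V) : Rel (V.subtype.comp a.toMonoidHom) D D := by
  obtain ⟨-, -, hinv, -⟩ := h
  have key : ∀ {b : MulAut V}, b ∈ F.autGroup V → ∀ {P : Subgroup Ω} {φ : P →* Ω}, φ ∈ D.Hom P →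
      ∃ φ' ∈ D.Hom (imageAlong (V.subtype.comp b.toMonoidHom) P),
        InducedAlong (V.subtype.comp b.toMonoidHom) φ φ' := by
    intro b hb P φ hφ
    have hP := (D.le_of_mem hφ).1
    obtain ⟨χ, hχ, hχe⟩ := hinv P hP φ hφ b hb
    refine ⟨χ, hχ, hP, (D.le_of_mem hφ).2, fun x => image_mem _ x.2, fun x => ?_⟩
    exact hχe x ((D.le_of_mem hφ).2 x) (image_mem _ x.2)
  refine rel_of_up_up (invPair_aut a) le_rfl ?_ (key ha) ?_
  · ext y
    rw [mem_image]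
    constructor
    · rintro ⟨x, hS, -, rfl⟩
      exact (a ⟨x, hS⟩).2
    · intro hy
      refine ⟨_, (a.symm ⟨y, hy⟩).2, (a.symm ⟨y, hy⟩).2, ?_⟩
      show ((a (a.symm ⟨y, hy⟩) : V) : Ω) = y
      simp
  · intro P' φ' hφ'
    exact key ((F.autGroup V).inv_mem ha) hφ'

end self

section comp

variable {Ω₂ : Type*} [Group Ω₂] {T : Subgroup Ω} {T₀ : Subgroup Ω'} {V : Subgroup Ω'} {T' : Subgroup Ω₂}
  {E : FusionSystem T} {E₀ : FusionSystem T₀} {E' : FusionSystem T'}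

/-- Composition of images. -/
theorem rel_comp {γ₀ : T →* Ω'} {γ : T →* Ω₂} {θ : V →* Ω₂} (h₀ : Rel γ₀ E E₀) (h : Rel γ E E')
    (hv : ∀ x : T, γ₀ x ∈ V) (hc : ∀ x, γ x = θ ⟨γ₀ x, hv x⟩) (hγ₀ : Function.Injective γ₀)
    (hθ : Function.Injective θ) : Rel θ E₀ E' := by
  have hγ : Function.Injective γ := by
    intro a b hab
    rw [hc, hc] at hab
    exact hγ₀ (congrArg Subtype.val (hθ hab))
  have himg : ∀ {P : Subgroup Ω}, imageAlong θ (imageAlong γ₀ P) = imageAlong γ P := by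
    intro P
    ext y
    rw [mem_image, mem_image]
    constructor
    · rintro ⟨_, hS, ⟨s, hs, rfl⟩, rfl⟩
      exact ⟨s, s.2, hs, hc s⟩
    · rintro ⟨x, hS, hx, rfl⟩
      exact ⟨_, hv ⟨x, hS⟩, ⟨⟨x, hS⟩, hx, rfl⟩, (hc ⟨x, hS⟩).symm⟩
  have hT₀V : T₀ ≤ V := by
    rw [← h₀.img]
    rintro _ ⟨s, -, rfl⟩
    exact hv s
  refine ⟨hT₀V, ?_, ?_, ?_⟩
  · rw [← h₀.img, ← h.img]
    exact himg
  · intro P₀ φ₀ hφ₀
    obtain ⟨P, hP, rfl⟩ := h₀.exists_image hγ₀ (E₀.le_of_mem hφ₀).1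
    obtain ⟨φ, hφ, he⟩ := h₀.down' hγ₀ hP hφ₀
    obtain ⟨φ', hφ', he'⟩ := h.up' hφ
    obtain ⟨φ'', hφ'', he''⟩ := exists_hom_of_eq E' himg.symm φ' hφ'
    refine ⟨φ'', hφ'', (E₀.le_of_mem hφ₀).1.trans hT₀V, fun x => hT₀V ((E₀.le_of_mem hφ₀).2 x),
      fun x => image_mem _ x.2, ?_⟩
    rintro ⟨_, s, hs, rfl⟩
    have hsP : (s : Ω) ∈ P := hs
    have e1 := he ⟨s, hsP⟩ s.2 ((E.le_of_mem hφ).2 _) ⟨s, hsP, rfl⟩
    have hφv : φ ⟨s, hsP⟩ ∈ T := (E.le_of_mem hφ).2 _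
    have e2 := he' ⟨s, hsP⟩ s.2 hφv ⟨s, hsP, rfl⟩
    have hmem : θ ⟨γ₀ s, hv s⟩ ∈ imageAlong γ P := himg ▸ image_mem _ ⟨s, hsP, rfl⟩
    have e3 := he'' _ hmem (image_mem _ ⟨s, hsP, rfl⟩)
    refine e3.trans ?_
    have e4 : (⟨θ ⟨γ₀ s, hv s⟩, hmem⟩ : ↥(imageAlong γ P)) = ⟨γ s, ⟨s, hsP, rfl⟩⟩ := Subtype.ext (hc s).symm
    rw [e4]
    refine e2.trans ?_
    rw [hc]
    congr 2
    exact e1.symm
  · intro P' φ' hφ'
    obtain ⟨P, hP, rfl⟩ := h.exists_image hγ (E'.le_of_mem hφ').1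
    obtain ⟨φ, hφ, he⟩ := h.down' hγ hP hφ'
    obtain ⟨φ₀, hφ₀, he₀⟩ := h₀.up' hφ
    have hpre : imageAlong γ₀ P = preimageAlong θ (imageAlong γ P) := by
      rw [← himg]
      exact (preimage_image hθ ((image_mono hP).trans (h₀.img ▸ le_rfl) |>.trans hT₀V)).symm
    obtain ⟨φ₁, hφ₁, he₁⟩ := exists_hom_of_eq E₀ hpre φ₀ hφ₀
    refine ⟨φ₁, hφ₁, preimage_le θ _, fun x => hT₀V ((E₀.le_of_mem hφ₁).2 x),
      fun x => (mem_preimage.1 x.2).2, fun x => ?_⟩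
    obtain ⟨x, hx⟩ := x
    have hx2 : x ∈ imageAlong γ₀ P := hpre.ge hx
    obtain ⟨s, hs, rfl⟩ := hx2
    have hφv : φ ⟨s, hs⟩ ∈ T := (E.le_of_mem hφ).2 _
    have e1 := he ⟨s, hs⟩ s.2 hφv ⟨s, hs, rfl⟩
    have e2 := he₀ ⟨s, hs⟩ s.2 hφv ⟨s, hs, rfl⟩
    have e3 := he₁ (γ₀ s) ⟨s, hs, rfl⟩ hx
    have e4 : (⟨θ ⟨γ₀ s, preimage_le θ _ hx⟩, (mem_preimage.1 hx).2⟩ : ↥(imageAlong γ P)) = ⟨γ s, ⟨s, hs, rfl⟩⟩ :=
      Subtype.ext (hc s).symm
    show φ' ⟨θ ⟨γ₀ s, preimage_le θ _ hx⟩, _⟩ = θ ⟨φ₁ ⟨γ₀ s, hx⟩, _⟩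
    rw [e4]
    refine e1.trans ?_
    rw [hc]
    congr 2
    exact (e3.trans e2).symm

end comp

section subnormal

/-- The group of a subnormal subsystem lies in the group of the big one. -/
theorem le_of_subnormal {T U : Subgroup Ω} {E : FusionSystem T} {F : FusionSystem U} {q : ℕ}
    (h : E.IsSubnormalIn F q) : T ≤ U := by
  induction h with
  | refl F p => exact le_rfl
  | step _ hn ih => exact ih.trans hn.1.2.2.2.1.1

variable [Finite S]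

/-- **Subnormality transports along an injective `θ`.** -/
theorem isSubnormal_image {T U : Subgroup Ω} {E : FusionSystem T} {F : FusionSystem U} {q : ℕ}
    (h : E.IsSubnormalIn F q) : Fact q.Prime → Function.Injective θ → ∀ {T' U' : Subgroup Ω'}
      {E' : FusionSystem T'} {F' : FusionSystem U'}, Rel θ E E' → Rel θ F F' → E'.IsSubnormalIn F' q := by
  induction h with
  | refl F p =>
    intro hp hinj T' U' E' F' hE hF
    obtain rfl : T' = U' := hE.img.symm.trans hF.img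
    have : E' = F' := eq_of_hom fun P => Set.Subset.antisymm (hE.hom_eq hF hinj P) (hF.hom_eq hE hinj P)
    subst this
    exact .refl _ _
  | step hsub hn ih =>
    intro hp hinj T' U' E' F' hE hF
    have hVU := hn.1.2.2.2.1.1
    obtain ⟨D', hD'⟩ := exists_rel hinj (hVU.trans hF.le) _
    exact .step (ih hp hinj hE hD') (hD'.isNormalIn hF hinj hn)

end subnormal

/-- **The image of a subnormal subsystem under a map of the big system is subnormal.** -/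
theorem isSubnormal_conj {T U : Subgroup Ω} {E : FusionSystem T} {F : FusionSystem U} {q : ℕ}
    (h : E.IsSubnormalIn F q) : Fact q.Prime → Finite U → ∀ γ : T →* Ω, γ ∈ F.Hom T → ∀ {T' : Subgroup Ω}
      {E' : FusionSystem T'}, Rel γ E E' → E'.IsSubnormalIn F q := by
  induction h with
  | refl F p =>
    intro hp hfin γ hγ T' E' hE
    have hF := rel_self hγ
    obtain rfl : T' = _ := hE.img.symm.trans hF.img
    have hinj := F.injective_of_mem hγ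
    have : E' = F := eq_of_hom fun P => Set.Subset.antisymm (hE.hom_eq hF hinj P) (hF.hom_eq hE hinj P)
    subst this
    exact .refl _ _
  | @step V U E D F p hsub hn ih =>
    intro hp hfin γ hγ T' E' hE
    have hVU : V ≤ U := hn.1.2.2.2.1.1
    have hTV : T ≤ V := le_of_subnormal hsub
    haveI : Finite V := Finite.of_injective _ (Subgroup.inclusion_injective hVU)
    haveI : Finite T := Finite.of_injective _ (Subgroup.inclusion_injective hTV)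
    obtain ⟨a, ha, γ₀, hγ₀, he⟩ := hn.1.2.2.2.2.2 T hTV γ hγ
    have hγ₀i : Function.Injective γ₀ := D.injective_of_mem hγ₀
    obtain ⟨E₀, hE₀⟩ := exists_rel (S := T) (θ := γ₀) hγ₀i le_rfl E
    have hsub₀ := ih hp inferInstance γ₀ hγ₀ hE₀
    have hrel := rel_of_invariant hn.1.2.2 ha
    have hv : ∀ x : T, γ₀ x ∈ V := (D.le_of_mem hγ₀).2
    have hθ : Function.Injective (V.subtype.comp a.toMonoidHom) :=
      V.subtype_injective.comp a.injective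
    have hcomp : Rel (V.subtype.comp a.toMonoidHom) E₀ E' :=
      rel_comp hE₀ hE hv (fun x => he x (hv x)) hγ₀i hθ
    exact .step (isSubnormal_image hsub₀ hp hθ hcomp hrel) hn

end Cfsg.Agent.Lib.Fusion.IsoTr
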