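/-
The centre and second centre of a finite `p`-group of maximal class.
-/
import Mathlib

set_option autoImplicit false
set_option linter.style.haveILetI false

namespace Cfsg.Agent.Lib.Fusion.MaxClassCenter

open Subgroup
open scoped commutatorElement

variable {X : Type*} [Group X] [Finite X] {p : ℕ} [hp : Fact p.Prime]

theorem mul_card_le_of_lt (hX : IsPGroup p X) {A B : Subgroup X} (h : A < B) :
    p * Nat.card A ≤ Nat.card B := by
  classical
  obtain ⟨k, hk⟩ := Subgroup.card_dvd_of_le h.le
  have hB : IsPGroup p B := IsPGroup.to_subgroup hX B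
  obtain ⟨m, hm⟩ := IsPGroup.iff_card.1 hB
  have hk1 : k ≠ 1 := by
    rintro rfl
    rw [mul_one] at hk
    exact h.ne (Subgroup.eq_of_le_of_card_ge h.le hk.le)
  have hkd : k ∣ p ^ m := by
    rw [← hm, hk]
    exact Dvd.intro_left _ rfl
  obtain ⟨j, -, rfl⟩ := (Nat.dvd_prime_pow hp.out).1 hkd
  have hj : j ≠ 0 := by
    rintro rfl
    exact hk1 (pow_zero p)
  rw [hk, mul_comm]
  refine Nat.mul_le_mul_left _ ?_
  calc p = p ^ 1 := (pow_one p).symm
    _ ≤ p ^ j := Nat.pow_le_pow_right hp.out.pos (Nat.one_le_iff_ne_zero.2 hj)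

/-- Groups modulo the penultimate term of the upper central series are not cyclic. -/
theorem top_step [Group.IsNilpotent X] (hX : IsPGroup p X) {c : ℕ} (hc : Group.nilpotencyClass X = c + 2) :
    p ^ 2 * Nat.card (Subgroup.upperCentralSeries X (c + 1)) ≤ Nat.card X := by
  classical
  have hlt : Subgroup.upperCentralSeries X (c + 1) < ⊤ := by
    refine lt_top_iff_ne_top.2 fun h => ?_
    have := (Subgroup.upperCentralSeries_eq_top_iff_nilpotencyClass_le (G := X) (n := c + 1)).1 h
    omega
  have hprev : Subgroup.upperCentralSeries X c < Subgroup.upperCentralSeries X (c + 1) := by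
    refine (Subgroup.upperCentralSeries.StrictMonoOn X) ?_ ?_ (Nat.lt_succ_self c)
    · simp only [Set.mem_Iic]; omega
    · simp only [Set.mem_Iic]; omega
  set K := Subgroup.upperCentralSeries X (c + 1) with hK
  have hKn : K.Normal := inferInstance
  have h1 := mul_card_le_of_lt hX hlt
  rw [Subgroup.card_top] at h1
  obtain ⟨k, hk⟩ := Subgroup.card_dvd_of_le (le_top : K ≤ ⊤)
  rw [Subgroup.card_top] at hk
  have hidx : K.index = k := by
    have h2 := K.card_mul_index
    rw [hk] at h2
    exact Nat.eq_of_mul_eq_mul_left Nat.card_pos h2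
  obtain ⟨m, hm⟩ := IsPGroup.iff_card.1 hX
  have hkd : k ∣ p ^ m := by rw [← hm, hk]; exact Dvd.intro_left _ rfl
  obtain ⟨j, -, rfl⟩ := (Nat.dvd_prime_pow hp.out).1 hkd
  rw [hk, mul_comm]
  refine Nat.mul_le_mul_left _ (Nat.pow_le_pow_right hp.out.pos ?_)
  by_contra hj
  have hj' : j ≤ 1 := by omega
  -- cyclic quotient
  have hcyc : IsCyclic (X ⧸ K) := by
    have hcard : Nat.card (X ⧸ K) = p ^ j := hidx
    interval_cases j
    · have h3 : Nat.card (X ⧸ K) = 1 := by simpa using hcard
      haveI : Subsingleton (X ⧸ K) := (Nat.card_eq_one_iff_unique.1 h3).1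
      exact isCyclic_of_subsingleton
    · exact isCyclic_of_prime_card (p := p) (by simpa using hcard)
  -- the quotient by `Z_c`
  have hKK : Subgroup.upperCentralSeries X c ≤ K := hprev.le
  let L := Subgroup.upperCentralSeries X c
  have hLn : L.Normal := inferInstance
  let f : (X ⧸ L) →* (X ⧸ K) := QuotientGroup.map L K (MonoidHom.id X) (fun x hx => hKK hx)
  have hf : f.ker ≤ center (X ⧸ L) := by
    intro q hq
    obtain ⟨x, rfl⟩ := QuotientGroup.mk_surjective q
    have hx : x ∈ K := by
      have : f (QuotientGroup.mk x) = 1 := hq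
      have h4 : (QuotientGroup.mk x : X ⧸ K) = 1 := this
      exact (QuotientGroup.eq_one_iff x).1 h4
    rw [Subgroup.mem_center_iff]
    intro g
    obtain ⟨y, rfl⟩ := QuotientGroup.mk_surjective g
    have h5 : ⁅x, y⁆ ∈ L := Subgroup.mem_upperCentralSeries_succ_iff.1 hx y
    have h6 : (QuotientGroup.mk ⁅x, y⁆ : X ⧸ L) = 1 := (QuotientGroup.eq_one_iff _).2 h5
    rw [commutatorElement_def, QuotientGroup.mk_mul, QuotientGroup.mk_mul, QuotientGroup.mk_mul,
      QuotientGroup.mk_inv, QuotientGroup.mk_inv] at h6
    have h7 : (QuotientGroup.mk x : X ⧸ L) * QuotientGroup.mk y =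
        QuotientGroup.mk y * QuotientGroup.mk x := by
      have := mul_inv_eq_one.1 h6
      have h8 := mul_inv_eq_iff_eq_mul.1 this
      exact h8
    exact h7.symm
  have hcomm : ∀ a b : X ⧸ L, a * b = b * a := by
    have h9 := MonoidHom.isMulCommutative_of_isCyclic_of_ker_le_center f hf
    exact fun a b => h9.is_comm.comm a b
  have htop : K = ⊤ := by
    refine eq_top_iff.2 fun x _ => ?_
    refine Subgroup.mem_upperCentralSeries_succ_iff.2 fun y => ?_
    have h10 := hcomm (QuotientGroup.mk x) (QuotientGroup.mk y)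
    refine (QuotientGroup.eq_one_iff _).1 ?_
    rw [commutatorElement_def, QuotientGroup.mk_mul, QuotientGroup.mk_mul, QuotientGroup.mk_mul,
      QuotientGroup.mk_inv, QuotientGroup.mk_inv, h10, mul_inv_cancel_right, mul_inv_cancel]
  exact hlt.ne htop

/-- A group of maximal class has centre of order `p` and second centre of order `p²`. -/
theorem card_center_of_maxClass (hX : IsPGroup p X) {n : ℕ} (hn : Nat.card X = p ^ n) (h3 : 4 ≤ n)
    (hmax : Subgroup.lowerCentralSeries (⊤ : Subgroup X) (n - 2) ≠ ⊥) :
    Nat.card (center X) = p ∧ Nat.card (Subgroup.upperCentralSeries X 2) = p ^ 2 := by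
  classical
  haveI : Group.IsNilpotent X := IsPGroup.isNilpotent hX
  set c := Group.nilpotencyClass X with hcdef
  have hc : n - 1 ≤ c := by
    by_contra h
    exact hmax (Subgroup.lowerCentralSeries_eq_bot_iff_nilpotencyClass_le.2 (by omega))
  have hstep : ∀ k, k + 1 ≤ c → p * Nat.card (Subgroup.upperCentralSeries X k) ≤
      Nat.card (Subgroup.upperCentralSeries X (k + 1)) := by
    intro k hk
    refine mul_card_le_of_lt hX ?_
    refine (Subgroup.upperCentralSeries.StrictMonoOn X) ?_ ?_ (Nat.lt_succ_self k)
    · simp only [Set.mem_Iic]; omega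
    · simp only [Set.mem_Iic]; omega
  have hchain : ∀ j k, k + j + 1 ≤ c → p ^ j * Nat.card (Subgroup.upperCentralSeries X k) ≤
      Nat.card (Subgroup.upperCentralSeries X (k + j)) := by
    intro j k
    induction j with
    | zero => intro _; simp
    | succ j ih =>
      intro h
      have h1 := ih (by omega)
      have h2 := hstep (k + j) (by omega)
      calc p ^ (j + 1) * Nat.card (Subgroup.upperCentralSeries X k)
          = p * (p ^ j * Nat.card (Subgroup.upperCentralSeries X k)) := by ring
        _ ≤ p * Nat.card (Subgroup.upperCentralSeries X (k + j)) := Nat.mul_le_mul_left _ h1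
        _ ≤ _ := h2
  obtain ⟨d, hd⟩ : ∃ d, c = d + 2 := ⟨c - 2, by omega⟩
  have htop := top_step hX (c := d) (by rw [← hcdef, hd])
  have hp0 := hp.out.pos
  have hnd : n ≤ d + 3 := by omega
  have hZ1 : Nat.card (center X) ≤ p := by
    have h1 := hchain d 1 (by omega)
    rw [show 1 + d = d + 1 by omega, Subgroup.upperCentralSeries_one] at h1
    have h5 : p ^ (d + 2) * Nat.card (center X) ≤ p ^ (d + 2) * p := by
      calc p ^ (d + 2) * Nat.card (center X) = p ^ 2 * (p ^ d * Nat.card (center X)) := by ring
        _ ≤ p ^ 2 * Nat.card (Subgroup.upperCentralSeries X (d + 1)) := Nat.mul_le_mul_left _ h1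
        _ ≤ Nat.card X := htop
        _ = p ^ n := hn
        _ ≤ p ^ (d + 3) := Nat.pow_le_pow_right hp0 hnd
        _ = p ^ (d + 2) * p := by ring
    exact Nat.le_of_mul_le_mul_left h5 (pow_pos hp0 _)
  have hZ2 : Nat.card (Subgroup.upperCentralSeries X 2) ≤ p ^ 2 := by
    obtain ⟨e, rfl⟩ : ∃ e, d = e + 1 := ⟨d - 1, by omega⟩
    have h1 := hchain e 2 (by omega)
    rw [show 2 + e = e + 1 + 1 by omega] at h1
    have h5 : p ^ (e + 2) * Nat.card (Subgroup.upperCentralSeries X 2) ≤ p ^ (e + 2) * p ^ 2 := by
      calc p ^ (e + 2) * Nat.card (Subgroup.upperCentralSeries X 2)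
          = p ^ 2 * (p ^ e * Nat.card (Subgroup.upperCentralSeries X 2)) := by ring
        _ ≤ p ^ 2 * Nat.card (Subgroup.upperCentralSeries X (e + 1 + 1)) := Nat.mul_le_mul_left _ h1
        _ ≤ Nat.card X := htop
        _ = p ^ n := hn
        _ ≤ p ^ (e + 4) := Nat.pow_le_pow_right hp0 (by omega)
        _ = p ^ (e + 2) * p ^ 2 := by ring
    exact Nat.le_of_mul_le_mul_left h5 (pow_pos hp0 _)
  have hZ1' : p ≤ Nat.card (center X) := by
    have h1 := hstep 0 (by omega)
    rw [Subgroup.upperCentralSeries_zero, zero_add, Subgroup.upperCentralSeries_one] at h1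
    simpa using h1
  have hZ2' : p * Nat.card (center X) ≤ Nat.card (Subgroup.upperCentralSeries X 2) := by
    have h1 := hstep 1 (by omega)
    rwa [Subgroup.upperCentralSeries_one] at h1
  have hZ : Nat.card (center X) = p := le_antisymm hZ1 hZ1'
  refine ⟨hZ, le_antisymm hZ2 ?_⟩
  rw [hZ] at hZ2'
  rw [sq]
  exact hZ2'

theorem mem_two_iff {x : X} :
    x ∈ Subgroup.upperCentralSeries X 2 ↔ ∀ y : X, ⁅x, y⁆ ∈ center X := by
  rw [show (2 : ℕ) = 1 + 1 from rfl, Subgroup.mem_upperCentralSeries_succ_iff, Subgroup.upperCentralSeries_one]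

/-- The commutator with an element of the second centre is a homomorphism to the centre. -/
theorem exists_comm_hom {y : X} (hy : y ∈ Subgroup.upperCentralSeries X 2) :
    ∃ f : X →* center X, ∀ s, (f s : X) = ⁅y, s⁆ := by
  refine ⟨MonoidHom.mk' (fun s => ⟨⁅y, s⁆, mem_two_iff.1 hy s⟩) ?_, fun s => rfl⟩
  intro a b
  apply Subtype.ext
  show ⁅y, a * b⁆ = ⁅y, a⁆ * ⁅y, b⁆
  have h := mem_two_iff.1 hy b
  have h2 : a * ⁅y, b⁆ * a⁻¹ = ⁅y, b⁆ := by
    rw [Subgroup.mem_center_iff] at h
    rw [h a, mul_assoc, mul_inv_cancel, mul_one]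
  rw [← h2]
  simp only [commutatorElement_def]
  group

/-- The structure of the centralizer of the second centre. -/
theorem centralizer_facts (hX : IsPGroup p X) (h1 : Nat.card (center X) = p)
    (h2 : Nat.card (Subgroup.upperCentralSeries X 2) = p ^ 2) :
    (∀ y ∈ Subgroup.upperCentralSeries X 2, y ∉ center X → ∀ s, s * y = y * s →
      ∀ w ∈ Subgroup.upperCentralSeries X 2, s * w = w * s) ∧
    (centralizer (Subgroup.upperCentralSeries X 2 : Set X)).index = p := by
  classical
  have hle : center X ≤ Subgroup.upperCentralSeries X 2 := by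
    rw [← Subgroup.upperCentralSeries_one]
    exact Subgroup.upperCentralSeries_mono X (by norm_num)
  have hfirst : ∀ y ∈ Subgroup.upperCentralSeries X 2, y ∉ center X → ∀ s, s * y = y * s →
      ∀ w ∈ Subgroup.upperCentralSeries X 2, s * w = w * s := by
    intro y hy hyZ s hs w hw
    let D : Subgroup X := (centralizer {s}) ⊓ Subgroup.upperCentralSeries X 2
    have hD : D = Subgroup.upperCentralSeries X 2 := by
      refine Subgroup.eq_of_le_of_card_ge inf_le_right ?_
      have hlt : center X < D := by
        refine lt_of_le_of_ne (le_inf ?_ hle) ?_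
        · intro z hz
          refine Subgroup.mem_centralizer_iff.2 ?_
          intro u hu
          rw [Set.mem_singleton_iff] at hu
          subst hu
          exact ((Subgroup.mem_center_iff.1 hz) _)
        · rintro h
          apply hyZ
          rw [h]
          refine ⟨Subgroup.mem_centralizer_iff.2 ?_, hy⟩
          intro u hu
          rw [Set.mem_singleton_iff] at hu
          subst hu
          exact hs
      have := mul_card_le_of_lt hX hlt
      rw [h1] at this
      rw [h2, sq]
      exact this
    have hw' : w ∈ D := hD ▸ hw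
    have := Subgroup.mem_centralizer_iff.1 hw'.1 s rfl
    exact this
  refine ⟨hfirst, ?_⟩
  · -- choose `y` outside the centre
    have hex : ∃ y ∈ Subgroup.upperCentralSeries X 2, y ∉ center X := by
      by_contra hall
      push Not at hall
      have h3 : Nat.card (Subgroup.upperCentralSeries X 2) ≤ Nat.card (center X) :=
        Subgroup.card_le_of_le hall
      rw [h1, h2, sq] at h3
      have := hp.out.two_le
      nlinarith
    obtain ⟨y, hy, hyZ⟩ := hex
    obtain ⟨f, hf⟩ := exists_comm_hom hy
    have h3y := hfirst y hy hyZ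
    have hker : f.ker = centralizer (Subgroup.upperCentralSeries X 2 : Set X) := by
      ext s
      rw [MonoidHom.mem_ker]
      constructor
      · intro h
        have h4 : ⁅y, s⁆ = 1 := by
          rw [← hf, h]; rfl
        have h5 : y * s = s * y := commutatorElement_eq_one_iff_mul_comm.1 h4
        refine Subgroup.mem_centralizer_iff.2 fun w hw => ?_
        exact (h3y s h5.symm w hw).symm
      · intro h
        apply Subtype.ext
        rw [hf]
        exact commutatorElement_eq_one_iff_mul_comm.2 (Subgroup.mem_centralizer_iff.1 h y hy)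
    have hidx : (centralizer (Subgroup.upperCentralSeries X 2 : Set X)).index ≤ p := by
      rw [← hker, Subgroup.index_ker, ← h1]
      exact Nat.card_le_card_of_injective (fun x : f.range => (x : center X))
        Subtype.val_injective
    have hne : (centralizer (Subgroup.upperCentralSeries X 2 : Set X)).index ≠ 1 := by
      intro h3
      rw [Subgroup.index_eq_one] at h3
      apply hyZ
      rw [Subgroup.mem_center_iff]
      intro g
      have h4 : g ∈ centralizer (Subgroup.upperCentralSeries X 2 : Set X) := h3 ▸ mem_top g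
      exact (Subgroup.mem_centralizer_iff.1 h4 y hy).symm
    obtain ⟨m, hm⟩ := IsPGroup.iff_card.1 hX
    have hd : (centralizer (Subgroup.upperCentralSeries X 2 : Set X)).index ∣ p ^ m := by
      rw [← hm]
      exact Subgroup.index_dvd_card _
    obtain ⟨j, -, hj⟩ := (Nat.dvd_prime_pow hp.out).1 hd
    rw [hj] at hidx hne ⊢
    have hj0 : j ≠ 0 := by
      rintro rfl
      exact hne (pow_zero p)
    have hj1 : j ≤ 1 := by
      by_contra hc
      have h5 : p ^ 2 ≤ p ^ j := Nat.pow_le_pow_right hp.out.pos (by omega)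
      have := hp.out.two_le
      nlinarith
    have : j = 1 := by omega
    rw [this, pow_one]

end Cfsg.Agent.Lib.Fusion.MaxClassCenter
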