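/-
Two-step centralizers in `p`-groups of maximal class: all of them agree, except possibly the last one,
and when the last one differs the order of the group is an even power of `p`.
-/
import Mathlib
import Cfsg.Agent.Lib.PGroup.MaxClass.Three
import Cfsg.Agent.Lib.Coprime.LieLCS

set_option autoImplicit false
set_option linter.unusedSectionVars false
set_option linter.unusedVariables false

namespace Cfsg.Agent.Lib.Fusion.MaxClassE1

open Subgroup Cfsg.Agent.Lib.PGroup.MaxClass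
open scoped commutatorElement

section Leibniz

variable {X : Type*} [Group X]

/-- The Leibniz rule, modulo the next term. -/
theorem leib_mem {i j k : ℕ} {x y z : X} (hx : x ∈ LL X i) (hy : y ∈ LL X j) (hz : z ∈ LL X k) :
    (⁅⁅x, y⁆, z⁆ * ⁅y, ⁅x, z⁆⁆)⁻¹ * ⁅x, ⁅y, z⁆⁆ ∈ LL X (i + j + k + 3) := by
  have hyz : ⁅y, z⁆ ∈ LL X (j + k + 1) := comm_mem_LL hy hz
  have hxz : ⁅x, z⁆ ∈ LL X (i + k + 1) := comm_mem_LL hx hz
  have hxy : ⁅x, y⁆ ∈ LL X (i + j + 1) := comm_mem_LL hx hy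
  have m1 : ⁅x, ⁅y, z⁆⁆ ∈ LL X (i + j + k + 2) := by
    have := comm_mem_LL hx hyz
    rwa [show i + (j + k + 1) + 1 = i + j + k + 2 by omega] at this
  have m2 : ⁅⁅x, y⁆, z⁆ ∈ LL X (i + j + k + 2) := by
    have := comm_mem_LL hxy hz
    rwa [show i + j + 1 + k + 1 = i + j + k + 2 by omega] at this
  have m3 : ⁅y, ⁅x, z⁆⁆ ∈ LL X (i + j + k + 2) := by
    have := comm_mem_LL hy hxz
    rwa [show j + (i + k + 1) + 1 = i + j + k + 2 by omega] at this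
  have e := Cfsg.Agent.Lib.Coprime.LieLCS.mk_leibniz (n := i + j + k + 2) hx hy hz rfl m1 m2 m3
  rw [← Cfsg.Agent.Lib.Coprime.LieLCS.mk_mul m2 m3] at e
  exact (Cfsg.Agent.Lib.Coprime.LieLCS.mk_eq_iff).1 e.symm

end Leibniz

end Cfsg.Agent.Lib.Fusion.MaxClassE1

namespace Cfsg.Agent.Lib.PGroup.MaxClass

open Subgroup Cfsg.Agent.Lib.Fusion.MaxClassE1
open scoped commutatorElement

namespace MC

variable {X : Type*} [Group X] [Finite X] {p n : ℕ} [hp : Fact p.Prime] (h : MC X p n)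

include h

/-- The Leibniz rule in coordinates. -/
theorem eps_leib {i j k : ℕ} {x y z w : X} (hx : x ∈ LL X i) (hy : y ∈ LL X j) (hz : z ∈ LL X k)
    (hG : IsGen X (i + j + k + 2) w) :
    eps p w (i + j + k + 2) ⁅x, ⁅y, z⁆⁆ =
      eps p w (i + j + k + 2) ⁅⁅x, y⁆, z⁆ + eps p w (i + j + k + 2) ⁅y, ⁅x, z⁆⁆ := by
  have hyz : ⁅y, z⁆ ∈ LL X (j + k + 1) := comm_mem_LL hy hz
  have hxz : ⁅x, z⁆ ∈ LL X (i + k + 1) := comm_mem_LL hx hz
  have hxy : ⁅x, y⁆ ∈ LL X (i + j + 1) := comm_mem_LL hx hy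
  have m1 : ⁅x, ⁅y, z⁆⁆ ∈ LL X (i + j + k + 2) := by
    have := comm_mem_LL hx hyz
    rwa [show i + (j + k + 1) + 1 = i + j + k + 2 by omega] at this
  have m2 : ⁅⁅x, y⁆, z⁆ ∈ LL X (i + j + k + 2) := by
    have := comm_mem_LL hxy hz
    rwa [show i + j + 1 + k + 1 = i + j + k + 2 by omega] at this
  have m3 : ⁅y, ⁅x, z⁆⁆ ∈ LL X (i + j + k + 2) := by
    have := comm_mem_LL hy hxz
    rwa [show j + (i + k + 1) + 1 = i + j + k + 2 by omega] at this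
  have hl := leib_mem hx hy hz
  have e : ⁅x, ⁅y, z⁆⁆ = (⁅⁅x, y⁆, z⁆ * ⁅y, ⁅x, z⁆⁆) * ((⁅⁅x, y⁆, z⁆ * ⁅y, ⁅x, z⁆⁆)⁻¹ * ⁅x, ⁅y, z⁆⁆) := by
    group
  have hl' : (⁅⁅x, y⁆, z⁆ * ⁅y, ⁅x, z⁆⁆)⁻¹ * ⁅x, ⁅y, z⁆⁆ ∈ LL X (i + j + k + 2) :=
    LL_anti (Nat.le_succ _) hl
  conv_lhs => rw [e]
  rw [h.eps_mul hG (mul_mem m2 m3) hl', h.eps_mul hG m2 m3, h.eps_of_mem hG hl, add_zero]

/-- The shift by `p - 1` of the two-step centralizers. -/
theorem not_mem_K_add_pred (hp3 : 3 ≤ p) {j : ℕ} (h1 : 1 ≤ j) (hj : j + p - 1 ≤ n - 3) (hjn : j + p + 2 ≤ n)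
    {x : X} (hx : x ∉ K X j) : x ∉ K X (j + p - 1) := by
  have hp' : p.Prime := Fact.out
  obtain ⟨a, ha, ha'⟩ := SetLike.exists_of_lt (h.lt_LL (i := j) (by omega))
  have h2 : ⁅a, x⁆ ∉ LL X (j + 2) := fun hm => hx (h.mem_K_of_comm_mem h1 ha ha' hm)
  have hkey := h.exists_pow_not_mem hp3 (by omega)
  have h3 : ⁅a, x⁆ ^ p ∉ LL X (j + 1 + p) :=
    h.lower hp3 hkey (i := j + 1) (by omega) (by omega) _ (comm_top_mem_LL ha x) h2
  have hw : ⁅a, x⁆ ∈ LL X (j + 1) := comm_top_mem_LL ha x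
  have hconj : x * a * x⁻¹ ∈ LL X j := (inferInstance : (LL X j).Normal).conj_mem a ha x
  have hab : ⁅⁅a, x⁆, x * a * x⁻¹⁆ ∈ LL X (2 * j + 2) := by
    have h4 := comm_mem_LL hw hconj
    rwa [show j + 1 + j + 1 = 2 * j + 2 by omega] at h4
  have hrel := pow_rel hp' h.LL_last (LL_anti (Nat.le_succ j) hw) hconj hab (N := LL X (j + 1 + p))
    (fun g hg => LL_anti (by omega) (h.pow_mem_of_mem (i := 2 * j + 2) (by omega) hg))
    (by
      apply LL_anti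
      have : p * (j + 1) = p * j + p := by ring
      have : j ≤ p * j := Nat.le_mul_of_pos_left j hp'.pos
      have : 2 * j ≤ p * j := Nat.mul_le_mul_right j (by omega)
      omega)
  have hiff := comm_pow_rel hrel
  intro hm
  apply h3
  rw [hiff]
  have h5 : a ^ p ∈ LL X (j + p - 1) := h.pow_mem_of_mem h1 ha
  have h6 := (mem_K.1 hm) _ h5
  rwa [show j + p - 1 + 2 = j + 1 + p by omega] at h6

/-- `|K j| * p = |X|`. -/
theorem card_K {j : ℕ} (h1 : 1 ≤ j) (hj : j ≤ n - 3) : Nat.card (K X j) * p = Nat.card X := by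
  have hp' : p.Prime := Fact.out
  have h2 := h.card_le_K_mul h1 hj
  have h3 : K X j < ⊤ := lt_top_iff_ne_top.2 (h.K_ne_top hj)
  have h4 := Cfsg.Agent.Lib.PGroup.HuppertA.card_mul_prime_le_of_lt h.isP h3
  rw [Subgroup.card_top] at h4
  exact le_antisymm (by rw [mul_comm] at h4 ⊢; linarith [h4]) h2

theorem exists_mem_not_mem {i j : ℕ} (hi1 : 1 ≤ i) (hi : i ≤ n - 3) (hj1 : 1 ≤ j) (hj : j ≤ n - 3)
    (hne : K X i ≠ K X j) : ∃ x ∈ K X i, x ∉ K X j := by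
  by_contra hcon
  push Not at hcon
  apply hne
  refine Subgroup.eq_of_le_of_card_ge (fun x hx => hcon x hx) ?_
  have h1 := h.card_K hi1 hi
  have h2 := h.card_K hj1 hj
  have hp' : p.Prime := Fact.out
  rw [← h2] at h1
  exact (Nat.eq_of_mul_eq_mul_right hp'.pos h1).ge

end MC

end Cfsg.Agent.Lib.PGroup.MaxClass
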