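/-
The first change among the two-step centralizers of a `p`-group of maximal class.
-/
import Mathlib
import Cfsg.Agent.Lib.Fusion.MaxClassE1

set_option autoImplicit false
set_option linter.unusedSectionVars false
set_option linter.unusedVariables false

namespace Cfsg.Agent.Lib.Fusion.MaxClassE2

open Subgroup Cfsg.Agent.Lib.PGroup.MaxClass Cfsg.Agent.Lib.PGroup.MaxClass.MC Cfsg.Agent.Lib.Fusion.MaxClassE1
open scoped commutatorElement

variable {X : Type*} [Group X] [Finite X] {p n : ℕ} [hp : Fact p.Prime]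

theorem of_leib {N : Subgroup X} {A B C : X} (hA : A ∈ N) (hB : B ∈ N) (hT : (A * B)⁻¹ * C ∈ N) : C ∈ N := by
  have e : C = A * B * ((A * B)⁻¹ * C) := by group
  rw [e]
  exact mul_mem (mul_mem hA hB) hT

theorem of_leib' {N : Subgroup X} {A B C : X} (hC : C ∈ N) (hB : B ∈ N) (hT : (A * B)⁻¹ * C ∈ N) : A ∈ N := by
  have e : A = C * ((A * B)⁻¹ * C)⁻¹ * B⁻¹ := by group
  rw [e]
  exact mul_mem (mul_mem hC (inv_mem hT)) (inv_mem hB)

/-- The data of a first change of the two-step centralizers. -/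
structure FC (h : MC X p n) (k l : X) (m : ℕ) : Prop where
  m1 : 1 ≤ m
  mn : m + 1 ≤ n - 3
  hk : ∀ j, 1 ≤ j → j ≤ m → k ∈ K X j
  hl : ∀ j, 1 ≤ j → j ≤ m → l ∉ K X j
  hk' : k ∉ K X (m + 1)
  hl' : l ∈ K X (m + 1)

namespace FC

variable {h : MC X p n} {k l : X} {m : ℕ} (D : FC h k l m)

include D

theorem k_not_LL : k ∉ LL X 1 := fun hk => D.hk' (LL_one_le_K _ hk)

theorem l_not_K1 : l ∉ K X 1 := D.hl 1 le_rfl D.m1

theorem k_K1 : k ∈ K X 1 := D.hk 1 le_rfl D.m1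

theorem top_of_mem {C : Subgroup X} (hC : LL X 1 ≤ C) (hkC : k ∈ C) (hlC : l ∈ C) : C = ⊤ := by
  have hp' : p.Prime := Fact.out
  let A : Subgroup X := LL X 1 ⊔ zpowers k
  have hA1 : LL X 1 < A := by
    refine lt_of_le_of_ne le_sup_left fun e => D.k_not_LL ?_
    rw [e]
    exact (le_sup_right : zpowers k ≤ A) (mem_zpowers k)
  have hAK : A ≤ K X 1 := sup_le (LL_one_le_K 1) (zpowers_le.2 D.k_K1)
  let B : Subgroup X := A ⊔ zpowers l
  have hAB : A < B := by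
    refine lt_of_le_of_ne le_sup_left fun e => D.l_not_K1 (hAK ?_)
    rw [e]
    exact (le_sup_right : zpowers l ≤ B) (mem_zpowers l)
  have hBC : B ≤ C := sup_le (sup_le hC (zpowers_le.2 hkC)) (zpowers_le.2 hlC)
  have c1 := Cfsg.Agent.Lib.PGroup.HuppertA.card_mul_prime_le_of_lt h.isP hA1
  have c2 := Cfsg.Agent.Lib.PGroup.HuppertA.card_mul_prime_le_of_lt h.isP hAB
  have c3 := Subgroup.card_le_of_le hBC
  have c4 := h.card_top_eq
  refine Subgroup.eq_top_of_le_card _ ?_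
  rw [c4]
  calc Nat.card (LL X 1) * p ^ 2 = Nat.card (LL X 1) * p * p := by ring
    _ ≤ Nat.card A * p := Nat.mul_le_mul_right p c1
    _ ≤ Nat.card B := c2
    _ ≤ Nat.card C := c3

theorem gen_one : IsGen X 1 (yy l k 1) := by
  refine ⟨le_rfl, yy_mem l k 1, fun hm => ?_⟩
  have hm' : ⁅k, l⁆ ∈ LL X 2 := hm
  obtain ⟨t, ht⟩ := h.exists_comm D.k_not_LL
  have hG : IsGen X 1 ⁅k, t⁆ := ⟨le_rfl, comm_top_mem_LL (mem_top k) t, ht⟩
  let f : X →* Multiplicative (ZMod p) :=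
    MonoidHom.mk' (fun g => Multiplicative.ofAdd (eps p ⁅k, t⁆ 1 ⁅k, g⁆))
      (fun g g' => by
        rw [h.comm_add_right (k := 0) hG (mem_top k)]
        rfl)
  have hker : ∀ g, eps p ⁅k, t⁆ 1 ⁅k, g⁆ = 0 → g ∈ f.ker := by
    intro g hg
    show Multiplicative.ofAdd (eps p ⁅k, t⁆ 1 ⁅k, g⁆) = 1
    rw [hg]
    rfl
  have htop : f.ker = ⊤ := by
    refine D.top_of_mem (fun g hg => hker g (h.eps_of_mem hG ?_)) (hker k ?_) (hker l ?_)
    · have := comm_mem_LL (i := 0) (mem_top k) hg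
      exact this
    · rw [commutatorElement_self]
      exact h.eps_one hG
    · exact h.eps_of_mem hG hm'
  have h1 : t ∈ f.ker := by rw [htop]; exact mem_top t
  have h2 : eps p ⁅k, t⁆ 1 ⁅k, t⁆ = 0 := by
    have h3 : Multiplicative.ofAdd (eps p ⁅k, t⁆ 1 ⁅k, t⁆) = 1 := h1
    exact Multiplicative.ofAdd.injective h3
  rw [h.eps_self hG] at h2
  exact one_ne_zero h2

theorem gen : ∀ i, 1 ≤ i → i ≤ m + 1 → IsGen X i (yy l k i) := by
  intro i hi
  induction i, hi using Nat.le_induction with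
  | base => intro _; exact D.gen_one
  | succ i hi ih =>
    intro hle
    have h1 := ih (by omega)
    exact ⟨by omega, yy_mem l k _, fun hm => D.hl i hi (by omega) (h.mem_K_of_comm_mem hi h1.mem h1.notMem hm)⟩

theorem comm_low : ∀ b, 1 ≤ b → ∀ a, 1 ≤ a → a + b ≤ m → ⁅yy l k a, yy l k b⁆ ∈ LL X (a + b + 2) := by
  intro b hb
  induction b, hb using Nat.le_induction with
  | base =>
    intro a ha hab
    have hl := leib_mem (j := 0) (k := 0) (yy_mem l k a) (mem_top k) (mem_top l)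
    have h1 : ⁅yy l k a, k⁆ ∈ LL X (a + 2) := (mem_K.1 (D.hk a ha (by omega))) _ (yy_mem l k a)
    have h2 : ⁅⁅yy l k a, k⁆, l⁆ ∈ LL X (a + 3) := comm_top_mem_LL h1 l
    have h3 : ⁅yy l k (a + 1), k⁆ ∈ LL X (a + 3) :=
      (mem_K.1 (D.hk (a + 1) (by omega) (by omega))) _ (yy_mem l k _)
    have h4 : ⁅k, yy l k (a + 1)⁆ ∈ LL X (a + 3) := by
      rw [show ⁅k, yy l k (a + 1)⁆ = ⁅yy l k (a + 1), k⁆⁻¹ from (commutatorElement_inv _ _).symm]
      exact inv_mem h3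
    exact of_leib h2 h4 hl
  | succ b hb ih =>
    intro a ha hab
    have hl := leib_mem (k := 0) (yy_mem l k a) (yy_mem l k b) (mem_top l)
    have h1 : ⁅⁅yy l k a, yy l k b⁆, l⁆ ∈ LL X (a + b + 3) := comm_top_mem_LL (ih a ha (by omega)) l
    have h2 : ⁅yy l k (a + 1), yy l k b⁆ ∈ LL X (a + 1 + b + 2) := ih (a + 1) (by omega) (by omega)
    have h3 : ⁅yy l k b, yy l k (a + 1)⁆ ∈ LL X (a + b + 3) := by
      rw [show ⁅yy l k b, yy l k (a + 1)⁆ = ⁅yy l k (a + 1), yy l k b⁆⁻¹ from (commutatorElement_inv _ _).symm]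
      refine inv_mem ?_
      rwa [show a + b + 3 = a + 1 + b + 2 by omega]
    have h4 := of_leib h1 h3 hl
    rwa [show a + (b + 1) + 2 = a + b + 0 + 3 by omega]

theorem w_gen : IsGen X (m + 2) ⁅yy l k (m + 1), k⁆ := by
  have h1 := D.gen (m + 1) (by omega) le_rfl
  exact ⟨by omega, comm_top_mem_LL h1.mem k, fun hm => D.hk' (h.mem_K_of_comm_mem (by omega) h1.mem h1.notMem hm)⟩

theorem eps_sign : ∀ b, 1 ≤ b → ∀ a, 1 ≤ a → a + b = m + 1 →
    eps p ⁅yy l k (m + 1), k⁆ (m + 2) ⁅yy l k a, yy l k b⁆ = (-1) ^ b := by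
  have hG := D.w_gen
  intro b hb
  induction b, hb using Nat.le_induction with
  | base =>
    intro a ha hab
    obtain rfl : a = m := by omega
    have e := h.eps_leib (i := a) (j := 0) (k := 0) (yy_mem l k a) (mem_top k) (mem_top l) hG
    change eps p ⁅yy l k (a + 1), k⁆ (a + 2) ⁅yy l k a, yy l k 1⁆ =
      eps p ⁅yy l k (a + 1), k⁆ (a + 2) ⁅⁅yy l k a, k⁆, l⁆ +
        eps p ⁅yy l k (a + 1), k⁆ (a + 2) ⁅k, yy l k (a + 1)⁆ at e
    rw [e]
    have h1 : ⁅yy l k a, k⁆ ∈ LL X (a + 2) := (mem_K.1 (D.hk a ha (by omega))) _ (yy_mem l k a)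
    rw [h.eps_of_mem hG (comm_top_mem_LL h1 l), zero_add,
      show ⁅k, yy l k (a + 1)⁆ = ⁅yy l k (a + 1), k⁆⁻¹ from (commutatorElement_inv _ _).symm,
      h.eps_inv hG hG.mem, h.eps_self hG, pow_one]
  | succ b hb ih =>
    intro a ha hab
    have hG' : IsGen X (a + b + 0 + 2) ⁅yy l k (m + 1), k⁆ := by
      rw [show a + b + 0 + 2 = m + 2 by omega]
      exact hG
    have e := h.eps_leib (i := a) (j := b) (k := 0) (yy_mem l k a) (yy_mem l k b) (mem_top l) hG'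
    rw [show a + b + 0 + 2 = m + 2 by omega] at e
    change eps p ⁅yy l k (m + 1), k⁆ (m + 2) ⁅yy l k a, yy l k (b + 1)⁆ =
      eps p ⁅yy l k (m + 1), k⁆ (m + 2) ⁅⁅yy l k a, yy l k b⁆, l⁆ +
        eps p ⁅yy l k (m + 1), k⁆ (m + 2) ⁅yy l k b, yy l k (a + 1)⁆ at e
    rw [e]
    have h1 : ⁅yy l k a, yy l k b⁆ ∈ LL X (a + b + 2) := D.comm_low b hb a ha (by omega)
    rw [show a + b + 2 = m + 2 by omega] at h1
    have h2 : ⁅yy l k (a + 1), yy l k b⁆ ∈ LL X (m + 2) := by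
      have := comm_mem_LL (yy_mem l k (a + 1)) (yy_mem l k b)
      rwa [show a + 1 + b + 1 = m + 2 by omega] at this
    rw [h.eps_of_mem hG (comm_top_mem_LL h1 l), zero_add,
      show ⁅yy l k b, yy l k (a + 1)⁆ = ⁅yy l k (a + 1), yy l k b⁆⁻¹ from (commutatorElement_inv _ _).symm,
      h.eps_inv hG h2, ih (a + 1) (by omega) (by omega), pow_succ]
    ring

theorem even_m : Even m := by
  by_contra hodd
  obtain ⟨c, hc⟩ := Nat.not_even_iff_odd.1 hodd
  have e := D.eps_sign (c + 1) (by omega) (c + 1) (by omega) (by omega)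
  rw [commutatorElement_self, h.eps_one D.w_gen] at e
  have h1 : ((-1 : ZMod p) ^ (c + 1)) ≠ 0 := pow_ne_zero _ (neg_ne_zero.2 one_ne_zero)
  exact h1 e.symm

theorem k_K_next : k ∈ K X (m + 2) := by
  have hl := leib_mem (k := 0) (yy_mem l k m) (yy_mem l k 1) (mem_top k)
  have h1 : ⁅yy l k m, k⁆ ∈ LL X (m + 2) := (mem_K.1 (D.hk m D.m1 le_rfl)) _ (yy_mem l k m)
  have h2 : ⁅yy l k 1, k⁆ ∈ LL X 3 := (mem_K.1 D.k_K1) _ (yy_mem l k 1)
  have hC : ⁅yy l k m, ⁅yy l k 1, k⁆⁆ ∈ LL X (m + 1 + 0 + 3) := by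
    have := comm_mem_LL (yy_mem l k m) h2
    rwa [show m + 3 + 1 = m + 1 + 0 + 3 by omega] at this
  have hB : ⁅yy l k 1, ⁅yy l k m, k⁆⁆ ∈ LL X (m + 1 + 0 + 3) := by
    have := comm_mem_LL (yy_mem l k 1) h1
    rwa [show 1 + (m + 2) + 1 = m + 1 + 0 + 3 by omega] at this
  have hA := of_leib' hC hB hl
  have hg1 : ⁅yy l k m, yy l k 1⁆ ∈ LL X (m + 2) := comm_mem_LL (yy_mem l k m) (yy_mem l k 1)
  have hg2 : ⁅yy l k m, yy l k 1⁆ ∉ LL X (m + 2 + 1) := by
    intro hm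
    have e := D.eps_sign 1 le_rfl m D.m1 rfl
    rw [h.eps_of_mem D.w_gen hm, pow_one] at e
    have : (-1 : ZMod p) ≠ 0 := neg_ne_zero.2 one_ne_zero
    exact this e.symm
  exact h.mem_K_of_comm_mem (by omega) hg1 hg2 hA

theorem l_not_K_next (hm2 : m + 2 ≤ n - 3) : l ∉ K X (m + 2) := fun hl =>
  h.K_ne_top hm2 (D.top_of_mem (LL_one_le_K _) D.k_K_next hl)

theorem w2_gen (hm2 : m + 2 ≤ n - 3) : IsGen X (m + 3) ⁅⁅yy l k (m + 1), k⁆, l⁆ := by
  have h1 := D.w_gen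
  exact ⟨by omega, comm_top_mem_LL h1.mem l,
    fun hm => D.l_not_K_next hm2 (h.mem_K_of_comm_mem (by omega) h1.mem h1.notMem hm)⟩

theorem eps_d (hm2 : m + 2 ≤ n - 3) : ∀ b, 1 ≤ b → ∀ a, 1 ≤ a → a + b = m + 2 →
    eps p ⁅⁅yy l k (m + 1), k⁆, l⁆ (m + 3) ⁅yy l k a, yy l k b⁆ = (-1) ^ (b + 1) * (b : ZMod p) := by
  have hG := D.w2_gen hm2
  have hW := D.w_gen
  intro b hb
  induction b, hb using Nat.le_induction with
  | base =>
    intro a ha hab
    obtain rfl : a = m + 1 := by omega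
    have e := h.eps_leib (i := m + 1) (j := 0) (k := 0) (yy_mem l k (m + 1)) (mem_top k) (mem_top l) hG
    change eps p ⁅⁅yy l k (m + 1), k⁆, l⁆ (m + 3) ⁅yy l k (m + 1), yy l k 1⁆ =
      eps p ⁅⁅yy l k (m + 1), k⁆, l⁆ (m + 3) ⁅⁅yy l k (m + 1), k⁆, l⁆ +
        eps p ⁅⁅yy l k (m + 1), k⁆, l⁆ (m + 3) ⁅k, ⁅yy l k (m + 1), l⁆⁆ at e
    rw [e, h.eps_self hG]
    have h1 : ⁅yy l k (m + 1), l⁆ ∈ LL X (m + 3) := (mem_K.1 D.hl') _ (yy_mem l k _)
    have h2 : ⁅k, ⁅yy l k (m + 1), l⁆⁆ ∈ LL X (m + 3 + 1) := by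
      have := comm_mem_LL (i := 0) (mem_top k) h1
      rwa [show 0 + (m + 3) + 1 = m + 3 + 1 by omega] at this
    rw [h.eps_of_mem hG h2]
    simp
  | succ b hb ih =>
    intro a ha hab
    have hG' : IsGen X (a + b + 0 + 2) ⁅⁅yy l k (m + 1), k⁆, l⁆ := by
      rw [show a + b + 0 + 2 = m + 3 by omega]
      exact hG
    have e := h.eps_leib (i := a) (j := b) (k := 0) (yy_mem l k a) (yy_mem l k b) (mem_top l) hG'
    rw [show a + b + 0 + 2 = m + 3 by omega] at e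
    change eps p ⁅⁅yy l k (m + 1), k⁆, l⁆ (m + 3) ⁅yy l k a, yy l k (b + 1)⁆ =
      eps p ⁅⁅yy l k (m + 1), k⁆, l⁆ (m + 3) ⁅⁅yy l k a, yy l k b⁆, l⁆ +
        eps p ⁅⁅yy l k (m + 1), k⁆, l⁆ (m + 3) ⁅yy l k b, yy l k (a + 1)⁆ at e
    rw [e]
    have h1 : ⁅yy l k a, yy l k b⁆ ∈ LL X (m + 2) := by
      have := comm_mem_LL (yy_mem l k a) (yy_mem l k b)
      rwa [show a + b + 1 = m + 2 by omega] at this
    have h2 : ⁅yy l k (a + 1), yy l k b⁆ ∈ LL X (m + 3) := by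
      have := comm_mem_LL (yy_mem l k (a + 1)) (yy_mem l k b)
      rwa [show a + 1 + b + 1 = m + 3 by omega] at this
    rw [h.comm_step hW hG h1, D.eps_sign b hb a ha (by omega), h.eps_self hG,
      show ⁅yy l k b, yy l k (a + 1)⁆ = ⁅yy l k (a + 1), yy l k b⁆⁻¹ from (commutatorElement_inv _ _).symm,
      h.eps_inv hG h2, ih (a + 1) (by omega) (by omega)]
    push_cast
    ring

theorem two_mul_le (hm2 : m + 2 ≤ n - 3) : 2 * p ≤ m + 2 := by
  have hp' : p.Prime := Fact.out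
  obtain ⟨c, hc⟩ := D.even_m
  have e := D.eps_d hm2 (c + 1) (by omega) (c + 1) (by omega) (by omega)
  rw [commutatorElement_self, h.eps_one (D.w2_gen hm2)] at e
  have h1 : ((-1 : ZMod p) ^ (c + 1 + 1)) ≠ 0 := pow_ne_zero _ (neg_ne_zero.2 one_ne_zero)
  have h2 : ((c + 1 : ℕ) : ZMod p) = 0 := (mul_eq_zero.1 e.symm).resolve_left h1
  have h3 : p ∣ c + 1 := (ZMod.natCast_eq_zero_iff _ _).1 h2
  have h4 := Nat.le_of_dvd (by omega) h3
  omega

theorem absurd_of_next (hp3 : 3 ≤ p) (hm2 : m + 2 ≤ n - 3) : False := by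
  have hle := D.two_mul_le hm2
  have h1 : l ∉ K X (m + 2 - p) := D.hl _ (by omega) (by omega)
  have h2 := h.not_mem_K_add_pred hp3 (j := m + 2 - p) (by omega) (by omega) (by omega) h1
  rw [show m + 2 - p + p - 1 = m + 1 by omega] at h2
  exact h2 D.hl'

end FC

theorem first_change (h : MC X p n) (hp3 : 3 ≤ p) {m : ℕ} (hm1 : 1 ≤ m) (hm : m + 1 ≤ n - 3)
    (heq : ∀ j, 1 ≤ j → j ≤ m → K X j = K X 1) (hne : K X (m + 1) ≠ K X 1) : Even m ∧ m + 1 = n - 3 := by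
  obtain ⟨k, hk1, hk2⟩ := h.exists_mem_not_mem (i := 1) (j := m + 1) le_rfl (by omega) (by omega) hm hne.symm
  obtain ⟨l, hl1, hl2⟩ := h.exists_mem_not_mem (i := m + 1) (j := 1) (by omega) hm le_rfl (by omega) hne
  have D : FC h k l m := ⟨hm1, hm, fun j hj hjm => by rw [heq j hj hjm]; exact hk1,
    fun j hj hjm => by rw [heq j hj hjm]; exact hl2, hk2, hl1⟩
  refine ⟨D.even_m, ?_⟩
  by_contra hcon
  exact D.absurd_of_next hp3 (by omega)

/-- All the two-step centralizers agree, except possibly the last one. -/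
theorem K_eq (h : MC X p n) (hp3 : 3 ≤ p) : ∀ j, 1 ≤ j → j ≤ n - 4 → K X j = K X 1 := by
  intro j
  induction j using Nat.strong_induction_on with
  | _ j ih =>
    intro hj hjn
    by_cases hj1 : j = 1
    · rw [hj1]
    by_contra hne
    obtain ⟨m, rfl⟩ : ∃ m, j = m + 1 := ⟨j - 1, by omega⟩
    have := (first_change h hp3 (m := m) (by omega) (by omega)
      (fun i hi him => ih i (by omega) hi (by omega)) hne).2
    omega

/-- If the last two-step centralizer is different, the order is an even power of `p`. -/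
theorem even_of_ne (h : MC X p n) (hp3 : 3 ≤ p) (hn : 5 ≤ n) (hne : K X (n - 3) ≠ K X 1) : Even n := by
  have h1 := first_change h hp3 (m := n - 4) (by omega) (by omega)
    (fun i hi him => K_eq h hp3 i hi him) (by rwa [show n - 4 + 1 = n - 3 by omega])
  obtain ⟨c, hc⟩ := h1.1
  exact ⟨c + 2, by omega⟩

end Cfsg.Agent.Lib.Fusion.MaxClassE2
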