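/-
An opposite conjugate of `Aut_S(P)` with a second property, and: an abelian essential subgroup of order `p³`
having a stable flag has `|N_S(E) : E| = p`.
-/
import Mathlib
import Cfsg.Agent.Lib.Fusion.PearlCore
import Cfsg.Agent.Lib.PGroup.Basic
import Cfsg.Agent.Lib.PGroup.HuppertC

set_option autoImplicit false
set_option linter.style.haveILetI false
set_option linter.unusedVariables false
set_option linter.unusedSectionVars false

namespace Cfsg.Agent.Lib.Fusion.MaxClassE3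

open Cfsg Cfsg.FusionSystem Cfsg.Agent.Lib.Fusion.Basic Cfsg.Agent.Lib.Fusion.Saturated
  Cfsg.Agent.Lib.Fusion.Saturated2 Cfsg.Agent.Lib.Fusion.Essential
  Cfsg.Agent.Lib.Fusion.EssentialPair Cfsg.Agent.Lib.Fusion.AbelianMax
  Cfsg.Agent.Lib.Fusion.TorusCore Cfsg.Agent.Lib.Fusion.Transvection
  Cfsg.Agent.Lib.Fusion.PearlCore Cfsg.Agent.Lib.Basic

section Pure

variable {G : Type*} [Group G] [Finite G] {p : ℕ} [hp : Fact p.Prime]

theorem eq_of_lt_of_card (hG : IsPGroup p G) {A B C : Subgroup G} (hAB : A < B) (hBC : B ≤ C)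
    (hc : Nat.card C = Nat.card A * p) : B = C := by
  have h1 := Cfsg.Agent.Lib.PGroup.HuppertA.card_mul_prime_le_of_lt hG hAB
  exact Subgroup.eq_of_le_of_card_ge hBC (by rw [hc]; exact h1)

/-- In a `p`-group, a chief factor is central. -/
theorem comm_mem_of_card (hG : IsPGroup p G) {A B : Subgroup G} [A.Normal] [B.Normal] (hAB : A ≤ B)
    (hc : Nat.card B = Nat.card A * p) (g : G) {b : G} (hb : b ∈ B) : b⁻¹ * (g * b * g⁻¹) ∈ A := by
  have hp' : p.Prime := Fact.out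
  let π := QuotientGroup.mk' A
  have hπ : Function.Surjective π := QuotientGroup.mk'_surjective A
  let B' : Subgroup (G ⧸ A) := B.map π
  haveI : B'.Normal := Subgroup.Normal.map inferInstance π hπ
  have hQ : IsPGroup p (G ⧸ A) := hG.to_quotient A
  have hcA : 0 < Nat.card A := Nat.card_pos
  have hne : B' ≠ ⊥ := by
    intro h
    have h1 : B ≤ A := by
      intro x hx
      have h2 : π x ∈ B' := ⟨x, hx, rfl⟩
      rw [h, Subgroup.mem_bot] at h2
      exact (QuotientGroup.eq_one_iff x).1 h2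
    have h3 := Subgroup.card_le_of_le h1
    rw [hc] at h3
    nlinarith [hp'.two_le]
  have h2 := Cfsg.Agent.Lib.PGroup.Basic.inf_center_ne_bot hQ hne
  obtain ⟨⟨c, hc1⟩, hc0⟩ := (Subgroup.ne_bot_iff_exists_ne_one).1 h2
  have hc2 : c ≠ 1 := fun h => hc0 (Subtype.ext h)
  obtain ⟨b₁, hb₁, rfl⟩ := hc1.1
  let C : Subgroup G := B ⊓ (Subgroup.center (G ⧸ A)).comap π
  have hAC : A < C := by
    refine lt_of_le_of_ne (fun a ha => ⟨hAB ha, ?_⟩) fun h => ?_
    · have h3 : π a = 1 := (QuotientGroup.eq_one_iff a).2 ha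
      show π a ∈ Subgroup.center (G ⧸ A)
      rw [h3]
      exact Subgroup.one_mem _
    · have h3 : b₁ ∈ C := ⟨hb₁, hc1.2⟩
      rw [← h] at h3
      exact hc2 ((QuotientGroup.eq_one_iff b₁).2 h3)
  have hCB : C = B := eq_of_lt_of_card hG hAC inf_le_left hc
  have hb' : b ∈ C := by rw [hCB]; exact hb
  have h3 : π g * π b = π b * π g := (Subgroup.mem_center_iff.1 hb'.2 (π g))
  rw [← QuotientGroup.eq_one_iff]
  show π (b⁻¹ * (g * b * g⁻¹)) = 1
  rw [map_mul, map_mul, map_mul, map_inv, map_inv, h3]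
  group

end Pure

variable {Ω : Type*} [Group Ω] {p : ℕ} [hp : Fact p.Prime]

/-- The chief factor lemma, for subgroups of an ambient group. -/
theorem comm_mem_omega {N A B : Subgroup Ω} [Finite N] (hN : IsPGroup p N) (hAB : A ≤ B) (hBN : B ≤ N)
    (hAn : ∀ g ∈ N, ∀ a ∈ A, g * a * g⁻¹ ∈ A) (hBn : ∀ g ∈ N, ∀ b ∈ B, g * b * g⁻¹ ∈ B)
    (hc : Nat.card B = Nat.card A * p) {g b : Ω} (hg : g ∈ N) (hb : b ∈ B) :
    b⁻¹ * (g * b * g⁻¹) ∈ A := by
  haveI : (A.subgroupOf N).Normal := ⟨fun a ha g => hAn g.1 g.2 a.1 ha⟩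
  haveI : (B.subgroupOf N).Normal := ⟨fun a ha g => hBn g.1 g.2 a.1 ha⟩
  have hA : Nat.card (A.subgroupOf N) = Nat.card A :=
    Nat.card_congr (Subgroup.subgroupOfEquivOfLe (hAB.trans hBN)).toEquiv
  have hB : Nat.card (B.subgroupOf N) = Nat.card B :=
    Nat.card_congr (Subgroup.subgroupOfEquivOfLe hBN).toEquiv
  have h1 := comm_mem_of_card hN (A := A.subgroupOf N) (B := B.subgroupOf N)
    (fun x hx => hAB hx) (by rw [hA, hB, hc]) ⟨g, hg⟩ (b := ⟨b, hBN hb⟩) hb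
  exact h1

section Pair

variable {S : Subgroup Ω} [Finite S] {F : FusionSystem S} {P : Subgroup Ω}

/-- An opposite conjugate of `Aut_S(P)`, with two properties. -/
theorem exists_pair₂ (hS : IsPGroup p S) (hF : F.IsSaturated p) (hP : F.IsEssential p P) :
    ∃ α ∈ F.autGroup P,
      (∀ u ∈ autInducedBy S P, ∀ v ∈ autInducedBy S P, u ∉ Inn P → v ∉ Inn P →
        ¬ IsPGroup p (Subgroup.closure ({u, α * v * α⁻¹} : Set (MulAut P)))) ∧
      (∀ u ∈ autInducedBy S P, ∀ v ∈ autInducedBy S P, u ∉ Inn P → v ∉ Inn P →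
        ¬ IsPGroup p (Subgroup.closure ({α * v * α⁻¹, u * (α * v * α⁻¹) * u⁻¹} : Set (MulAut P)))) := by
  classical
  have hPS : P ≤ S := hP.1.1
  have hQa : F.IsFullyAutomized p P := (fullyNormalized_props hS hF hP.2.1).2
  obtain ⟨-, -, hN, M, hM⟩ := hP
  haveI := hN
  haveI : Finite (F.autGroup P) := finite_autGroup hPS
  obtain ⟨T₀, hT₀⟩ := hQa.2
  let π := outMap F P
  have hπ : Function.Surjective π := outMap_surjective
  let T' : Sylow p (F.autGroup P ⧸ (Inn P).subgroupOf (F.autGroup P)) := T₀.mapSurjective hπ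
  obtain ⟨P₀, hP₀M, -, -⟩ := StrongP.exists_sylow hM
  obtain ⟨w, hw⟩ := MulAction.exists_smul_eq (F.autGroup P ⧸ (Inn P).subgroupOf (F.autGroup P)) P₀ T'
  have hMne := StrongP.ne_top hM
  obtain ⟨a, ha⟩ : ∃ a, a ∉ M := by
    by_contra hcon
    push Not at hcon
    exact hMne (eq_top_iff.2 fun x _ => hcon x)
  obtain ⟨α, hα⟩ := hπ (w * a * w⁻¹)
  have hT'mem : ∀ t ∈ autInducedBy S P, ∀ ht : t ∈ F.autGroup P,
      w⁻¹ * π ⟨t, ht⟩ * w ∈ (P₀ : Subgroup _) := by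
    intro t ht htA
    rw [← StrongP.mem_smul_sylow, hw]
    show π ⟨t, htA⟩ ∈ ((T₀.mapSurjective hπ : Sylow p _) : Subgroup _)
    rw [Sylow.coe_mapSurjective]
    refine ⟨⟨t, htA⟩, ?_, rfl⟩
    rw [hT₀]
    exact ht
  have hne1 : ∀ t : F.autGroup P, t.1 ∉ Inn P → w⁻¹ * π t * w ≠ 1 := by
    intro t ht h1
    apply ht
    apply outMap_eq_one_iff.1
    have : π t = w * (w⁻¹ * π t * w) * w⁻¹ := by group
    rw [this, h1]
    simp
  have hpg : ∀ {A : Set (F.autGroup P)} {B : Set (MulAut P)},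
      (Subgroup.closure A).map (F.autGroup P).subtype = Subgroup.closure B →
      IsPGroup p (Subgroup.closure B) → IsPGroup p (Subgroup.closure A) := by
    intro A B hmap hL
    have h1 : IsPGroup p ((Subgroup.closure A).map (F.autGroup P).subtype) := by
      rw [hmap]
      exact hL
    intro x
    obtain ⟨n, hn⟩ := h1 ⟨(x : F.autGroup P).1, ⟨x, x.2, rfl⟩⟩
    refine ⟨n, Subtype.ext (Subtype.ext ?_)⟩
    simpa using congrArg Subtype.val hn
  refine ⟨α.1, α.2, fun u hu v hv hui hvi hL => ?_, fun u hu v hv hui hvi hL => ?_⟩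
  · have huA : u ∈ F.autGroup P := autInducedBy_le_autGroup hPS hu
    have hvA : v ∈ F.autGroup P := autInducedBy_le_autGroup hPS hv
    let u' : F.autGroup P := ⟨u, huA⟩
    let v' : F.autGroup P := ⟨v, hvA⟩
    let L' : Subgroup (F.autGroup P) := Subgroup.closure {u', α * v' * α⁻¹}
    have hLmap : L'.map (F.autGroup P).subtype =
        Subgroup.closure ({u, α.1 * v * α.1⁻¹} : Set (MulAut P)) := by
      rw [MonoidHom.map_closure, Set.image_pair]
      rfl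
    have hL' : IsPGroup p L' := hpg hLmap hL
    let R : Subgroup (F.autGroup P ⧸ (Inn P).subgroupOf (F.autGroup P)) :=
      (L'.map π).map (MulAut.conj w⁻¹).toMonoidHom
    have hRp : IsPGroup p R := (hL'.map π).map _
    have hxR : w⁻¹ * π u' * w ∈ R := by
      refine ⟨π u', ⟨u', Subgroup.subset_closure (by simp), rfl⟩, ?_⟩
      simp [MulAut.conj_apply]
    have hyR : a * (w⁻¹ * π v' * w) * a⁻¹ ∈ R := by
      refine ⟨π (α * v' * α⁻¹), ⟨α * v' * α⁻¹, Subgroup.subset_closure (by simp), rfl⟩, ?_⟩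
      have e : π (α * v' * α⁻¹) = w * a * w⁻¹ * π v' * (w * a * w⁻¹)⁻¹ := by
        rw [map_mul π, map_mul π, map_inv π, hα]
      show (MulAut.conj w⁻¹) (π (α * v' * α⁻¹)) = _
      rw [e, MulAut.conj_apply]
      group
    have hxM : w⁻¹ * π u' * w ∈ M := hP₀M (hT'mem u hu huA)
    have hyP₀ : w⁻¹ * π v' * w ∈ (P₀ : Subgroup _) := hT'mem v hv hvA
    have hRM : R ≤ M := by
      apply StrongP.le_of_inf_ne_bot hM hRp
      intro hbot
      have : w⁻¹ * π u' * w ∈ R ⊓ M := ⟨hxR, hxM⟩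
      rw [hbot, Subgroup.mem_bot] at this
      exact hne1 u' hui this
    have hyp : IsPGroup p (Subgroup.zpowers (w⁻¹ * π v' * w)) :=
      P₀.isPGroup'.to_le (Subgroup.zpowers_le.2 hyP₀)
    exact ha (StrongP.mem_of_conj_mem hM (hP₀M hyP₀) (hne1 v' hvi) hyp (hRM hyR))
  · have huA : u ∈ F.autGroup P := autInducedBy_le_autGroup hPS hu
    have hvA : v ∈ F.autGroup P := autInducedBy_le_autGroup hPS hv
    let u' : F.autGroup P := ⟨u, huA⟩
    let v' : F.autGroup P := ⟨v, hvA⟩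
    let L' : Subgroup (F.autGroup P) :=
      Subgroup.closure {α * v' * α⁻¹, u' * (α * v' * α⁻¹) * u'⁻¹}
    have hLmap : L'.map (F.autGroup P).subtype =
        Subgroup.closure ({α.1 * v * α.1⁻¹, u * (α.1 * v * α.1⁻¹) * u⁻¹} : Set (MulAut P)) := by
      rw [MonoidHom.map_closure, Set.image_pair]
      rfl
    have hL' : IsPGroup p L' := hpg hLmap hL
    let R : Subgroup (F.autGroup P ⧸ (Inn P).subgroupOf (F.autGroup P)) :=
      (L'.map π).map (MulAut.conj (w * a)⁻¹).toMonoidHom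
    have hRp : IsPGroup p R := (hL'.map π).map _
    have e1 : π (α * v' * α⁻¹) = w * a * w⁻¹ * π v' * (w * a * w⁻¹)⁻¹ := by
      rw [map_mul π, map_mul π, map_inv π, hα]
    have hxR : w⁻¹ * π v' * w ∈ R := by
      refine ⟨π (α * v' * α⁻¹), ⟨α * v' * α⁻¹, Subgroup.subset_closure (by simp), rfl⟩, ?_⟩
      show (MulAut.conj (w * a)⁻¹) (π (α * v' * α⁻¹)) = _
      rw [e1, MulAut.conj_apply]
      group
    let k := (w * a)⁻¹ * π u' * (w * a)
    have hyR : k * (w⁻¹ * π v' * w) * k⁻¹ ∈ R := by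
      refine ⟨π (u' * (α * v' * α⁻¹) * u'⁻¹),
        ⟨u' * (α * v' * α⁻¹) * u'⁻¹, Subgroup.subset_closure (by simp), rfl⟩, ?_⟩
      show (MulAut.conj (w * a)⁻¹) (π (u' * (α * v' * α⁻¹) * u'⁻¹)) = _
      rw [map_mul π, map_mul π, map_inv π, e1, MulAut.conj_apply]
      simp only [k]
      group
    have hxP₀ : w⁻¹ * π v' * w ∈ (P₀ : Subgroup _) := hT'mem v hv hvA
    have hRM : R ≤ M := by
      apply StrongP.le_of_inf_ne_bot hM hRp
      intro hbot
      have : w⁻¹ * π v' * w ∈ R ⊓ M := ⟨hxR, hP₀M hxP₀⟩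
      rw [hbot, Subgroup.mem_bot] at this
      exact hne1 v' hvi this
    have hxp : IsPGroup p (Subgroup.zpowers (w⁻¹ * π v' * w)) :=
      P₀.isPGroup'.to_le (Subgroup.zpowers_le.2 hxP₀)
    have hkM : k ∈ M := StrongP.mem_of_conj_mem hM (hP₀M hxP₀) (hne1 v' hvi) hxp (hRM hyR)
    have hyP₀ : w⁻¹ * π u' * w ∈ (P₀ : Subgroup _) := hT'mem u hu huA
    have hyp : IsPGroup p (Subgroup.zpowers (w⁻¹ * π u' * w)) :=
      P₀.isPGroup'.to_le (Subgroup.zpowers_le.2 hyP₀)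
    have e2 : a⁻¹ * (w⁻¹ * π u' * w) * a⁻¹⁻¹ = k := by
      simp only [k]
      group
    have h3 : a⁻¹ ∈ M := StrongP.mem_of_conj_mem hM (hP₀M hyP₀) (hne1 u' hui) hyp (by rw [e2]; exact hkM)
    exact ha (by simpa using M.inv_mem h3)

end Pair

section Main

variable {S E : Subgroup Ω} [Finite S] {F : FusionSystem S}

/-- Elements of `Inn` of an abelian group are trivial. -/
theorem not_inn_of_ne {E : Subgroup Ω} (hV : ∀ u v : E, u * v = v * u) {β : MulAut E} (hβ : β ≠ 1) : β ∉ Inn E := by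
  rintro ⟨y, rfl⟩
  apply hβ
  ext x
  show ((y * x * y⁻¹ : E) : Ω) = x
  rw [hV y x, mul_inv_cancel_right]

variable {V : Type*} [Group V] [Finite V]

omit hp in
theorem conj_fix (t α : MulAut V) {c : V} (hc : t c = c) : (α * t * α⁻¹) (α c) = α c := by
  show α (t (α⁻¹ (α c))) = α c
  rw [MulAut.inv_apply_self, hc]

omit hp in
theorem conj_stab' (t α : MulAut V) {z : V} (ht : ∀ x, x⁻¹ * t x ∈ Subgroup.zpowers z) (y : V) :
    y⁻¹ * (α * t * α⁻¹) y ∈ Subgroup.zpowers (α z) := by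
  obtain ⟨k, hk⟩ := ht (α⁻¹ y)
  refine ⟨k, ?_⟩
  have e : y⁻¹ * (α * t * α⁻¹) y = α ((α⁻¹ y)⁻¹ * t (α⁻¹ y)) := by
    rw [map_mul, map_inv, MulAut.apply_inv_self]
    rfl
  rw [e, ← hk]
  simp only [map_zpow]

/-- **`|N_S(E) : E| = p`** for an abelian essential subgroup of order `p³` with a stable flag. -/
theorem index_eq_p (hS : IsPGroup p S) (hF : F.IsSaturated p) (hE : F.IsEssential p E) (hlt : E < S)
    (hab : ∀ s ∈ E, ∀ t ∈ E, s * t = t * s) (hexp : ∀ x ∈ E, x ^ p = 1) (hcE : Nat.card E = p ^ 3)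
    {W : Subgroup Ω} (hWE : W ≤ E) (hcW : Nat.card W = p ^ 2) {z : Ω} (hzW : z ∈ W) (hz1 : z ≠ 1)
    (hzN : ∀ g ∈ S ⊓ Subgroup.normalizer (E : Set Ω), g * z * g⁻¹ = z)
    (hWN : ∀ g ∈ S ⊓ Subgroup.normalizer (E : Set Ω), ∀ w ∈ W, w⁻¹ * (g * w * g⁻¹) ∈ Subgroup.zpowers z)
    (hEN : ∀ g ∈ S ⊓ Subgroup.normalizer (E : Set Ω), ∀ x ∈ E, x⁻¹ * (g * x * g⁻¹) ∈ W) :
    (E.subgroupOf (S ⊓ Subgroup.normalizer (E : Set Ω))).index = p := by
  classical
  have hp' : p.Prime := Fact.out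
  have hES : E ≤ S := hlt.le
  haveI : Finite E := finite_of_le hES
  have hC : centralizerIn S E ≤ E := hE.1.2 E (Cfsg.Agent.Lib.Fusion.Basic.IsConj.refl hES)
  have hV : ∀ u v : E, u * v = v * u := fun u v => Subtype.ext (hab u u.2 v v.2)
  have hVp : IsPGroup p E := isPGroup_of_le hS hES
  haveI : Finite ↥(S ⊓ Subgroup.normalizer (E : Set Ω)) := finite_of_le inf_le_left
  have hNp : IsPGroup p ↥(S ⊓ Subgroup.normalizer (E : Set Ω)) := isPGroup_of_le hS inf_le_left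
  let φ : ↥(S ⊓ Subgroup.normalizer (E : Set Ω)) →* MulAut E :=
    MonoidHom.mk' (fun g => normConj g.1 g.2.2) (fun a b => by
      ext x
      simp [mul_assoc])
  have hker : φ.ker = E.subgroupOf (S ⊓ Subgroup.normalizer (E : Set Ω)) := by
    ext g
    constructor
    · intro hg
      refine hC ⟨g.2.1, Subgroup.mem_centralizer_iff.2 fun x hx => ?_⟩
      have h1 : φ g = 1 := hg
      have h2 := congrArg (fun a : MulAut E => ((a ⟨x, hx⟩ : E) : Ω)) h1
      have h3 : g.1 * x * g.1⁻¹ = x := h2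
      show x * g.1 = g.1 * x
      calc x * g.1 = (g.1 * x * g.1⁻¹) * g.1 := by rw [h3]
        _ = g.1 * x := by group
    · intro hg
      show φ g = 1
      ext x
      show g.1 * x * g.1⁻¹ = x
      rw [hab g.1 hg x x.2, mul_inv_cancel_right]
  have hcardR : Nat.card φ.range = (E.subgroupOf (S ⊓ Subgroup.normalizer (E : Set Ω))).index := by
    rw [← hker]
    exact (Subgroup.index_ker φ).symm
  by_contra hne
  obtain ⟨k, hk⟩ := hNp.index (E.subgroupOf (S ⊓ Subgroup.normalizer (E : Set Ω)))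
  have hk0 : k ≠ 0 := by
    rintro rfl
    rw [pow_zero, Subgroup.index_eq_one, Subgroup.subgroupOf_eq_top] at hk
    exact (lt_normalizerIn hS hlt).not_ge hk
  have hk1 : k ≠ 1 := by
    rintro rfl
    exact hne (by rw [hk, pow_one])
  have hR2 : p ^ 2 ≤ Nat.card φ.range := by
    rw [hcardR, hk]
    exact Nat.pow_le_pow_right hp'.pos (by omega)
  -- the action of `R`
  have hRg : ∀ u ∈ φ.range, ∃ g ∈ S ⊓ Subgroup.normalizer (E : Set Ω), ∀ x : E, ((u x : E) : Ω) = g * x * g⁻¹ := by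
    rintro _ ⟨g, rfl⟩
    exact ⟨g.1, g.2, fun x => rfl⟩
  have hRind : φ.range ≤ autInducedBy S E := by
    rintro _ ⟨g, rfl⟩
    exact normConj_mem_autInducedBy g.2.1 g.2.2
  -- the subgroups of `E`
  let z' : E := ⟨z, hWE hzW⟩
  have hz'1 : z' ≠ 1 := fun h => hz1 (congrArg Subtype.val h)
  have hz'p : z' ^ p = 1 := Subtype.ext (hexp z (hWE hzW))
  have hoz : orderOf z' = p := orderOf_eq_prime hz'p hz'1
  let W' : Subgroup E := W.subgroupOf E
  have hcW' : Nat.card W' = p ^ 2 := by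
    rw [← hcW]
    exact Nat.card_congr (Subgroup.subgroupOfEquivOfLe hWE).toEquiv
  have hidx : W'.index = p := by
    have h1 := Subgroup.card_mul_index W'
    rw [hcW', hcE] at h1
    have h2 : p ^ 2 * W'.index = p ^ 2 * p := by rw [h1]; ring
    exact Nat.eq_of_mul_eq_mul_left (pow_pos hp'.pos 2) h2
  haveI hWnorm : W'.Normal := ⟨fun n hn g => by rw [hV g n, mul_inv_cancel_right]; exact hn⟩
  have hcz : Nat.card (Subgroup.zpowers z') = p := by rw [Nat.card_zpowers, hoz]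
  have hzW' : z' ∈ W' := hzW
  have hzle : Subgroup.zpowers z' ≤ W' := Subgroup.zpowers_le.2 hzW'
  have hzlt : Subgroup.zpowers z' < W' := by
    refine lt_of_le_of_ne hzle fun h => ?_
    rw [← h, hcz] at hcW'
    have := hp'.two_le
    nlinarith
  obtain ⟨w₀, hw₀, hw₀'⟩ := SetLike.exists_of_lt hzlt
  have hR_z : ∀ u ∈ φ.range, u z' = z' := by
    intro u hu
    obtain ⟨g, hg, hgv⟩ := hRg u hu
    exact Subtype.ext ((hgv z').trans (hzN g hg))
  have hzp_coe : ∀ y : E, (y : Ω) ∈ Subgroup.zpowers z → y ∈ Subgroup.zpowers z' := by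
    rintro y ⟨m, hm⟩
    exact ⟨m, Subtype.ext (by simpa [z'] using hm)⟩
  have hR_W : ∀ u ∈ φ.range, ∀ w ∈ W', w⁻¹ * u w ∈ Subgroup.zpowers z' := by
    intro u hu w hw
    obtain ⟨g, hg, hgv⟩ := hRg u hu
    apply hzp_coe
    have h1 := hWN g hg w hw
    rwa [← hgv] at h1
  have hR_E : ∀ u ∈ φ.range, ∀ x : E, x⁻¹ * u x ∈ W' := by
    intro u hu x
    obtain ⟨g, hg, hgv⟩ := hRg u hu
    have h1 := hEN g hg x x.2
    rw [← hgv] at h1
    exact h1
  -- the fixed points of a group element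
  have hfixW : ∀ β : MulAut E, β z' = z' → β w₀ = w₀ → ∀ w ∈ W', β w = w := by
    intro β h1 h2 w hw
    let Fx : Subgroup E := (β.toMonoidHom).eqLocus (MonoidHom.id E)
    have hz_mem : z' ∈ Fx := h1
    have hw_mem : w₀ ∈ Fx := h2
    have h3 : Subgroup.zpowers z' < Fx ⊓ W' := by
      refine lt_of_le_of_ne (le_inf (Subgroup.zpowers_le.2 hz_mem) hzle) fun h => hw₀' ?_
      rw [h]
      exact ⟨hw_mem, hw₀⟩
    have h4 := eq_of_lt_of_card hVp h3 inf_le_right (by rw [hcW', hcz]; ring)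
    have h5 : w ∈ Fx ⊓ W' := by rw [h4]; exact hw
    exact h5.1
  -- pigeonhole
  have hpigeon : ∃ τ₀ ∈ φ.range, τ₀ ≠ 1 ∧ τ₀ w₀ = w₀ := by
    by_contra hcon
    push Not at hcon
    let f : φ.range → Subgroup.zpowers z' := fun u => ⟨w₀⁻¹ * u.1 w₀, hR_W u.1 u.2 w₀ hw₀⟩
    have hinj : Function.Injective f := by
      intro u u' huu
      have h1 : w₀⁻¹ * u.1 w₀ = w₀⁻¹ * u'.1 w₀ := congrArg Subtype.val huu
      have h2 : u.1 w₀ = u'.1 w₀ := mul_left_cancel h1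
      by_contra hne'
      have h3 : u.1⁻¹ * u'.1 ≠ 1 := by
        intro h4
        exact hne' (Subtype.ext (inv_mul_eq_one.1 h4))
      apply hcon _ (φ.range.mul_mem (φ.range.inv_mem u.2) u'.2) h3
      show u.1⁻¹ (u'.1 w₀) = w₀
      rw [← h2, MulAut.inv_apply_self]
    have h1 := Nat.card_le_card_of_injective f hinj
    rw [hcz] at h1
    have h2 : p ^ 2 ≤ p := hR2.trans h1
    have := hp'.two_le
    nlinarith
  obtain ⟨τ₀, hτ₀R, hτ₀1, hτ₀w⟩ := hpigeon
  have hτW : ∀ w ∈ W', τ₀ w = w := hfixW τ₀ (hR_z τ₀ hτ₀R) hτ₀w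
  obtain ⟨e₀, he₀⟩ : ∃ e₀ : E, e₀ ∉ W' := by
    by_contra hcon
    push Not at hcon
    have : W' = ⊤ := eq_top_iff.2 fun x _ => hcon x
    rw [this, Subgroup.index_top] at hidx
    exact hp'.one_lt.ne hidx
  -- transvection
  let z₀ : E := e₀⁻¹ * τ₀ e₀
  have hz₀W : z₀ ∈ W' := hR_E τ₀ hτ₀R e₀
  have hz₀1 : z₀ ≠ 1 := by
    intro h
    have h1 : τ₀ e₀ = e₀ := (inv_mul_eq_one.1 h).symm
    apply hτ₀1
    ext x
    obtain ⟨a, ha, m, rfl⟩ := exists_decomp_of_index hidx he₀ x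
    show ((τ₀ (a * e₀ ^ m) : E) : Ω) = _
    rw [map_mul, map_pow, hτW a ha, h1]
    rfl
  have hz₀fix : τ₀ z₀ = z₀ := hτW z₀ hz₀W
  have hz₀p : z₀ ^ p = 1 := Subtype.ext (hexp z₀ z₀.2)
  have hτe : τ₀ e₀ = e₀ * z₀ := by
    simp only [z₀]
    group
  have hτst : ∀ x, x⁻¹ * τ₀ x ∈ Subgroup.zpowers z₀ := by
    intro x
    obtain ⟨a, ha, m, rfl⟩ := exists_decomp_of_index hidx he₀ x
    refine ⟨m, ?_⟩
    rw [map_mul, map_pow, hτW a ha, hτe, (show Commute e₀ z₀ from hV e₀ z₀).mul_pow m]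
    show z₀ ^ (m : ℤ) = _
    rw [zpow_natCast]
    have : a * (e₀ ^ m * z₀ ^ m) = (a * e₀ ^ m) * z₀ ^ m := by group
    rw [this]
    group
  -- the opposite conjugate
  obtain ⟨α, hαA, hA, hB⟩ := exists_pair₂ hS hF hE
  let τ' : MulAut E := α * τ₀ * α⁻¹
  let v : E := α z₀
  have hvp : v ^ p = 1 := by
    simp only [v]
    rw [← map_pow, hz₀p, map_one]
  have hτ'v : τ' v = v := conj_fix τ₀ α hz₀fix
  have hτ'st : ∀ x, x⁻¹ * τ' x ∈ Subgroup.zpowers v := conj_stab' τ₀ α hτst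
  have hτ₀ind : τ₀ ∈ autInducedBy S E := hRind hτ₀R
  have hτ₀inn : τ₀ ∉ Inn E := not_inn_of_ne hV hτ₀1
  have hvW : v ∉ W' := by
    intro hv
    exact hA τ₀ hτ₀ind τ₀ hτ₀ind hτ₀inn hτ₀inn
      (isPGroup_closure_pair hV hVp (hτW v hv) hz₀fix hτst hτ'v hτ'st)
  have hfree : ∀ u ∈ φ.range, u v = v → u = 1 := by
    intro u hu huv
    by_contra hu1
    refine hA u (hRind hu) τ₀ hτ₀ind (not_inn_of_ne hV hu1) hτ₀inn
      (isPGroup_closure_pair hV hVp huv (hR_z u hu) (fun x => ?_) hτ'v hτ'st)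
    obtain ⟨a, ha, m, rfl⟩ := exists_decomp_of_index hidx hvW x
    rw [map_mul, map_pow, huv]
    have e : (a * v ^ m)⁻¹ * (u a * v ^ m) = a⁻¹ * u a := by
      rw [mul_inv_rev, mul_assoc, ← mul_assoc a⁻¹, hV (a⁻¹ * u a) (v ^ m), inv_mul_cancel_left]
    rw [e]
    exact hR_W u hu a ha
  -- bijection
  let f₂ : φ.range → W' := fun u => ⟨v⁻¹ * u.1 v, hR_E u.1 u.2 v⟩
  have hf₂ : Function.Injective f₂ := by
    intro u u' huu
    have h1 : v⁻¹ * u.1 v = v⁻¹ * u'.1 v := congrArg Subtype.val huu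
    have h2 : u.1 v = u'.1 v := mul_left_cancel h1
    have h3 := hfree (u.1⁻¹ * u'.1) (φ.range.mul_mem (φ.range.inv_mem u.2) u'.2) (by
      show u.1⁻¹ (u'.1 v) = v
      rw [← h2, MulAut.inv_apply_self])
    exact Subtype.ext (inv_mul_eq_one.1 h3)
  have hbij := Function.Injective.bijective_of_nat_card_le hf₂ (by rw [hcW']; exact hR2)
  -- the intersection of the axes
  let A' : Subgroup E := W'.map α.toMonoidHom
  have hcA' : Nat.card A' = p ^ 2 := by
    rw [Subgroup.card_map_of_injective α.injective, hcW']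
  have hidxA : A'.index = p := by
    have h1 := Subgroup.card_mul_index A'
    rw [hcA', hcE] at h1
    have h2 : p ^ 2 * A'.index = p ^ 2 * p := by rw [h1]; ring
    exact Nat.eq_of_mul_eq_mul_left (pow_pos hp'.pos 2) h2
  have hinf : ⊥ < W' ⊓ A' := by
    rw [bot_lt_iff_ne_bot]
    intro hbot
    have h1 : (W' ⊓ A').index ≤ W'.index * A'.index := Subgroup.index_inf_le
    rw [hbot, hidx, hidxA, Subgroup.index_bot, hcE] at h1
    have h2 : p * p ^ 2 ≤ 1 * p ^ 2 := by nlinarith [h1]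
    have h3 := Nat.le_of_mul_le_mul_right h2 (pow_pos hp'.pos 2)
    have := hp'.two_le
    omega
  obtain ⟨⟨h, hh⟩, hh0⟩ := (Subgroup.ne_bot_iff_exists_ne_one).1 hinf.ne'
  have hh1 : h ≠ 1 := fun h' => hh0 (Subtype.ext h')
  obtain ⟨⟨u, hu⟩, huh⟩ := hbij.2 ⟨h, hh.1⟩
  have huh' : v⁻¹ * u v = h := congrArg Subtype.val huh
  have hu1 : u ≠ 1 := by
    rintro rfl
    apply hh1
    rw [← huh']
    simp
  have huv : u v = v * h := by rw [← huh']; group
  have hτ'h : τ' h = h := by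
    obtain ⟨w, hw, hwe⟩ := hh.2
    have h1 := conj_fix τ₀ α (hτW w hw)
    have h2 : α w = h := hwe
    rwa [h2] at h1
  apply hB u (hRind hu) τ₀ hτ₀ind (not_inn_of_ne hV hu1) hτ₀inn
  have hc1 : τ' (u v) = u v := by
    rw [huv, map_mul, hτ'v, hτ'h]
  have hc2 : (u * τ' * u⁻¹) (u v) = u v := conj_fix τ' u hτ'v
  exact isPGroup_closure_pair hV hVp hc1 hτ'v hτ'st hc2 (conj_stab' τ' u hτ'st)

end Main

end Cfsg.Agent.Lib.Fusion.MaxClassE3
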