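/-
Weights of automorphisms of `p`-groups of maximal class on the sections of the lower central series: the
automorphisms with given weights on the last three sections which can not exist.
-/
import Mathlib
import Cfsg.Agent.Lib.Fusion.MaxClassE2
import Cfsg.Agent.Lib.Fusion.AbelianMax
import Cfsg.Agent.Lib.PGroup.HuppertC

set_option autoImplicit false
set_option linter.unusedSectionVars false
set_option linter.unusedVariables false

namespace Cfsg.Agent.Lib.Fusion.MaxClassE4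

open Subgroup Cfsg.Agent.Lib.PGroup.MaxClass Cfsg.Agent.Lib.PGroup.MaxClass.MC
  Cfsg.Agent.Lib.Fusion.MaxClassE1 Cfsg.Agent.Lib.Fusion.MaxClassE2
open scoped commutatorElement

variable {X : Type*} [Group X] [Finite X] {p n : ℕ} [hp : Fact p.Prime]

omit hp in
theorem map_LL (τ : MulAut X) {i : ℕ} {c : X} (hc : c ∈ LL X i) : τ c ∈ LL X i := by
  have h1 : τ c ∈ (LL X i).map τ.toMonoidHom := ⟨c, hc, rfl⟩
  have h2 : (LL X i).map τ.toMonoidHom = LL X i := by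
    rw [Subgroup.map_lowerCentralSeries, Subgroup.map_top_of_surjective _ τ.surjective]
  rwa [h2] at h1

omit hp in
theorem map_K (τ : MulAut X) {j : ℕ} {s : X} (hs : s ∈ K X j) : τ s ∈ K X j := by
  rw [mem_K]
  intro u hu
  have h1 : τ⁻¹ u ∈ LL X j := map_LL τ⁻¹ hu
  have h2 := map_LL τ ((mem_K.1 hs) _ h1)
  rw [map_commutatorElement, MulAut.apply_inv_self] at h2
  exact h2

omit [Finite X] hp in
theorem comm_L1 {i : ℕ} {a g : X} (ha : a ∈ LL X i) (hg : g ∈ LL X 1) : ⁅a, g⁆ ∈ LL X (i + 2) :=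
  comm_mem_LL (i := i) (j := 1) ha hg

section

variable (h : MC X p n)

include h

/-- The recursion for weights. -/
theorem wt_step (τ : MulAut X) {k : ℕ} {w b : X} (hG : IsGen X k w) (hG' : IsGen X (k + 1) ⁅w, b⁆) :
    eps p ⁅w, b⁆ (k + 1) (τ ⁅w, b⁆) = eps p w k (τ w) * eps p ⁅w, b⁆ (k + 1) ⁅w, τ b⁆ := by
  rw [map_commutatorElement]
  exact h.comm_step hG hG' (map_LL τ hG.mem) _

/-- A normal subgroup of index `p`: the two-step centralizers. -/
theorem exists_decomp_K {j : ℕ} (h1 : 1 ≤ j) (hj : j ≤ n - 3) {b : X} (hb : b ∉ K X j) (s : X) :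
    ∃ a ∈ K X j, ∃ m : ℕ, s = a * b ^ m := by
  have hp' : p.Prime := Fact.out
  haveI : (K X j).Normal := ⟨fun x hx g => by
    have e : g * x * g⁻¹ = ⁅g, x⁆ * x := by
      simp only [commutatorElement_def]; group
    rw [e]
    have h2 : ⁅g, x⁆ ∈ LL X 1 := by
      have := comm_mem_LL (i := 0) (j := 0) (mem_top g) (mem_top x)
      exact this
    exact mul_mem (LL_one_le_K j h2) hx⟩
  have h2 := h.card_K h1 hj
  have h3 := Subgroup.card_mul_index (K X j)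
  have hidx : (K X j).index = p := by
    rw [← h2] at h3
    exact Nat.eq_of_mul_eq_mul_left Nat.card_pos h3
  exact Cfsg.Agent.Lib.Fusion.AbelianMax.exists_decomp_of_index hidx hb s

/-- The value of the right variable. -/
theorem eps_right {k : ℕ} {w b : X} (hw : w ∈ LL X k) (hG' : IsGen X (k + 1) ⁅w, b⁆) {a : X}
    (ha : ⁅w, a⁆ ∈ LL X (k + 2)) (m : ℕ) :
    eps p ⁅w, b⁆ (k + 1) ⁅w, a * b ^ m⁆ = m := by
  rw [h.comm_add_right hG' hw, h.eps_of_mem hG' ha, zero_add, h.comm_pow_right hG' hw, h.eps_self hG', mul_one]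

theorem eps_of_inv_mul {k : ℕ} {w y : X} (hG : IsGen X k w) (hy : w⁻¹ * y ∈ LL X (k + 1)) :
    eps p w k y = 1 := by
  have e : y = w * (w⁻¹ * y) := by group
  rw [e, h.eps_mul hG hG.mem (LL_anti (Nat.le_succ k) hy), h.eps_self hG, h.eps_of_mem hG hy, add_zero]

theorem eps_of_mul {k : ℕ} {w y : X} (hG : IsGen X k w) (hy : w * y ∈ LL X (k + 1)) (hy' : y ∈ LL X k) :
    eps p w k y = -1 := by
  have h1 := h.eps_mul hG hG.mem hy'
  rw [h.eps_self hG, h.eps_of_mem hG hy] at h1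
  exact (neg_eq_of_add_eq_zero_right h1.symm).symm

/-- The weight of the first section. -/
theorem base_weight (τ : MulAut X) {k y g g' : X} {r s : ℕ} (G1 : IsGen X 1 ⁅k, y⁆) (hg : g ∈ LL X 1)
    (hg' : g' ∈ LL X 1) (hr : τ y = g * y ^ r) (hs : τ k = g' * k ^ s) :
    eps p ⁅k, y⁆ 1 (τ ⁅k, y⁆) = (s : ZMod p) * r := by
  have G1' : IsGen X (0 + 1) ⁅k, y⁆ := G1
  have h1 : eps p ⁅k, y⁆ (0 + 1) ⁅g' * k ^ s, g * y ^ r⁆ =
      eps p ⁅k, y⁆ (0 + 1) ⁅g', g * y ^ r⁆ + eps p ⁅k, y⁆ (0 + 1) ⁅k ^ s, g * y ^ r⁆ :=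
    h.comm_add_left G1' (mem_top _) (mem_top _) _
  have h2 : eps p ⁅k, y⁆ (0 + 1) ⁅g', g * y ^ r⁆ = 0 :=
    h.eps_of_mem G1' (comm_top_mem_LL hg' _)
  have h3 : eps p ⁅k, y⁆ (0 + 1) ⁅k ^ s, g * y ^ r⁆ = s * eps p ⁅k, y⁆ (0 + 1) ⁅k, g * y ^ r⁆ :=
    h.comm_pow_left G1' (mem_top k) _ s
  have hm : ⁅k, g⁆ ∈ LL X (0 + 2) := comm_L1 (i := 0) (mem_top k) hg
  have h4 : eps p ⁅k, y⁆ (0 + 1) ⁅k, g * y ^ r⁆ = r :=
    eps_right h (k := 0) (mem_top k) G1' hm r
  rw [h2, h3, h4] at h1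
  rw [map_commutatorElement, hs, hr]
  exact h1.trans (zero_add _)

end

theorem eq_of_lt_of_card' (hG : IsPGroup p X) {A B C : Subgroup X} (hAB : A < B) (hBC : B ≤ C)
    (hc : Nat.card C = Nat.card A * p) : B = C := by
  have h1 := Cfsg.Agent.Lib.PGroup.HuppertA.card_mul_prime_le_of_lt hG hAB
  exact Subgroup.eq_of_le_of_card_ge hBC (by rw [hc]; exact h1)

omit [Finite X] in
theorem two_ne (hp3 : 3 ≤ p) : (1 : ZMod p) ≠ -1 := by
  intro he
  have h1 : ((2 : ℕ) : ZMod p) = 0 := by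
    push_cast
    have : (2 : ZMod p) = 1 - (-1) := by ring
    rw [this, ← he]
    ring
  have h2 := (ZMod.natCast_eq_zero_iff 2 p).1 h1
  have h3 := Nat.le_of_dvd (by norm_num) h2
  omega

section Main

variable {m : ℕ} (h : MC X p (m + 4)) (hm : 1 ≤ m) (hp3 : 3 ≤ p)

include h hm hp3

/-- The case of equal centralizers. -/
theorem contra_X (τ : MulAut X) (heq : K X m = K X (m + 1))
    (hA : ∀ c ∈ LL X m, c⁻¹ * τ c ∈ LL X (m + 1))
    (hB : ∀ c ∈ LL X (m + 1), c⁻¹ * τ c ∈ LL X (m + 2))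
    (hD : ∀ c ∈ LL X (m + 2), τ c = c⁻¹) : False := by
  have hne := h.K_ne_top (j := m + 1) (by omega)
  obtain ⟨b, hb⟩ : ∃ b, b ∉ K X (m + 1) := by
    by_contra hcon
    push Not at hcon
    exact hne (eq_top_iff.2 fun x _ => hcon x)
  have hb' : b ∉ K X m := by rwa [heq]
  obtain ⟨a₃, ha₃, ha₃'⟩ := SetLike.exists_of_lt (h.lt_LL (i := m) (by omega))
  have G3 : IsGen X m a₃ := ⟨hm, ha₃, ha₃'⟩
  have G2 : IsGen X (m + 1) ⁅a₃, b⁆ :=
    ⟨by omega, comm_top_mem_LL ha₃ b, fun hc => hb' (h.mem_K_of_comm_mem hm ha₃ ha₃' hc)⟩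
  have G1 : IsGen X (m + 2) ⁅⁅a₃, b⁆, b⁆ :=
    ⟨by omega, comm_top_mem_LL G2.mem b, fun hc => hb (h.mem_K_of_comm_mem (by omega) G2.mem G2.notMem hc)⟩
  obtain ⟨a', ha', β, hβ⟩ := exists_decomp_K h (j := m + 1) (by omega) (by omega) hb (τ b)
  have ha'' : a' ∈ K X m := by rwa [heq]
  have w3 : eps p a₃ m (τ a₃) = 1 := eps_of_inv_mul h G3 (hA _ ha₃)
  have w2 : eps p ⁅a₃, b⁆ (m + 1) (τ ⁅a₃, b⁆) = 1 := eps_of_inv_mul h G2 (hB _ G2.mem)
  have w1 : eps p ⁅⁅a₃, b⁆, b⁆ (m + 2) (τ ⁅⁅a₃, b⁆, b⁆) = -1 := by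
    rw [hD _ G1.mem, h.eps_inv G1 G1.mem, h.eps_self G1]
  have s2 := wt_step h τ G3 G2
  rw [w2, w3, hβ, eps_right h ha₃ G2 ((mem_K.1 ha'') _ ha₃), one_mul] at s2
  have s1 := wt_step h τ G2 G1
  rw [w1, w2, hβ, eps_right h G2.mem G1 ((mem_K.1 ha') _ G2.mem), one_mul] at s1
  exact two_ne hp3 (s2.trans s1.symm)

/-- The chain of weights when the centralizers differ. -/
theorem chain_Y (τ : MulAut X) (hne : K X m ≠ K X (m + 1)) :
    ∃ (k y : X) (D : FC h k y m) (r s : ZMod p),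
      (∀ i, 1 ≤ i → i ≤ m + 1 → eps p (yy y k i) i (τ (yy y k i)) = s * r ^ i) ∧
      eps p ⁅yy y k (m + 1), k⁆ (m + 2) (τ ⁅yy y k (m + 1), k⁆) = s * r ^ (m + 1) * s := by
  have hp' : p.Prime := Fact.out
  have hK1 : K X m = K X 1 := K_eq h hp3 m hm (by omega)
  have hne1 : K X (m + 1) ≠ K X 1 := fun he => hne (by rw [hK1, he])
  obtain ⟨k, hk1, hk2⟩ := h.exists_mem_not_mem (i := 1) (j := m + 1) le_rfl (by omega) (by omega) (by omega) hne1.symm
  obtain ⟨y, hy1, hy2⟩ := h.exists_mem_not_mem (i := m + 1) (j := 1) (by omega) (by omega) le_rfl (by omega) hne1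
  have D : FC h k y m := ⟨hm, by omega, fun j hj hjm => by rw [K_eq h hp3 j hj (by omega)]; exact hk1,
    fun j hj hjm => by rw [K_eq h hp3 j hj (by omega)]; exact hy2, hk2, hy1⟩
  refine ⟨k, y, D, ?_⟩
  -- the decompositions
  obtain ⟨g, hg, r, hr⟩ := exists_decomp_K h (j := 1) le_rfl (by omega) hy2 (τ y)
  obtain ⟨g', hg', s, hs⟩ := exists_decomp_K h (j := m + 1) (by omega) (by omega) hk2 (τ k)
  -- the intersection
  have hcK : ∀ j, 1 ≤ j → j ≤ m + 1 → Nat.card (K X j) = Nat.card (LL X 1) * p := by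
    intro j h1 hj
    have h2 := h.card_K (j := j) h1 (by omega)
    rw [h.card_top_eq, pow_two, ← mul_assoc] at h2
    exact Nat.eq_of_mul_eq_mul_right hp'.pos h2
  have hint : ∀ c, c ∈ K X 1 → c ∈ K X (m + 1) → c ∈ LL X 1 := by
    intro c hc1 hc2
    by_contra hc
    have hlt : LL X 1 < LL X 1 ⊔ zpowers c := by
      refine lt_of_le_of_ne le_sup_left fun he => hc ?_
      rw [he]
      exact (le_sup_right : zpowers c ≤ _) (mem_zpowers c)
    have e1 := eq_of_lt_of_card' h.isP hlt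
      (sup_le (LL_one_le_K 1) (zpowers_le.2 hc1)) (hcK 1 le_rfl (by omega))
    have e2 := eq_of_lt_of_card' h.isP hlt
      (sup_le (LL_one_le_K (m + 1)) (zpowers_le.2 hc2)) (hcK (m + 1) (by omega) le_rfl)
    exact hne1 (e2.symm.trans e1)
  have hgL : g ∈ LL X 1 := by
    refine hint g hg ?_
    have h1 : τ y ∈ K X (m + 1) := map_K τ hy1
    have e : g = τ y * (y ^ r)⁻¹ := by rw [hr]; group
    rw [e]
    exact mul_mem h1 (inv_mem (pow_mem hy1 r))
  have hg'L : g' ∈ LL X 1 := by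
    refine hint g' ?_ hg'
    have h1 : τ k ∈ K X 1 := map_K τ hk1
    have e : g' = τ k * (k ^ s)⁻¹ := by rw [hs]; group
    rw [e]
    exact mul_mem h1 (inv_mem (pow_mem hk1 s))
  have G1 : IsGen X 1 ⁅k, y⁆ := D.gen_one
  have base := base_weight h τ G1 hgL hg'L hr hs
  have hall : ∀ i, 1 ≤ i → i ≤ m + 1 → eps p (yy y k i) i (τ (yy y k i)) = (s : ZMod p) * (r : ZMod p) ^ i := by
    intro i hi
    induction i, hi using Nat.le_induction with
    | base =>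
      intro _
      rw [pow_one]
      exact base
    | succ i hi ih =>
      intro hle
      have Gi := D.gen i hi (by omega)
      have Gi' : IsGen X (i + 1) ⁅yy y k i, y⁆ := D.gen (i + 1) (by omega) hle
      have step := wt_step h τ Gi Gi'
      rw [hr, eps_right h Gi.mem Gi' (comm_L1 Gi.mem hgL), ih (by omega)] at step
      rw [pow_succ, ← mul_assoc]
      exact step
  refine ⟨(r : ZMod p), (s : ZMod p), hall, ?_⟩
  have Gm := D.gen (m + 1) (by omega) le_rfl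
  have Gl := D.w_gen
  have h1 := wt_step h τ Gm Gl
  rw [hs, eps_right h Gm.mem Gl (comm_L1 Gm.mem hg'L), hall (m + 1) (by omega) le_rfl] at h1
  exact h1

/-- The first impossible automorphism. -/
theorem contra₁ (τ : MulAut X)
    (hA : ∀ c ∈ LL X m, c⁻¹ * τ c ∈ LL X (m + 1))
    (hB : ∀ c ∈ LL X (m + 1), c⁻¹ * τ c ∈ LL X (m + 2))
    (hD : ∀ c ∈ LL X (m + 2), τ c = c⁻¹) : False := by
  by_cases heq : K X m = K X (m + 1)
  · exact contra_X h hm hp3 τ heq hA hB hD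
  obtain ⟨k, y, D, r, s, hall, hlast⟩ := chain_Y h hm hp3 τ heq
  have Gm := D.gen m hm (by omega)
  have Gm' := D.gen (m + 1) (by omega) le_rfl
  have Gl := D.w_gen
  have w3 := eps_of_inv_mul h Gm (hA _ Gm.mem)
  have w2 := eps_of_inv_mul h Gm' (hB _ Gm'.mem)
  have w1 : eps p ⁅yy y k (m + 1), k⁆ (m + 2) (τ ⁅yy y k (m + 1), k⁆) = -1 := by
    rw [hD _ Gl.mem, h.eps_inv Gl Gl.mem, h.eps_self Gl]
  rw [hall m hm (by omega)] at w3
  rw [hall (m + 1) (by omega) le_rfl] at w2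
  have e2 : s * r ^ (m + 1) * s = -1 := by
    rw [← w1, hlast]
  rw [w2, one_mul] at e2
  have e3 : r = 1 := by
    have : s * r ^ (m + 1) = (s * r ^ m) * r := by ring
    rw [this, w3, one_mul] at w2
    exact w2
  rw [e3, one_pow, mul_one] at w3
  rw [w3] at e2
  exact two_ne hp3 e2

/-- The second impossible automorphism. -/
theorem contra₂ (τ : MulAut X) (hne : K X m ≠ K X (m + 1))
    (hA : ∀ c ∈ LL X m, c⁻¹ * τ c ∈ LL X (m + 1))
    (hB : ∀ c ∈ LL X (m + 1), c * τ c ∈ LL X (m + 2))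
    (hD : ∀ c ∈ LL X (m + 2), τ c = c) : False := by
  obtain ⟨k, y, D, r, s, hall, hlast⟩ := chain_Y h hm hp3 τ hne
  have Gm := D.gen m hm (by omega)
  have Gm' := D.gen (m + 1) (by omega) le_rfl
  have Gl := D.w_gen
  have w3 := eps_of_inv_mul h Gm (hA _ Gm.mem)
  have w2 := eps_of_mul h Gm' (hB _ Gm'.mem) (map_LL τ Gm'.mem)
  have w1 : eps p ⁅yy y k (m + 1), k⁆ (m + 2) (τ ⁅yy y k (m + 1), k⁆) = 1 := by
    rw [hD _ Gl.mem, h.eps_self Gl]
  rw [hall m hm (by omega)] at w3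
  rw [hall (m + 1) (by omega) le_rfl] at w2
  have e2 : s * r ^ (m + 1) * s = 1 := by
    rw [← w1, hlast]
  rw [w2] at e2
  have e3 : r = -1 := by
    have : s * r ^ (m + 1) = (s * r ^ m) * r := by ring
    rw [this, w3, one_mul] at w2
    exact w2
  have e4 : s = -1 := by
    have : -1 * s = 1 := e2
    linear_combination (-1 : ZMod p) * this
  obtain ⟨c, hc⟩ := D.even_m
  have e5 : r ^ m = 1 := by
    rw [e3, hc, ← two_mul, pow_mul]
    simp
  rw [e5, mul_one, e4] at w3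
  exact two_ne hp3 w3.symm

end Main

end Cfsg.Agent.Lib.Fusion.MaxClassE4
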