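/-
Automorphisms of the third centre of a `p`-group of maximal class in a saturated fusion system which stabilize the
upper central series: they extend to `S`, and the weights are restricted.
-/
import Mathlib
import Cfsg.Agent.Lib.Fusion.MaxClassE4
import Cfsg.Agent.Lib.Fusion.MaxClassE3

set_option autoImplicit false
set_option linter.style.haveILetI false
set_option linter.unusedVariables false
set_option linter.unusedSectionVars false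

namespace Cfsg.Agent.Lib.Fusion.MaxClassE5

open Cfsg Cfsg.FusionSystem Cfsg.Agent.Lib.Fusion.Basic Cfsg.Agent.Lib.Fusion.Saturated
  Cfsg.Agent.Lib.Fusion.Saturated2 Cfsg.Agent.Lib.Fusion.Transvection
  Cfsg.Agent.Lib.PGroup.MaxClass
open scoped commutatorElement

variable {Ω : Type*} [Group Ω] {S : Subgroup Ω} [Finite S] {p : ℕ} [hp : Fact p.Prime]
  {F : FusionSystem S}

theorem fn_of_normal' {P : Subgroup Ω} (hPS : P ≤ S) (hn : ∀ s ∈ S, ∀ x ∈ P, s * x * s⁻¹ ∈ P) :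
    F.IsFullyNormalized P := by
  have h : normalizerIn S P = S := by
    refine le_antisymm inf_le_left fun s hs => ⟨hs, ?_⟩
    refine Subgroup.mem_normalizer_iff.2 fun x => ⟨hn s hs x, fun h => ?_⟩
    have := hn s⁻¹ (S.inv_mem hs) _ h
    simpa [mul_assoc] using this
  refine ⟨hPS, fun Q _ => ?_⟩
  rw [h]
  exact Subgroup.card_le_of_le inf_le_left

/-- **The extension.** -/
theorem exists_ext (hS : IsPGroup p S) (hF : F.IsSaturated p) {Z₁ Z₂ Z₃ : Subgroup Ω} (h3S : Z₃ ≤ S)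
    (h12 : Z₁ ≤ Z₂) (h23 : Z₂ ≤ Z₃)
    (n3 : ∀ c ∈ Z₃, ∀ g ∈ S, c⁻¹ * (g * c * g⁻¹) ∈ Z₂)
    (n2 : ∀ c ∈ Z₂, ∀ g ∈ S, c⁻¹ * (g * c * g⁻¹) ∈ Z₁)
    (n1 : ∀ c ∈ Z₁, ∀ g ∈ S, g * c * g⁻¹ = c)
    (τ : MulAut Z₃) (hτ : τ ∈ F.autGroup Z₃)
    (hτ2 : ∀ c : Z₃, (c : Ω) ∈ Z₂ ↔ ((τ c : Z₃) : Ω) ∈ Z₂)
    (hτ1 : ∀ c : Z₃, (c : Ω) ∈ Z₁ ↔ ((τ c : Z₃) : Ω) ∈ Z₁) :
    ∃ τ' : MulAut S, ∀ (c : Z₃) (hc : (c : Ω) ∈ S), ((τ' ⟨c, hc⟩ : S) : Ω) = τ c := by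
  classical
  haveI : Finite Z₃ := finite_of_le h3S
  have hVp : IsPGroup p Z₃ := isPGroup_of_le hS h3S
  have hnZ : ∀ s ∈ S, ∀ x ∈ Z₃, s * x * s⁻¹ ∈ Z₃ := by
    intro s hs x hx
    have e : s * x * s⁻¹ = x * (x⁻¹ * (s * x * s⁻¹)) := by group
    rw [e]
    exact Z₃.mul_mem hx (h23 (n3 x hx s hs))
  have hgN : ∀ s ∈ S, s ∈ Subgroup.normalizer (Z₃ : Set Ω) := by
    intro s hs
    refine Subgroup.mem_normalizer_iff.2 fun x => ⟨hnZ s hs x, fun h => ?_⟩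
    have := hnZ s⁻¹ (S.inv_mem hs) _ h
    simpa [mul_assoc] using this
  have hFN : F.IsFullyNormalized Z₃ := fn_of_normal' h3S hnZ
  obtain ⟨T₀, hT₀⟩ := (fullyNormalized_props hS hF hFN).2.2
  haveI : Finite (F.autGroup Z₃) := finite_autGroup h3S
  -- the stabilizer of the chain
  let D : ℕ → Subgroup Z₃ := fun i => match i with
    | 0 => ⊥
    | 1 => Z₁.subgroupOf Z₃
    | 2 => Z₂.subgroupOf Z₃
    | (_ + 3) => ⊤
  let XX : Set (MulAut Z₃) := {β | (∀ x : Z₃, ((x⁻¹ * β x : Z₃) : Ω) ∈ Z₂) ∧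
    (∀ x : Z₃, (x : Ω) ∈ Z₂ → ((x⁻¹ * β x : Z₃) : Ω) ∈ Z₁) ∧ (∀ x : Z₃, (x : Ω) ∈ Z₁ → β x = x)}
  have hXp : IsPGroup p (Subgroup.closure XX) := by
    refine isPGroup_closure_of_stab_chain hVp (D := D) (m := 3) rfl rfl ?_ ?_
    · intro i
      match i with
      | 0 => exact bot_le
      | 1 => exact fun x hx => h12 hx
      | 2 => exact le_top
      | (n + 3) => exact le_top
    · rintro β ⟨hb1, hb2, hb3⟩ i hi x hx
      have hi' : i = 0 ∨ i = 1 ∨ i = 2 := by omega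
      rcases hi' with rfl | rfl | rfl
      · have hx' : (x : Ω) ∈ Z₁ := hx
        rw [hb3 x hx', inv_mul_cancel]
        exact Subgroup.one_mem _
      · exact hb2 x hx
      · exact hb1 x
  -- the conjugations lie in it
  have hcg : ∀ β ∈ autInducedBy S Z₃, β ∈ XX := by
    intro β hβ
    obtain ⟨g, hg, hgv⟩ := mem_autInducedBy_iff.1 hβ
    refine ⟨fun x => ?_, fun x hx => ?_, fun x hx => ?_⟩
    · have := n3 x x.2 g hg
      rw [← hgv x] at this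
      exact this
    · have := n2 x hx g hg
      rw [← hgv x] at this
      exact this
    · apply Subtype.ext
      rw [hgv x]
      exact n1 x hx g hg
  -- the Sylow subgroup
  let Q : Subgroup (F.autGroup Z₃) := (Subgroup.closure XX).subgroupOf (F.autGroup Z₃)
  have hQp : IsPGroup p Q := hXp.comap_of_injective _ Subtype.val_injective
  have hT₀Q : (T₀ : Subgroup (F.autGroup Z₃)) ≤ Q := by
    intro x hx
    rw [hT₀] at hx
    exact Subgroup.subset_closure (hcg _ hx)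
  have hQe : Q = T₀ := T₀.is_maximal' hQp hT₀Q
  have hconj : ∀ (s : Ω) (hs : s ∈ S), ∃ s' ∈ S, ∀ x : Z₃, ((τ * normConj s (hgN s hs) * τ⁻¹) x : Z₃).1 = s' * x * s'⁻¹ := by
    intro s hs
    have hb : normConj s (hgN s hs) ∈ autInducedBy S Z₃ := normConj_mem_autInducedBy hs (hgN s hs)
    have hbA : normConj s (hgN s hs) ∈ F.autGroup Z₃ := autInducedBy_le_autGroup h3S hb
    obtain ⟨hb1, hb2, hb3⟩ := hcg _ hb
    set γ := normConj s (hgN s hs) with hγ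
    have hmem : τ * γ * τ⁻¹ ∈ XX := by
      have hfac : ∀ x : Z₃, x⁻¹ * (τ * γ * τ⁻¹) x = τ ((τ⁻¹ x)⁻¹ * γ (τ⁻¹ x)) := by
        intro x
        rw [map_mul, map_inv, MulAut.apply_inv_self]
        rfl
      refine ⟨fun x => ?_, fun x hx => ?_, fun x hx => ?_⟩
      · rw [hfac]
        exact (hτ2 _).1 (hb1 _)
      · rw [hfac]
        have h1 : ((τ⁻¹ x : Z₃) : Ω) ∈ Z₂ := by
          rw [hτ2]
          rwa [MulAut.apply_inv_self]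
        exact (hτ1 _).1 (hb2 _ h1)
      · have h1 : ((τ⁻¹ x : Z₃) : Ω) ∈ Z₁ := by
          rw [hτ1]
          rwa [MulAut.apply_inv_self]
        show τ (γ (τ⁻¹ x)) = x
        rw [hb3 _ h1, MulAut.apply_inv_self]
    have hmemA : τ * γ * τ⁻¹ ∈ F.autGroup Z₃ :=
      (F.autGroup Z₃).mul_mem ((F.autGroup Z₃).mul_mem hτ hbA) ((F.autGroup Z₃).inv_mem hτ)
    have h1 : (⟨τ * γ * τ⁻¹, hmemA⟩ : F.autGroup Z₃) ∈ Q := Subgroup.subset_closure hmem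
    rw [hQe, hT₀] at h1
    obtain ⟨s', hs', hv⟩ := mem_autInducedBy_iff.1 h1
    exact ⟨s', hs', hv⟩
  -- the extension
  have hrec := fullyNormalized_receptive hS hF hFN
  have hφ := autGroup_mem_hom h3S hτ
  have hr : (Z₃.subtype.comp τ.toMonoidHom).range = Z₃ := by
    ext y
    constructor
    · rintro ⟨x, rfl⟩
      exact (τ x).2
    · intro hy
      refine ⟨τ⁻¹ ⟨y, hy⟩, ?_⟩
      show ((τ (τ⁻¹ ⟨y, hy⟩) : Z₃) : Ω) = y
      rw [MulAut.apply_inv_self]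
  obtain ⟨ψ, hψ, hag⟩ := hrec.2 Z₃ _ hφ hr
  have hle : S ≤ extender S Z₃ (Z₃.subtype.comp τ.toMonoidHom) := by
    intro g hg
    obtain ⟨s', hs', hv⟩ := hconj g hg
    refine extender_closure_mem hg (hgN g hg) hs' fun x hx => ?_
    have h1 := hv (τ x)
    have e1 : (⟨g * x * g⁻¹, hx⟩ : Z₃) = normConj g (hgN g hg) x := rfl
    show ((τ ⟨g * x * g⁻¹, hx⟩ : Z₃) : Ω) = s' * ((τ x : Z₃) : Ω) * s'⁻¹
    rw [e1, ← h1]
    show _ = ((τ (normConj g (hgN g hg) (τ⁻¹ (τ x))) : Z₃) : Ω)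
    rw [MulAut.inv_apply_self]
  have hf : ψ.comp (Subgroup.inclusion hle) ∈ F.Hom S := res_mem hψ hle
  have hfS : ∀ x, (ψ.comp (Subgroup.inclusion hle)) x ∈ S := fun x => map_mem_S hf x
  refine ⟨autOfHom _ (F.injective_of_mem hf) hfS, fun c hc => ?_⟩
  exact hag c c.2 (hle hc)

/-- The terms of the lower central series of `S`, in the ambient group. -/
abbrev ZZ (S : Subgroup Ω) (j : ℕ) : Subgroup Ω := (LL ↥S j).map S.subtype

theorem ZZ_le (j : ℕ) : ZZ S j ≤ S := by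
  rintro _ ⟨x, _, rfl⟩
  exact x.2

theorem coe_mem_ZZ {j : ℕ} {y : S} : (y : Ω) ∈ ZZ S j ↔ y ∈ LL ↥S j :=
  Subgroup.mem_map_iff_mem S.subtype_injective

theorem ZZ_anti {i j : ℕ} (h : i ≤ j) : ZZ S j ≤ ZZ S i :=
  Subgroup.map_mono (LL_anti h)

theorem ZZ_comm {j : ℕ} {c g : Ω} (hc : c ∈ ZZ S j) (hg : g ∈ S) : c⁻¹ * (g * c * g⁻¹) ∈ ZZ S (j + 1) := by
  obtain ⟨x, hx, rfl⟩ := hc
  have h1 : ⁅x⁻¹, (⟨g, hg⟩ : S)⁆ ∈ LL ↥S (j + 1) := comm_top_mem_LL (inv_mem hx) _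
  have h2 := coe_mem_ZZ.2 h1
  have e : ((⁅x⁻¹, (⟨g, hg⟩ : S)⁆ : S) : Ω) = (S.subtype x)⁻¹ * (g * S.subtype x * g⁻¹) := by
    simp [commutatorElement_def]
    group
  rwa [e] at h2

theorem ZZ_last {m : ℕ} (h : MC ↥S p (m + 4)) {c g : Ω} (hc : c ∈ ZZ S (m + 2)) (hg : g ∈ S) :
    g * c * g⁻¹ = c := by
  have h1 := ZZ_comm hc hg
  have h2 : LL ↥S (m + 2 + 1) = ⊥ := h.LL_eq_bot (by omega)
  rw [ZZ, h2, Subgroup.map_bot, Subgroup.mem_bot, inv_mul_eq_one] at h1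
  exact h1.symm

section Final

variable {m : ℕ} (hS : IsPGroup p S) (hF : F.IsSaturated p) (h : MC ↥S p (m + 4)) (hm : 1 ≤ m) (hp3 : 3 ≤ p)

include hS hF h hm hp3

/-- There is no element of `Aut_F(Z₃)` with weights `1, 1, -1`. -/
theorem contra₁ (τ : MulAut (ZZ S m)) (hτ : τ ∈ F.autGroup (ZZ S m))
    (hA : ∀ c : ZZ S m, ((c⁻¹ * τ c : ZZ S m) : Ω) ∈ ZZ S (m + 1))
    (hB : ∀ c : ZZ S m, (c : Ω) ∈ ZZ S (m + 1) → ((c⁻¹ * τ c : ZZ S m) : Ω) ∈ ZZ S (m + 2))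
    (hD : ∀ c : ZZ S m, (c : Ω) ∈ ZZ S (m + 2) → τ c = c⁻¹) : False := by
  have h12 : ZZ S (m + 2) ≤ ZZ S (m + 1) := ZZ_anti (by omega)
  have h23 : ZZ S (m + 1) ≤ ZZ S m := ZZ_anti (by omega)
  have hi2 : ∀ c : ZZ S m, (c : Ω) ∈ ZZ S (m + 1) ↔ ((τ c : ZZ S m) : Ω) ∈ ZZ S (m + 1) := by
    intro c
    have h1 := hA c
    have e : ((τ c : ZZ S m) : Ω) = c * ((c⁻¹ * τ c : ZZ S m) : Ω) := by
      simp
    constructor
    · intro hc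
      rw [e]
      exact mul_mem hc h1
    · intro hc
      have e' : (c : Ω) = ((τ c : ZZ S m) : Ω) * ((c⁻¹ * τ c : ZZ S m) : Ω)⁻¹ := by
        simp
      rw [e']
      exact mul_mem hc (inv_mem h1)
  have hi1 : ∀ c : ZZ S m, (c : Ω) ∈ ZZ S (m + 2) ↔ ((τ c : ZZ S m) : Ω) ∈ ZZ S (m + 2) := by
    intro c
    constructor
    · intro hc
      rw [hD c hc]
      exact inv_mem hc
    · intro hc
      have hc2 : (c : Ω) ∈ ZZ S (m + 1) := (hi2 c).2 (h12 hc)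
      have h1 := hB c hc2
      have e' : (c : Ω) = ((τ c : ZZ S m) : Ω) * ((c⁻¹ * τ c : ZZ S m) : Ω)⁻¹ := by
        simp
      rw [e']
      exact mul_mem hc (inv_mem h1)
  obtain ⟨τ', hτ'⟩ := exists_ext hS hF (ZZ_le m) h12 h23 (fun c hc g hg => ZZ_comm hc hg)
    (fun c hc g hg => ZZ_comm hc hg) (fun c hc g hg => ZZ_last h hc hg) τ hτ hi2 hi1
  refine Cfsg.Agent.Lib.Fusion.MaxClassE4.contra₁ h hm hp3 τ' ?_ ?_ ?_
  · intro c hc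
    have hc' : (c : Ω) ∈ ZZ S m := coe_mem_ZZ.2 hc
    have h1 := hA ⟨c, hc'⟩
    have h2 := hτ' ⟨c, hc'⟩ c.2
    apply coe_mem_ZZ.1
    have e : ((c⁻¹ * τ' c : S) : Ω) = ((⟨c, hc'⟩ : ZZ S m)⁻¹ * τ ⟨c, hc'⟩ : ZZ S m) := by
      simp only [Subgroup.coe_mul, Subgroup.coe_inv, ← h2]
    rw [e]
    exact h1
  · intro c hc
    have hc₂ : (c : Ω) ∈ ZZ S (m + 1) := coe_mem_ZZ.2 hc
    have hc' : (c : Ω) ∈ ZZ S m := h23 hc₂
    have h1 := hB ⟨c, hc'⟩ hc₂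
    have h2 := hτ' ⟨c, hc'⟩ c.2
    apply coe_mem_ZZ.1
    have e : ((c⁻¹ * τ' c : S) : Ω) = ((⟨c, hc'⟩ : ZZ S m)⁻¹ * τ ⟨c, hc'⟩ : ZZ S m) := by
      simp only [Subgroup.coe_mul, Subgroup.coe_inv, ← h2]
    rw [e]
    exact h1
  · intro c hc
    have hc₁ : (c : Ω) ∈ ZZ S (m + 2) := coe_mem_ZZ.2 hc
    have hc' : (c : Ω) ∈ ZZ S m := h23 (h12 hc₁)
    have h1 := hD ⟨c, hc'⟩ hc₁
    have h2 := hτ' ⟨c, hc'⟩ c.2
    apply Subtype.ext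
    show ((τ' c : S) : Ω) = ((c : Ω))⁻¹
    have h3 : ((τ' ⟨(c : Ω), c.2⟩ : S) : Ω) = ((τ ⟨c, hc'⟩ : ZZ S m) : Ω) := h2
    have h4 := congrArg Subtype.val h1
    rw [← h3] at h4
    exact h4

/-- There is no element of `Aut_F(Z₃)` with weights `1, -1, 1` if the last two two-step centralizers differ. -/
theorem contra₂ (τ : MulAut (ZZ S m)) (hτ : τ ∈ F.autGroup (ZZ S m)) (hne : K ↥S m ≠ K ↥S (m + 1))
    (hA : ∀ c : ZZ S m, ((c⁻¹ * τ c : ZZ S m) : Ω) ∈ ZZ S (m + 1))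
    (hB : ∀ c : ZZ S m, (c : Ω) ∈ ZZ S (m + 1) → ((c * τ c : ZZ S m) : Ω) ∈ ZZ S (m + 2))
    (hD : ∀ c : ZZ S m, (c : Ω) ∈ ZZ S (m + 2) → τ c = c) : False := by
  have h12 : ZZ S (m + 2) ≤ ZZ S (m + 1) := ZZ_anti (by omega)
  have h23 : ZZ S (m + 1) ≤ ZZ S m := ZZ_anti (by omega)
  have hi2 : ∀ c : ZZ S m, (c : Ω) ∈ ZZ S (m + 1) ↔ ((τ c : ZZ S m) : Ω) ∈ ZZ S (m + 1) := by
    intro c
    have h1 := hA c
    have e : ((τ c : ZZ S m) : Ω) = c * ((c⁻¹ * τ c : ZZ S m) : Ω) := by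
      simp
    constructor
    · intro hc
      rw [e]
      exact mul_mem hc h1
    · intro hc
      have e' : (c : Ω) = ((τ c : ZZ S m) : Ω) * ((c⁻¹ * τ c : ZZ S m) : Ω)⁻¹ := by
        simp
      rw [e']
      exact mul_mem hc (inv_mem h1)
  have hi1 : ∀ c : ZZ S m, (c : Ω) ∈ ZZ S (m + 2) ↔ ((τ c : ZZ S m) : Ω) ∈ ZZ S (m + 2) := by
    intro c
    constructor
    · intro hc
      rw [hD c hc]
      exact hc
    · intro hc
      have hc2 : (c : Ω) ∈ ZZ S (m + 1) := (hi2 c).2 (h12 hc)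
      have h1 := hB c hc2
      have e' : (c : Ω) = ((c * τ c : ZZ S m) : Ω) * ((τ c : ZZ S m) : Ω)⁻¹ := by
        simp
      rw [e']
      exact mul_mem h1 (inv_mem hc)
  obtain ⟨τ', hτ'⟩ := exists_ext hS hF (ZZ_le m) h12 h23 (fun c hc g hg => ZZ_comm hc hg)
    (fun c hc g hg => ZZ_comm hc hg) (fun c hc g hg => ZZ_last h hc hg) τ hτ hi2 hi1
  refine Cfsg.Agent.Lib.Fusion.MaxClassE4.contra₂ h hm hp3 τ' hne ?_ ?_ ?_
  · intro c hc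
    have hc' : (c : Ω) ∈ ZZ S m := coe_mem_ZZ.2 hc
    have h1 := hA ⟨c, hc'⟩
    have h2 := hτ' ⟨c, hc'⟩ c.2
    apply coe_mem_ZZ.1
    have e : ((c⁻¹ * τ' c : S) : Ω) = ((⟨c, hc'⟩ : ZZ S m)⁻¹ * τ ⟨c, hc'⟩ : ZZ S m) := by
      simp only [Subgroup.coe_mul, Subgroup.coe_inv, ← h2]
    rw [e]
    exact h1
  · intro c hc
    have hc₂ : (c : Ω) ∈ ZZ S (m + 1) := coe_mem_ZZ.2 hc
    have hc' : (c : Ω) ∈ ZZ S m := h23 hc₂
    have h1 := hB ⟨c, hc'⟩ hc₂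
    have h2 := hτ' ⟨c, hc'⟩ c.2
    apply coe_mem_ZZ.1
    have e : ((c * τ' c : S) : Ω) = ((⟨c, hc'⟩ : ZZ S m) * τ ⟨c, hc'⟩ : ZZ S m) := by
      simp only [Subgroup.coe_mul, ← h2]
    rw [e]
    exact h1
  · intro c hc
    have hc₁ : (c : Ω) ∈ ZZ S (m + 2) := coe_mem_ZZ.2 hc
    have hc' : (c : Ω) ∈ ZZ S m := h23 (h12 hc₁)
    have h1 := hD ⟨c, hc'⟩ hc₁
    have h2 := hτ' ⟨c, hc'⟩ c.2
    apply Subtype.ext
    have h3 : ((τ' ⟨(c : Ω), c.2⟩ : S) : Ω) = ((τ ⟨c, hc'⟩ : ZZ S m) : Ω) := h2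
    have h4 := congrArg Subtype.val h1
    rw [← h3] at h4
    exact h4

end Final

end Cfsg.Agent.Lib.Fusion.MaxClassE5
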