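/-
Elementary abelian essential subgroups of order `p³` in `p`-groups of maximal class: the torus element on the third
centre.
-/
import Mathlib
import Cfsg.Agent.Lib.Fusion.MaxClassE5

set_option autoImplicit false
set_option linter.style.haveILetI false
set_option linter.unusedVariables false
set_option linter.unusedSectionVars false

namespace Cfsg.Agent.Lib.Fusion.MaxClassE6

open Cfsg Cfsg.FusionSystem Cfsg.Agent.Lib.Fusion.Basic Cfsg.Agent.Lib.Fusion.Saturated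
  Cfsg.Agent.Lib.Fusion.Saturated2 Cfsg.Agent.Lib.Fusion.Transvection Cfsg.Agent.Lib.Fusion.PearlCore
  Cfsg.Agent.Lib.Fusion.TorusCore Cfsg.Agent.Lib.Fusion.AbelianMax
  Cfsg.Agent.Lib.PGroup.MaxClass Cfsg.Agent.Lib.Fusion.MaxClassE5
open scoped commutatorElement

section Pure

variable {X : Type*} [Group X] [Finite X] {p : ℕ} [hp : Fact p.Prime] {m : ℕ}

theorem LL_ab (h : MC X p (m + 4)) (hm : 1 ≤ m) {a b : X} (ha : a ∈ LL X m) (hb : b ∈ LL X m) : a * b = b * a := by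
  obtain ⟨w, hw, hw'⟩ := SetLike.exists_of_lt (h.lt_LL (i := m) (by omega))
  obtain ⟨i, y, hy, rfl⟩ := h.decomp hm hw hw' ha
  obtain ⟨j, y', hy', rfl⟩ := h.decomp hm hw hw' hb
  have hcy : ∀ y ∈ LL X (m + 1), ∀ a ∈ LL X m, Commute y a := by
    intro y hy a ha
    have h1 := comm_mem_LL hy ha
    have h2 : LL X (m + 1 + m + 1) = ⊥ := h.LL_eq_bot (by omega)
    rw [h2, Subgroup.mem_bot, commutatorElement_eq_one_iff_commute] at h1
    exact h1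
  have hwi : ∀ i : ℕ, w ^ i ∈ LL X m := fun i => pow_mem hw i
  have e1 : Commute (w ^ i * y) (w ^ j * y') :=
    ((Commute.refl w).pow_pow i j |>.mul_right (hcy y' hy' _ (hwi i)).symm).mul_left
      ((hcy y hy _ (hwi j)).mul_right (hcy y hy y' (LL_anti (Nat.le_succ m) hy')))
  exact e1

theorem LL_exp (h : MC X p (m + 4)) (hm : 1 ≤ m) (hp5 : 5 ≤ p) {c : X} (hc : c ∈ LL X m) : c ^ p = 1 := by
  have h1 := h.pow_mem_of_mem hm hc
  rwa [h.LL_eq_bot (by omega), Subgroup.mem_bot] at h1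

end Pure

variable {Ω : Type*} [Group Ω] {S : Subgroup Ω} [Finite S] {p : ℕ} [hp : Fact p.Prime]
  {F : FusionSystem S} {E : Subgroup Ω}

omit [Finite S] hp in
theorem mem_normalizer_of_conj_mem {E : Subgroup Ω} [Finite E] {g : Ω} (h : ∀ x ∈ E, g * x * g⁻¹ ∈ E) :
    g ∈ Subgroup.normalizer (E : Set Ω) := by
  refine Subgroup.mem_normalizer_iff.2 fun x => ⟨h x, fun hx => ?_⟩
  let f : E → E := fun y => ⟨g * y * g⁻¹, h y y.2⟩
  have hf : Function.Injective f := by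
    intro a b hab
    have h1 : g * (a : Ω) * g⁻¹ = g * b * g⁻¹ := congrArg Subtype.val hab
    have h2 : (a : Ω) = b := by
      have := mul_left_cancel (mul_right_cancel h1)
      exact this
    exact Subtype.ext h2
  obtain ⟨y, hy⟩ := Finite.surjective_of_injective hf ⟨_, hx⟩
  have h1 : g * (y : Ω) * g⁻¹ = g * x * g⁻¹ := congrArg Subtype.val hy
  have h2 : (y : Ω) = x := mul_left_cancel (mul_right_cancel h1)
  rw [← h2]
  exact y.2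

omit [Finite S] hp in
theorem conj_pow_mem {V Z : Subgroup Ω} {u : Ω} (hVZ : V ≤ Z) (hU : ∀ c ∈ Z, c⁻¹ * (u⁻¹ * c * u) ∈ V) (k : ℕ) :
    ∀ c ∈ Z, c⁻¹ * ((u ^ k)⁻¹ * c * u ^ k) ∈ V := by
  induction k with
  | zero =>
    intro c _
    simp [V.one_mem]
  | succ k ih =>
    intro c hc
    have h1 := ih c hc
    set c' := (u ^ k)⁻¹ * c * u ^ k with hc'
    have h2 : c' ∈ Z := by
      have e : c' = c * (c⁻¹ * c') := by group
      rw [e]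
      exact Z.mul_mem hc (hVZ h1)
    have h3 := hU c' h2
    have e : c⁻¹ * ((u ^ (k + 1))⁻¹ * c * u ^ (k + 1)) = (c⁻¹ * c') * (c'⁻¹ * (u⁻¹ * c' * u)) := by
      rw [hc', pow_succ]
      group
    rw [e]
    exact V.mul_mem h1 h3

omit [Finite S] hp in
theorem conj_pow_b {V Z : Subgroup Ω} {u b d : Ω} (hVZ : V ≤ Z) (hU : ∀ c ∈ Z, c⁻¹ * (u⁻¹ * c * u) ∈ V)
    (hd : d ∈ Z) (hb : u⁻¹ * b * u = b * d) (k : ℕ) : (b * d ^ k)⁻¹ * ((u ^ k)⁻¹ * b * u ^ k) ∈ V := by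
  induction k with
  | zero => simp [V.one_mem]
  | succ k ih =>
    set g := (u ^ k)⁻¹ * b * u ^ k with hg
    set v := (b * d ^ k)⁻¹ * g with hv
    have h1 := conj_pow_mem hVZ hU k
    have h2 : d ^ k ∈ Z := pow_mem hd k
    have h3 := hU _ h2
    have h4 := hU v (hVZ ih)
    have e : (b * d ^ (k + 1))⁻¹ * ((u ^ (k + 1))⁻¹ * b * u ^ (k + 1)) =
        ((d ^ k)⁻¹ * (u⁻¹ * d ^ k * u)) * (v * (v⁻¹ * (u⁻¹ * v * u))) := by
      have e1 : (u ^ (k + 1))⁻¹ * b * u ^ (k + 1) = u⁻¹ * g * u := by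
        rw [hg, pow_succ]
        group
      have e2 : g = b * d ^ k * v := by
        rw [hv]
        group
      have e3 : u⁻¹ * (b * d ^ k * v) * u = (u⁻¹ * b * u) * (u⁻¹ * d ^ k * u) * (u⁻¹ * v * u) := by group
      rw [e1, e2, e3, hb, pow_succ']
      group
    rw [e]
    exact V.mul_mem h3 (V.mul_mem ih h4)

section Main

variable {m : ℕ}

/-- **The torus element on the third centre.** -/
theorem torus_main (hS : IsPGroup p S) (hF : F.IsSaturated p) (h : MC ↥S p (m + 4)) (hm : 1 ≤ m) (hp5 : 5 ≤ p)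
    (hE : F.IsEssential p E) (hab : ∀ s ∈ E, ∀ t ∈ E, s * t = t * s) (hexp : ∀ x ∈ E, x ^ p = 1)
    (hcE : Nat.card E = p ^ 3)
    (hidx : (E.subgroupOf (S ⊓ Subgroup.normalizer (E : Set Ω))).index = p)
    (hZN : ZZ S m ≤ Subgroup.normalizer (E : Set Ω))
    {t : Ω} (htZ : t ∈ ZZ S m) (htE : t ∉ E)
    {u : Ω} (huS : u ∈ S) (huN : u ∉ Subgroup.normalizer (E : Set Ω))
    (hU2 : ∀ c ∈ ZZ S m, c⁻¹ * (u⁻¹ * c * u) ∈ E ⊓ ZZ S m)
    (hU3 : ∀ e ∈ E, e⁻¹ * (u⁻¹ * e * u) ∈ ZZ S m) :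
    ∃ (e₀ : Ω) (he₀ : e₀ ∈ E) (hzZ : e₀⁻¹ * (t * e₀ * t⁻¹) ∈ ZZ S m) (ψ₃ : MulAut (ZZ S m)),
      ψ₃ ∈ F.autGroup (ZZ S m) ∧ e₀⁻¹ * (t * e₀ * t⁻¹) ≠ 1 ∧ e₀⁻¹ * (t * e₀ * t⁻¹) ∈ E ∧
      ψ₃ ⟨_, hzZ⟩ = (⟨_, hzZ⟩ : ZZ S m)⁻¹ ∧
      (∀ c : ZZ S m, ((c⁻¹ * ψ₃ c : ZZ S m) : Ω) ∈ E) ∧
      (∀ c : ZZ S m, (c : Ω) ∈ E → ∃ (r : ℕ) (c₁ : ZZ S m),
        c = (⟨_, hzZ⟩ : ZZ S m) ^ r * c₁ ∧ ψ₃ c₁ = c₁ ∧ (c₁ : Ω) ∈ E) := by
  classical
  have hp' : p.Prime := Fact.out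
  have hES : E ≤ S := hE.1.1
  haveI : Finite E := finite_of_le hES
  have hC : centralizerIn S E ≤ E := hE.1.2 E (Cfsg.Agent.Lib.Fusion.Basic.IsConj.refl hES)
  haveI hfN : Finite ↥(S ⊓ Subgroup.normalizer (E : Set Ω)) := finite_of_le inf_le_left
  have hZS : ZZ S m ≤ S := ZZ_le m
  haveI : Finite (ZZ S m) := finite_of_le hZS
  have hZab : ∀ a ∈ ZZ S m, ∀ b ∈ ZZ S m, a * b = b * a := by
    rintro _ ⟨a, ha, rfl⟩ _ ⟨b, hb, rfl⟩
    exact congrArg Subtype.val (LL_ab h hm ha hb)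
  have hZexp : ∀ c ∈ ZZ S m, c ^ p = 1 := by
    rintro _ ⟨a, ha, rfl⟩
    exact congrArg Subtype.val (LL_exp h hm hp5 ha)
  have hZn : ∀ g ∈ S, ∀ c ∈ ZZ S m, g * c * g⁻¹ ∈ ZZ S m := by
    intro g hg c hc
    have e : g * c * g⁻¹ = c * (c⁻¹ * (g * c * g⁻¹)) := by group
    rw [e]
    exact mul_mem hc (ZZ_anti (Nat.le_succ m) (ZZ_comm hc hg))
  have hcZ : Nat.card (ZZ S m) = p ^ 3 := by
    rw [ZZ, Subgroup.card_map_of_injective S.subtype_injective, h.card_LL hm (by omega)]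
    congr 1
    omega
  have hNcard : Nat.card ↥(S ⊓ Subgroup.normalizer (E : Set Ω)) = p ^ 3 * p := by
    have h1 := Subgroup.card_mul_index (E.subgroupOf (S ⊓ Subgroup.normalizer (E : Set Ω)))
    have h2 : Nat.card (E.subgroupOf (S ⊓ Subgroup.normalizer (E : Set Ω))) = Nat.card E :=
      Nat.card_congr (Subgroup.subgroupOfEquivOfLe (le_inf hES Subgroup.le_normalizer)).toEquiv
    rw [h2, hidx, hcE] at h1
    exact h1.symm
  have htS : t ∈ S := hZS htZ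
  have htN := hZN htZ
  have htNN : t ∈ S ⊓ Subgroup.normalizer (E : Set Ω) := ⟨htS, htN⟩
  have hENn : ∀ x ∈ E, t * x * t⁻¹ ∈ E := fun x hx => (Subgroup.mem_normalizer_iff.1 htN x).1 hx
  have htp : t ^ p = 1 := hZexp t htZ
  -- decomposition of the normalizer
  haveI hn : (E.subgroupOf (S ⊓ Subgroup.normalizer (E : Set Ω))).Normal := ⟨fun n hn u => by
    have h1 := (Subgroup.mem_normalizer_iff.1 u.2.2 n).1 hn
    exact h1⟩
  have hdecN : ∀ g ∈ S ⊓ Subgroup.normalizer (E : Set Ω), ∃ b ∈ E, ∃ k : ℕ, g = b * t ^ k := by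
    intro g hg
    obtain ⟨b, hb, k, e⟩ := exists_decomp_of_index hidx
      (y := (⟨t, htNN⟩ : ↥(S ⊓ Subgroup.normalizer (E : Set Ω)))) htE ⟨g, hg⟩
    exact ⟨b, hb, k, congrArg Subtype.val e⟩
  set V : Subgroup Ω := E ⊓ ZZ S m with hV
  have hVE : V ≤ E := inf_le_left
  have hVZ : V ≤ ZZ S m := inf_le_right
  haveI hfV : Finite V := finite_of_le (hVE.trans hES)
  have hZdec : ∀ c ∈ ZZ S m, ∃ w ∈ V, ∃ k : ℕ, c = w * t ^ k := by
    intro c hc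
    obtain ⟨b, hb, k, e⟩ := hdecN c ⟨hZS hc, hZN hc⟩
    refine ⟨b, ⟨hb, ?_⟩, k, e⟩
    have e' : b = c * (t ^ k)⁻¹ := by rw [e]; group
    rw [e']
    exact (ZZ S m).mul_mem hc ((ZZ S m).inv_mem ((ZZ S m).pow_mem htZ k))
  -- the order of `V`
  have hcV : Nat.card V = p ^ 2 := by
    have hlt : V.subgroupOf (ZZ S m) < ⊤ := by
      rw [lt_top_iff_ne_top]
      intro he
      have h1 : (⟨t, htZ⟩ : ZZ S m) ∈ V.subgroupOf (ZZ S m) := by rw [he]; trivial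
      exact htE h1.1
    have hZp : IsPGroup p (ZZ S m) := isPGroup_of_le hS hZS
    have h1 := Cfsg.Agent.Lib.PGroup.HuppertA.card_mul_prime_le_of_lt hZp hlt
    have h2 : Nat.card (V.subgroupOf (ZZ S m)) = Nat.card V :=
      Nat.card_congr (Subgroup.subgroupOfEquivOfLe hVZ).toEquiv
    rw [h2, Subgroup.card_top, hcZ] at h1
    have hub : Nat.card V ≤ p ^ 2 := by
      have : Nat.card V * p ≤ p ^ 2 * p := by
        calc Nat.card V * p ≤ p ^ 3 := h1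
          _ = p ^ 2 * p := by ring
      exact Nat.le_of_mul_le_mul_right this hp'.pos
    haveI : NeZero p := ⟨hp'.ne_zero⟩
    let f : V × Fin p → ZZ S m := fun q =>
      ⟨q.1.1 * t ^ q.2.1, mul_mem (hVZ q.1.2) (pow_mem htZ _)⟩
    have hf : Function.Surjective f := by
      intro c
      obtain ⟨w, hw, k, e⟩ := hZdec c c.2
      refine ⟨(⟨w, hw⟩, ⟨k % p, Nat.mod_lt _ hp'.pos⟩), Subtype.ext ?_⟩
      show w * t ^ (k % p) = c
      rw [e, ← pow_eq_pow_mod k htp]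
    have h3 := Nat.card_le_card_of_surjective f hf
    rw [Nat.card_prod, Nat.card_eq_fintype_card (α := Fin p), Fintype.card_fin, hcZ] at h3
    have hlb : p ^ 2 ≤ Nat.card V := by
      have : p ^ 2 * p ≤ Nat.card V * p := by
        calc p ^ 2 * p = p ^ 3 := by ring
          _ ≤ _ := h3
      exact Nat.le_of_mul_le_mul_right this hp'.pos
    exact le_antisymm hub hlb
  have hidxE : (V.subgroupOf E).index = p := by
    have h1 := Subgroup.card_mul_index (V.subgroupOf E)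
    have h2 : Nat.card (V.subgroupOf E) = Nat.card V :=
      Nat.card_congr (Subgroup.subgroupOfEquivOfLe hVE).toEquiv
    rw [h2, hcV, hcE] at h1
    have h3 : p ^ 2 * (V.subgroupOf E).index = p ^ 2 * p := by rw [h1]; ring
    exact Nat.eq_of_mul_eq_mul_left (pow_pos hp'.pos 2) h3
  have hidxZ : (V.subgroupOf (ZZ S m)).index = p := by
    have h1 := Subgroup.card_mul_index (V.subgroupOf (ZZ S m))
    have h2 : Nat.card (V.subgroupOf (ZZ S m)) = Nat.card V :=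
      Nat.card_congr (Subgroup.subgroupOfEquivOfLe hVZ).toEquiv
    rw [h2, hcV, hcZ] at h1
    have h3 : p ^ 2 * (V.subgroupOf (ZZ S m)).index = p ^ 2 * p := by rw [h1]; ring
    exact Nat.eq_of_mul_eq_mul_left (pow_pos hp'.pos 2) h3
  haveI hnE : (V.subgroupOf E).Normal := ⟨fun n hn g => by
    have e : g * n * g⁻¹ = n := by
      apply Subtype.ext
      show (g : Ω) * n * (g : Ω)⁻¹ = n
      rw [hab g g.2 n n.2, mul_inv_cancel_right]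
    rw [e]
    exact hn⟩
  haveI hnZ : (V.subgroupOf (ZZ S m)).Normal := ⟨fun n hn g => by
    have e : g * n * g⁻¹ = n := by
      apply Subtype.ext
      show (g : Ω) * n * (g : Ω)⁻¹ = n
      rw [hZab g g.2 n n.2, mul_inv_cancel_right]
    rw [e]
    exact hn⟩
  have hdecE : ∀ {e : E}, (e : Ω) ∉ V → ∀ y : E, ∃ a : E, (a : Ω) ∈ V ∧ ∃ k : ℕ, y = a * e ^ k := by
    intro e he y
    obtain ⟨a, ha, k, hk⟩ := exists_decomp_of_index hidxE (y := e) he y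
    exact ⟨a, ha, k, hk⟩
  have hdecZ : ∀ {d : ZZ S m}, (d : Ω) ∉ V → ∀ y : ZZ S m, ∃ a : ZZ S m, (a : Ω) ∈ V ∧ ∃ k : ℕ, y = a * d ^ k := by
    intro e he y
    obtain ⟨a, ha, k, hk⟩ := exists_decomp_of_index hidxZ (y := e) he y
    exact ⟨a, ha, k, hk⟩
  -- the centre of the transvection
  obtain ⟨e₀, he₀, he₀V⟩ : ∃ e₀ ∈ E, e₀ ∉ V := by
    by_contra hcon
    push Not at hcon
    have h1 := Subgroup.card_le_of_le (show E ≤ V from hcon)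
    rw [hcE, hcV] at h1
    exact absurd (Nat.pow_le_pow_iff_right hp'.one_lt |>.1 h1) (by norm_num)
  set z : Ω := e₀⁻¹ * (t * e₀ * t⁻¹) with hz
  have hzE : z ∈ E := E.mul_mem (E.inv_mem he₀) (hENn e₀ he₀)
  have hzZ : z ∈ ZZ S m := by
    have h1 := hZn e₀⁻¹ (S.inv_mem (hES he₀)) t htZ
    have e : z = (e₀⁻¹ * t * e₀⁻¹⁻¹) * t⁻¹ := by rw [hz]; group
    rw [e]
    exact (ZZ S m).mul_mem h1 ((ZZ S m).inv_mem htZ)
  have htV : ∀ w ∈ V, t * w * t⁻¹ = w := by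
    intro w hw
    rw [hZab t htZ w (hVZ hw), mul_inv_cancel_right]
  have hze : t * e₀ * t⁻¹ = e₀ * z := by rw [hz]; group
  have hconj : ∀ {a : Ω}, a ∈ V → ∀ k : ℕ, t * (a * e₀ ^ k) * t⁻¹ = a * e₀ ^ k * z ^ k := by
    intro a ha k
    have e1 : t * (a * e₀ ^ k) * t⁻¹ = (t * a * t⁻¹) * (t * e₀ * t⁻¹) ^ k := by
      rw [conj_pow]
      group
    rw [e1, htV a ha, hze]
    have hcomm : Commute e₀ z := hab e₀ he₀ z hzE
    rw [hcomm.mul_pow, mul_assoc]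
  have hz1 : z ≠ 1 := by
    intro hz1
    apply htE
    refine hC ⟨htS, Subgroup.mem_centralizer_iff.2 fun y hy => ?_⟩
    obtain ⟨a, ha, k, hk⟩ := hdecE (e := ⟨e₀, he₀⟩) he₀V ⟨y, hy⟩
    have e : y = a * e₀ ^ k := congrArg Subtype.val hk
    have h1 := hconj ha k
    rw [hz1, one_pow, mul_one] at h1
    rw [e]
    have h2 : t * ((a : Ω) * e₀ ^ k) = ((a : Ω) * e₀ ^ k) * t := by
      calc t * ((a : Ω) * e₀ ^ k) = (t * ((a : Ω) * e₀ ^ k) * t⁻¹) * t := by group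
        _ = _ := by rw [h1]
    exact h2.symm
  have hzp : z ^ p = 1 := hexp z hzE
  have haz : t * z * t⁻¹ = z := by rw [hZab t htZ z hzZ, mul_inv_cancel_right]
  have htc : ∀ y ∈ E, y⁻¹ * (t * y * t⁻¹) ∈ Subgroup.zpowers z := by
    intro y hy
    obtain ⟨a, ha, k, hk⟩ := hdecE (e := ⟨e₀, he₀⟩) he₀V ⟨y, hy⟩
    have e : y = a * e₀ ^ k := congrArg Subtype.val hk
    rw [e, hconj ha k]
    refine ⟨k, ?_⟩
    simp only [zpow_natCast]
    group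
  have hoz : orderOf z = p := orderOf_eq_prime hzp hz1
  let D : Data₂ F E p t z := ⟨hS, hF, hE, hab, hidx, htS, htN, htE, hzE, hz1, hzp, haz, htc⟩
  obtain ⟨α, hαA, hα⟩ := D.exists_opp
  obtain ⟨hu, hv⟩ := D.pair_ne hαA hα
  have hz' : (α D.zV) ^ p = 1 := by rw [← map_pow, D.zV_pow, map_one]
  obtain ⟨δ, hδmem, hδz, hδz', hδfix, hδc, hdec⟩ :=
    exists_torus_full D.hV D.zV_pow hz' D.t_zV (D.conj_z α) D.t_stab (D.conj_stab α) hu hv
  have hδA : δ ∈ F.autGroup E := by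
    refine (Subgroup.closure_le _).2 ?_ hδmem
    rintro _ (rfl | h')
    · exact D.t_mem
    · rw [Set.mem_singleton_iff] at h'
      rw [h']
      exact (F.autGroup E).mul_mem ((F.autGroup E).mul_mem hαA D.t_mem) ((F.autGroup E).inv_mem hαA)
  obtain ⟨ψ, hψ, hψv⟩ := D.exists_extend hδA hδc
  -- the fixed points of `t`
  have hfixV : ∀ y : E, D.t y = y → (y : Ω) ∈ V := by
    intro y hy
    obtain ⟨a, ha, k, hk⟩ := hdecE (e := ⟨e₀, he₀⟩) he₀V y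
    have e : (y : Ω) = a * e₀ ^ k := congrArg Subtype.val hk
    have h1 : t * (y : Ω) * t⁻¹ = y := congrArg Subtype.val hy
    rw [e, hconj ha k] at h1
    have h2 : z ^ k = 1 := by
      have := mul_left_cancel (a := (a : Ω) * e₀ ^ k) (b := z ^ k) (c := 1) (by rw [h1, mul_one])
      exact this
    have h3 : p ∣ k := by
      rw [← hoz]
      exact orderOf_dvd_of_pow_eq_one h2
    obtain ⟨q, rfl⟩ := h3
    rw [e, pow_mul, hexp e₀ he₀, one_pow, mul_one]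
    exact ha
  have hfixV' : ∀ y : E, (y : Ω) ∈ V → D.t y = y := fun y hy => Subtype.ext (htV y hy)
  have hδV : ∀ y : E, (y : Ω) ∈ V → ((δ y : E) : Ω) ∈ V := by
    intro y hy
    apply hfixV
    rw [← hδc, hfixV' y hy]
  -- the image of the normalizer
  have hψN : ∀ g : ↥(S ⊓ Subgroup.normalizer (E : Set Ω)), ψ g ∈ S ⊓ Subgroup.normalizer (E : Set Ω) := by
    intro g
    refine ⟨map_mem_S hψ g, mem_normalizer_of_conj_mem fun x hx => ?_⟩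
    obtain ⟨y, hy⟩ := δ.surjective ⟨x, hx⟩
    have hg := (Subgroup.mem_normalizer_iff.1 g.2.2 y).1 y.2
    have e1 : g * (⟨y, D.le_R y.2⟩ : ↥(S ⊓ Subgroup.normalizer (E : Set Ω))) * g⁻¹ =
        ⟨(g : Ω) * y * (g : Ω)⁻¹, D.le_R hg⟩ := rfl
    have h1 := congrArg ψ e1
    rw [map_mul, map_mul, map_inv, hψv y, hψv (⟨_, hg⟩ : E), hy] at h1
    rw [h1]
    exact (δ _).2
  let tN : ↥(S ⊓ Subgroup.normalizer (E : Set Ω)) := ⟨t, htNN⟩
  obtain ⟨b, hb, k, hbk⟩ := hdecN _ (hψN tN)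
  -- the weight of `t`
  set v : E := α D.zV with hv_def
  set u₀ : E := v⁻¹ * D.t v with hu₀
  have hu₀z : u₀ ∈ Subgroup.zpowers D.zV := D.t_stab v
  have hu₀1 : u₀ ≠ 1 := hu
  have hDv : D.t v = v * u₀ := by rw [hu₀]; group
  have hu₀t : D.t u₀ = u₀ := by
    obtain ⟨j, hj⟩ := hu₀z
    rw [← hj, map_zpow, D.t_zV]
  have hδu₀ : δ u₀ = u₀⁻¹ := by
    obtain ⟨j, hj⟩ := hu₀z
    rw [← hj, map_zpow, hδz, inv_zpow]
  have hu₀p : u₀ ^ p = 1 := Subtype.ext (hexp u₀ u₀.2)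
  have hou₀ : orderOf u₀ = p := orderOf_eq_prime hu₀p hu₀1
  have hbt : ψ tN = b * t := by
    have hvN : (⟨v, D.le_R v.2⟩ : ↥(S ⊓ Subgroup.normalizer (E : Set Ω))) =
        ⟨v, D.le_R v.2⟩ := rfl
    have e1 : tN * (⟨v, D.le_R v.2⟩ : ↥(S ⊓ Subgroup.normalizer (E : Set Ω))) * tN⁻¹ =
        ⟨D.t v, D.le_R (D.t v).2⟩ := rfl
    have h1 := congrArg ψ e1
    rw [map_mul, map_mul, map_inv, hψv v, hψv (D.t v), hδz', hDv, map_mul, hδz', hδu₀] at h1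
    -- `ψ t` conjugates `v⁻¹` to `v⁻¹ u₀⁻¹`
    have h2 : ψ tN * ((v : Ω))⁻¹ * (ψ tN)⁻¹ = ((v : Ω))⁻¹ * ((u₀ : Ω))⁻¹ := h1
    have h3 : ψ tN * (v : Ω) * (ψ tN)⁻¹ = (v : Ω) * u₀ := by
      have h4 := congrArg (·⁻¹) h2
      simp only [mul_inv_rev, inv_inv] at h4
      rw [show ψ tN * (v : Ω) * (ψ tN)⁻¹ = ψ tN * v * (ψ tN)⁻¹ from rfl]
      have h5 : ψ tN * (v : Ω) * (ψ tN)⁻¹ = (u₀ : Ω) * v := by
        rw [← h4]
        group
      rw [h5]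
      exact hab u₀ u₀.2 v v.2
    have h6 : ((D.t ^ k) v : E) = v * u₀ ^ k :=
      Cfsg.Agent.Lib.Fusion.Chain.pow_apply_eq_mul_pow D.t hDv hu₀t k
    have h7 : t ^ k * (v : Ω) * (t ^ k)⁻¹ = (v : Ω) * (u₀ : Ω) ^ k := by
      have := normConj_pow_apply (P := E) D.haN k v
      rw [← this]
      have h8 := congrArg Subtype.val h6
      simpa using h8
    have h9 : t ^ k * (v : Ω) * (t ^ k)⁻¹ ∈ E := by
      rw [h7]
      exact mul_mem v.2 (pow_mem u₀.2 k)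
    have h10 : ψ tN * (v : Ω) * (ψ tN)⁻¹ = t ^ k * (v : Ω) * (t ^ k)⁻¹ := by
      rw [hbk]
      have e2 : b * t ^ k * (v : Ω) * (b * t ^ k)⁻¹ = b * (t ^ k * (v : Ω) * (t ^ k)⁻¹) * b⁻¹ := by group
      rw [e2, hab b hb _ h9, mul_inv_cancel_right]
    rw [h10, h7] at h3
    have h11 : (u₀ : Ω) ^ k = u₀ := mul_left_cancel h3
    have h12 : u₀ ^ k = u₀ ^ 1 := by
      rw [pow_one]
      exact Subtype.ext (by simpa using h11)
    have h13 := pow_eq_pow_iff_modEq.1 h12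
    rw [hou₀] at h13
    have h14 : t ^ k = t := by
      rw [pow_eq_pow_mod k htp, h13, ← pow_eq_pow_mod 1 htp, pow_one]
    rw [hbk, h14]
  -- the restriction to the third centre
  have hZle : ZZ S m ≤ S ⊓ Subgroup.normalizer (E : Set Ω) := le_inf hZS hZN
  have hU2' : ∀ c ∈ ZZ S m, c⁻¹ * (u⁻¹ * c * u) ∈ V := hU2
  let ψ₀ : ZZ S m →* Ω := ψ.comp (Subgroup.inclusion hZle)
  have hψ₀ : ψ₀ ∈ F.Hom (ZZ S m) := res_mem hψ hZle
  have hψ₀E : ∀ (w : ZZ S m) (hw : (w : Ω) ∈ E), ψ₀ w = δ ⟨w, hw⟩ := fun w hw => hψv ⟨w, hw⟩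
  have hψ₀V : ∀ w : ZZ S m, (w : Ω) ∈ V → ψ₀ w ∈ V := by
    intro w hw
    rw [hψ₀E w hw.1]
    exact hδV ⟨w, hw.1⟩ hw
  have hψ₀t : ψ₀ ⟨t, htZ⟩ = b * t := hbt
  have hbZ : b ∈ ZZ S m := by
    by_contra hbZ
    have hbV : b ∉ V := fun h => hbZ h.2
    set d := b⁻¹ * (u⁻¹ * b * u) with hd
    have hdZ : d ∈ ZZ S m := hU3 b hb
    have hbd : u⁻¹ * b * u = b * d := by rw [hd]; group
    have hdV : d ∉ V := by
      intro hdV
      have h1 : u⁻¹ ∈ Subgroup.normalizer (E : Set Ω) := by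
        refine mem_normalizer_of_conj_mem fun x hx => ?_
        obtain ⟨a, ha, k', hk'⟩ := hdecE (e := ⟨b, hb⟩) hbV ⟨x, hx⟩
        have e : x = a * b ^ k' := congrArg Subtype.val hk'
        have e2 : u⁻¹ * (a * b ^ k') * u = (u⁻¹ * a * u) * (u⁻¹ * b * u) ^ k' := by
          have h3 := conj_pow (a := u⁻¹) (b := b) (i := k')
          rw [inv_inv] at h3
          rw [h3]
          group
        rw [inv_inv, e, e2, hbd]
        have h4 := hU2' a (hVZ ha)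
        have e3 : u⁻¹ * (a : Ω) * u = a * ((a : Ω)⁻¹ * (u⁻¹ * a * u)) := by group
        rw [e3]
        exact E.mul_mem (E.mul_mem a.2 (hVE h4)) (E.pow_mem (E.mul_mem hb (hVE hdV)) k')
      exact huN (by simpa using (Subgroup.normalizer (E : Set Ω)).inv_mem h1)
    -- the power
    obtain ⟨a, ha, k₀, hk₀⟩ := hdecZ (d := ⟨d, hdZ⟩) hdV (⟨t, htZ⟩ : ZZ S m)⁻¹
    have hk₀' : t⁻¹ = a * d ^ k₀ := congrArg Subtype.val hk₀
    have hdk : d ^ k₀ ∈ ZZ S m := (ZZ S m).pow_mem hdZ k₀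
    have hw₀ : t * d ^ k₀ ∈ V := by
      have e : t * d ^ k₀ = (a : Ω)⁻¹ := by
        have e1 : (a : Ω) = t⁻¹ * (d ^ k₀)⁻¹ := by
          rw [hk₀']
          group
        rw [e1, mul_inv_rev, inv_inv, inv_inv]
        exact hZab t htZ _ hdk
      rw [e]
      exact V.inv_mem ha
    -- the map
    have hg₀ : (u ^ k₀)⁻¹ ∈ S := S.inv_mem (S.pow_mem huS k₀)
    have hψ₀S : ∀ x, ψ₀ x ∈ S := fun x => map_mem_S hψ₀ x
    let χ : ZZ S m →* Ω := (conjHom S (u ^ k₀)⁻¹).comp (ψ₀.codRestrict S hψ₀S)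
    have hχ : χ ∈ F.Hom (ZZ S m) := F.comp_mem hψ₀ (F.conj_mem le_rfl hg₀) hψ₀S
    have hχv : ∀ c, χ c = (u ^ k₀)⁻¹ * ψ₀ c * u ^ k₀ := by
      intro c
      show (u ^ k₀)⁻¹ * ψ₀ c * ((u ^ k₀)⁻¹)⁻¹ = _
      rw [inv_inv]
    have hχt : χ ⟨t, htZ⟩ ∈ E := by
      rw [hχv, hψ₀t]
      have h1 := conj_pow_b hVZ hU2' hdZ hbd k₀
      have h2 := conj_pow_mem hVZ hU2' k₀ t htZ
      set v₁ := (b * d ^ k₀)⁻¹ * ((u ^ k₀)⁻¹ * b * u ^ k₀) with hv₁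
      set v₂ := t⁻¹ * ((u ^ k₀)⁻¹ * t * u ^ k₀) with hv₂
      have e : (u ^ k₀)⁻¹ * (b * t) * u ^ k₀ = b * (d ^ k₀ * v₁ * (t * v₂)) := by
        rw [hv₁, hv₂]
        group
      have e2 : d ^ k₀ * v₁ * (t * v₂) = (t * d ^ k₀) * (v₁ * v₂) := by
        have c1 : d ^ k₀ * t = t * d ^ k₀ := hZab _ hdk t htZ
        have c2 : v₁ * t = t * v₁ := hZab _ (hVZ h1) t htZ
        calc d ^ k₀ * v₁ * (t * v₂) = d ^ k₀ * (v₁ * t) * v₂ := by group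
          _ = d ^ k₀ * (t * v₁) * v₂ := by rw [c2]
          _ = (d ^ k₀ * t) * (v₁ * v₂) := by group
          _ = _ := by rw [c1]
      rw [e, e2]
      exact E.mul_mem hb (hVE (V.mul_mem hw₀ (V.mul_mem h1 h2)))
    have hχE : ∀ c, χ c ∈ E := by
      intro c
      obtain ⟨w, hw, i, e⟩ := hZdec c c.2
      have hc : c = ⟨w, hVZ hw⟩ * (⟨t, htZ⟩ : ZZ S m) ^ i := Subtype.ext e
      rw [hc, map_mul, map_pow]
      refine E.mul_mem ?_ (E.pow_mem hχt i)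
      rw [hχv]
      have h1 := hψ₀V ⟨w, hVZ hw⟩ hw
      have h2 := conj_pow_mem hVZ hU2' k₀ _ (hVZ h1)
      have e2 : (u ^ k₀)⁻¹ * ψ₀ ⟨w, hVZ hw⟩ * u ^ k₀ = ψ₀ ⟨w, hVZ hw⟩ *
          ((ψ₀ ⟨w, hVZ hw⟩)⁻¹ * ((u ^ k₀)⁻¹ * ψ₀ ⟨w, hVZ hw⟩ * u ^ k₀)) := by group
      rw [e2]
      exact hVE (V.mul_mem h1 h2)
    have hrange : χ.range = E := range_eq_of_card hχ hχE (by rw [hcE, hcZ])
    have hconj' : F.IsConj (ZZ S m) E := ⟨χ, hχ, hrange⟩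
    have h1 := hE.2.1.2 (ZZ S m) (Cfsg.Agent.Lib.Fusion.Basic.IsConj.symm hconj')
    have h2 : normalizerIn S (ZZ S m) = S := by
      refine le_antisymm inf_le_left fun s hs => ⟨hs, mem_normalizer_of_conj_mem fun x hx => hZn s hs x hx⟩
    rw [h2] at h1
    have h3 : Nat.card ↥(normalizerIn S E) = p ^ 3 * p := hNcard
    rw [h3, h.card] at h1
    have h4 : p ^ (m + 4) ≤ p ^ 4 := by
      calc p ^ (m + 4) ≤ p ^ 3 * p := h1
        _ = p ^ 4 := by ring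
    have h5 := (Nat.pow_le_pow_iff_right hp'.one_lt).1 h4
    omega
  have hbV : b ∈ V := ⟨hb, hbZ⟩
  have hψ₀Z : ∀ c : ZZ S m, ψ₀ c ∈ ZZ S m := by
    intro c
    obtain ⟨w, hw, i, e⟩ := hZdec c c.2
    have hc : c = ⟨w, hVZ hw⟩ * (⟨t, htZ⟩ : ZZ S m) ^ i := Subtype.ext e
    rw [hc, map_mul, map_pow, hψ₀t]
    exact (ZZ S m).mul_mem (hVZ (hψ₀V _ hw)) ((ZZ S m).pow_mem ((ZZ S m).mul_mem hbZ htZ) i)
  let ψ₃ : MulAut (ZZ S m) := autOfHom ψ₀ (F.injective_of_mem hψ₀) hψ₀Z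
  have hψ₃ : ψ₃ ∈ F.autGroup (ZZ S m) := autOfHom_mem hψ₀ hψ₀Z
  have hψ₃v : ∀ c, ((ψ₃ c : ZZ S m) : Ω) = ψ₀ c := fun c => rfl
  refine ⟨e₀, he₀, hzZ, ψ₃, hψ₃, hz1, hzE, ?_, ?_, ?_⟩
  · apply Subtype.ext
    rw [hψ₃v, hψ₀E _ hzE]
    have h1 := congrArg Subtype.val hδz
    exact h1
  · intro c
    obtain ⟨w, hw, i, e⟩ := hZdec c c.2
    have hc : c = ⟨w, hVZ hw⟩ * (⟨t, htZ⟩ : ZZ S m) ^ i := Subtype.ext e
    have h1 : ((ψ₃ c : ZZ S m) : Ω) = ψ₀ ⟨w, hVZ hw⟩ * (b * t) ^ i := by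
      rw [hψ₃v, hc, map_mul, map_pow, hψ₀t]
    have hcomm : Commute b t := hZab b hbZ t htZ
    have h2 : ((c⁻¹ * ψ₃ c : ZZ S m) : Ω) = (t ^ i)⁻¹ * ((w⁻¹ * ψ₀ ⟨w, hVZ hw⟩ * b ^ i) * t ^ i) := by
      rw [Subgroup.coe_mul, h1, Subgroup.coe_inv, e, hcomm.mul_pow]
      group
    have h3 : w⁻¹ * ψ₀ ⟨w, hVZ hw⟩ * b ^ i ∈ V :=
      V.mul_mem (V.mul_mem (V.inv_mem hw) (hψ₀V _ hw)) (V.pow_mem hbV i)
    rw [h2, hZab _ (hVZ h3) _ ((ZZ S m).pow_mem htZ i), inv_mul_cancel_left]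
    exact hVE h3
  · intro c hc
    have hcV : (c : Ω) ∈ V := ⟨hc, c.2⟩
    have hty : D.t ⟨c, hc⟩ = ⟨c, hc⟩ := hfixV' _ hcV
    obtain ⟨r, s, c₀, e, h1, h2⟩ := hdec ⟨c, hc⟩
    have e' := axis_decomp D.hV D.zV_pow hz' D.t_zV D.t_stab hu hty e h1
    have hc₀V := hfixV c₀ h1
    refine ⟨r, ⟨c₀, hc₀V.2⟩, Subtype.ext ?_, Subtype.ext ?_, hc₀V.1⟩
    · have h3 := congrArg Subtype.val e'
      exact h3
    · rw [hψ₃v]
      have h3 : ψ₀ ⟨c₀, hc₀V.2⟩ = δ ⟨c₀, hc₀V.1⟩ := hψ₀E _ hc₀V.1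
      rw [h3]
      have h4 : δ c₀ = c₀ := hδfix c₀ h1 h2
      exact congrArg Subtype.val h4

end Main

end Cfsg.Agent.Lib.Fusion.MaxClassE6
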