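/-
Elementary abelian essential subgroups of order `p³` in `p`-groups of maximal class: the contradictions from the
torus element on the third centre.
-/
import Mathlib
import Cfsg.Agent.Lib.Fusion.MaxClassE6

set_option autoImplicit false
set_option linter.style.haveILetI false
set_option linter.unusedVariables false
set_option linter.unusedSectionVars false

namespace Cfsg.Agent.Lib.Fusion.MaxClassE7

open Cfsg Cfsg.FusionSystem Cfsg.Agent.Lib.Fusion.Basic Cfsg.Agent.Lib.Fusion.Saturated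
  Cfsg.Agent.Lib.Fusion.Saturated2 Cfsg.Agent.Lib.Fusion.Transvection
  Cfsg.Agent.Lib.Fusion.AbelianMax
  Cfsg.Agent.Lib.PGroup.MaxClass Cfsg.Agent.Lib.Fusion.MaxClassE5 Cfsg.Agent.Lib.Fusion.MaxClassE6
open scoped commutatorElement

variable {Ω : Type*} [Group Ω] {S : Subgroup Ω} [Finite S] {p : ℕ} [hp : Fact p.Prime]
  {F : FusionSystem S} {E : Subgroup Ω} {m : ℕ}

/-- Elements of the centre of `S` are powers of a nontrivial one. -/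
theorem mem_zpowers_Z₁ (h : MC ↥S p (m + 4)) {z c : Ω} (hz : z ∈ ZZ S (m + 2)) (hz1 : z ≠ 1) (hc : c ∈ ZZ S (m + 2)) :
    c ∈ Subgroup.zpowers z := by
  have hcard : Nat.card (ZZ S (m + 2)) = p := by
    rw [ZZ, Subgroup.card_map_of_injective S.subtype_injective, h.card_LL (by omega) (by omega)]
    rw [show m + 4 - 1 - (m + 2) = 1 by omega, pow_one]
  have h1 := mem_zpowers_of_prime_card (g := (⟨z, hz⟩ : ZZ S (m + 2))) (g' := ⟨c, hc⟩) hcard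
    (fun he => hz1 (congrArg Subtype.val he))
  obtain ⟨k, hk⟩ := h1
  exact ⟨k, by simpa using congrArg Subtype.val hk⟩

theorem ZZ_ab (h : MC ↥S p (m + 4)) (hm : 1 ≤ m) (a b : ZZ S m) : a * b = b * a := by
  obtain ⟨a, ⟨a', ha, rfl⟩⟩ := a
  obtain ⟨b, ⟨b', hb, rfl⟩⟩ := b
  apply Subtype.ext
  show S.subtype a' * S.subtype b' = S.subtype b' * S.subtype a'
  rw [← map_mul, ← map_mul, LL_ab h hm ha hb]

theorem ZZ_exp (h : MC ↥S p (m + 4)) (hm : 1 ≤ m) (hp5 : 5 ≤ p) (a : ZZ S m) : a ^ p = 1 := by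
  obtain ⟨a, ⟨a', ha, rfl⟩⟩ := a
  apply Subtype.ext
  show (S.subtype a') ^ p = 1
  rw [← map_pow, LL_exp h hm hp5 ha, map_one]

/-- The case in which the centre of the transvection is the centre of `S`. -/
theorem contra_center (hS : IsPGroup p S) (hF : F.IsSaturated p) (h : MC ↥S p (m + 4)) (hm : 1 ≤ m) (hp5 : 5 ≤ p)
    {z : ZZ S m} (hz1 : z ≠ 1) (hzE : (z : Ω) ∈ E) (hzc : (z : Ω) ∈ ZZ S (m + 2))
    (ψ₃ : MulAut (ZZ S m)) (hψ₃ : ψ₃ ∈ F.autGroup (ZZ S m)) (hψz : ψ₃ z = z⁻¹)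
    (hA : ∀ c : ZZ S m, ((c⁻¹ * ψ₃ c : ZZ S m) : Ω) ∈ E)
    (hC : ∀ c : ZZ S m, (c : Ω) ∈ E → ∃ (r : ℕ) (c₁ : ZZ S m), c = z ^ r * c₁ ∧ ψ₃ c₁ = c₁ ∧ (c₁ : Ω) ∈ E) :
    False := by
  have hp' : p.Prime := Fact.out
  have hz1' : (z : Ω) ≠ 1 := fun he => hz1 (Subtype.ext he)
  have hab := ZZ_ab h hm
  have hZ₁ : ∀ c : ZZ S m, (c : Ω) ∈ ZZ S (m + 2) → ∃ j : ℤ, z ^ j = c := by
    intro c hc
    obtain ⟨j, hj⟩ := mem_zpowers_Z₁ h hzc hz1' hc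
    exact ⟨j, Subtype.ext (by simpa using hj)⟩
  have hzp_mem : ∀ j : ℤ, ((z ^ j : ZZ S m) : Ω) ∈ ZZ S (m + 2) := by
    intro j
    simpa using (ZZ S (m + 2)).zpow_mem hzc j
  -- inversion on the centre
  have hinv : ∀ c : ZZ S m, (c : Ω) ∈ ZZ S (m + 2) → ψ₃ c = c⁻¹ := by
    intro c hc
    obtain ⟨j, rfl⟩ := hZ₁ c hc
    rw [map_zpow, hψz, inv_zpow]
  -- the commutators lie in the centre
  have hst : ∀ c : ZZ S m, (c : Ω) ∈ E → ((c⁻¹ * ψ₃ c : ZZ S m) : Ω) ∈ ZZ S (m + 2) := by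
    intro c hc
    obtain ⟨r, c₁, e, h1, -⟩ := hC c hc
    have e2 : c⁻¹ * ψ₃ c = ((z ^ r) ^ 2)⁻¹ := by
      have h2 : ψ₃ c = (z ^ r)⁻¹ * c₁ := by
        rw [e, map_mul, map_pow, hψz, h1, inv_pow]
      rw [h2, e, mul_inv_rev, hab (c₁⁻¹) _]
      have h3 : (z ^ r)⁻¹ * c₁⁻¹ * ((z ^ r)⁻¹ * c₁) = (z ^ r)⁻¹ * (z ^ r)⁻¹ * (c₁⁻¹ * c₁) := by
        rw [mul_assoc, mul_assoc, ← mul_assoc c₁⁻¹, hab c₁⁻¹, mul_assoc]
      rw [h3, inv_mul_cancel, mul_one, pow_two, mul_inv_rev]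
    rw [e2, Subgroup.coe_inv, Subgroup.coe_pow, Subgroup.coe_pow]
    exact (ZZ S (m + 2)).inv_mem ((ZZ S (m + 2)).pow_mem ((ZZ S (m + 2)).pow_mem hzc r) 2)
  -- the powers
  have hpow : ∀ (c : ZZ S m) (k : ℕ), ∃ f : ZZ S m, (f : Ω) ∈ ZZ S (m + 2) ∧
      (ψ₃ ^ k) c = c * (c⁻¹ * ψ₃ c) ^ k * f := by
    intro c k
    set d := c⁻¹ * ψ₃ c with hd
    induction k with
    | zero => exact ⟨1, Subgroup.one_mem _, by simp⟩
    | succ k ih =>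
      obtain ⟨f, hf, e⟩ := ih
      have hdE : (d : Ω) ∈ E := hA c
      have hg := hst d hdE
      set g := d⁻¹ * ψ₃ d with hg'
      refine ⟨g ^ k * f⁻¹, ?_, ?_⟩
      · rw [Subgroup.coe_mul, Subgroup.coe_pow, Subgroup.coe_inv]
        exact (ZZ S (m + 2)).mul_mem ((ZZ S (m + 2)).pow_mem hg k) ((ZZ S (m + 2)).inv_mem hf)
      · have h1 : ψ₃ c = c * d := by rw [hd]; group
        have h2 : ψ₃ d = d * g := by rw [hg']; group
        rw [pow_succ', MulAut.mul_apply, e, map_mul, map_mul, map_pow, h1, h2, hinv f hf,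
          (show Commute d g from hab d g).mul_pow, pow_succ']
        group
  -- `τ = ψ₃ ^ p`
  have hodd : ∃ q, p = 2 * q + 1 := by
    rcases hp'.eq_two_or_odd' with h2 | ⟨q, hq⟩
    · omega
    · exact ⟨q, hq⟩
  obtain ⟨q, hq⟩ := hodd
  have hτ : ψ₃ ^ p ∈ F.autGroup (ZZ S m) := Subgroup.pow_mem _ hψ₃ p
  have hst' : ∀ c : ZZ S m, ((c⁻¹ * (ψ₃ ^ p) c : ZZ S m) : Ω) ∈ ZZ S (m + 2) := by
    intro c
    obtain ⟨f, hf, e⟩ := hpow c p
    rw [e, ZZ_exp h hm hp5, mul_one, inv_mul_cancel_left]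
    exact hf
  have h12 : ZZ S (m + 2) ≤ ZZ S (m + 1) := ZZ_anti (by omega)
  refine contra₁ hS hF h hm (by omega) (ψ₃ ^ p) hτ (fun c => h12 (hst' c)) (fun c _ => hst' c) ?_
  intro c hc
  have h1 : ∀ q' : ℕ, (ψ₃ ^ (2 * q' + 1)) c = c⁻¹ := by
    intro q'
    induction q' with
    | zero => simpa using hinv c hc
    | succ q' ih =>
      have e : ψ₃ ^ (2 * (q' + 1) + 1) = ψ₃ * (ψ₃ * ψ₃ ^ (2 * q' + 1)) := by
        rw [show 2 * (q' + 1) + 1 = (2 * q' + 1) + 1 + 1 by ring, pow_succ', pow_succ']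
      rw [e, MulAut.mul_apply, MulAut.mul_apply, ih, hinv c⁻¹ (by
        rw [Subgroup.coe_inv]
        exact (ZZ S (m + 2)).inv_mem hc), inv_inv, hinv c hc]
  rw [hq]
  exact h1 q

/-- The automorphisms of the third centre trivial on the quotient by the second centre. -/
def Tz (S : Subgroup Ω) (m : ℕ) : Subgroup (MulAut (ZZ S m)) where
  carrier := {β | ∀ c : ZZ S m, ((c⁻¹ * β c : ZZ S m) : Ω) ∈ ZZ S (m + 1)}
  mul_mem' := by
    intro a b ha hb c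
    have e : c⁻¹ * (a * b) c = (c⁻¹ * b c) * ((b c)⁻¹ * a (b c)) := by
      show c⁻¹ * a (b c) = _
      group
    rw [e, Subgroup.coe_mul]
    exact mul_mem (hb c) (ha (b c))
  one_mem' := by
    intro c
    simp
  inv_mem' := by
    intro a ha c
    have e : c⁻¹ * a⁻¹ c = (((a⁻¹ c)⁻¹ * a (a⁻¹ c)))⁻¹ := by
      rw [MulAut.apply_inv_self]
      group
    rw [e, Subgroup.coe_inv]
    exact InvMemClass.inv_mem (ha _)

theorem Tz_Z₂ {β : MulAut (ZZ S m)} (hβ : β ∈ Tz S m) {c : ZZ S m} (hc : (c : Ω) ∈ ZZ S (m + 1)) :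
    ((β c : ZZ S m) : Ω) ∈ ZZ S (m + 1) := by
  have e : β c = c * (c⁻¹ * β c) := by group
  rw [e, Subgroup.coe_mul]
  exact mul_mem hc (hβ c)

theorem zpow_of_Z₁ (h : MC ↥S p (m + 4)) {z c : ZZ S m} (hz : (z : Ω) ∈ ZZ S (m + 2)) (hz1 : z ≠ 1)
    (hc : (c : Ω) ∈ ZZ S (m + 2)) : c ∈ Subgroup.zpowers z := by
  obtain ⟨j, hj⟩ := mem_zpowers_Z₁ h hz (fun he => hz1 (Subtype.ext he)) hc
  exact ⟨j, Subtype.ext (by simpa using hj)⟩

/-- Decomposition of the second centre. -/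
theorem decomp_of_line (h : MC ↥S p (m + 4)) (hm : 1 ≤ m) (hp5 : 5 ≤ p) {u y c : ZZ S m}
    (hu : (u : Ω) ∈ ZZ S (m + 1)) (hu1 : u ≠ 1) (hy : (y : Ω) ∈ ZZ S (m + 1))
    (hyu : y ∉ Subgroup.zpowers u) (hc : (c : Ω) ∈ ZZ S (m + 1)) : ∃ i k : ℕ, c = u ^ i * y ^ k := by
  classical
  have hp' : p.Prime := Fact.out
  haveI : Finite (ZZ S (m + 1)) := finite_of_le (ZZ_le _)
  have hcard : Nat.card (ZZ S (m + 1)) = p ^ 2 := by
    rw [ZZ, Subgroup.card_map_of_injective S.subtype_injective, h.card_LL (by omega) (by omega)]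
    congr 1
    omega
  let u₂ : ZZ S (m + 1) := ⟨u, hu⟩
  let y₂ : ZZ S (m + 1) := ⟨y, hy⟩
  have hu₂1 : u₂ ≠ 1 := fun he => hu1 (Subtype.ext (congrArg (fun q : ZZ S (m + 1) => (q : Ω)) he))
  have hu₂p : u₂ ^ p = 1 := by
    apply Subtype.ext
    have h0 := congrArg (fun q : ZZ S m => (q : Ω)) (ZZ_exp h hm hp5 u)
    simpa [u₂] using h0
  have ho : orderOf u₂ = p := orderOf_eq_prime hu₂p hu₂1
  have hcA : Nat.card (Subgroup.zpowers u₂) = p := by rw [Nat.card_zpowers, ho]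
  have hidx : (Subgroup.zpowers u₂).index = p := by
    have h1 := Subgroup.card_mul_index (Subgroup.zpowers u₂)
    rw [hcA, hcard, pow_two] at h1
    exact Nat.eq_of_mul_eq_mul_left hp'.pos h1
  have hab2 : ∀ a b : ZZ S (m + 1), a * b = b * a := by
    intro a b
    have h1 := ZZ_ab h hm ⟨a, ZZ_anti (Nat.le_succ m) a.2⟩ ⟨b, ZZ_anti (Nat.le_succ m) b.2⟩
    apply Subtype.ext
    have h0 := congrArg (fun q : ZZ S m => (q : Ω)) h1
    simpa using h0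
  haveI : (Subgroup.zpowers u₂).Normal := ⟨fun n hn g => by rw [hab2 g n, mul_inv_cancel_right]; exact hn⟩
  have hy₂ : y₂ ∉ Subgroup.zpowers u₂ := by
    rintro ⟨j, hj⟩
    apply hyu
    refine ⟨j, Subtype.ext ?_⟩
    have := congrArg Subtype.val hj
    simpa [u₂, y₂] using this
  obtain ⟨a, ha, k, hk⟩ := exists_decomp_of_index hidx hy₂ ⟨c, hc⟩
  rw [← mem_powers_iff_mem_zpowers] at ha
  obtain ⟨i, rfl⟩ := ha
  refine ⟨i, k, Subtype.ext ?_⟩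
  have := congrArg Subtype.val hk
  simpa [u₂, y₂] using this

/-- The case in which the centre of the transvection is not the centre of `S`. -/
theorem contra_not_center (hS : IsPGroup p S) (hF : F.IsSaturated p) (h : MC ↥S p (m + 4)) (hm : 1 ≤ m) (hp5 : 5 ≤ p)
    {z : ZZ S m} (hz1 : z ≠ 1) (hzE : (z : Ω) ∈ E) (hzc : (z : Ω) ∉ ZZ S (m + 2))
    (hV2 : ∀ c : ZZ S m, (c : Ω) ∈ E → (c : Ω) ∈ ZZ S (m + 1)) (hZ2E : ZZ S (m + 1) ≤ E)
    (hne : K ↥S m ≠ K ↥S (m + 1))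
    (ψ₃ : MulAut (ZZ S m)) (hψ₃ : ψ₃ ∈ F.autGroup (ZZ S m)) (hψz : ψ₃ z = z⁻¹)
    (hA : ∀ c : ZZ S m, ((c⁻¹ * ψ₃ c : ZZ S m) : Ω) ∈ E)
    (hC : ∀ c : ZZ S m, (c : Ω) ∈ E → ∃ (r : ℕ) (c₁ : ZZ S m), c = z ^ r * c₁ ∧ ψ₃ c₁ = c₁ ∧ (c₁ : Ω) ∈ E) :
    False := by
  classical
  have hp' : p.Prime := Fact.out
  have hab := ZZ_ab h hm
  have hexp := ZZ_exp h hm hp5
  have hψT : ψ₃ ∈ Tz S m := fun c => hV2 _ (hA c)
  have hz2 : (z : Ω) ∈ ZZ S (m + 1) := hV2 z hzE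
  have h12 : ZZ S (m + 2) ≤ ZZ S (m + 1) := ZZ_anti (by omega)
  have h23 : ZZ S (m + 1) ≤ ZZ S m := ZZ_anti (by omega)
  -- squares
  have hodd1 : ∀ x : ZZ S m, x ^ 2 = 1 → x = 1 := by
    intro x hx
    have h1 := orderOf_dvd_of_pow_eq_one hx
    have h2 := orderOf_dvd_of_pow_eq_one (hexp x)
    have h3 : Nat.Coprime 2 p := (Nat.coprime_primes Nat.prime_two hp').2 (by omega)
    have h4 := Nat.dvd_gcd h1 h2
    rw [h3, Nat.dvd_one] at h4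
    exact orderOf_eq_one_iff.1 h4
  -- a generator of the centre
  obtain ⟨z₁, hz₁, hz₁1⟩ : ∃ z₁ : ZZ S m, (z₁ : Ω) ∈ ZZ S (m + 2) ∧ z₁ ≠ 1 := by
    have h1 : LL ↥S (m + 2) ≠ ⊥ := h.LL_ne_bot (by omega)
    obtain ⟨⟨a, ha⟩, ha1⟩ := (Subgroup.ne_bot_iff_exists_ne_one).1 h1
    have ha' : ((a : S) : Ω) ∈ ZZ S (m + 2) := coe_mem_ZZ.2 ha
    refine ⟨⟨a, h23 (h12 ha')⟩, ha', fun he => ha1 ?_⟩
    apply Subtype.ext
    apply Subtype.ext
    exact congrArg (fun q : ZZ S m => (q : Ω)) he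
  have hz₁E : (z₁ : Ω) ∈ E := hZ2E (h12 hz₁)
  obtain ⟨r, c₁, e₁, hc₁, hc₁E⟩ := hC z₁ hz₁E
  have hc₁2 : (c₁ : Ω) ∈ ZZ S (m + 1) := hV2 c₁ hc₁E
  have hzpow : ∀ r : ℕ, z ^ r ≠ 1 → (z ^ r : ZZ S m).1 ∈ ZZ S (m + 2) → False := by
    intro r hr hm2
    obtain ⟨k, hk⟩ := exists_pow_eq_of_mem_zpowers (hexp z) (Subgroup.npow_mem_zpowers z r) hr
      (Subgroup.mem_zpowers z)
    apply hzc
    rw [← hk, Subgroup.coe_pow]
    exact (ZZ S (m + 2)).pow_mem hm2 k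
  have hc₁1 : c₁ ≠ 1 := by
    intro he
    rw [he, mul_one] at e₁
    refine hzpow r ?_ ?_
    · rw [← e₁]
      exact hz₁1
    · rw [← e₁]
      exact hz₁
  -- the fixed points
  have hpowfix : ∀ i : ℕ, ψ₃ (c₁ ^ i) = c₁ ^ i := by
    intro i
    rw [map_pow, hc₁]
  have hzc₁ : z ∉ Subgroup.zpowers c₁ := by
    rintro ⟨j, rfl⟩
    have h1 : ψ₃ (c₁ ^ j) = c₁ ^ j := by rw [map_zpow, hc₁]
    rw [h1] at hψz
    have h2 : (c₁ ^ j) ^ 2 = 1 := by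
      rw [pow_two]
      nth_rewrite 1 [hψz]
      exact inv_mul_cancel _
    exact hz1 (hodd1 _ h2)
  have hfix : ∀ c : ZZ S m, (c : Ω) ∈ ZZ S (m + 1) → ψ₃ c = c → ∃ i : ℕ, c = c₁ ^ i := by
    intro c hc hfc
    obtain ⟨i, k, e⟩ := decomp_of_line h hm hp5 hc₁2 hc₁1 hz2 hzc₁ hc
    refine ⟨i, ?_⟩
    have h1 : ψ₃ c = c₁ ^ i * (z ^ k)⁻¹ := by
      rw [e, map_mul, map_pow, map_pow, hc₁, hψz, inv_pow]
    rw [hfc, e] at h1
    have h2 := mul_left_cancel h1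
    have h3 : (z ^ k) ^ 2 = 1 := by
      rw [pow_two]
      nth_rewrite 1 [h2]
      exact inv_mul_cancel _
    rw [e, hodd1 _ h3, mul_one]
  -- the element `σ`
  have hZn : ∀ g ∈ S, g ∈ Subgroup.normalizer ((ZZ S m : Subgroup Ω) : Set Ω) := by
    intro g hg
    haveI : Finite (ZZ S m) := finite_of_le (ZZ_le _)
    refine mem_normalizer_of_conj_mem fun x hx => ?_
    have e : g * x * g⁻¹ = x * (x⁻¹ * (g * x * g⁻¹)) := by group
    rw [e]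
    exact mul_mem hx (h23 (ZZ_comm hx hg))
  obtain ⟨σ, hσA, hσT, hσc⟩ : ∃ σ ∈ F.autGroup (ZZ S m), σ ∈ Tz S m ∧ ((σ c₁ : ZZ S m) : Ω) ∈ ZZ S (m + 2) := by
    have hy2 : ψ₃ z₁ = (z ^ r)⁻¹ * c₁ := by
      rw [e₁, map_mul, map_pow, hψz, hc₁, inv_pow]
    by_cases hy : ((ψ₃ z₁ : ZZ S m) : Ω) ∈ ZZ S (m + 2)
    · refine ⟨1, Subgroup.one_mem _, Subgroup.one_mem _, ?_⟩
      have e2 : z₁ * ψ₃ z₁ = c₁ ^ 2 := by
        rw [hy2, e₁, pow_two, hab (z ^ r) c₁, mul_assoc, ← mul_assoc (z ^ r), mul_inv_cancel, one_mul]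
      have h1 : ((c₁ ^ 2 : ZZ S m) : Ω) ∈ ZZ S (m + 2) := by
        rw [← e2, Subgroup.coe_mul]
        exact mul_mem hz₁ hy
      obtain ⟨q, hq⟩ : ∃ q, p = 2 * q + 1 := by
        rcases hp'.eq_two_or_odd' with h2 | ⟨q, hq⟩
        · omega
        · exact ⟨q, hq⟩
      have e3 : c₁ = (c₁ ^ 2) ^ (q + 1) := by
        rw [← pow_mul, show 2 * (q + 1) = p + 1 by omega, pow_succ, hexp, one_mul]
      show ((c₁ : ZZ S m) : Ω) ∈ _
      rw [e3, Subgroup.coe_pow]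
      exact (ZZ S (m + 2)).pow_mem h1 _
    · -- `c₁` is not central
      have hc₁n : (c₁ : Ω) ∉ ZZ S (m + 2) := by
        intro hcn
        have h1 : ((z ^ r : ZZ S m) : Ω) ∈ ZZ S (m + 2) := by
          have e2 : z ^ r = z₁ * c₁⁻¹ := by rw [e₁]; group
          rw [e2, Subgroup.coe_mul, Subgroup.coe_inv]
          exact mul_mem hz₁ (InvMemClass.inv_mem hcn)
        by_cases hr1 : z ^ r = 1
        · rw [hr1, one_mul] at e₁
          apply hy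
          rw [e₁, hc₁]
          exact hcn
        · exact hzpow r hr1 h1
      -- an element moving `c₁`
      have hct : (⟨c₁, ZZ_le _ c₁.2⟩ : S) ∈ LL ↥S (m + 1) := coe_mem_ZZ.1 hc₁2
      have hct' : (⟨c₁, ZZ_le _ c₁.2⟩ : S) ∉ LL ↥S (m + 2) := fun he => hc₁n (coe_mem_ZZ.2 he)
      obtain ⟨s, hs⟩ := h.exists_comm_of_level (i := m + 1) (by omega) (by omega) hct hct'
      have hxS : (s : Ω) ∈ S := s.2
      let C : MulAut (ZZ S m) := normConj (s : Ω) (hZn s hxS)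
      have hCA : C ∈ F.autGroup (ZZ S m) :=
        autInducedBy_le_autGroup (ZZ_le m) (normConj_mem_autInducedBy hxS (hZn s hxS))
      have hCT : C ∈ Tz S m := fun c => ZZ_comm c.2 hxS
      let d : ZZ S m := c₁⁻¹ * C c₁
      have hd : (d : Ω) ∈ ZZ S (m + 2) := ZZ_comm hc₁2 hxS
      have hd1 : d ≠ 1 := by
        intro hd1
        apply hs
        have h1 : (s : Ω) * c₁ * (s : Ω)⁻¹ = c₁ := by
          have h2 : C c₁ = c₁ := (inv_mul_eq_one.1 hd1).symm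
          exact congrArg Subtype.val h2
        have h3 : (⟨c₁, ZZ_le _ c₁.2⟩ : S) * s = s * ⟨c₁, ZZ_le _ c₁.2⟩ := by
          apply Subtype.ext
          show (c₁ : Ω) * s = s * c₁
          calc (c₁ : Ω) * s = ((s : Ω) * c₁ * (s : Ω)⁻¹) * s := by rw [h1]
            _ = _ := by group
        rw [commutatorElement_eq_one_iff_mul_comm.2 h3]
        exact Subgroup.one_mem _
      have hCc : C c₁ = c₁ * d := by
        simp only [d]
        group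
      have hCd : C d = d := by
        apply Subtype.ext
        exact ZZ_last h hd hxS
      have hy' : ψ₃ z₁ ∉ Subgroup.zpowers z₁ := by
        rintro ⟨j, hj⟩
        apply hy
        rw [← hj, Subgroup.coe_zpow]
        exact (ZZ S (m + 2)).zpow_mem hz₁ j
      have hy₂ : ((ψ₃ z₁ : ZZ S m) : Ω) ∈ ZZ S (m + 1) := Tz_Z₂ hψT (h12 hz₁)
      obtain ⟨i, k, e⟩ := decomp_of_line h hm hp5 (h12 hz₁) hz₁1 hy₂ hy' hc₁2
      have hai : ((z₁ ^ i)⁻¹ : ZZ S m) ∈ Subgroup.zpowers d := by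
        apply zpow_of_Z₁ h hd hd1
        rw [Subgroup.coe_inv, Subgroup.coe_pow]
        exact (ZZ S (m + 2)).inv_mem ((ZZ S (m + 2)).pow_mem hz₁ i)
      obtain ⟨j, hj⟩ := exists_pow_eq_of_mem_zpowers (hexp d) (Subgroup.mem_zpowers d) hd1 hai
      have hCj : (C ^ j) c₁ = ψ₃ z₁ ^ k := by
        rw [Cfsg.Agent.Lib.Fusion.Chain.pow_apply_eq_mul_pow C hCc hCd j, hj, e]
        rw [hab (z₁ ^ i), mul_assoc, mul_inv_cancel, mul_one]
      refine ⟨ψ₃⁻¹ * C ^ j, (F.autGroup _).mul_mem ((F.autGroup _).inv_mem hψ₃) ((F.autGroup _).pow_mem hCA j),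
        (Tz S m).mul_mem ((Tz S m).inv_mem hψT) ((Tz S m).pow_mem hCT j), ?_⟩
      show ((ψ₃⁻¹ ((C ^ j) c₁) : ZZ S m) : Ω) ∈ _
      rw [hCj, ← map_pow, MulAut.inv_apply_self, Subgroup.coe_pow]
      exact (ZZ S (m + 2)).pow_mem hz₁ k
  -- the conjugate
  let τ : MulAut (ZZ S m) := σ * ψ₃ * σ⁻¹
  have hτA : τ ∈ F.autGroup (ZZ S m) :=
    (F.autGroup _).mul_mem ((F.autGroup _).mul_mem hσA hψ₃) ((F.autGroup _).inv_mem hσA)
  have hτT : τ ∈ Tz S m := (Tz S m).mul_mem ((Tz S m).mul_mem hσT hψT) ((Tz S m).inv_mem hσT)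
  have hτv : ∀ c, τ c = σ (ψ₃ (σ⁻¹ c)) := fun c => rfl
  have hs₁1 : σ c₁ ≠ 1 := by
    intro he
    apply hc₁1
    have := congrArg σ⁻¹ he
    simpa using this
  have hτs : τ (σ c₁) = σ c₁ := by
    rw [hτv, MulAut.inv_apply_self, hc₁]
  refine contra₂ hS hF h hm (by omega) τ hτA hne hτT ?_ ?_
  · intro c hc
    have hg : ((σ⁻¹ c : ZZ S m) : Ω) ∈ ZZ S (m + 1) := Tz_Z₂ ((Tz S m).inv_mem hσT) hc
    obtain ⟨r', c₂, e₂, hc₂, hc₂E⟩ := hC _ (hZ2E hg)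
    obtain ⟨i, hi⟩ := hfix c₂ (hV2 c₂ hc₂E) hc₂
    have h1 : c * τ c = σ (c₂ * c₂) := by
      have h2 : σ⁻¹ c * ψ₃ (σ⁻¹ c) = c₂ * c₂ := by
        rw [e₂, map_mul, map_pow, hψz, hc₂, inv_pow, hab (z ^ r') c₂, mul_assoc, ← mul_assoc (z ^ r'),
          mul_inv_cancel, one_mul]
      rw [← h2, map_mul, MulAut.apply_inv_self, hτv]
    rw [h1, map_mul, hi, map_pow, Subgroup.coe_mul, Subgroup.coe_pow]
    exact mul_mem ((ZZ S (m + 2)).pow_mem hσc i) ((ZZ S (m + 2)).pow_mem hσc i)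
  · intro c hc
    obtain ⟨j, rfl⟩ := zpow_of_Z₁ h hσc hs₁1 hc
    show τ (σ c₁ ^ j) = σ c₁ ^ j
    rw [map_zpow, hτs]

end Cfsg.Agent.Lib.Fusion.MaxClassE7
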