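/-
`p`-groups of maximal class of order at least `p⁵`, `p ≥ 5`: no elementary abelian essential subgroup of order `p³`.
-/
import Mathlib
import Cfsg.Agent.Lib.Fusion.MaxClassE7

set_option autoImplicit false
set_option linter.style.haveILetI false
set_option linter.unusedVariables false
set_option linter.unusedSectionVars false

namespace Cfsg.Agent.Lib.Fusion.MaxClassE8

open Cfsg Cfsg.FusionSystem Cfsg.Agent.Lib.Fusion.Basic Cfsg.Agent.Lib.Fusion.Saturated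
  Cfsg.Agent.Lib.Fusion.Saturated2 Cfsg.Agent.Lib.Fusion.Transvection
  Cfsg.Agent.Lib.Fusion.AbelianMax Cfsg.Agent.Lib.Fusion.MaxClassE3
  Cfsg.Agent.Lib.PGroup.MaxClass Cfsg.Agent.Lib.PGroup.MaxClass.MC
  Cfsg.Agent.Lib.Fusion.MaxClassE5 Cfsg.Agent.Lib.Fusion.MaxClassE6
  Cfsg.Agent.Lib.Fusion.MaxClassE7 Cfsg.Agent.Lib.Fusion.MaxClassE2
open scoped commutatorElement

section Pure

variable {G : Type*} [Group G] {p : ℕ} [hp : Fact p.Prime]

/-- A group generated by two commuting elements of order `p` has order at most `p²`. -/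
theorem card_closure_pair_le {x a : G} (hc : x * a = a * x) (hx : x ^ p = 1) (ha : a ^ p = 1) :
    Nat.card (Subgroup.closure ({x, a} : Set G)) ≤ p ^ 2 := by
  classical
  have hp' : p.Prime := Fact.out
  haveI : NeZero p := ⟨hp'.ne_zero⟩
  have hcomm : Commute x a := hc
  have key : ∀ g ∈ Subgroup.closure ({x, a} : Set G), ∃ i j : ℕ, g = x ^ i * a ^ j := by
    intro g hg
    induction hg using Subgroup.closure_induction with
    | mem y hy =>
      rcases hy with rfl | hy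
      · exact ⟨1, 0, by simp⟩
      · rw [Set.mem_singleton_iff] at hy
        subst hy
        exact ⟨0, 1, by simp⟩
    | one => exact ⟨0, 0, by simp⟩
    | mul u v _ _ hu hv =>
      obtain ⟨i, j, rfl⟩ := hu
      obtain ⟨k, l, rfl⟩ := hv
      refine ⟨i + k, j + l, ?_⟩
      have h1 : a ^ j * x ^ k = x ^ k * a ^ j := (hcomm.pow_pow k j).symm.eq
      calc x ^ i * a ^ j * (x ^ k * a ^ l) = x ^ i * (a ^ j * x ^ k) * a ^ l := by group
        _ = x ^ i * (x ^ k * a ^ j) * a ^ l := by rw [h1]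
        _ = _ := by rw [pow_add, pow_add]; group
    | inv u _ hu =>
      obtain ⟨i, j, rfl⟩ := hu
      refine ⟨(p - 1) * i, (p - 1) * j, ?_⟩
      have hx' : (x ^ i)⁻¹ = x ^ ((p - 1) * i) := by
        apply inv_eq_of_mul_eq_one_left
        have hp1 := hp'.pos
        have h2 : (p - 1) * i + i = p * i := by
          rw [← Nat.succ_mul]
          congr 1
          omega
        rw [← pow_add, h2, pow_mul, hx, one_pow]
      have ha' : (a ^ j)⁻¹ = a ^ ((p - 1) * j) := by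
        apply inv_eq_of_mul_eq_one_left
        have hp1 := hp'.pos
        have h2 : (p - 1) * j + j = p * j := by
          rw [← Nat.succ_mul]
          congr 1
          omega
        rw [← pow_add, h2, pow_mul, ha, one_pow]
      rw [mul_inv_rev, ← hx', ← ha']
      exact ((hcomm.pow_pow i j).symm.inv_inv).eq
  let f : Fin p × Fin p → Subgroup.closure ({x, a} : Set G) := fun q =>
    ⟨x ^ q.1.1 * a ^ q.2.1, mul_mem (pow_mem (Subgroup.subset_closure (by simp)) _)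
      (pow_mem (Subgroup.subset_closure (by simp)) _)⟩
  have hf : Function.Surjective f := by
    rintro ⟨g, hg⟩
    obtain ⟨i, j, rfl⟩ := key g hg
    refine ⟨(⟨i % p, Nat.mod_lt _ hp'.pos⟩, ⟨j % p, Nat.mod_lt _ hp'.pos⟩), Subtype.ext ?_⟩
    show x ^ (i % p) * a ^ (j % p) = x ^ i * a ^ j
    rw [← pow_eq_pow_mod i hx, ← pow_eq_pow_mod j ha]
  have h1 := Nat.card_le_card_of_surjective f hf
  rw [Nat.card_prod, Nat.card_eq_fintype_card (α := Fin p), Fintype.card_fin] at h1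
  calc _ ≤ p * p := h1
    _ = p ^ 2 := by ring

end Pure

section Uniform

variable {X : Type*} [Group X] [Finite X] {p : ℕ} [hp : Fact p.Prime] {m : ℕ}

/-- An abelian subgroup containing a uniform element of order `p` has order at most `p²`. -/
theorem card_le_of_uniform (h : MC X p (m + 4)) {A : Subgroup X} {x : X} (hxA : x ∈ A)
    (hx1 : x ∉ LL X 1) (hunif : ∀ j, 1 ≤ j → j ≤ m + 1 → x ∉ K X j) (hcomm : ∀ g ∈ A, x * g = g * x)
    (hxp : x ^ p = 1) (hZp : ∀ z ∈ LL X (m + 2), z ^ p = 1) : Nat.card A ≤ p ^ 2 := by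
  classical
  have hp' : p.Prime := Fact.out
  obtain ⟨t, ht⟩ := h.exists_comm hx1
  have hG : IsGen X 1 ⁅x, t⁆ := ⟨le_rfl, comm_top_mem_LL (Subgroup.mem_top x) t, ht⟩
  let f : X →* Multiplicative (ZMod p) :=
    MonoidHom.mk' (fun g => Multiplicative.ofAdd (eps p ⁅x, t⁆ 1 ⁅x, g⁆))
      (fun g g' => by
        rw [h.comm_add_right (k := 0) hG (Subgroup.mem_top x)]
        rfl)
  have hker : ∀ g, eps p ⁅x, t⁆ 1 ⁅x, g⁆ = 0 → g ∈ f.ker := by
    intro g hg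
    show Multiplicative.ofAdd (eps p ⁅x, t⁆ 1 ⁅x, g⁆) = 1
    rw [hg]
    rfl
  have hlt : f.ker < ⊤ := by
    rw [lt_top_iff_ne_top]
    intro he
    have h1 : t ∈ f.ker := by rw [he]; exact Subgroup.mem_top t
    have h2 : eps p ⁅x, t⁆ 1 ⁅x, t⁆ = 0 := by
      have h3 : Multiplicative.ofAdd (eps p ⁅x, t⁆ 1 ⁅x, t⁆) = 1 := h1
      exact Multiplicative.ofAdd.injective h3
    rw [h.eps_self hG] at h2
    exact one_ne_zero h2
  have hL1 : LL X 1 ≤ f.ker := fun g hg => hker g (h.eps_of_mem hG (by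
    have := comm_mem_LL (i := 0) (Subgroup.mem_top x) hg
    exact this))
  have hxk : x ∈ f.ker := hker x (by rw [commutatorElement_self]; exact h.eps_one hG)
  have hAk : A ≤ f.ker := fun g hg => hker g (by
    have : ⁅x, g⁆ = 1 := commutatorElement_eq_one_iff_mul_comm.2 (hcomm g hg)
    rw [this]
    exact h.eps_one hG)
  have hBlt : LL X 1 < LL X 1 ⊔ Subgroup.zpowers x := by
    refine lt_of_le_of_ne le_sup_left fun he => hx1 ?_
    rw [he]
    exact (le_sup_right : Subgroup.zpowers x ≤ _) (Subgroup.mem_zpowers x)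
  have hBle : LL X 1 ⊔ Subgroup.zpowers x ≤ f.ker := sup_le hL1 (Subgroup.zpowers_le.2 hxk)
  have hBe : LL X 1 ⊔ Subgroup.zpowers x = f.ker := by
    have c1 := Cfsg.Agent.Lib.PGroup.HuppertA.card_mul_prime_le_of_lt h.isP hlt
    have c2 := Cfsg.Agent.Lib.PGroup.HuppertA.card_mul_prime_le_of_lt h.isP hBlt
    rw [Subgroup.card_top, h.card_top_eq, pow_two, ← mul_assoc] at c1
    have c3 := Nat.le_of_mul_le_mul_right c1 hp'.pos
    exact Subgroup.eq_of_le_of_card_ge hBle (c3.trans c2)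
  have hbot : LL X (m + 3) = ⊥ := h.LL_eq_bot (by omega)
  -- a generator of the centre
  have hne : LL X (m + 2) ≠ ⊥ := h.LL_ne_bot (by omega)
  obtain ⟨⟨z₁, hz₁⟩, hz₁1⟩ := (Subgroup.ne_bot_iff_exists_ne_one).1 hne
  have hz₁1' : z₁ ≠ 1 := fun he => hz₁1 (Subtype.ext he)
  have hcard2 : Nat.card (LL X (m + 2)) = p := by
    rw [h.card_LL (by omega) (by omega), show m + 4 - 1 - (m + 2) = 1 by omega, pow_one]
  have hxz : x * z₁ = z₁ * x := by
    have h1 : ⁅z₁, x⁆ ∈ LL X (m + 2 + 1) := comm_top_mem_LL hz₁ x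
    rw [show m + 2 + 1 = m + 3 by omega, hbot, Subgroup.mem_bot, commutatorElement_eq_one_iff_mul_comm] at h1
    exact h1.symm
  have hsub : A ≤ Subgroup.closure ({x, z₁} : Set X) := by
    intro g hg
    have hg' : g ∈ LL X 1 ⊔ Subgroup.zpowers x := by rw [hBe]; exact hAk hg
    have hg'' : g ∈ ((LL X 1 ⊔ Subgroup.zpowers x : Subgroup X) : Set X) := hg'
    rw [Subgroup.normal_mul] at hg''
    obtain ⟨l, hl, y, hy, rfl⟩ := Set.mem_mul.1 hg''
    have hxcl : x ∈ Subgroup.closure ({x, z₁} : Set X) := Subgroup.subset_closure (by simp)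
    have hzcl : z₁ ∈ Subgroup.closure ({x, z₁} : Set X) := Subgroup.subset_closure (by simp)
    have hyA : y ∈ A := (Subgroup.zpowers_le.2 hxA) hy
    have hlA : l ∈ A := by
      have e : l = l * y * y⁻¹ := by group
      rw [e]
      exact mul_mem hg (inv_mem hyA)
    have hlev : ∀ i, 1 ≤ i → i ≤ m + 2 → l ∈ LL X i := by
      intro i hi
      induction i, hi using Nat.le_induction with
      | base => intro _; exact hl
      | succ i hi ih =>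
        intro hle
        by_contra hni
        apply hunif i hi (by omega)
        refine h.mem_K_of_comm_mem hi (ih (by omega)) hni ?_
        have : ⁅l, x⁆ = 1 := commutatorElement_eq_one_iff_mul_comm.2 (hcomm l hlA).symm
        rw [this]
        exact Subgroup.one_mem _
    have hl2 := hlev (m + 2) (by omega) le_rfl
    have hl3 : l ∈ Subgroup.zpowers z₁ := by
      have h1 := mem_zpowers_of_prime_card (g := (⟨z₁, hz₁⟩ : LL X (m + 2))) (g' := ⟨l, hl2⟩) hcard2 hz₁1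
      obtain ⟨k, hk⟩ := h1
      refine ⟨k, ?_⟩
      have h2 := congrArg (fun q : LL X (m + 2) => (q : X)) hk
      simpa only [Subgroup.coe_zpow] using h2
    exact mul_mem ((Subgroup.zpowers_le.2 hzcl) hl3) ((Subgroup.zpowers_le.2 hxcl) hy)
  have h1 := card_closure_pair_le hxz hxp (hZp z₁ hz₁)
  exact (Subgroup.card_le_of_le hsub).trans h1

end Uniform

variable {Ω : Type*} [Group Ω] {S : Subgroup Ω} [Finite S] {p : ℕ} [hp : Fact p.Prime]
  {F : FusionSystem S} {E : Subgroup Ω} {m : ℕ}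

theorem ZZ_card (h : MC ↥S p (m + 4)) {j : ℕ} (h1 : 1 ≤ j) (h2 : j ≤ m + 3) :
    Nat.card (ZZ S j) = p ^ (m + 3 - j) := by
  rw [ZZ, Subgroup.card_map_of_injective S.subtype_injective, h.card_LL h1 (by omega)]
  congr 1

/-- Commutators with elements of a term of the lower central series. -/
theorem ZZ_comm' {j : ℕ} {c g : Ω} (hg : g ∈ ZZ S j) (hc : c ∈ S) : c⁻¹ * (g * c * g⁻¹) ∈ ZZ S (j + 1) := by
  obtain ⟨y, hy, rfl⟩ := hg
  have h1 : ⁅(⟨c, hc⟩ : S)⁻¹, y⁆ ∈ LL ↥S (0 + j + 1) := comm_mem_LL (i := 0) (j := j) (Subgroup.mem_top _) hy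
  rw [zero_add] at h1
  have h2 := coe_mem_ZZ.2 h1
  have e : ((⁅(⟨c, hc⟩ : S)⁻¹, y⁆ : S) : Ω) = c⁻¹ * (S.subtype y * c * (S.subtype y)⁻¹) := by
    simp [commutatorElement_def]
    group
  rwa [e] at h2

/-- Commutators of elements of two terms of the lower central series. -/
theorem ZZ_comm₂ {i j : ℕ} {c g : Ω} (hc : c ∈ ZZ S i) (hg : g ∈ ZZ S j) : c⁻¹ * (g * c * g⁻¹) ∈ ZZ S (i + j + 1) := by
  obtain ⟨x, hx, rfl⟩ := hc
  obtain ⟨y, hy, rfl⟩ := hg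
  have h1 : ⁅x⁻¹, y⁆ ∈ LL ↥S (i + j + 1) := comm_mem_LL (Subgroup.inv_mem _ hx) hy
  have h2 := coe_mem_ZZ.2 h1
  have e : ((⁅x⁻¹, y⁆ : S) : Ω) = (S.subtype x)⁻¹ * (S.subtype y * S.subtype x * (S.subtype y)⁻¹) := by
    simp [commutatorElement_def]
    group
  rwa [e] at h2

section Setup

variable (hS : IsPGroup p S) (hF : F.IsSaturated p) (h : MC ↥S p (m + 4)) (hm : 1 ≤ m) (hp5 : 5 ≤ p)
  (hE : F.IsEssential p E) (hab : ∀ s ∈ E, ∀ t ∈ E, s * t = t * s) (hexp : ∀ x ∈ E, x ^ p = 1)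
  (hcE : Nat.card E = p ^ 3)

include h hm hE hcE in
theorem E_lt_S : E < S := by
  have hp' : p.Prime := Fact.out
  refine lt_of_le_of_ne hE.1.1 fun he => ?_
  have h1 : Nat.card S = p ^ (m + 4) := h.card
  rw [← he, hcE] at h1
  have h2 := Nat.pow_right_injective hp'.two_le h1
  omega

include h hm hE hcE in
theorem Z₁_le : ZZ S (m + 2) ≤ E := by
  intro c hc
  refine hE.1.2 E (Cfsg.Agent.Lib.Fusion.Basic.IsConj.refl hE.1.1) ⟨ZZ_le _ hc, Subgroup.mem_centralizer_iff.2 fun y hy => ?_⟩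
  have h1 := ZZ_last h hc (hE.1.1 hy)
  calc y * c = (y * c * y⁻¹) * y := by group
    _ = c * y := by rw [h1]

include hE hcE in
theorem N_card (hidx : (E.subgroupOf (S ⊓ Subgroup.normalizer (E : Set Ω))).index = p) :
    Nat.card ↥(S ⊓ Subgroup.normalizer (E : Set Ω)) = p ^ 4 := by
  have h1 := Subgroup.card_mul_index (E.subgroupOf (S ⊓ Subgroup.normalizer (E : Set Ω)))
  have h2 : Nat.card (E.subgroupOf (S ⊓ Subgroup.normalizer (E : Set Ω))) = Nat.card E :=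
    Nat.card_congr (Subgroup.subgroupOfEquivOfLe (le_inf hE.1.1 Subgroup.le_normalizer)).toEquiv
  rw [h2, hidx, hcE] at h1
  rw [← h1]
  ring

include h hm hE hcE in
/-- If the fourth centre normalizes `E` it is the normalizer. -/
theorem Z₄_eq (hidx : (E.subgroupOf (S ⊓ Subgroup.normalizer (E : Set Ω))).index = p)
    (hZ4 : ZZ S (m - 1) ≤ Subgroup.normalizer (E : Set Ω)) : E ≤ ZZ S (m - 1) := by
  obtain ⟨m₀, rfl⟩ : ∃ m₀, m = m₀ + 1 := ⟨m - 1, by omega⟩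
  have hcN := N_card hE hcE hidx
  rw [Nat.add_sub_cancel] at hZ4 ⊢
  have hle : ZZ S m₀ ≤ S ⊓ Subgroup.normalizer (E : Set Ω) := le_inf (ZZ_le _) hZ4
  have h1 := Cfsg.Agent.Lib.PGroup.HuppertA.card_mul_prime_le_of_lt h.isP (h.lt_LL (i := m₀) (by omega))
  rw [h.card_LL (i := m₀ + 1) (by omega) (by omega)] at h1
  have h2 : Nat.card (ZZ S m₀) = Nat.card (LL ↥S m₀) := by
    rw [ZZ, Subgroup.card_map_of_injective S.subtype_injective]
  haveI : Finite ↥(S ⊓ Subgroup.normalizer (E : Set Ω)) := finite_of_le inf_le_left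
  have h3 : ZZ S m₀ = S ⊓ Subgroup.normalizer (E : Set Ω) := by
    refine Subgroup.eq_of_le_of_card_ge hle ?_
    rw [hcN, h2]
    calc p ^ 4 = p ^ (m₀ + 1 + 4 - 1 - (m₀ + 1)) * p := by
          rw [show m₀ + 1 + 4 - 1 - (m₀ + 1) = 3 by omega]; ring
      _ ≤ _ := h1
  rw [h3]
  exact le_inf hE.1.1 Subgroup.le_normalizer

include hS hF h hm hp5 hE hab hexp hcE in
/-- **The case of `E` centralizing the second centre.** -/
theorem case_A (hZ2E : ZZ S (m + 1) ≤ E) (hcomm : ∀ x ∈ E, ∀ c ∈ ZZ S (m + 1), x * c = c * x) : False := by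
  classical
  have hp' : p.Prime := Fact.out
  have hES : E ≤ S := hE.1.1
  haveI : Finite E := finite_of_le hES
  have hlt := E_lt_S h hm hE hcE
  have hZ1E := Z₁_le h hm hE hcE
  have h12 : ZZ S (m + 2) ≤ ZZ S (m + 1) := ZZ_anti (by omega)
  have h23 : ZZ S (m + 1) ≤ ZZ S m := ZZ_anti (by omega)
  have hcZ2 : Nat.card (ZZ S (m + 1)) = p ^ 2 := by
    rw [ZZ_card h (by omega) (by omega)]
    congr 1
    omega
  have hcZ3 : Nat.card (ZZ S m) = p ^ 3 := by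
    rw [ZZ_card h hm (by omega)]
    congr 1
    omega
  obtain ⟨z₁, hz₁, hz₁1⟩ : ∃ z₁ ∈ ZZ S (m + 2), z₁ ≠ 1 := by
    have h1 : LL ↥S (m + 2) ≠ ⊥ := h.LL_ne_bot (by omega)
    obtain ⟨⟨a, ha⟩, ha1⟩ := (Subgroup.ne_bot_iff_exists_ne_one).1 h1
    exact ⟨a, coe_mem_ZZ.2 ha, fun he => ha1 (Subtype.ext (Subtype.ext he))⟩
  haveI : Finite ↥(S ⊓ Subgroup.normalizer (E : Set Ω)) := finite_of_le inf_le_left
  have hNp : IsPGroup p ↥(S ⊓ Subgroup.normalizer (E : Set Ω)) := isPGroup_of_le hS inf_le_left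
  have hEN : E ≤ S ⊓ Subgroup.normalizer (E : Set Ω) := le_inf hES Subgroup.le_normalizer
  have hZ2n : ∀ g ∈ S, ∀ a ∈ ZZ S (m + 1), g * a * g⁻¹ ∈ ZZ S (m + 1) := by
    intro g hg a ha
    have e : g * a * g⁻¹ = a * (a⁻¹ * (g * a * g⁻¹)) := by group
    rw [e]
    exact mul_mem ha (h12 (ZZ_comm ha hg))
  have hidx := index_eq_p hS hF hE hlt hab hexp hcE hZ2E hcZ2 (h12 hz₁) hz₁1
    (fun g hg => ZZ_last h hz₁ hg.1)
    (fun g hg w hw => mem_zpowers_Z₁ h hz₁ hz₁1 (ZZ_comm hw hg.1))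
    (fun g hg x hx => comm_mem_omega hNp hZ2E hEN (fun g hg a ha => hZ2n g hg.1 a ha)
      (fun g hg b hb => (Subgroup.mem_normalizer_iff.1 hg.2 b).1 hb) (by rw [hcE, hcZ2]; ring) hg hx)
  have hcN := N_card hE hcE hidx
  have hScard : p ^ 4 < Nat.card S := by
    rw [h.card]
    exact Nat.pow_lt_pow_right hp'.one_lt (by omega)
  -- the third centre normalizes `E`
  have hZN : ZZ S m ≤ Subgroup.normalizer (E : Set Ω) := by
    intro c hc
    refine mem_normalizer_of_conj_mem fun x hx => ?_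
    have h1 : c⁻¹ * (x⁻¹ * c * x⁻¹⁻¹) ∈ ZZ S (m + 1) := ZZ_comm hc (S.inv_mem (hES hx))
    rw [inv_inv] at h1
    have e : c * x * c⁻¹ = x * (c * (c⁻¹ * (x⁻¹ * c * x)) * c⁻¹) := by group
    rw [e]
    exact E.mul_mem hx (hZ2E (hZ2n c (ZZ_le _ hc) _ h1))
  -- an element outside `E`
  obtain ⟨t, htZ, htE⟩ : ∃ t ∈ ZZ S m, t ∉ E := by
    by_contra hcon
    push Not at hcon
    have h1 : ZZ S m = E := Subgroup.eq_of_le_of_card_ge hcon (by rw [hcE, hcZ3])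
    have h2 : S ≤ S ⊓ Subgroup.normalizer (E : Set Ω) := by
      refine le_inf le_rfl fun s hs => mem_normalizer_of_conj_mem fun x hx => ?_
      rw [← h1] at hx ⊢
      have e : s * x * s⁻¹ = x * (x⁻¹ * (s * x * s⁻¹)) := by group
      rw [e]
      exact mul_mem hx (h23 (ZZ_comm hx hs))
    have h3 := Subgroup.card_le_of_le h2
    omega
  -- `E ∩ Z₃ = Z₂`
  have hV2 : ∀ c : ZZ S m, (c : Ω) ∈ E → (c : Ω) ∈ ZZ S (m + 1) := by
    intro c hc
    by_contra hc'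
    have hc1 : (⟨c, ZZ_le _ c.2⟩ : S) ∈ LL ↥S m := coe_mem_ZZ.1 c.2
    have hc2 : (⟨c, ZZ_le _ c.2⟩ : S) ∉ LL ↥S (m + 1) := fun he => hc' (coe_mem_ZZ.2 he)
    have ht1 : (⟨t, ZZ_le _ htZ⟩ : S) ∈ LL ↥S m := coe_mem_ZZ.1 htZ
    obtain ⟨k, y, hy, e⟩ := h.decomp hm hc1 hc2 ht1
    apply htE
    have e' : t = (c : Ω) ^ k * (y : Ω) := by
      have := congrArg Subtype.val e
      simpa using this
    rw [e']
    exact E.mul_mem (E.pow_mem hc k) (hZ2E (coe_mem_ZZ.2 hy))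
  -- the element `u`
  have hU2 : ∀ u ∈ S, ∀ c ∈ ZZ S m, c⁻¹ * (u⁻¹ * c * u) ∈ E ⊓ ZZ S m := by
    intro u hu c hc
    have h1 : c⁻¹ * (u⁻¹ * c * u⁻¹⁻¹) ∈ ZZ S (m + 1) := ZZ_comm hc (S.inv_mem hu)
    rw [inv_inv] at h1
    exact ⟨hZ2E h1, h23 h1⟩
  obtain ⟨u, huS, huN, hU3⟩ : ∃ u ∈ S, u ∉ Subgroup.normalizer (E : Set Ω) ∧
      ∀ e ∈ E, e⁻¹ * (u⁻¹ * e * u) ∈ ZZ S m := by
    have hsucc : m - 1 + 1 = m := by omega
    by_cases hZ4 : ZZ S (m - 1) ≤ Subgroup.normalizer (E : Set Ω)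
    · have hE4 := Z₄_eq h hm hE hcE hidx hZ4
      obtain ⟨u, huS, huN⟩ : ∃ u ∈ S, u ∉ Subgroup.normalizer (E : Set Ω) := by
        by_contra hcon
        push Not at hcon
        have h3 := Subgroup.card_le_of_le (le_inf le_rfl hcon : S ≤ S ⊓ Subgroup.normalizer (E : Set Ω))
        omega
      refine ⟨u, huS, huN, fun e he => ?_⟩
      have h1 : e⁻¹ * (u⁻¹ * e * u⁻¹⁻¹) ∈ ZZ S (m - 1 + 1) := ZZ_comm (hE4 he) (S.inv_mem huS)
      rwa [inv_inv, hsucc] at h1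
    · obtain ⟨u, hu, huN⟩ := SetLike.not_le_iff_exists.1 hZ4
      refine ⟨u, ZZ_le _ hu, huN, fun e he => ?_⟩
      have h1 := ZZ_comm' (j := m - 1) ((ZZ S (m - 1)).inv_mem hu) (hES he)
      rwa [inv_inv, hsucc] at h1
  obtain ⟨e₀, he₀, hzZ, ψ₃, hψ₃, hz1, hzE, hψz, hA, hC⟩ :=
    torus_main hS hF h hm hp5 hE hab hexp hcE hidx hZN htZ htE huS huN (hU2 u huS) hU3
  have hz1' : (⟨_, hzZ⟩ : ZZ S m) ≠ 1 := fun he => hz1 (congrArg Subtype.val he)
  by_cases hzc : e₀⁻¹ * (t * e₀ * t⁻¹) ∈ ZZ S (m + 2)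
  · exact contra_center hS hF h hm hp5 hz1' hzE hzc ψ₃ hψ₃ hψz hA hC
  · have hne : K ↥S m ≠ K ↥S (m + 1) := by
      intro hK
      have h1 : (⟨e₀, hES he₀⟩ : S) ∈ K ↥S (m + 1) := by
        rw [mem_K]
        intro u hu
        have hu' := coe_mem_ZZ.2 hu
        have h2 := hcomm e₀ he₀ u hu'
        have h3 : ⁅u, (⟨e₀, hES he₀⟩ : S)⁆ = 1 := by
          rw [commutatorElement_eq_one_iff_mul_comm]
          exact Subtype.ext h2.symm
        rw [h3]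
        exact Subgroup.one_mem _
      rw [← hK] at h1
      have h2 : (⟨t, ZZ_le _ htZ⟩ : S) ∈ LL ↥S m := coe_mem_ZZ.1 htZ
      have h3 := (mem_K.1 ((K ↥S m).inv_mem h1)) _ h2
      apply hzc
      have h4 := coe_mem_ZZ.2 ((LL ↥S (m + 2)).inv_mem h3)
      have e : (((⁅(⟨t, ZZ_le _ htZ⟩ : S), (⟨e₀, hES he₀⟩ : S)⁻¹⁆)⁻¹ : S) : Ω) = e₀⁻¹ * (t * e₀ * t⁻¹) := by
        simp [commutatorElement_def]
        group
      rwa [e] at h4
    exact contra_not_center hS hF h hm hp5 hz1' hzE hzc hV2 hZ2E hne ψ₃ hψ₃ hψz hA hC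

include hS hF h hm hp5 hE hab hexp hcE in
/-- **The case of `E` not centralizing the second centre.** -/
theorem case_B {x₀ c₀ : Ω} (hx₀ : x₀ ∈ E) (hc₀ : c₀ ∈ ZZ S (m + 1)) (hne : x₀ * c₀ ≠ c₀ * x₀) : False := by
  classical
  have hp' : p.Prime := Fact.out
  have hp3 : 3 ≤ p := by omega
  have hES : E ≤ S := hE.1.1
  haveI : Finite E := finite_of_le hES
  have hlt := E_lt_S h hm hE hcE
  have hZ1E := Z₁_le h hm hE hcE
  have h12 : ZZ S (m + 2) ≤ ZZ S (m + 1) := ZZ_anti (by omega)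
  have h23 : ZZ S (m + 1) ≤ ZZ S m := ZZ_anti (by omega)
  have hcZ1 : Nat.card (ZZ S (m + 2)) = p := by
    rw [ZZ_card h (by omega) (by omega), show m + 3 - (m + 2) = 1 by omega, pow_one]
  have hcZ3 : Nat.card (ZZ S m) = p ^ 3 := by
    rw [ZZ_card h hm (by omega)]
    congr 1
    omega
  obtain ⟨z₁, hz₁, hz₁1⟩ : ∃ z₁ ∈ ZZ S (m + 2), z₁ ≠ 1 := by
    have h1 : LL ↥S (m + 2) ≠ ⊥ := h.LL_ne_bot (by omega)
    obtain ⟨⟨a, ha⟩, ha1⟩ := (Subgroup.ne_bot_iff_exists_ne_one).1 h1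
    exact ⟨a, coe_mem_ZZ.2 ha, fun he => ha1 (Subtype.ext (Subtype.ext he))⟩
  haveI : Finite ↥(S ⊓ Subgroup.normalizer (E : Set Ω)) := finite_of_le inf_le_left
  have hNp : IsPGroup p ↥(S ⊓ Subgroup.normalizer (E : Set Ω)) := isPGroup_of_le hS inf_le_left
  have hEN : E ≤ S ⊓ Subgroup.normalizer (E : Set Ω) := le_inf hES Subgroup.le_normalizer
  have hc₀S : c₀ ∈ S := ZZ_le _ hc₀
  have hx₀S : x₀ ∈ S := hES hx₀
  have hexpZ : ∀ c ∈ ZZ S m, c ^ p = 1 := fun c hc =>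
    congrArg (fun q : ZZ S m => (q : Ω)) (ZZ_exp h hm hp5 ⟨c, hc⟩)
  -- the axis
  let W : Subgroup Ω := E ⊓ Subgroup.centralizer ({c₀} : Set Ω)
  have hWE : W ≤ E := inf_le_left
  have hWc : ∀ w ∈ W, w * c₀ = c₀ * w := fun w hw =>
    (Subgroup.mem_centralizer_iff.1 hw.2 c₀ rfl).symm
  have hWmem : ∀ w ∈ E, w * c₀ = c₀ * w → w ∈ W := fun w hw he =>
    ⟨hw, Subgroup.mem_centralizer_iff.2 fun y hy => by
      rw [Set.mem_singleton_iff] at hy
      rw [hy, he]⟩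
  let e : E →* ZZ S (m + 2) := MonoidHom.mk'
    (fun x => ⟨c₀⁻¹ * ((x : Ω) * c₀ * (x : Ω)⁻¹), ZZ_comm hc₀ (hES x.2)⟩) (by
      intro x y
      apply Subtype.ext
      show c₀⁻¹ * (((x : Ω) * y) * c₀ * ((x : Ω) * y)⁻¹) =
        (c₀⁻¹ * ((x : Ω) * c₀ * (x : Ω)⁻¹)) * (c₀⁻¹ * ((y : Ω) * c₀ * (y : Ω)⁻¹))
      have hB := ZZ_last h (ZZ_comm hc₀ (hES y.2)) (hES x.2)
      calc c₀⁻¹ * (((x : Ω) * y) * c₀ * ((x : Ω) * y)⁻¹) =
          (c₀⁻¹ * ((x : Ω) * c₀ * (x : Ω)⁻¹)) * ((x : Ω) * (c₀⁻¹ * ((y : Ω) * c₀ * (y : Ω)⁻¹)) * (x : Ω)⁻¹) := by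
            group
        _ = _ := by rw [hB])
  have heq : ∀ x : E, e x = 1 ↔ (x : Ω) * c₀ = c₀ * x := by
    intro x
    constructor
    · intro hx
      have h1 : c₀⁻¹ * ((x : Ω) * c₀ * (x : Ω)⁻¹) = 1 := congrArg Subtype.val hx
      have h2 : (x : Ω) * c₀ * (x : Ω)⁻¹ = c₀ := (inv_mul_eq_one.1 h1).symm
      calc (x : Ω) * c₀ = ((x : Ω) * c₀ * (x : Ω)⁻¹) * x := by group
        _ = _ := by rw [h2]
    · intro hx
      apply Subtype.ext
      show c₀⁻¹ * ((x : Ω) * c₀ * (x : Ω)⁻¹) = 1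
      rw [hx]
      group
  have hker : e.ker = W.subgroupOf E := by
    ext x
    rw [MonoidHom.mem_ker, heq]
    constructor
    · intro hx
      exact hWmem x x.2 hx
    · intro hx
      exact hWc x hx
  have hrange : Nat.card e.range = p := by
    have h1 : Nat.card e.range ∣ p := by
      rw [← hcZ1]
      exact Subgroup.card_subgroup_dvd_card _
    rcases (Nat.dvd_prime hp').1 h1 with h2 | h2
    · exfalso
      have h3 : e ⟨x₀, hx₀⟩ ∈ e.range := ⟨_, rfl⟩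
      have h4 := (Subgroup.eq_bot_of_card_eq _ h2)
      rw [h4, Subgroup.mem_bot, heq] at h3
      exact hne h3
    · exact h2
  have hcW : Nat.card W = p ^ 2 := by
    have h1 := Subgroup.index_ker e
    have h2 := Subgroup.card_mul_index e.ker
    rw [h1, hrange, hcE, hker] at h2
    have h3 : Nat.card (W.subgroupOf E) = Nat.card W :=
      Nat.card_congr (Subgroup.subgroupOfEquivOfLe hWE).toEquiv
    rw [h3] at h2
    have h4 : Nat.card W * p = p ^ 2 * p := by rw [h2]; ring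
    exact Nat.eq_of_mul_eq_mul_right hp'.pos h4
  have hZ1W : ZZ S (m + 2) ≤ W := by
    intro c hc
    refine hWmem c (hZ1E hc) ?_
    have h1 := ZZ_last h hc hc₀S
    calc c * c₀ = c₀ * (c₀⁻¹ * c * c₀) := by group
      _ = c₀ * (c₀⁻¹ * (c₀ * c * c₀⁻¹) * c₀) := by rw [h1]
      _ = c₀ * c := by group
  have hWn : ∀ g ∈ S ⊓ Subgroup.normalizer (E : Set Ω), ∀ w ∈ W, g * w * g⁻¹ ∈ W := by
    intro g hg w hw
    refine hWmem _ ((Subgroup.mem_normalizer_iff.1 hg.2 w).1 hw.1) ?_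
    have h1 : c₀⁻¹ * (g⁻¹ * c₀ * g⁻¹⁻¹) ∈ ZZ S (m + 2) := ZZ_comm hc₀ (S.inv_mem hg.1)
    rw [inv_inv] at h1
    generalize hf : c₀⁻¹ * (g⁻¹ * c₀ * g) = f at h1
    have hy : g⁻¹ * c₀ * g = c₀ * f := by rw [← hf]; group
    have h2 : w * f = f * w := hab w hw.1 f (hZ1E h1)
    have h3 : w * (c₀ * f) = (c₀ * f) * w := by
      calc w * (c₀ * f) = (w * c₀) * f := by rw [mul_assoc]
        _ = (c₀ * w) * f := by rw [hWc w hw]
        _ = c₀ * (w * f) := by rw [mul_assoc]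
        _ = c₀ * (f * w) := by rw [h2]
        _ = (c₀ * f) * w := by rw [mul_assoc]
    calc g * w * g⁻¹ * c₀ = g * (w * (g⁻¹ * c₀ * g)) * g⁻¹ := by group
      _ = g * ((g⁻¹ * c₀ * g) * w) * g⁻¹ := by rw [hy, h3]
      _ = c₀ * (g * w * g⁻¹) := by group
  have hidx := index_eq_p hS hF hE hlt hab hexp hcE hWE hcW (hZ1W hz₁) hz₁1
    (fun g hg => ZZ_last h hz₁ hg.1)
    (fun g hg w hw => mem_zpowers_Z₁ h hz₁ hz₁1 (comm_mem_omega hNp hZ1W (hWE.trans hEN)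
      (fun g hg a ha => by rw [ZZ_last h ha hg.1]; exact ha) hWn (by rw [hcW, hcZ1]; ring) hg hw))
    (fun g hg x hx => comm_mem_omega hNp hWE hEN hWn
      (fun g hg b hb => (Subgroup.mem_normalizer_iff.1 hg.2 b).1 hb) (by rw [hcE, hcW]; ring) hg hx)
  -- two-step centralizers
  let xt : S := ⟨x₀, hx₀S⟩
  let ct : S := ⟨c₀, hc₀S⟩
  have hct : ct ∈ LL ↥S (m + 1) := coe_mem_ZZ.1 hc₀
  have hbot3 : LL ↥S (m + 3) = ⊥ := h.LL_eq_bot (by omega)
  have hxnK : xt ∉ K ↥S (m + 1) := by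
    intro hm'
    have h1 : ⁅ct, xt⁆ ∈ LL ↥S (m + 1 + 2) := (mem_K.1 hm') ct hct
    rw [show m + 1 + 2 = m + 3 by omega, hbot3, Subgroup.mem_bot, commutatorElement_eq_one_iff_mul_comm] at h1
    exact hne (congrArg Subtype.val h1).symm
  have hx1 : xt ∉ LL ↥S 1 := fun hh => hxnK (LL_one_le_K _ hh)
  have hKeq := K_eq h hp3
  have hKm : K ↥S m = K ↥S 1 := hKeq m hm (by omega)
  have hxK : xt ∈ K ↥S m := by
    by_contra hxK
    have hunif : ∀ j, 1 ≤ j → j ≤ m + 4 - 3 → xt ∉ K ↥S j := by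
      intro j hj hj'
      by_cases hjm : j ≤ m
      · rw [hKeq j hj (by omega), ← hKm]
        exact hxK
      · have : j = m + 1 := by omega
        rw [this]
        exact hxnK
    have h1 := card_le_of_uniform h (A := E.subgroupOf S) (x := xt) hx₀ hx1 (fun j hj hj' => hunif j hj (by omega))
      (fun g hg => Subtype.ext (hab x₀ hx₀ g hg)) (Subtype.ext (hexp x₀ hx₀))
      (fun z hz => by
        have h2 := hexpZ z (ZZ_anti (by omega) (coe_mem_ZZ.2 hz))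
        exact Subtype.ext h2)
    have h2 : Nat.card (E.subgroupOf S) = Nat.card E :=
      Nat.card_congr (Subgroup.subgroupOfEquivOfLe hES).toEquiv
    rw [h2, hcE] at h1
    have h3 := (Nat.pow_le_pow_iff_right hp'.one_lt).1 h1
    omega
  have hKne : K ↥S m ≠ K ↥S (m + 1) := fun he => hxnK (he ▸ hxK)
  have hm2 : 2 ≤ m := by
    have h1 : K ↥S (m + 4 - 3) ≠ K ↥S 1 := by
      rw [show m + 4 - 3 = m + 1 by omega, ← hKm]
      exact hKne.symm
    obtain ⟨q, hq⟩ := even_of_ne h hp3 (by omega) h1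
    omega
  -- the element `c'`
  set d₀ := c₀⁻¹ * (x₀ * c₀ * x₀⁻¹) with hd₀
  have hd₀Z : d₀ ∈ ZZ S (m + 2) := ZZ_comm hc₀ hx₀S
  have hd₀1 : d₀ ≠ 1 := by
    intro hd
    have h2 : x₀ * c₀ * x₀⁻¹ = c₀ := (inv_mul_eq_one.1 hd).symm
    apply hne
    calc x₀ * c₀ = (x₀ * c₀ * x₀⁻¹) * x₀ := by group
      _ = _ := by rw [h2]
  have hd₀p : d₀ ^ p = 1 := hexpZ d₀ (ZZ_anti (by omega) hd₀Z)
  have hod₀ : orderOf d₀ = p := orderOf_eq_prime hd₀p hd₀1
  have hxc₀ : x₀ * c₀ * x₀⁻¹ = c₀ * d₀ := by rw [hd₀]; group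
  have hcd₀ : Commute c₀ d₀ := by
    have h1 := ZZ_last h hd₀Z hc₀S
    show c₀ * d₀ = d₀ * c₀
    calc c₀ * d₀ = (c₀ * d₀ * c₀⁻¹) * c₀ := by group
      _ = _ := by rw [h1]
  have hxc₀k : ∀ k : ℕ, x₀ * c₀ ^ k * x₀⁻¹ = c₀ ^ k * d₀ ^ k := by
    intro k
    rw [← conj_pow, hxc₀, hcd₀.mul_pow]
  obtain ⟨at', hat, hat'⟩ := SetLike.exists_of_lt (h.lt_LL (i := m) (by omega))
  set a : Ω := (at' : Ω) with ha
  have haZ : a ∈ ZZ S m := coe_mem_ZZ.2 hat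
  have hd₁ : a⁻¹ * (x₀ * a * x₀⁻¹) ∈ ZZ S (m + 2) := by
    have h1 : ⁅at'⁻¹, xt⁆ ∈ LL ↥S (m + 2) := (mem_K.1 hxK) _ ((LL ↥S m).inv_mem hat)
    have h2 := coe_mem_ZZ.2 h1
    have e2 : ((⁅at'⁻¹, xt⁆ : S) : Ω) = a⁻¹ * (x₀ * a * x₀⁻¹) := by
      simp [commutatorElement_def, ha, xt]
      group
    rwa [e2] at h2
  obtain ⟨b, hb⟩ := exists_pow_eq_of_mem_zpowers hd₀p (Subgroup.mem_zpowers d₀) hd₀1
    (mem_zpowers_Z₁ h hd₀Z hd₀1 hd₁)
  have hxa : x₀ * a * x₀⁻¹ = a * d₀ ^ b := by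
    rw [hb]
    group
  set c' := a * (c₀ ^ b)⁻¹ with hc'
  have hc₀Z : c₀ ∈ ZZ S m := h23 hc₀
  have hc'Z : c' ∈ ZZ S m := mul_mem haZ ((ZZ S m).inv_mem ((ZZ S m).pow_mem hc₀Z b))
  have hc'n : c' ∉ ZZ S (m + 1) := by
    intro hcn
    apply hat'
    apply coe_mem_ZZ.1
    have e2 : (at' : Ω) = c' * c₀ ^ b := by
      rw [hc', ← ha]
      group
    rw [e2]
    exact mul_mem hcn ((ZZ S (m + 1)).pow_mem hc₀ b)
  have hxc' : x₀ * c' = c' * x₀ := by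
    have h1 : x₀ * c' * x₀⁻¹ = c' := by
      have e2 : x₀ * c' * x₀⁻¹ = (x₀ * a * x₀⁻¹) * (x₀ * c₀ ^ b * x₀⁻¹)⁻¹ := by
        rw [hc']
        group
      rw [e2, hxa, hxc₀k, mul_inv_rev, hc']
      group
    calc x₀ * c' = (x₀ * c' * x₀⁻¹) * x₀ := by group
      _ = _ := by rw [h1]
  -- elements of the second centre commuting with `x₀`
  have hct' : ct ∉ LL ↥S (m + 2) := by
    intro hc
    have h1 := ZZ_last h (coe_mem_ZZ.2 hc) hx₀S
    exact hd₀1 (by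
      rw [hd₀]
      have h2 : x₀ * c₀ * x₀⁻¹ = c₀ := h1
      rw [h2]
      group)
  have hcomZ1 : ∀ d ∈ ZZ S (m + 1), x₀ * d = d * x₀ → d ∈ ZZ S (m + 2) := by
    intro d hd hcomm
    have hdS : d ∈ S := ZZ_le _ hd
    have hd' : (⟨d, hdS⟩ : S) ∈ LL ↥S (m + 1) := coe_mem_ZZ.1 hd
    obtain ⟨i, y, hy, e'⟩ := h.decomp (i := m + 1) (by omega) hct hct' hd'
    have e2 : d = c₀ ^ i * (y : Ω) := by
      have := congrArg Subtype.val e'
      simpa [ct] using this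
    have hy' : (y : Ω) ∈ ZZ S (m + 2) := coe_mem_ZZ.2 hy
    have hxy := ZZ_last h hy' hx₀S
    have h1 : x₀ * d * x₀⁻¹ = d := by
      rw [hcomm]
      group
    rw [e2] at h1
    have e3 : x₀ * (c₀ ^ i * (y : Ω)) * x₀⁻¹ = (x₀ * c₀ ^ i * x₀⁻¹) * (x₀ * (y : Ω) * x₀⁻¹) := by group
    rw [e3, hxc₀k, hxy] at h1
    have h2 : d₀ ^ i = 1 := by
      have h3 : c₀ ^ i * d₀ ^ i * (y : Ω) = c₀ ^ i * (y : Ω) * 1 := by rw [h1, mul_one]
      have hcom : d₀ ^ i * (y : Ω) = (y : Ω) * d₀ ^ i := by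
        have h4 := ZZ_last h hy' (ZZ_le _ ((ZZ S (m + 2)).pow_mem hd₀Z i))
        calc d₀ ^ i * (y : Ω) = (d₀ ^ i * (y : Ω) * (d₀ ^ i)⁻¹) * d₀ ^ i := by group
          _ = _ := by rw [h4]
      rw [mul_assoc, hcom, ← mul_assoc] at h3
      exact mul_left_cancel h3
    have h3 : p ∣ i := by
      rw [← hod₀]
      exact orderOf_dvd_of_pow_eq_one h2
    obtain ⟨q, rfl⟩ := h3
    rw [e2, pow_mul, hexpZ c₀ hc₀Z, one_pow, one_mul]
    exact hy'
  -- the third centre normalizes `E`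
  have hc'N : c' ∈ Subgroup.normalizer (E : Set Ω) := by
    refine mem_normalizer_of_conj_mem fun y hy => ?_
    set d := c' * (y * c'⁻¹ * y⁻¹) with hd
    have hd2 : d ∈ ZZ S (m + 1) := by
      have h1 := ZZ_comm ((ZZ S m).inv_mem hc'Z) (hES hy)
      rwa [inv_inv] at h1
    have hxy : Commute x₀ y := hab x₀ hx₀ y hy
    have hxc : Commute x₀ c' := hxc'
    have hxd : x₀ * d = d * x₀ := by
      have h1 : Commute x₀ d := hxc.mul_right ((hxy.mul_right hxc.inv_right).mul_right hxy.inv_right)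
      exact h1
    have hd1 := hZ1E (hcomZ1 d hd2 hxd)
    have e2 : c' * y * c'⁻¹ = d * y := by
      rw [hd]
      group
    rw [e2]
    exact E.mul_mem hd1 hy
  have hZ2N : ∀ c ∈ ZZ S (m + 1), c ∈ Subgroup.normalizer (E : Set Ω) := by
    intro c hc
    refine mem_normalizer_of_conj_mem fun y hy => ?_
    have h1 := ZZ_comm ((ZZ S (m + 1)).inv_mem hc) (hES hy)
    rw [inv_inv] at h1
    have e2 : c * y * c⁻¹ = (c * (y * c⁻¹ * y⁻¹)) * y := by group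
    rw [e2]
    exact E.mul_mem (hZ1E h1) hy
  have hZN : ZZ S m ≤ Subgroup.normalizer (E : Set Ω) := by
    intro c hc
    have hc'1 : (⟨c', ZZ_le _ hc'Z⟩ : S) ∈ LL ↥S m := coe_mem_ZZ.1 hc'Z
    have hc'2 : (⟨c', ZZ_le _ hc'Z⟩ : S) ∉ LL ↥S (m + 1) := fun he => hc'n (coe_mem_ZZ.2 he)
    have hc1 : (⟨c, ZZ_le _ hc⟩ : S) ∈ LL ↥S m := coe_mem_ZZ.1 hc
    obtain ⟨k, y, hy, e'⟩ := h.decomp hm hc'1 hc'2 hc1
    have e2 : c = c' ^ k * (y : Ω) := by
      have := congrArg Subtype.val e'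
      simpa using this
    rw [e2]
    exact mul_mem (pow_mem hc'N k) (hZ2N _ (coe_mem_ZZ.2 hy))
  have htE : c₀ ∉ E := fun hcE' => hne (hab x₀ hx₀ c₀ hcE')
  -- the element `u`
  have hZ4 : ¬ ZZ S (m - 1) ≤ Subgroup.normalizer (E : Set Ω) := by
    intro hZ4
    have hE4 := Z₄_eq h hm hE hcE hidx hZ4
    apply hx1
    exact coe_mem_ZZ.1 (ZZ_anti (by omega) (hE4 hx₀))
  obtain ⟨u, hu, huN⟩ := SetLike.not_le_iff_exists.1 hZ4
  have huS : u ∈ S := ZZ_le _ hu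
  have hsucc : m - 1 + 1 = m := by omega
  have hU2 : ∀ c ∈ ZZ S m, c⁻¹ * (u⁻¹ * c * u) ∈ E ⊓ ZZ S m := by
    intro c hc
    have h1 := ZZ_comm₂ hc ((ZZ S (m - 1)).inv_mem hu)
    rw [inv_inv] at h1
    have h2 : c⁻¹ * (u⁻¹ * c * u) ∈ ZZ S (m + 2) := ZZ_anti (by omega) h1
    exact ⟨hZ1E h2, ZZ_anti (by omega) h2⟩
  have hU3 : ∀ e ∈ E, e⁻¹ * (u⁻¹ * e * u) ∈ ZZ S m := by
    intro e he
    have h1 := ZZ_comm' (j := m - 1) ((ZZ S (m - 1)).inv_mem hu) (hES he)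
    rwa [inv_inv, hsucc] at h1
  obtain ⟨e₀, he₀, hzZ, ψ₃, hψ₃, hz1, hzE, hψz, hA, hC⟩ :=
    torus_main hS hF h hm hp5 hE hab hexp hcE hidx hZN hc₀Z htE huS huN hU2 hU3
  have hz1' : (⟨_, hzZ⟩ : ZZ S m) ≠ 1 := fun he => hz1 (congrArg Subtype.val he)
  have hzc : e₀⁻¹ * (c₀ * e₀ * c₀⁻¹) ∈ ZZ S (m + 2) := by
    have h1 : c₀⁻¹ * (e₀⁻¹ * c₀ * e₀⁻¹⁻¹) ∈ ZZ S (m + 2) := ZZ_comm hc₀ (S.inv_mem (hES he₀))
    rw [inv_inv] at h1
    have h2 := ZZ_last h h1 hc₀S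
    have e2 : e₀⁻¹ * (c₀ * e₀ * c₀⁻¹) = c₀ * (c₀⁻¹ * (e₀⁻¹ * c₀ * e₀)) * c₀⁻¹ := by group
    rw [e2, h2]
    exact h1
  exact contra_center hS hF h hm hp5 hz1' hzE hzc ψ₃ hψ₃ hψz hA hC

include hS hF h hm hp5 hE hab hexp hcE in
/-- **No elementary abelian essential subgroup of order `p³`.** -/
theorem no_cube : False := by
  by_cases hAB : ∀ x ∈ E, ∀ c ∈ ZZ S (m + 1), x * c = c * x
  · refine case_A hS hF h hm hp5 hE hab hexp hcE (fun c hc => ?_) hAB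
    refine hE.1.2 E (Cfsg.Agent.Lib.Fusion.Basic.IsConj.refl hE.1.1)
      ⟨ZZ_le _ hc, Subgroup.mem_centralizer_iff.2 fun y hy => hAB y hy c hc⟩
  · push Not at hAB
    obtain ⟨x, hx, c, hc, hne⟩ := hAB
    exact case_B hS hF h hm hp5 hE hab hexp hcE hx hc hne

end Setup

end Cfsg.Agent.Lib.Fusion.MaxClassE8
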