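/-
Normal `p`-subgroups of `Aut_F(R)` from chains of strongly closed subgroups containing the elements of small order:
an automorphism of order prime to `p` that is trivial on the elements `x` with `x ^ n = 1` of a subgroup is trivial.
-/
import Mathlib
import Cfsg.Prelude.Def_FusionSystem
import Cfsg.Agent.Lib.Fusion.Basic
import Cfsg.Agent.Lib.Fusion.Saturated
import Cfsg.Agent.Lib.Fusion.Chain
import Cfsg.Agent.Lib.Fusion.Lift
import Cfsg.Agent.Lib.PGroup.Critical

set_option autoImplicit false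
set_option linter.style.haveILetI false

namespace Cfsg.Agent.Lib.Fusion.OmegaChain

open Cfsg Cfsg.FusionSystem Cfsg.Agent.Lib.Fusion.Basic Cfsg.Agent.Lib.Fusion.Saturated
open Cfsg.Agent.Lib.Fusion.Chain Cfsg.Agent.Lib.Fusion.NormalCR Cfsg.Agent.Lib.Fusion.Lift

variable {Ω : Type*} [Group Ω] {S : Subgroup Ω} {F : FusionSystem S}

/-- An automorphism of order prime to `p` stabilizing a chain fixes its terms. -/
theorem fix_of_stab_chain {P : Type*} [Group P] {p : ℕ} (hP : IsPGroup p P) {D : ℕ → Subgroup P} {m : ℕ} (h0 : D 0 = ⊥)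
    {β : MulAut P} (hβ : ∀ i < m, ∀ x ∈ D (i + 1), x⁻¹ * β x ∈ D i)
    (hc : (orderOf β).Coprime p) : ∀ i, i ≤ m → ∀ x ∈ D i, β x = x := by
  intro i
  induction i with
  | zero =>
    intro _ x hx
    rw [h0, Subgroup.mem_bot] at hx
    simp [hx]
  | succ i ih =>
    intro hi x hx
    have h1 := hβ i (by omega) x hx
    set n := x⁻¹ * β x with hn
    have h2 : β n = n := ih (by omega) n h1
    have h3 : β x = x * n := by rw [hn]; group
    have h4 := pow_apply_eq_mul_pow β h3 h2 (orderOf β)
    rw [pow_orderOf_eq_one] at h4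
    have h5 : n ^ orderOf β = 1 := by
      have : x = x * n ^ orderOf β := h4
      simpa using this.symm
    obtain ⟨a, ha⟩ := hP n
    have h6 : orderOf n ∣ p ^ a := orderOf_dvd_of_pow_eq_one ha
    have h7 : orderOf n ∣ orderOf β := orderOf_dvd_of_pow_eq_one h5
    have h8 : orderOf n = 1 :=
      Nat.eq_one_of_dvd_coprimes (hc.symm.pow_left a) h6 h7
    have h9 : n = 1 := orderOf_eq_one_iff.1 h8
    rw [h3, h9, mul_one]

/-- An automorphism of order prime to `p` of a `p`-group `R` with a subgroup `W` such that `β` is trivial on `R/W` and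
fixes all `x ∈ W` with `x ^ n = 1` is trivial. -/
theorem eq_one_of_fix_small {R : Type*} [Group R] [Finite R] {p : ℕ} [hp : Fact p.Prime] (hR : IsPGroup p R)
    (W : Subgroup R) (β : MulAut R) (hc : (orderOf β).Coprime p) (hW : ∀ x, x⁻¹ * β x ∈ W)
    {n : ℕ} (hpn : p ∣ n) (hn : p ∣ n.choose 2) (hfix : ∀ x ∈ W, x ^ n = 1 → β x = x) : β = 1 := by
  have hinv : ∀ x ∈ W, β x ∈ W := by
    intro x hx
    have h1 := W.mul_mem hx (hW x)
    simpa using h1
  have hmap : W.map β.toMonoidHom = W := by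
    have hle : W.map β.toMonoidHom ≤ W := by
      rintro _ ⟨x, hx, rfl⟩
      exact hinv x hx
    refine Subgroup.eq_of_le_of_card_ge hle ?_
    exact (Nat.card_congr (β.subgroupMap W).toEquiv).le
  let βW : MulAut W := (β.subgroupMap W).trans (MulEquiv.subgroupCongr hmap)
  have hβW : ∀ x : W, ((βW x : W) : R) = β x := fun _ => rfl
  have hpow : ∀ (k : ℕ) (x : W), (((βW ^ k) x : W) : R) = (β ^ k) x := by
    intro k
    induction k with
    | zero => intro x; rfl
    | succ k ih =>
      intro x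
      rw [pow_succ', pow_succ', MulAut.mul_apply, MulAut.mul_apply, hβW, ih]
  have hord : (orderOf βW).Coprime p := by
    refine Nat.Coprime.coprime_dvd_left ?_ hc
    apply orderOf_dvd_of_pow_eq_one
    ext x
    rw [hpow, pow_orderOf_eq_one]
    rfl
  have hone : βW = 1 := by
    refine Cfsg.Agent.Lib.PGroup.Critical.coprime_aut_eq_one_of_fixes (hR.to_subgroup W) βW hord hpn hn ?_
    intro x hx
    apply Subtype.ext
    rw [hβW]
    apply hfix x x.2
    have := congrArg (Subtype.val) hx
    simpa using this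
  refine eq_one_of_stab_chain hR
    (D := fun i => if i = 0 then ⊥ else if i = 1 then W else ⊤) (m := 2) rfl rfl ?_ hc
  intro i hi x hx
  match i, hi with
  | 0, _ =>
    have hx' : x ∈ W := hx
    have h1 : β x = x := by
      have := congrArg (fun y : MulAut W => ((y ⟨x, hx'⟩ : W) : R)) hone
      simpa [hβW] using this
    rw [h1]
    simp
  | 1, _ => exact hW x

variable [Finite S] {p : ℕ} [hp : Fact p.Prime]

/-- The main lemma. -/
theorem mem_of_omega_chain (hS : IsPGroup p S) {R P : Subgroup Ω} (hC : F.IsCentric R) (hRad : F.IsRadical p R)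
    (hP : F.StronglyClosed P) {E : ℕ → Subgroup Ω} {m : ℕ} (h0 : E 0 = ⊥) (hE : ∀ i ≤ m, F.StronglyClosed (E i))
    {n : ℕ} (hpn : p ∣ n) (hn : p ∣ n.choose 2) (hΩ : ∀ x ∈ P, x ^ n = 1 → x ∈ E m)
    {a : Ω} (haS : a ∈ S) (haN : a ∈ Subgroup.normalizer (R : Set Ω))
    (hst : ∀ i < m, ∀ x ∈ R, x ∈ E (i + 1) → x⁻¹ * (a * x * a⁻¹) ∈ E i)
    (hmod : ∀ x ∈ R, x⁻¹ * (a * x * a⁻¹) ∈ P) : a ∈ R := by
  classical
  have hRS : R ≤ S := hC.1
  have hfinR : Finite R := finite_of_le hRS
  have hRp : IsPGroup p R := isPGroup_of_le hS hRS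
  haveI : Finite (F.autGroup R) := finite_autGroup hRS
  let A := F.autGroup R
  let D : ℕ → Subgroup R := fun i => (E i).subgroupOf R
  have hinv : ∀ i ≤ m, ∀ α ∈ A, ∀ x ∈ D i, α x ∈ D i := by
    intro i hi α hα x hx
    exact StronglyClosed.aut_mem (hE i hi) hRS hα x hx
  let K₁ := chainStab A D m hinv
  have hK₁ : K₁.Normal := chainStab_normal A D m hinv
  have hK₂ : (kerMod F P R).Normal := kerMod_normal hP hRS
  let K : Subgroup A := K₁ ⊓ kerMod F P R
  have hKn : K.Normal := by
    haveI := hK₁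
    haveI := hK₂
    exact Subgroup.normal_inf_normal _ _
  have hKp : IsPGroup p K := by
    refine Cfsg.Agent.Lib.Coprime.Stability.isPGroup_of_forall_coprime hp.out _ ?_
    rintro γ hγ hc
    apply Subtype.ext
    have hc' : (orderOf (γ : MulAut R)).Coprime p := by
      have h1 : orderOf (γ : MulAut R) = orderOf γ := Subgroup.orderOf_coe _
      rw [h1]
      exact hc
    have hD0 : D 0 = ⊥ := by
      show (E 0).subgroupOf R = ⊥
      rw [h0, Subgroup.bot_subgroupOf]
    have hfix := fix_of_stab_chain hRp hD0 hγ.1 hc' m le_rfl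
    refine eq_one_of_fix_small hRp (P.subgroupOf R) _ hc' ?_ hpn hn ?_
    · intro x
      exact Subgroup.mem_subgroupOf.2 (hγ.2 x)
    · intro x hx hxn
      refine hfix x ?_
      refine Subgroup.mem_subgroupOf.2 (hΩ x hx ?_)
      have := congrArg Subtype.val hxn
      simpa using this
  have hmem : normConj a haN ∈ A := autInducedBy_le_autGroup hRS (normConj_mem_autInducedBy haS haN)
  have hcore : (⟨normConj a haN, hmem⟩ : A) ∈ Cfsg.pCore p A := by
    refine Cfsg.Agent.Lib.Basic.PCore.le_pCore hKn hKp ⟨?_, ?_⟩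
    · intro i hi x hx
      exact Subgroup.mem_subgroupOf.2 (hst i hi x x.2 hx)
    · intro x
      exact hmod x x.2
  exact mem_of_conj_mem_pCore hC hRad haS hcore (fun x => rfl)

end Cfsg.Agent.Lib.Fusion.OmegaChain
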