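/-
Groups of order `p⁴`: the non-abelian ones either have a characteristic chain through the Frattini
subgroup with steps of index `p`, or are one of the groups listed for essential subgroups.
-/
import Mathlib
import Cfsg.Agent.Lib.PGroup.Extraspecial
import Cfsg.Agent.Lib.PGroup.Basic
import Cfsg.Agent.Lib.PGroup.FrattiniBasis
import Cfsg.Agent.Lib.PGroup.ActionFrattini
import Cfsg.Agent.Lib.PGroup.CyclicMax
import Cfsg.Agent.Lib.Fusion.MaxClassCenter
import Cfsg.Agent.Lib.Fusion.AbelianEssential
import Cfsg.Agent.Lib.Fusion.EssentialCube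

set_option autoImplicit false
set_option linter.style.haveILetI false
set_option linter.unusedSectionVars false

namespace Cfsg.Agent.Lib.Fusion.OrderFour

open Subgroup
open scoped commutatorElement
open Cfsg.Agent.Lib.PGroup
open Cfsg.Agent.Lib.PGroup.Extraspecial (comm_mul_left comm_mul_right comm_pow_left comm_pow_right
  mul_pow_class_two mul_pow_odd)

section Pure

variable {X : Type*} [Group X] [Finite X] {p : ℕ} [hp : Fact p.Prime]

theorem index_subgroupOf_le {A B : Subgroup X} (h : A ≤ B) {k : ℕ}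
    (hc : Nat.card B = Nat.card A * k) : (A.subgroupOf B).index = k := by
  have h1 := Subgroup.card_mul_index (A.subgroupOf B)
  have h2 : Nat.card (A.subgroupOf B) = Nat.card A :=
    Nat.card_congr (Subgroup.subgroupOfEquivOfLe h).toEquiv
  rw [h2, hc] at h1
  exact Nat.eq_of_mul_eq_mul_left Nat.card_pos h1

theorem comm_inv_left (hc : ∀ x y : X, ⁅x, y⁆ ∈ center X) (x y : X) : ⁅x⁻¹, y⁆ = ⁅x, y⁆⁻¹ := by
  have h := comm_mul_left hc x⁻¹ x y
  rw [inv_mul_cancel, commutatorElement_one_left] at h
  exact (inv_eq_of_mul_eq_one_right h.symm).symm ▸ (by simp)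

theorem comm_inv_right (hc : ∀ x y : X, ⁅x, y⁆ ∈ center X) (x y : X) : ⁅x, y⁻¹⁆ = ⁅x, y⁆⁻¹ := by
  have h := comm_mul_right hc x y⁻¹ y
  rw [inv_mul_cancel, commutatorElement_one_right] at h
  exact (inv_eq_of_mul_eq_one_right h.symm).symm ▸ (by simp)

/-- In class two, the commutator subgroup of a two-generator group is generated by the commutator
of the generators. -/
theorem commutator_le_zpowers_of_gens (hc : ∀ x y : X, ⁅x, y⁆ ∈ center X) {u v : X}
    (hgen : closure ({u, v} : Set X) = ⊤) : commutator X ≤ zpowers ⁅u, v⁆ := by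
  have huv : ⁅v, u⁆ ∈ zpowers ⁅u, v⁆ := by
    rw [commutatorElement_inv u v |>.symm]
    exact inv_mem (mem_zpowers _)
  have h1 : ∀ x : X, ⁅x, u⁆ ∈ zpowers ⁅u, v⁆ := by
    intro x
    have hx : x ∈ closure ({u, v} : Set X) := hgen ▸ mem_top x
    induction hx using closure_induction with
    | mem y hy =>
      rcases hy with rfl | rfl
      · rw [commutatorElement_self]; exact one_mem _
      · exact huv
    | one => rw [commutatorElement_one_left]; exact one_mem _
    | mul a b _ _ ha hb => rw [comm_mul_left hc]; exact mul_mem ha hb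
    | inv a _ ha => rw [comm_inv_left hc]; exact inv_mem ha
  have h2 : ∀ x : X, ⁅x, v⁆ ∈ zpowers ⁅u, v⁆ := by
    intro x
    have hx : x ∈ closure ({u, v} : Set X) := hgen ▸ mem_top x
    induction hx using closure_induction with
    | mem y hy =>
      rcases hy with rfl | rfl
      · exact mem_zpowers _
      · rw [commutatorElement_self]; exact one_mem _
    | one => rw [commutatorElement_one_left]; exact one_mem _
    | mul a b _ _ ha hb => rw [comm_mul_left hc]; exact mul_mem ha hb
    | inv a _ ha => rw [comm_inv_left hc]; exact inv_mem ha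
  rw [commutator_def, Subgroup.commutator_le]
  intro x _ y _
  have hy : y ∈ closure ({u, v} : Set X) := hgen ▸ mem_top y
  induction hy using closure_induction with
  | mem z hz =>
    rcases hz with rfl | rfl
    · exact h1 x
    · exact h2 x
  | one => rw [commutatorElement_one_right]; exact one_mem _
  | mul a b _ _ ha hb => rw [comm_mul_right hc]; exact mul_mem (ha trivial) (hb trivial)
  | inv a _ ha => rw [comm_inv_right hc]; exact inv_mem (ha trivial)

/-- The index of the Frattini subgroup is the order of its Frattini quotient. -/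
theorem exists_M_of_card_commutator (hX : IsPGroup p X) (hc : Nat.card X = p ^ 4)
    (hΦ : (frattini X).index = p ^ 2) (hX' : Nat.card (commutator X) = p) :
    ∃ M : Subgroup X, (∀ α : MulAut X, ∀ x ∈ M, α x ∈ M) ∧ M.index = p := by
  classical
  let Ab := Abelianization X
  let o : X →* Ab := Abelianization.of
  have ho : Function.Surjective o := QuotientGroup.mk'_surjective _
  have hker : o.ker = commutator X := QuotientGroup.ker_mk' _
  let P : Ab →* Ab := powMonoidHom p
  let M : Subgroup X := P.ker.comap o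
  have hmem : ∀ x, x ∈ M ↔ x ^ p ∈ commutator X := by
    intro x
    show P (o x) = 1 ↔ _
    rw [← hker, MonoidHom.mem_ker, map_pow]
    rfl
  have hcardAb : Nat.card Ab = p ^ 3 := by
    have h1 := (commutator X).card_mul_index
    rw [hX', hc] at h1
    have h2 : p * Nat.card Ab = p * p ^ 3 := by
      rw [← pow_succ']
      exact h1
    exact Nat.eq_of_mul_eq_mul_left hp.out.pos h2
  have hidx : M.index = Nat.card P.range := by
    rw [← Subgroup.index_ker P]
    exact Subgroup.index_comap_of_surjective _ ho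
  have hΦle : commutator X ≤ frattini X := FrattiniBasis.commutator_le_frattini hX
  have hmap : Nat.card ((frattini X).map o) = p := by
    have h1 := Subgroup.index_map (frattini X) o
    rw [hker, sup_eq_left.2 hΦle, hΦ, MonoidHom.range_eq_top.2 ho, Subgroup.index_top, mul_one] at h1
    have h2 := ((frattini X).map o).card_mul_index
    rw [h1, hcardAb] at h2
    have h3 : Nat.card ((frattini X).map o) * p ^ 2 = p * p ^ 2 := by
      rw [h2]; ring
    exact Nat.eq_of_mul_eq_mul_right (pow_pos hp.out.pos 2) h3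
  have hle : P.range ≤ (frattini X).map o := by
    rintro _ ⟨y, rfl⟩
    obtain ⟨x, rfl⟩ := ho y
    exact ⟨x ^ p, FrattiniBasis.pow_mem_frattini hX x, map_pow _ _ _⟩
  have hle' : Nat.card P.range ≤ p := hmap ▸ Subgroup.card_le_of_le hle
  have hne : Nat.card P.range ≠ 1 := by
    intro h1
    have h2 : P.range = ⊥ := (Subgroup.eq_bot_iff_card _).2 h1
    have h3 : ∀ x : X, x ^ p ∈ commutator X := by
      intro x
      rw [← hmem]
      show P (o x) = 1
      have : P (o x) ∈ P.range := ⟨_, rfl⟩
      rw [h2] at this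
      exact this
    have h4 : frattini X ≤ commutator X := ActionFrattini.frattini_le hX _ le_rfl h3
    have h5 := Subgroup.card_le_of_le h4
    rw [hX'] at h5
    have h6 := (frattini X).card_mul_index
    rw [hΦ, hc] at h6
    have h7 : Nat.card (frattini X) = p ^ 2 := by
      have : Nat.card (frattini X) * p ^ 2 = p ^ 2 * p ^ 2 := by rw [h6]; ring
      exact Nat.eq_of_mul_eq_mul_right (pow_pos hp.out.pos 2) this
    rw [h7] at h5
    have := hp.out.two_le
    nlinarith
  have hdvd : Nat.card P.range ∣ p ^ 3 := hcardAb ▸ Subgroup.card_subgroup_dvd_card _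
  obtain ⟨j, -, hj⟩ := (Nat.dvd_prime_pow hp.out).1 hdvd
  have hjp : j = 1 := by
    rw [hj] at hle' hne
    have hj0 : j ≠ 0 := by
      rintro rfl
      exact hne (pow_zero p)
    by_contra hj1
    have h5 : p ^ 2 ≤ p ^ j := Nat.pow_le_pow_right hp.out.pos (by omega)
    have := hp.out.two_le
    nlinarith
  refine ⟨M, ?_, ?_⟩
  · intro α x hx
    rw [hmem] at hx ⊢
    rw [← map_pow]
    exact (ActionFrattini.char_mem (commutator X) α).2 hx
  · rw [hidx, hj, hjp, pow_one]

/-- The rank two non-abelian case: there is a characteristic maximal subgroup. -/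
theorem rank_two (hX : IsPGroup p X) (hc : Nat.card X = p ^ 4) (hΦ : (frattini X).index = p ^ 2)
    (hna : commutator X ≠ ⊥) :
    ∃ M : Subgroup X, (∀ α : MulAut X, ∀ x ∈ M, α x ∈ M) ∧ M.index = p := by
  classical
  have hΦcard : Nat.card (frattini X) = p ^ 2 := by
    have h6 := (frattini X).card_mul_index
    rw [hΦ, hc] at h6
    have : Nat.card (frattini X) * p ^ 2 = p ^ 2 * p ^ 2 := by rw [h6]; ring
    exact Nat.eq_of_mul_eq_mul_right (pow_pos hp.out.pos 2) this
  have hle : commutator X ≤ frattini X := FrattiniBasis.commutator_le_frattini hX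
  have hdvd : Nat.card (commutator X) ∣ p ^ 2 := hΦcard ▸ Subgroup.card_dvd_of_le hle
  obtain ⟨j, hj2, hj⟩ := (Nat.dvd_prime_pow hp.out).1 hdvd
  have hj0 : j ≠ 0 := by
    rintro rfl
    exact hna ((Subgroup.eq_bot_iff_card _).2 (by simpa using hj))
  obtain rfl | rfl : j = 1 ∨ j = 2 := by omega
  · exact exists_M_of_card_commutator hX hc hΦ (by simpa using hj)
  · -- the commutator subgroup is the Frattini subgroup, and the class is three
    have heq : commutator X = frattini X := Subgroup.eq_of_le_of_card_ge hle (by rw [hj, hΦcard])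
    have hmax : Subgroup.lowerCentralSeries (⊤ : Subgroup X) (4 - 2) ≠ ⊥ := by
      intro hbot
      have hcen : ∀ x y : X, ⁅x, y⁆ ∈ center X := by
        intro x y
        rw [Subgroup.mem_center_iff]
        intro g
        have h1 : ⁅⁅x, y⁆, g⁆ ∈ Subgroup.lowerCentralSeries (⊤ : Subgroup X) (4 - 2) := by
          show ⁅⁅x, y⁆, g⁆ ∈ ⁅⁅(⊤ : Subgroup X), (⊤ : Subgroup X)⁆, (⊤ : Subgroup X)⁆
          exact Subgroup.commutator_mem_commutator
            (Subgroup.commutator_mem_commutator (mem_top _) (mem_top _)) (mem_top _)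
        rw [hbot, Subgroup.mem_bot] at h1
        exact (commutatorElement_eq_one_iff_mul_comm.1 h1).symm
      obtain ⟨g, hg⟩ := FrattiniBasis.exists_generating_tuple hX hΦ
      have hgen : closure ({g 0, g 1} : Set X) = ⊤ := by
        rw [← hg]
        congr 1
        ext y
        constructor
        · rintro (rfl | rfl)
          · exact ⟨0, rfl⟩
          · exact ⟨1, rfl⟩
        · rintro ⟨i, rfl⟩
          fin_cases i
          · exact Or.inl rfl
          · exact Or.inr rfl
      have h1 := commutator_le_zpowers_of_gens hcen hgen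
      have h2 : ⁅g 0, g 1⁆ ^ p = 1 := by
        rw [← comm_pow_left hcen]
        have h3 : g 0 ^ p ∈ commutator X := heq ▸ FrattiniBasis.pow_mem_frattini hX _
        have h4 : g 0 ^ p ∈ center X := by
          have h5 : ∀ y ∈ commutator X, y ∈ center X := by
            intro y hy
            rw [commutator_def] at hy
            have : commutator X ≤ center X := by
              rw [commutator_def, Subgroup.commutator_le]
              intro a _ b _
              exact hcen a b
            exact this hy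
          exact h5 _ h3
        rw [Subgroup.mem_center_iff] at h4
        exact commutatorElement_eq_one_iff_mul_comm.2 (h4 _).symm
      have h3 : Nat.card (commutator X) ≤ p := by
        have h4 := Subgroup.card_le_of_le h1
        rw [Nat.card_zpowers] at h4
        exact h4.trans (Nat.le_of_dvd hp.out.pos (orderOf_dvd_of_pow_eq_one h2))
      rw [hj] at h3
      have := hp.out.two_le
      nlinarith
    obtain ⟨hc1, hc2⟩ := MaxClassCenter.card_center_of_maxClass hX hc le_rfl hmax
    obtain ⟨-, hidx⟩ := MaxClassCenter.centralizer_facts hX hc1 hc2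
    refine ⟨_, ?_, hidx⟩
    intro α x hx
    refine Subgroup.mem_centralizer_iff.2 fun w hw => ?_
    have h1 : α.symm w ∈ (Subgroup.upperCentralSeries X 2 : Set X) :=
      (ActionFrattini.char_mem (Subgroup.upperCentralSeries X 2) α.symm).2 hw
    have h2 := Subgroup.mem_centralizer_iff.1 hx _ h1
    have h3 := congrArg α h2
    rw [map_mul, map_mul, MulEquiv.apply_symm_apply] at h3
    exact h3

/-- The chain condition used to exclude essential subgroups. -/
def HasChain (X : Type*) [Group X] (p : ℕ) : Prop :=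
  ∃ (D : ℕ → Subgroup X) (m : ℕ), D 0 = frattini X ∧ D m = ⊤ ∧
    (∀ i ≤ m, ∀ α : MulAut X, ∀ x ∈ D i, α x ∈ D i) ∧
    ∀ i < m, ((D i).subgroupOf (D (i + 1))).index ≤ p

theorem chain_of_M (hc : Nat.card X = p ^ 4) (hΦcard : Nat.card (frattini X) = p)
    (hZ : Nat.card (center X) = p ^ 2) (hΦZ : frattini X ≤ center X) {M : Subgroup X}
    (hZM : center X ≤ M) (hM : Nat.card M = p ^ 3) (hinv : ∀ α : MulAut X, ∀ x ∈ M, α x ∈ M) :
    HasChain X p := by
  let D : ℕ → Subgroup X := fun i => match i with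
    | 0 => frattini X
    | 1 => center X
    | 2 => M
    | _ => ⊤
  refine ⟨D, 3, rfl, rfl, ?_, ?_⟩
  · intro i hi α x hx
    obtain rfl | rfl | rfl | rfl : i = 0 ∨ i = 1 ∨ i = 2 ∨ i = 3 := by omega
    · exact (ActionFrattini.char_mem (frattini X) α).2 hx
    · exact (ActionFrattini.char_mem (center X) α).2 hx
    · exact hinv α x hx
    · exact mem_top _
  · intro i hi
    obtain rfl | rfl | rfl : i = 0 ∨ i = 1 ∨ i = 2 := by omega
    · exact (index_subgroupOf_le hΦZ (k := p) (by rw [hΦcard, hZ, sq])).le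
    · exact (index_subgroupOf_le hZM (k := p) (by rw [hZ, hM]; ring)).le
    · refine (index_subgroupOf_le (A := M) (B := ⊤) le_top (k := p) ?_).le
      rw [Subgroup.card_top, hM, hc]
      ring

/-- A central complement gives a direct product. -/
theorem iso_prod_of_central {E C : Subgroup X} (hC : C ≤ center X)
    (hsurj : ∀ x : X, ∃ e ∈ E, ∃ c ∈ C, x = e * c)
    (hcard : Nat.card E * Nat.card C = Nat.card X) : Nonempty (X ≃* E × C) := by
  let f : E × C →* X := MonoidHom.mk' (fun z => (z.1 : X) * (z.2 : X)) (by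
    intro u v
    have h : (u.2 : X) * (v.1 : X) = (v.1 : X) * (u.2 : X) :=
      (Subgroup.mem_center_iff.1 (hC u.2.2) _).symm
    show ((u.1 : X) * (v.1 : X)) * ((u.2 : X) * (v.2 : X)) = ((u.1 : X) * (u.2 : X)) * ((v.1 : X) * (v.2 : X))
    rw [mul_assoc, mul_assoc, ← mul_assoc (v.1 : X), ← mul_assoc (u.2 : X), h])
  have hf : Function.Surjective f := by
    intro x
    obtain ⟨e, he, c, hc', rfl⟩ := hsurj x
    exact ⟨(⟨e, he⟩, ⟨c, hc'⟩), rfl⟩
  have hb : Function.Bijective f := by
    rw [Nat.bijective_iff_surjective_and_card]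
    exact ⟨hf, by rw [Nat.card_prod, hcard]⟩
  exact ⟨(MulEquiv.ofBijective f hb).symm⟩

/-- The basic data in rank three. -/
theorem rank_three_data (hX : IsPGroup p X) (hc : Nat.card X = p ^ 4)
    (hΦ : (frattini X).index = p ^ 3) {a b : X} (hab : a * b ≠ b * a) :
    commutator X = zpowers ⁅a, b⁆ ∧ frattini X = zpowers ⁅a, b⁆ ∧ orderOf ⁅a, b⁆ = p ∧
      (∀ x y : X, ⁅x, y⁆ ∈ center X) ∧ Nat.card (center X) = p ^ 2 ∧
      ∀ x : X, ∃ k ∈ center X, ∃ i j : ℕ, x = k * b ^ i * a ^ j := by
  classical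
  have hΦcard : Nat.card (frattini X) = p := by
    have h6 := (frattini X).card_mul_index
    rw [hΦ, hc] at h6
    have : Nat.card (frattini X) * p ^ 3 = p * p ^ 3 := by rw [h6]; ring
    exact Nat.eq_of_mul_eq_mul_right (pow_pos hp.out.pos 3) this
  have hw : ⁅a, b⁆ ≠ 1 := fun h => hab (commutatorElement_eq_one_iff_mul_comm.1 h)
  have hwc : ⁅a, b⁆ ∈ commutator X :=
    Subgroup.commutator_mem_commutator (mem_top _) (mem_top _)
  have hle : commutator X ≤ frattini X := FrattiniBasis.commutator_le_frattini hX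
  have hwΦ : ⁅a, b⁆ ∈ frattini X := hle hwc
  have hwp : ⁅a, b⁆ ^ p = 1 := by
    have h1 := pow_card_eq_one' (x := (⟨⁅a, b⁆, hwΦ⟩ : frattini X))
    rw [hΦcard] at h1
    exact congrArg (fun t : frattini X => (t : X)) h1
  have hord : orderOf ⁅a, b⁆ = p := orderOf_eq_prime hwp hw
  have hz : Nat.card (zpowers ⁅a, b⁆) = p := by rw [Nat.card_zpowers, hord]
  have hzle : zpowers ⁅a, b⁆ ≤ commutator X := (zpowers_le).2 hwc
  have h1 : commutator X = zpowers ⁅a, b⁆ := by
    refine (Subgroup.eq_of_le_of_card_ge hzle ?_).symm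
    rw [hz]
    calc Nat.card (commutator X) ≤ Nat.card (frattini X) := Subgroup.card_le_of_le hle
      _ = p := hΦcard
  have h2 : frattini X = zpowers ⁅a, b⁆ := by
    refine (Subgroup.eq_of_le_of_card_ge (hzle.trans hle) ?_).symm
    rw [hz, hΦcard]
  have hcen : ∀ x y : X, ⁅x, y⁆ ∈ center X := by
    have hne : commutator X ≠ ⊥ := by
      intro h
      rw [h] at hwc
      exact hw hwc
    have h3 := Cfsg.Agent.Lib.PGroup.Basic.inf_center_ne_bot hX hne
    have hcard' : Nat.card (commutator X) = p := by rw [h1, hz]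
    have h4 : commutator X ⊓ center X = commutator X := by
      have hd : Nat.card ↥(commutator X ⊓ center X) ∣ p :=
        hcard' ▸ Subgroup.card_dvd_of_le inf_le_left
      rcases (Nat.dvd_prime hp.out).1 hd with h5 | h5
      · exact absurd ((Subgroup.eq_bot_iff_card _).2 h5) h3
      · exact Subgroup.eq_of_le_of_card_ge inf_le_left (by rw [h5, hcard'])
    intro x y
    have h5 : ⁅x, y⁆ ∈ commutator X := Subgroup.commutator_mem_commutator (mem_top _) (mem_top _)
    rw [← h4] at h5
    exact h5.2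
  have hmem : ∀ x y : X, ⁅x, y⁆ ∈ zpowers ⁅a, b⁆ := by
    intro x y
    rw [← h1]
    exact Subgroup.commutator_mem_commutator (mem_top _) (mem_top _)
  have hmem' : ∀ x y : X, ⁅x, y⁆ ∈ zpowers ⁅b, a⁆ := by
    intro x y
    have h3 : zpowers ⁅b, a⁆ = zpowers ⁅a, b⁆ := by
      rw [← commutatorElement_inv a b, zpowers_inv]
    rw [h3]
    exact hmem x y
  -- elements with prescribed commutators
  have hex : ∀ i j : ℕ, ⁅a, b ^ i * a ^ j⁆ = ⁅a, b⁆ ^ i ∧ ⁅b, b ^ i * a ^ j⁆ = ⁅b, a⁆ ^ j := by
    intro i j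
    constructor
    · rw [comm_mul_right hcen, comm_pow_right hcen, comm_pow_right hcen, commutatorElement_self,
        one_pow, mul_one]
    · rw [comm_mul_right hcen, comm_pow_right hcen, comm_pow_right hcen, commutatorElement_self,
        one_pow, one_mul]
  have hrep : ∀ x : X, ∃ i j : ℕ, ⁅a, x⁆ = ⁅a, b⁆ ^ i ∧ ⁅b, x⁆ = ⁅b, a⁆ ^ j := by
    intro x
    have h3 := hmem a x
    have h4 := hmem' b x
    rw [← mem_powers_iff_mem_zpowers] at h3 h4
    obtain ⟨i, hi⟩ := h3
    obtain ⟨j, hj⟩ := h4
    exact ⟨i, j, hi.symm, hj.symm⟩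
  let f : X →* zpowers ⁅a, b⁆ × zpowers ⁅a, b⁆ :=
    MonoidHom.mk' (fun x => (⟨⁅a, x⁆, hmem _ _⟩, ⟨⁅b, x⁆, hmem _ _⟩)) (by
      intro u v
      refine Prod.ext (Subtype.ext ?_) (Subtype.ext ?_)
      · exact comm_mul_right hcen a u v
      · exact comm_mul_right hcen b u v)
  have hfker : ∀ x, x ∈ f.ker ↔ ⁅a, x⁆ = 1 ∧ ⁅b, x⁆ = 1 := by
    intro x
    rw [MonoidHom.mem_ker]
    constructor
    · intro h
      exact ⟨congrArg (fun t : zpowers ⁅a, b⁆ × zpowers ⁅a, b⁆ => ((t.1 : zpowers ⁅a, b⁆) : X)) h,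
        congrArg (fun t : zpowers ⁅a, b⁆ × zpowers ⁅a, b⁆ => ((t.2 : zpowers ⁅a, b⁆) : X)) h⟩
    · rintro ⟨h3, h4⟩
      exact Prod.ext (Subtype.ext h3) (Subtype.ext h4)
  have hfsurj : Function.Surjective f := by
    rintro ⟨⟨u, hu⟩, ⟨v, hv⟩⟩
    have h3 : zpowers ⁅b, a⁆ = zpowers ⁅a, b⁆ := by
      rw [← commutatorElement_inv a b, zpowers_inv]
    have hu' := hu
    have hv' := hv
    rw [← h3] at hv'
    rw [← mem_powers_iff_mem_zpowers] at hu' hv'
    obtain ⟨i, rfl⟩ := hu'
    obtain ⟨j, rfl⟩ := hv'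
    refine ⟨b ^ i * a ^ j, Prod.ext (Subtype.ext ?_) (Subtype.ext ?_)⟩
    · exact (hex i j).1
    · exact (hex i j).2
  have hKidx : f.ker.index = p ^ 2 := by
    rw [Subgroup.index_ker, MonoidHom.range_eq_top.2 hfsurj, Subgroup.card_top, Nat.card_prod, hz, sq]
  have hKcard : Nat.card f.ker = p ^ 2 := by
    have h3 := f.ker.card_mul_index
    rw [hKidx, hc] at h3
    have : Nat.card f.ker * p ^ 2 = p ^ 2 * p ^ 2 := by rw [h3]; ring
    exact Nat.eq_of_mul_eq_mul_right (pow_pos hp.out.pos 2) this
  have hKab := IsPGroup.isMulCommutative_of_card_eq_prime_sq (G := f.ker) hKcard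
  have hdec : ∀ x : X, ∃ i j : ℕ, x * (b ^ i * a ^ j)⁻¹ ∈ f.ker := by
    intro x
    obtain ⟨i, j, hi, hj⟩ := hrep x
    refine ⟨i, j, (hfker _).2 ⟨?_, ?_⟩⟩
    · rw [comm_mul_right hcen, comm_inv_right hcen, (hex i j).1, hi, mul_inv_cancel]
    · rw [comm_mul_right hcen, comm_inv_right hcen, (hex i j).2, hj, mul_inv_cancel]
  have hKZ : f.ker = center X := by
    apply le_antisymm
    · intro k hk
      obtain ⟨hk1, hk2⟩ := (hfker k).1 hk
      have hka : Commute a k := commutatorElement_eq_one_iff_mul_comm.1 hk1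
      have hkb : Commute b k := commutatorElement_eq_one_iff_mul_comm.1 hk2
      refine Subgroup.mem_center_iff.2 fun g => ?_
      obtain ⟨i, j, hij⟩ := hdec g
      have h3 : g = (g * (b ^ i * a ^ j)⁻¹) * (b ^ i * a ^ j) := by group
      have h4 : Commute (g * (b ^ i * a ^ j)⁻¹) k := by
        have h5 := hKab.is_comm.comm (⟨_, hij⟩ : f.ker) (⟨k, hk⟩ : f.ker)
        exact congrArg (fun t : f.ker => (t : X)) h5
      have h6 : Commute (b ^ i * a ^ j) k := (hkb.pow_left i).mul_left (hka.pow_left j)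
      have h7 : Commute g k := by
        rw [h3]
        exact h4.mul_left h6
      exact h7
    · intro z hz'
      rw [hfker]
      have hzc := Subgroup.mem_center_iff.1 hz'
      exact ⟨commutatorElement_eq_one_iff_mul_comm.2 (hzc a),
        commutatorElement_eq_one_iff_mul_comm.2 (hzc b)⟩
  refine ⟨h1, h2, hord, hcen, by rw [← hKZ]; exact hKcard, fun x => ?_⟩
  obtain ⟨i, j, hij⟩ := hdec x
  refine ⟨_, hKZ ▸ hij, i, j, ?_⟩
  group

/-- Classification in rank three. -/
theorem rank_three (hX : IsPGroup p X) (hc : Nat.card X = p ^ 4)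
    (hΦ : (frattini X).index = p ^ 3) {a b : X} (hab : a * b ≠ b * a) :
    HasChain X p ∨
      (p ≠ 2 ∧ ∃ E C : Subgroup X, Nat.card E = p ^ 3 ∧ Nat.card C = p ∧ (∀ x ∈ E, x ^ p = 1) ∧
        (∃ x ∈ E, ∃ y ∈ E, x * y ≠ y * x) ∧ Nonempty (X ≃* E × C)) ∨
      (p = 2 ∧ Nonempty (X ≃* QuaternionGroup 2 × Multiplicative (ZMod 2))) ∨
      ((∀ x : X, x ^ (p ^ 2) = 1) ∧ IsCyclic (center X) ∧ Nat.card (center X) = p ^ 2) := by
  classical
  obtain ⟨h1, h2, hord, hcen, hZ, hdec⟩ := rank_three_data hX hc hΦ hab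
  have hΦcard : Nat.card (frattini X) = p := by rw [h2, Nat.card_zpowers, hord]
  have hwp : ⁅a, b⁆ ^ p = 1 := by rw [← hord]; exact pow_orderOf_eq_one _
  have hzw : ∀ y ∈ zpowers ⁅a, b⁆, y ^ p = 1 := by
    rintro _ ⟨k, rfl⟩
    show (⁅a, b⁆ ^ k) ^ p = 1
    rw [← zpow_natCast, ← zpow_mul, mul_comm, zpow_mul, zpow_natCast, hwp, one_zpow]
  have hcomm_p : ∀ x y : X, ⁅x, y⁆ ^ p = 1 := by
    intro x y
    refine hzw _ ?_
    rw [← h1]
    exact Subgroup.commutator_mem_commutator (mem_top _) (mem_top _)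
  have hpowmem : ∀ x : X, x ^ p ∈ zpowers ⁅a, b⁆ := by
    intro x
    rw [← h2]
    exact FrattiniBasis.pow_mem_frattini hX x
  have hΦZ : frattini X ≤ center X := by
    rw [h2, zpowers_le]
    exact hcen a b
  by_cases hcyc : IsCyclic (center X)
  · right; right; right
    refine ⟨fun x => ?_, hcyc, hZ⟩
    rw [sq, pow_mul]
    exact hzw _ (hpowmem x)
  have hzp : ∀ z ∈ center X, z ^ p = 1 := by
    intro z hz
    have h3 : orderOf (⟨z, hz⟩ : center X) ∣ p ^ 2 := by
      rw [← hZ]
      exact orderOf_dvd_natCard _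
    obtain ⟨j, hj2, hj⟩ := (Nat.dvd_prime_pow hp.out).1 h3
    by_cases h4 : j = 2
    · exfalso
      apply hcyc
      refine isCyclic_of_orderOf_eq_card (⟨z, hz⟩ : center X) ?_
      rw [hj, h4, hZ]
    · have h5 : j ≤ 1 := by omega
      have h6 : orderOf (⟨z, hz⟩ : center X) ∣ p := by
        rw [hj]
        calc p ^ j ∣ p ^ 1 := pow_dvd_pow p h5
          _ = p := pow_one p
      have h7 := orderOf_dvd_iff_pow_eq_one.1 h6
      exact congrArg (fun t : center X => (t : X)) h7
  obtain ⟨c, hcZ, hcw⟩ : ∃ c ∈ center X, c ∉ zpowers ⁅a, b⁆ := by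
    by_contra hall
    push Not at hall
    have h3 : Nat.card (center X) ≤ Nat.card (zpowers ⁅a, b⁆) := Subgroup.card_le_of_le hall
    rw [hZ, Nat.card_zpowers, hord, sq] at h3
    have := hp.out.two_le
    nlinarith
  have hc1 : c ≠ 1 := fun h => hcw (h ▸ one_mem _)
  have hcord : orderOf c = p := orderOf_eq_prime (hzp c hcZ) hc1
  let C : Subgroup X := zpowers c
  have hCcard : Nat.card C = p := by rw [Nat.card_zpowers, hcord]
  have hCZ : C ≤ center X := (zpowers_le).2 hcZ
  let E : Subgroup X := closure ({a, b} : Set X)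
  have haE : a ∈ E := subset_closure (Or.inl rfl)
  have hbE : b ∈ E := subset_closure (Or.inr rfl)
  have hwE : ⁅a, b⁆ ∈ E := by
    show a * b * a⁻¹ * b⁻¹ ∈ E
    exact E.mul_mem (E.mul_mem (E.mul_mem haE hbE) (E.inv_mem haE)) (E.inv_mem hbE)
  haveI hCn : C.Normal := by
    refine ⟨fun n hn g => ?_⟩
    have : g * n * g⁻¹ = n := by
      have h3 := Subgroup.mem_center_iff.1 (hCZ hn) g
      rw [h3, mul_inv_cancel_right]
    rw [this]
    exact hn
  have hZsup : zpowers ⁅a, b⁆ ⊔ C = center X := by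
    refine Subgroup.eq_of_le_of_card_ge (sup_le ((zpowers_le).2 (hcen a b)) hCZ) ?_
    have hlt : zpowers ⁅a, b⁆ < zpowers ⁅a, b⁆ ⊔ C := by
      refine lt_of_le_of_ne le_sup_left fun h => hcw ?_
      rw [h]
      exact (le_sup_right : C ≤ _) (mem_zpowers c)
    have h3 := MaxClassCenter.mul_card_le_of_lt hX hlt
    rw [Nat.card_zpowers, hord] at h3
    rw [hZ, sq]
    exact h3
  have hsurj : ∀ x : X, ∃ e ∈ E, ∃ c' ∈ C, x = e * c' := by
    intro x
    obtain ⟨k, hk, i, j, rfl⟩ := hdec x
    rw [← hZsup] at hk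
    obtain ⟨y, hy, z, hz, rfl⟩ := (Subgroup.mem_sup_of_normal_right).1 hk
    refine ⟨y * b ^ i * a ^ j, ?_, z, hz, ?_⟩
    · refine E.mul_mem (E.mul_mem ?_ (E.pow_mem hbE i)) (E.pow_mem haE j)
      exact ((zpowers_le).2 hwE) hy
    · have hzc := Subgroup.mem_center_iff.1 (hCZ hz)
      calc y * z * b ^ i * a ^ j = y * (z * b ^ i) * a ^ j := by group
        _ = y * (b ^ i * z) * a ^ j := by rw [hzc (b ^ i)]
        _ = y * b ^ i * (z * a ^ j) := by group
        _ = y * b ^ i * (a ^ j * z) := by rw [hzc (a ^ j)]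
        _ = _ := by group
  have hEcard : Nat.card E = p ^ 3 := by
    have hge : p ^ 4 ≤ Nat.card E * p := by
      rw [← hc, ← hCcard, ← Nat.card_prod]
      refine Nat.card_le_card_of_surjective (fun z : E × C => (z.1 : X) * (z.2 : X)) ?_
      intro x
      obtain ⟨e, he, c', hc', rfl⟩ := hsurj x
      exact ⟨(⟨e, he⟩, ⟨c', hc'⟩), rfl⟩
    have hge' : p ^ 3 ≤ Nat.card E := by
      have : p ^ 3 * p ≤ Nat.card E * p := by rw [← pow_succ]; exact hge
      exact Nat.le_of_mul_le_mul_right this hp.out.pos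
    have hd : Nat.card E ∣ p ^ 4 := hc ▸ Subgroup.card_subgroup_dvd_card E
    obtain ⟨j, hj4, hj⟩ := (Nat.dvd_prime_pow hp.out).1 hd
    have hne : j ≠ 4 := by
      rintro rfl
      have h3 : E = ⊤ := by
        refine Subgroup.eq_of_le_of_card_ge le_top ?_
        rw [Subgroup.card_top, hc, hj]
      have h4 := (FrattiniBasis.burnside_basis hX hΦ).2 ({a, b} : Finset X) (by
        rw [Finset.coe_pair]
        exact h3)
      have h5 : ({a, b} : Finset X).card ≤ 2 := Finset.card_le_two
      omega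
    have h3 : p ^ j ≤ p ^ 3 := Nat.pow_le_pow_right hp.out.pos (by omega)
    rw [hj] at hge' ⊢
    exact le_antisymm h3 hge'
  have hiso : Nonempty (X ≃* E × C) :=
    iso_prod_of_central hCZ hsurj (by rw [hEcard, hCcard, hc]; ring)
  by_cases hp2 : p = 2
  · subst hp2
    obtain ⟨w, hw⟩ : ∃ w, w = ⁅a, b⁆ := ⟨_, rfl⟩
    rw [← hw] at hwp hzw hpowmem h1 h2 hord hcw hwE hZsup
    have hw1 : w ≠ 1 := by
      rintro rfl
      rw [orderOf_one] at hord
      omega
    have hwinv : w⁻¹ = w := inv_eq_of_mul_eq_one_left (by rw [← sq, hwp])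
    have hwZ : w ∈ center X := hw ▸ hcen a b
    have hba : ⁅b, a⁆ = w := by rw [← commutatorElement_inv, ← hw, hwinv]
    have htwo : ∀ y ∈ zpowers w, y = 1 ∨ y = w := by
      intro y hy
      rw [← mem_powers_iff_mem_zpowers] at hy
      obtain ⟨n, rfl⟩ := hy
      show w ^ n = 1 ∨ w ^ n = w
      rw [pow_eq_pow_mod n hwp]
      rcases Nat.mod_two_eq_zero_or_one n with h3 | h3
      · left; rw [h3, pow_zero]
      · right; rw [h3, pow_one]
    have hsq : ∀ x : X, x ^ 2 = 1 ∨ x ^ 2 = w := fun x => htwo _ (hpowmem x)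
    have hmulsq : ∀ x y : X, (x * y) ^ 2 = x ^ 2 * y ^ 2 * ⁅y, x⁆ := by
      intro x y
      have h3 := mul_pow_class_two hcen x y 2
      rwa [Nat.choose_self, pow_one] at h3
    by_cases hQ : a ^ 2 = w ∧ b ^ 2 = w
    · right; right; left
      obtain ⟨ha2, hb2⟩ := hQ
      refine ⟨rfl, ?_⟩
      have hordA : orderOf (⟨a, haE⟩ : E) = 2 * 2 := by
        rw [Subgroup.orderOf_mk]
        have := orderOf_eq_prime_pow (p := 2) (n := 1) (x := a)
          (by rw [pow_one, ha2]; exact hw1)
          (by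
            rw [show 2 ^ (1 + 1) = 2 * 2 from rfl, pow_mul, ha2, hwp])
        rw [this]
        norm_num
      obtain ⟨eQ⟩ := CyclicMax.quaternionEquivOfGens 2 (G := E) (by rw [hEcard]; norm_num)
        (⟨a, haE⟩ : E) (⟨b, hbE⟩ : E) hordA
        (by
          apply Subtype.ext
          show b * b = a ^ 2
          rw [← sq, hb2, ha2])
        (by
          apply Subtype.ext
          show b * a * b⁻¹ = a⁻¹
          have h3 : b * a * b⁻¹ * a⁻¹ = w := hba
          have h4 : a * a = w := by rw [← sq, ha2]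
          have h5 : w * a * a = 1 := by rw [mul_assoc, h4, ← sq, hwp]
          have h6 : a⁻¹ = w * a := inv_eq_of_mul_eq_one_left h5
          rw [h6]
          exact mul_inv_eq_iff_eq_mul.1 h3)
        (by
          intro hmem
          obtain ⟨n, hn⟩ := hmem
          apply hab
          have h3 : a ^ n = b := congrArg (fun t : E => (t : X)) hn
          rw [← h3]
          exact (Commute.refl a).zpow_right n)
      obtain ⟨eC⟩ := hiso
      have hCC : Nat.card (Multiplicative (ZMod 2)) = 2 := by simp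
      exact ⟨eC.trans (MulEquiv.prodCongr eQ (mulEquivOfPrimeCardEq hCcard hCC))⟩
    · left
      obtain ⟨u, v, hu, hv, huv⟩ : ∃ u v : X, u ^ 2 = w ∧ v ^ 2 = 1 ∧ u * v ≠ v * u := by
        rcases hsq a with ha | ha <;> rcases hsq b with hb | hb
        · refine ⟨a * b, a, ?_, ha, ?_⟩
          · rw [hmulsq, ha, hb, hba, one_mul, one_mul]
          · intro h
            apply hab
            have h3 : a * b * a = a * (a * b) := h
            rw [mul_assoc] at h3
            exact (mul_left_cancel h3).symm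
        · exact ⟨b, a, hb, ha, fun h => hab h.symm⟩
        · exact ⟨a, b, ha, hb, hab⟩
        · exact absurd ⟨ha, hb⟩ hQ
      obtain ⟨-, -, -, -, -, hdec'⟩ := rank_three_data hX hc hΦ huv
      have huvw : ⁅u, v⁆ = w := by
        have h3 : ⁅u, v⁆ ∈ zpowers w := by
          rw [← h1]
          exact Subgroup.commutator_mem_commutator (mem_top _) (mem_top _)
        rcases htwo _ h3 with h4 | h4
        · exact absurd (commutatorElement_eq_one_iff_mul_comm.1 h4) huv
        · exact h4
      have hkw : ∀ k y : X, k ∈ center X → (k * y) ^ 2 = y ^ 2 := by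
        intro k y hk
        have h3 : Commute k y := (Subgroup.mem_center_iff.1 hk y).symm
        rw [h3.mul_pow, hzp k hk, one_mul]
      have hvusq : (v * u) ^ 2 = 1 := by rw [hmulsq, hv, hu, huvw, one_mul, ← sq, hwp]
      have hred2 : ∀ x : X, ∃ k ∈ center X, ∃ ε δ : ℕ, ε < 2 ∧ δ < 2 ∧ x = k * v ^ ε * u ^ δ := by
        intro x
        obtain ⟨k, hk, i, j, rfl⟩ := hdec' x
        refine ⟨k * w ^ (j / 2), mul_mem hk (pow_mem hwZ _), i % 2, j % 2,
          Nat.mod_lt _ (by norm_num), Nat.mod_lt _ (by norm_num), ?_⟩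
        have h3 : v ^ i = v ^ (i % 2) := pow_eq_pow_mod i hv
        have h4 : u ^ j = w ^ (j / 2) * u ^ (j % 2) := by
          conv_lhs => rw [← Nat.div_add_mod j 2, pow_add, pow_mul, hu]
        rw [h3, h4]
        have hwc := Subgroup.mem_center_iff.1 (pow_mem hwZ (j / 2))
        calc k * v ^ (i % 2) * (w ^ (j / 2) * u ^ (j % 2))
            = k * (v ^ (i % 2) * w ^ (j / 2)) * u ^ (j % 2) := by group
          _ = k * (w ^ (j / 2) * v ^ (i % 2)) * u ^ (j % 2) := by rw [hwc]
          _ = _ := by group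
      have hreduce : ∀ x : X, x ^ 2 ≠ 1 → ∃ k ∈ center X, x = k * u := by
        intro x hx
        obtain ⟨k, hk, ε, δ, hε, hδ, rfl⟩ := hred2 x
        interval_cases ε <;> interval_cases δ
        · exfalso
          apply hx
          simp only [pow_zero, mul_one]
          exact hzp k hk
        · exact ⟨k, hk, by simp⟩
        · exfalso
          apply hx
          simp only [pow_zero, mul_one, pow_one]
          rw [hkw k v hk, hv]
        · exfalso
          apply hx
          simp only [pow_one]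
          rw [mul_assoc, hkw k _ hk, hvusq]
      let M : Subgroup X := center X ⊔ zpowers u
      have hMa : ∀ x : X, x ^ 2 ≠ 1 → x ∈ M := by
        intro x hx
        obtain ⟨k, hk, rfl⟩ := hreduce x hx
        exact M.mul_mem ((le_sup_left : center X ≤ M) hk) ((le_sup_right : zpowers u ≤ M) (mem_zpowers u))
      have hMb : ∀ x ∈ M, x ∈ center X ∨ x ^ 2 ≠ 1 := by
        intro x hx
        obtain ⟨z, hz, y, hy, rfl⟩ := (Subgroup.mem_sup_of_normal_left).1 hx
        rw [← mem_powers_iff_mem_zpowers] at hy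
        obtain ⟨n, rfl⟩ := hy
        have h4 : u ^ n = w ^ (n / 2) * u ^ (n % 2) := by
          conv_lhs => rw [← Nat.div_add_mod n 2, pow_add, pow_mul, hu]
        show z * u ^ n ∈ center X ∨ (z * u ^ n) ^ 2 ≠ 1
        rw [h4, ← mul_assoc]
        have hzw' : z * w ^ (n / 2) ∈ center X := mul_mem hz (pow_mem hwZ _)
        rcases Nat.mod_two_eq_zero_or_one n with h3 | h3
        · left
          rw [h3, pow_zero, mul_one]
          exact hzw'
        · right
          rw [h3, pow_one, hkw _ _ hzw', hu]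
          exact hw1
      have huZ : u ∉ center X := by
        intro h
        exact huv (Subgroup.mem_center_iff.1 h v).symm
      have hvM : v ∉ M := by
        intro h
        rcases hMb v h with h3 | h3
        · exact huv (Subgroup.mem_center_iff.1 h3 u)
        · exact h3 hv
      have hMcard : Nat.card M = 2 ^ 3 := by
        have hlt : center X < M := by
          refine lt_of_le_of_ne le_sup_left fun h => huZ ?_
          rw [h]
          exact (le_sup_right : zpowers u ≤ M) (mem_zpowers u)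
        have hge := MaxClassCenter.mul_card_le_of_lt hX hlt
        rw [hZ] at hge
        have hd : Nat.card M ∣ 2 ^ 4 := hc ▸ Subgroup.card_subgroup_dvd_card M
        obtain ⟨j, hj4, hj⟩ := (Nat.dvd_prime_pow hp.out).1 hd
        have hne : j ≠ 4 := by
          rintro rfl
          have h3 : M = ⊤ := by
            refine Subgroup.eq_of_le_of_card_ge le_top ?_
            rw [Subgroup.card_top, hc, hj]
          exact hvM (h3 ▸ mem_top v)
        rw [hj] at hge ⊢
        have h5 : j = 3 := by
          have h6 : 3 ≤ j := by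
            by_contra hlt'
            have h7 : 2 ^ j ≤ 2 ^ 2 := Nat.pow_le_pow_right (by norm_num) (by omega)
            omega
          omega
        rw [h5]
      refine chain_of_M hc hΦcard hZ hΦZ (M := M) le_sup_left hMcard ?_
      intro α x hx
      rcases hMb x hx with h3 | h3
      · exact (le_sup_left : center X ≤ M) ((ActionFrattini.char_mem (center X) α).2 h3)
      · refine hMa _ fun h4 => h3 ?_
        rw [← map_pow] at h4
        exact (map_eq_one_iff α α.injective).1 h4
  · by_cases hexp : ∀ x : X, x ^ p = 1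
    · right; left
      exact ⟨hp2, E, C, hEcard, hCcard, fun x _ => hexp x, ⟨a, haE, b, hbE, hab⟩, hiso⟩
    · left
      push Not at hexp
      obtain ⟨x₀, hx₀⟩ := hexp
      let P : X →* X := MonoidHom.mk' (fun x => x ^ p) (fun x y => mul_pow_odd hp2 hcen (hcomm_p y x))
      have hPx : ∀ x, P x = x ^ p := fun _ => rfl
      have hrange : P.range = zpowers ⁅a, b⁆ := by
        refine Subgroup.eq_of_le_of_card_ge ?_ ?_
        · rintro _ ⟨x, rfl⟩
          exact hpowmem x
        · rw [Nat.card_zpowers, hord]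
          have hne : P.range ≠ ⊥ := by
            intro h
            have : P x₀ ∈ P.range := ⟨_, rfl⟩
            rw [h] at this
            exact hx₀ this
          have hle : P.range ≤ zpowers ⁅a, b⁆ := by
            rintro _ ⟨x, rfl⟩
            exact hpowmem x
          have hd : Nat.card P.range ∣ p := by
            have := Subgroup.card_dvd_of_le hle
            rwa [Nat.card_zpowers, hord] at this
          rcases (Nat.dvd_prime hp.out).1 hd with h3 | h3
          · exact absurd ((Subgroup.eq_bot_iff_card _).2 h3) hne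
          · exact h3.ge
      have hMidx : P.ker.index = p := by
        rw [Subgroup.index_ker, hrange, Nat.card_zpowers, hord]
      have hMcard : Nat.card P.ker = p ^ 3 := by
        have h3 := P.ker.card_mul_index
        rw [hMidx, hc] at h3
        have : Nat.card P.ker * p = p ^ 3 * p := by rw [h3]; ring
        exact Nat.eq_of_mul_eq_mul_right hp.out.pos this
      refine chain_of_M hc hΦcard hZ hΦZ (M := P.ker) ?_ hMcard ?_
      · intro z hz
        exact hzp z hz
      · intro α x hx
        show (α x) ^ p = 1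
        have h3 : x ^ p = 1 := hx
        rw [← map_pow, h3, map_one]

end Pure

section Abelian

variable {X : Type*} [CommGroup X] [Finite X] {p : ℕ} [hp : Fact p.Prime]

theorem mul_six_aux {G : Type*} [CommGroup G] (x x' y y' z z' : G) :
    x * x' * (y * y') * (z * z') = x * y * z * (x' * y' * z') := by
  ac_rfl

theorem abelian_rank_three (hc : Nat.card X = p ^ 4) (hΦ : (frattini X).index = p ^ 3) :
    Nonempty (X ≃* Multiplicative (ZMod (p ^ 2) × ZMod p × ZMod p)) := by
  classical
  have hX : IsPGroup p X := IsPGroup.of_card hc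
  obtain ⟨g, hg⟩ := FrattiniBasis.exists_generating_tuple hX hΦ
  have hΦcard : Nat.card (frattini X) = p := by
    have h6 := (frattini X).card_mul_index
    rw [hΦ, hc] at h6
    have : Nat.card (frattini X) * p ^ 3 = p * p ^ 3 := by rw [h6]; ring
    exact Nat.eq_of_mul_eq_mul_right (pow_pos hp.out.pos 3) this
  have hrange : frattini X = (powMonoidHom p : X →* X).range :=
    AbelianEssential.frattini_eq_range_pow hX
  have hΦp : ∀ y ∈ frattini X, y ^ p = 1 := by
    intro y hy
    have h1 := pow_card_eq_one' (x := (⟨y, hy⟩ : frattini X))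
    rw [hΦcard] at h1
    exact congrArg (fun t : frattini X => (t : X)) h1
  have hpowmem : ∀ x : X, x ^ p ∈ frattini X := fun x => by
    rw [hrange]
    exact ⟨x, rfl⟩
  -- a generator of order `p²`
  obtain ⟨a, b, c, hgen, ha⟩ : ∃ a b c : X, closure ({a, b, c} : Set X) = ⊤ ∧ a ^ p ≠ 1 := by
    by_cases h0 : g 0 ^ p ≠ 1
    · refine ⟨g 0, g 1, g 2, ?_, h0⟩
      rw [← hg]
      congr 1
      ext y
      constructor
      · rintro (rfl | rfl | rfl)
        · exact ⟨0, rfl⟩
        · exact ⟨1, rfl⟩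
        · exact ⟨2, rfl⟩
      · rintro ⟨i, rfl⟩
        fin_cases i
        · exact Or.inl rfl
        · exact Or.inr (Or.inl rfl)
        · exact Or.inr (Or.inr rfl)
    by_cases h1 : g 1 ^ p ≠ 1
    · refine ⟨g 1, g 0, g 2, ?_, h1⟩
      rw [← hg]
      congr 1
      ext y
      constructor
      · rintro (rfl | rfl | rfl)
        · exact ⟨1, rfl⟩
        · exact ⟨0, rfl⟩
        · exact ⟨2, rfl⟩
      · rintro ⟨i, rfl⟩
        fin_cases i
        · exact Or.inr (Or.inl rfl)
        · exact Or.inl rfl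
        · exact Or.inr (Or.inr rfl)
    by_cases h2 : g 2 ^ p ≠ 1
    · refine ⟨g 2, g 0, g 1, ?_, h2⟩
      rw [← hg]
      congr 1
      ext y
      constructor
      · rintro (rfl | rfl | rfl)
        · exact ⟨2, rfl⟩
        · exact ⟨0, rfl⟩
        · exact ⟨1, rfl⟩
      · rintro ⟨i, rfl⟩
        fin_cases i
        · exact Or.inr (Or.inl rfl)
        · exact Or.inr (Or.inr rfl)
        · exact Or.inl rfl
    exfalso
    push Not at h0 h1 h2
    have hker : (powMonoidHom p : X →* X).ker = ⊤ := by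
      rw [eq_top_iff, ← hg, closure_le]
      rintro _ ⟨i, rfl⟩
      fin_cases i
      · exact h0
      · exact h1
      · exact h2
    have hbot : frattini X = ⊥ := by
      rw [hrange, eq_bot_iff]
      rintro _ ⟨x, rfl⟩
      have : x ∈ (powMonoidHom p : X →* X).ker := by rw [hker]; exact mem_top x
      exact this
    rw [hbot] at hΦcard
    simp at hΦcard
    exact hp.out.one_lt.ne hΦcard
  have hzp : frattini X = zpowers (a ^ p) := by
    have hle : zpowers (a ^ p) ≤ frattini X := (zpowers_le).2 (hpowmem a)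
    refine (Subgroup.eq_of_le_of_card_ge hle ?_).symm
    rw [hΦcard, Nat.card_zpowers, orderOf_eq_prime (hΦp _ (hpowmem a)) ha]
  have hadj : ∀ y : X, ∃ y' : X, y' ^ p = 1 ∧ ∃ k : ℕ, y = y' * a ^ k := by
    intro y
    have h1 := hpowmem y
    rw [hzp, ← mem_powers_iff_mem_zpowers] at h1
    obtain ⟨k, hk⟩ := h1
    have hk' : (a ^ p) ^ k = y ^ p := hk
    refine ⟨y * (a ^ k)⁻¹, ?_, k, by group⟩
    rw [mul_pow, inv_pow, ← hk', ← pow_mul, ← pow_mul, mul_comm p k, mul_inv_cancel]
  obtain ⟨b', hb', kb, hkb⟩ := hadj b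
  obtain ⟨c', hc', kc, hkc⟩ := hadj c
  have hgen' : closure ({a, b', c'} : Set X) = ⊤ := by
    rw [eq_top_iff, ← hgen, closure_le]
    have ha' : a ∈ closure ({a, b', c'} : Set X) := subset_closure (Or.inl rfl)
    have hb1 : b' ∈ closure ({a, b', c'} : Set X) := subset_closure (Or.inr (Or.inl rfl))
    have hc1 : c' ∈ closure ({a, b', c'} : Set X) := subset_closure (Or.inr (Or.inr rfl))
    rintro y (rfl | rfl | rfl)
    · exact ha'
    · rw [hkb]
      exact mul_mem hb1 (pow_mem ha' _)
    · rw [hkc]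
      exact mul_mem hc1 (pow_mem ha' _)
  have ha2 : a ^ p ^ 2 = 1 := by
    rw [sq, pow_mul]
    exact hΦp _ (hpowmem a)
  haveI : NeZero (p ^ 2) := ⟨pow_ne_zero 2 hp.out.ne_zero⟩
  haveI : NeZero p := ⟨hp.out.ne_zero⟩
  have hval : ∀ (n : ℕ) [NeZero n] (y : X), y ^ n = 1 → ∀ s t : ZMod n,
      y ^ (s + t).val = y ^ s.val * y ^ t.val := by
    intro n _ y hy s t
    rw [ZMod.val_add, ← pow_add, pow_eq_pow_mod (s.val + t.val) hy]
  have hone : ∀ (n : ℕ) [NeZero n], 1 < n → (1 : ZMod n).val = 1 := by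
    intro n _ hn
    haveI : Fact (1 < n) := ⟨hn⟩
    exact ZMod.val_one n
  let ψ : Multiplicative (ZMod (p ^ 2) × ZMod p × ZMod p) →* X :=
    MonoidHom.mk' (fun z => a ^ (Multiplicative.toAdd z).1.val * b' ^ (Multiplicative.toAdd z).2.1.val *
        c' ^ (Multiplicative.toAdd z).2.2.val)
      (fun u v => by
        show a ^ ((Multiplicative.toAdd u).1 + (Multiplicative.toAdd v).1).val *
          b' ^ ((Multiplicative.toAdd u).2.1 + (Multiplicative.toAdd v).2.1).val *
          c' ^ ((Multiplicative.toAdd u).2.2 + (Multiplicative.toAdd v).2.2).val = _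
        rw [hval _ a ha2, hval _ b' hb', hval _ c' hc']
        exact mul_six_aux _ _ _ _ _ _)
  have hsurj : Function.Surjective ψ := by
    rw [← MonoidHom.range_eq_top, eq_top_iff, ← hgen', closure_le]
    rintro y (rfl | rfl | rfl)
    · refine ⟨Multiplicative.ofAdd (1, 0, 0), ?_⟩
      show y ^ (1 : ZMod (p ^ 2)).val * b' ^ (0 : ZMod p).val * c' ^ (0 : ZMod p).val = _
      rw [hone _ (Nat.one_lt_pow (by norm_num) hp.out.one_lt), ZMod.val_zero, pow_one, pow_zero,
        pow_zero, mul_one, mul_one]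
    · refine ⟨Multiplicative.ofAdd (0, 1, 0), ?_⟩
      show a ^ (0 : ZMod (p ^ 2)).val * y ^ (1 : ZMod p).val * c' ^ (0 : ZMod p).val = _
      rw [hone _ hp.out.one_lt, ZMod.val_zero, ZMod.val_zero, pow_one, pow_zero, pow_zero, mul_one, one_mul]
    · refine ⟨Multiplicative.ofAdd (0, 0, 1), ?_⟩
      show a ^ (0 : ZMod (p ^ 2)).val * b' ^ (0 : ZMod p).val * y ^ (1 : ZMod p).val = _
      rw [hone _ hp.out.one_lt, ZMod.val_zero, ZMod.val_zero, pow_one, pow_zero, pow_zero, one_mul, one_mul]
  have hb : Function.Bijective ψ := by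
    rw [Nat.bijective_iff_surjective_and_card]
    refine ⟨hsurj, ?_⟩
    rw [hc]
    show Nat.card (ZMod (p ^ 2) × ZMod p × ZMod p) = _
    rw [Nat.card_prod, Nat.card_prod, Nat.card_zmod, Nat.card_zmod]
    ring
  exact ⟨(MulEquiv.ofBijective ψ hb).symm⟩

end Abelian

section Pure3

variable {X : Type*} [Group X] [Finite X]

theorem comm_of_gens_le_one {r : ℕ} (hr : r ≤ 1) (g : Fin r → X) (hg : closure (Set.range g) = ⊤)
    (a b : X) : a * b = b * a := by
  interval_cases r
  · have h1 : (⊥ : Subgroup X) = ⊤ := by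
      rw [← hg]
      simp
    have ha : a ∈ (⊥ : Subgroup X) := h1 ▸ mem_top a
    have hb : b ∈ (⊥ : Subgroup X) := h1 ▸ mem_top b
    rw [Subgroup.mem_bot] at ha hb
    rw [ha, hb]
  · have h2 : Set.range g = {g 0} := by
      ext y
      constructor
      · rintro ⟨i, rfl⟩
        rw [Fin.eq_zero i]
        rfl
      · rintro rfl
        exact ⟨0, rfl⟩
    rw [h2, ← Subgroup.zpowers_eq_closure] at hg
    have ha : a ∈ zpowers (g 0) := hg ▸ mem_top a
    have hb : b ∈ zpowers (g 0) := hg ▸ mem_top b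
    obtain ⟨m, rfl⟩ := ha
    obtain ⟨n, rfl⟩ := hb
    exact ((Commute.refl (g 0)).zpow_zpow m n).eq

end Pure3

end Cfsg.Agent.Lib.Fusion.OrderFour
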