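/-
The defining characteristic fusion system of `PSL_n(F)`, `n ≥ 3`, is simple.
-/
import Mathlib
import Cfsg.Prelude.Def_FusionSystem
import Cfsg.Agent.Lib.Linalg.AutPSLSylow
import Cfsg.Agent.Lib.Linalg.Transvection
import Cfsg.Agent.Lib.Classical.Lin.RootSeed
import Cfsg.Agent.Lib.Fusion.SimpleCriterion3
import Cfsg.Agent.Lib.Basic.SylowUtil

set_option autoImplicit false
set_option linter.unusedSectionVars false
set_option linter.unusedSimpArgs false
set_option linter.unusedVariables false

namespace Cfsg.Agent.Lib.Fusion.PSLnDef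

open Matrix Cfsg Cfsg.Agent.Lib.Linalg.AutPSLBasic Cfsg.Agent.Lib.Linalg.AutPSLSylow
open Cfsg.Agent.Lib.Classical.Lin.RootSeed
open Cfsg.Agent.Lib.Fusion.SimpleCriterion3 Cfsg.Agent.Lib.Fusion.GroupSylow
open scoped commutatorElement

variable {n : ℕ} {F : Type*} [Field F]

local notation "tv" => Matrix.SpecialLinearGroup.transvection

/-! ### Entries -/

theorem tv_entry {i j : Fin n} (h : i ≠ j) (c : F) (a b : Fin n) :
    ((tv h c : Matrix.SpecialLinearGroup (Fin n) F) : Matrix (Fin n) (Fin n) F) a b =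
      (if a = b then 1 else 0) + (if a = i ∧ b = j then c else 0) :=
  Cfsg.Agent.Lib.Linalg.Transvection.transvection_apply_eq i j a b c

theorem T_single_eq {k j : Fin n} (hkj : k ≠ j) (s : F) :
    T (Pi.single k 1 : Fin n → F) (s • Pi.single j 1) =
      ((tv hkj s : Matrix.SpecialLinearGroup (Fin n) F) : Matrix (Fin n) (Fin n) F) := by
  ext a b
  rw [tv_entry]
  simp only [T, Matrix.add_apply, vecMulVec_apply, Matrix.one_apply, Pi.smul_apply,
    Pi.single_apply, smul_eq_mul]
  by_cases h1 : a = k <;> by_cases h2 : b = j <;> simp [h1, h2]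

theorem T_entry (w ψ : Fin n → F) (a b : Fin n) :
    T w ψ a b = (if a = b then 1 else 0) + w a * ψ b := by
  simp [T, Matrix.add_apply, vecMulVec_apply, Matrix.one_apply]

/-! ### Generation of the unitriangular group -/

section gen
variable [Finite F]

theorem USL_le {H : Subgroup (Matrix.SpecialLinearGroup (Fin n) F)}
    (hH : ∀ (i j : Fin n) (hij : i < j) (c : F), tv (ne_of_lt hij) c ∈ H) : USL n F ≤ H := by
  classical
  -- all rows above `k` may be cleared
  have hrow : ∀ (k : Fin n) (ψ : Fin n → F), (∀ j, j ≤ k → ψ j = 0) →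
      InH H (Pi.single k 1) ψ := by
    intro k ψ hψ
    have key : ∀ A : Finset (Fin n), (∀ j ∈ A, k < j) →
        InH H (Pi.single k 1) (∑ j ∈ A, ψ j • Pi.single j (1 : F)) := by
      intro A
      induction A using Finset.induction_on with
      | empty => intro _; simpa using InH.zero _
      | insert a A ha ih =>
        intro hi
        have hka : k < a := hi a (Finset.mem_insert_self _ _)
        rw [Finset.sum_insert ha]
        refine InH.add ?_ ⟨_, hH k a hka (ψ a), (T_single_eq (ne_of_lt hka) (ψ a)).symm⟩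
          (ih fun j hj => hi j (Finset.mem_insert_of_mem hj))
        simp [Pi.single_apply, (ne_of_lt hka), (ne_of_lt hka).symm]
    have h1 := key (Finset.univ.filter fun j => k < j) (by simp)
    have h2 : ∑ j ∈ Finset.univ.filter (fun j => k < j), ψ j • Pi.single j (1 : F) = ψ := by
      funext j
      rw [Finset.sum_apply]
      by_cases hj : k < j
      · rw [Finset.sum_eq_single j]
        · simp
        · intro b _ hb
          simp [Pi.single_apply, Ne.symm hb]
        · intro hj'
          simp [hj] at hj'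
      · rw [hψ j (not_lt.mp hj), Finset.sum_eq_zero]
        intro b hb
        have hb' : k < b := by simpa using hb
        have : j ≠ b := fun e => hj (e ▸ hb')
        simp [Pi.single_apply, this]
    rwa [h2] at h1
  have main : ∀ m : ℕ, m ≤ n → ∀ u : Matrix.SpecialLinearGroup (Fin n) F, IsUT u →
      (∀ a : Fin n, a.val < n - m → ∀ b, (u : Matrix (Fin n) (Fin n) F) a b = if a = b then 1 else 0) →
      u ∈ H := by
    intro m
    induction m with
    | zero =>
      intro _ u _ hu
      have : u = 1 := by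
        apply Subtype.ext
        ext a b
        rw [hu a (by have := a.2; omega) b]
        simp [Matrix.one_apply]
      rw [this]
      exact H.one_mem
    | succ m ih =>
      intro hm u hUT hu
      let k : Fin n := ⟨n - m - 1, by omega⟩
      let φ : Fin n → F := fun j => if k < j then -(u : Matrix (Fin n) (Fin n) F) k j else 0
      have hφ : ∀ j, j ≤ k → φ j = 0 := by
        intro j hj
        simp [φ, not_lt.mpr hj]
      obtain ⟨t, ht, et⟩ := hrow k φ hφ
      have hmul : u = (u * t) * t⁻¹ := by group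
      rw [hmul]
      refine H.mul_mem (ih (by omega) (u * t) ?_ ?_) (H.inv_mem ht)
      all_goals
        have hentry : ∀ a b, ((u * t : Matrix.SpecialLinearGroup (Fin n) F) : Matrix (Fin n) (Fin n) F) a b =
            (u : Matrix (Fin n) (Fin n) F) a b + (u : Matrix (Fin n) (Fin n) F) a k * φ b := by
          intro a b
          rw [Matrix.SpecialLinearGroup.coe_mul, et, T, Matrix.mul_add, Matrix.mul_one,
            Matrix.add_apply, Matrix.mul_apply]
          congr 1
          rw [Finset.sum_eq_single k]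
          · simp [vecMulVec_apply]
          · intro c _ hc
            simp [vecMulVec_apply, hc]
          · simp
      · constructor
        · intro a b hba
          rw [hentry, hUT.1 a b hba]
          by_cases hb : k < b
          · rw [hUT.1 a k (hb.trans hba)]
            simp
          · simp [φ, hb]
        · intro a
          rw [hentry, hUT.2 a]
          by_cases hb : k < a
          · rw [hUT.1 a k hb]
            simp
          · simp [φ, hb]
      · intro a ha b
        rw [hentry]
        by_cases hak : a = k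
        · subst hak
          by_cases hb : k < b
          · simp only [φ, if_pos hb, hUT.2 k]
            simp [ne_of_lt hb]
          · simp only [φ, if_neg hb, mul_zero, add_zero]
            rcases lt_or_eq_of_le (not_lt.mp hb) with h | h
            · rw [hUT.1 k b h, if_neg (ne_of_gt h)]
            · rw [h, hUT.2 k]
              simp
        · have hlt : a.val < n - (m + 1) := by
            have : a.val ≠ n - m - 1 := fun e => hak (Fin.ext e)
            omega
          rw [hu a hlt b, hu a hlt k, if_neg hak]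
          simp
  refine fun u hu => main n le_rfl u hu ?_
  intro a ha
  have := a.2
  omega

end gen

/-! ### Unipotent elements -/

section unip
variable [Finite F] {p : ℕ} [hp : Fact p.Prime] [hc : CharP F p]

/-- `p`-elements of `SL`. -/
def PEl (p : ℕ) (A : Matrix.SpecialLinearGroup (Fin n) F) : Prop := ∃ a : ℕ, A ^ (p ^ a) = 1

theorem PEl.conj {A : Matrix.SpecialLinearGroup (Fin n) F} (h : PEl p A)
    (g : Matrix.SpecialLinearGroup (Fin n) F) : PEl p (g * A * g⁻¹) := by
  obtain ⟨a, ha⟩ := h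
  exact ⟨a, by rw [conj_pow, ha]; simp⟩

include hc in
/-- The map to `PSL` is injective on `p`-elements. -/
theorem eq_of_mkP_eq [NeZero n] {A B : Matrix.SpecialLinearGroup (Fin n) F} (hA : PEl p A)
    (hB : PEl p B) (h : mkP A = mkP B) : A = B := by
  obtain ⟨r, hr⟩ := mkP_eq_iff.1 h
  obtain ⟨a, ha⟩ := hA
  obtain ⟨b, hb⟩ := hB
  have ha' : A ^ (p ^ (a + b)) = 1 := by rw [pow_add, pow_mul, ha, one_pow]
  have hb' : B ^ (p ^ (a + b)) = 1 := by rw [add_comm, pow_add, pow_mul, hb, one_pow]
  have h1 : (B : Matrix (Fin n) (Fin n) F) ^ (p ^ (a + b)) = 1 := by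
    rw [← Matrix.SpecialLinearGroup.coe_pow, hb']; rfl
  have h2 : (A : Matrix (Fin n) (Fin n) F) ^ (p ^ (a + b)) = 1 := by
    rw [← Matrix.SpecialLinearGroup.coe_pow, ha']; rfl
  rw [hr, smul_pow, h2] at h1
  have h3 : r ^ (p ^ (a + b)) = 1 := by
    have := congrFun (congrFun h1 ⟨0, NeZero.pos n⟩) ⟨0, NeZero.pos n⟩
    simpa using this
  have h4 : r = 1 := by
    have h5 : (r - 1) ^ (p ^ (a + b)) = 0 := by
      rw [sub_pow_char_pow, h3, one_pow, sub_self]
    exact sub_eq_zero.1 (pow_eq_zero_iff (by have := hp.out.pos; positivity) |>.1 h5)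
  subst h4
  apply Subtype.ext
  rw [hr, one_smul]

theorem rt_pow (v f : Fin n → F) (h : f ⬝ᵥ v = 0) (c : F) (m : ℕ) :
    rt v f h c ^ m = rt v f h ((m : F) * c) := by
  induction m with
  | zero => simp [rt_zero]
  | succ m ih =>
    rw [pow_succ, ih, ← rt_add]
    congr 1
    push_cast
    ring

include hc in
theorem tv_pow_p {i j : Fin n} (h : i ≠ j) (c : F) : (tv h c) ^ p = 1 := by
  rw [transvection_eq_rt, rt_pow, CharP.cast_eq_zero, zero_mul, rt_zero]

include hc in
theorem pEl_tv {i j : Fin n} (h : i ≠ j) (c : F) : PEl p (tv h c) :=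
  ⟨1, by rw [pow_one, tv_pow_p]⟩

include hc in
/-- Elementary transvections have order a power of `p` in `PSL`. -/
theorem order_mkP_tv {i j : Fin n} (h : i ≠ j) (c : F) :
    ∃ k : ℕ, orderOf (mkP (tv h c)) = p ^ k := by
  have h1 : orderOf (mkP (tv h c)) ∣ p := by
    apply orderOf_dvd_of_pow_eq_one
    rw [← map_pow, tv_pow_p, map_one]
  rcases (Nat.dvd_prime hp.out).1 h1 with h2 | h2
  · exact ⟨0, by simpa using h2⟩
  · exact ⟨1, by simpa using h2⟩

theorem pEl_of_USL {f : ℕ} (hF : Nat.card F = p ^ f) {u : Matrix.SpecialLinearGroup (Fin n) F}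
    (hu : IsUT u) : PEl p u := by
  obtain ⟨k, hk⟩ := isPGroup_USL (p := p) (n := n) hF ⟨u, hu⟩
  exact ⟨k, congrArg Subtype.val hk⟩

include hc in
theorem mem_USL_of_mkP_mem [NeZero n] {f : ℕ} (hF : Nat.card F = p ^ f)
    {A : Matrix.SpecialLinearGroup (Fin n) F} (hA : PEl p A) (h : mkP A ∈ UP n F) : IsUT A := by
  obtain ⟨u, hu, e⟩ := h
  rwa [← eq_of_mkP_eq (p := p) (pEl_of_USL hF hu) hA e]

/-! ### Strongly closed subgroups -/

theorem step1 {T : Subgroup (ProjectiveSpecialLinearGroup (Fin n) F)}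
    (hcl : ∀ x ∈ T, ∀ g, g * x * g⁻¹ ∈ UP n F → g * x * g⁻¹ ∈ T)
    {i k j : Fin n} (hkj : k < j) (hij : i < j) (hik : i ≠ k) (a b : F)
    (h : mkP (tv (ne_of_lt hkj) b) ∈ T) : mkP (tv (ne_of_lt hij) (a * b)) ∈ T := by
  have hcomm := Cfsg.Agent.Lib.Linalg.Transvection.commutator_transvection (ne_of_lt hij) hik
    (ne_of_lt hkj) a b
  have e : tv hik a * tv (ne_of_lt hkj) b * (tv hik a)⁻¹ =
      tv (ne_of_lt hij) (a * b) * tv (ne_of_lt hkj) b := by
    rw [← hcomm, commutatorElement_def]; group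
  have h1 : mkP (tv hik a) * mkP (tv (ne_of_lt hkj) b) * (mkP (tv hik a))⁻¹ =
      mkP (tv (ne_of_lt hij) (a * b)) * mkP (tv (ne_of_lt hkj) b) := by
    rw [← map_inv, ← map_mul, ← map_mul, e, map_mul]
  have h2 : mkP (tv (ne_of_lt hij) (a * b)) * mkP (tv (ne_of_lt hkj) b) ∈ UP n F := by
    rw [← map_mul]
    exact ⟨_, (isUT_transvection hij _).mul (isUT_transvection hkj _), rfl⟩
  have h3 := hcl _ h (mkP (tv hik a)) (by rw [h1]; exact h2)
  rw [h1] at h3
  have h4 := T.mul_mem h3 (T.inv_mem h)
  simpa using h4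

theorem step2 {T : Subgroup (ProjectiveSpecialLinearGroup (Fin n) F)}
    (hcl : ∀ x ∈ T, ∀ g, g * x * g⁻¹ ∈ UP n F → g * x * g⁻¹ ∈ T)
    {i k j : Fin n} (hik : i < k) (hij : i < j) (hkj : k ≠ j) (a b : F)
    (h : mkP (tv (ne_of_lt hik) a) ∈ T) : mkP (tv (ne_of_lt hij) (-(a * b))) ∈ T := by
  have hcomm := Cfsg.Agent.Lib.Linalg.Transvection.commutator_transvection (ne_of_lt hij)
    (ne_of_lt hik) hkj a b
  have e : tv hkj b * tv (ne_of_lt hik) a * (tv hkj b)⁻¹ =
      tv (ne_of_lt hij) (-(a * b)) * tv (ne_of_lt hik) a := by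
    rw [← Matrix.SpecialLinearGroup.transvection_inv, ← hcomm, commutatorElement_def]; group
  have h1 : mkP (tv hkj b) * mkP (tv (ne_of_lt hik) a) * (mkP (tv hkj b))⁻¹ =
      mkP (tv (ne_of_lt hij) (-(a * b))) * mkP (tv (ne_of_lt hik) a) := by
    rw [← map_inv, ← map_mul, ← map_mul, e, map_mul]
  have h2 : mkP (tv (ne_of_lt hij) (-(a * b))) * mkP (tv (ne_of_lt hik) a) ∈ UP n F := by
    rw [← map_mul]
    exact ⟨_, (isUT_transvection hij _).mul (isUT_transvection hik _), rfl⟩
  have h3 := hcl _ h (mkP (tv hkj b)) (by rw [h1]; exact h2)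
  rw [h1] at h3
  have h4 := T.mul_mem h3 (T.inv_mem h)
  simpa using h4

theorem all_tv (hn : 3 ≤ n) {T : Subgroup (ProjectiveSpecialLinearGroup (Fin n) F)}
    (hcl : ∀ x ∈ T, ∀ g, g * x * g⁻¹ ∈ UP n F → g * x * g⁻¹ ∈ T)
    {c : F} (hc0 : c ≠ 0) (h : mkP (tv (i0_ne_i1 hn) c) ∈ T) {i j : Fin n} (hij : i < j) (d : F) :
    mkP (tv (ne_of_lt hij) d) ∈ T := by
  let i₁ : Fin n := ⟨1, by omega⟩
  have h1z : i₁ < i1 hn := by simp only [i₁, i1, Fin.mk_lt_mk]; omega
  have h10 : i₁ ≠ i0 hn := by simp [i₁, i0, Fin.ext_iff]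
  have hA : ∀ d : F, mkP (tv (ne_of_lt h1z) d) ∈ T := by
    intro d
    have := step1 hcl (i0_lt_i1 hn) h1z h10 (d / c) c h
    rwa [div_mul_cancel₀ _ hc0] at this
  have hB : ∀ {i : Fin n} (hi : i < i1 hn) (d : F), mkP (tv (ne_of_lt hi) d) ∈ T := by
    intro i hi d
    by_cases hi1 : i = i₁
    · subst hi1
      exact hA d
    · have := step1 hcl h1z hi hi1 d 1 (hA 1)
      rwa [mul_one] at this
  by_cases hj : j = i1 hn
  · subst hj
    exact hB hij d
  · have hjlt : j < i1 hn := lt_of_le_of_ne (le_i1 hn j) hj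
    have := step2 hcl (hij.trans hjlt) hij (Ne.symm hj) 1 (-d) (hB (hij.trans hjlt) 1)
    simpa using this

include hc in
theorem stronglyClosed_cases [NeZero n] (hn : 3 ≤ n) {f : ℕ} (hF : Nat.card F = p ^ f)
    {T : Subgroup (ProjectiveSpecialLinearGroup (Fin n) F)}
    (hT : (groupFusionSystem (UP n F)).StronglyClosed T) : T = ⊥ ∨ T = UP n F := by
  classical
  obtain ⟨hle, hcl⟩ := stronglyClosed_iff.1 hT
  by_cases hbot : T = ⊥
  · exact Or.inl hbot
  right
  have hTn : (T.subgroupOf (UP n F)).Normal := by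
    constructor
    intro x hx g
    rw [Subgroup.mem_subgroupOf] at hx ⊢
    exact hcl _ hx _ (by exact_mod_cast (g * x * g⁻¹).2)
  have hne : T.subgroupOf (UP n F) ≠ ⊥ := by
    intro h
    rw [Subgroup.subgroupOf_eq_bot] at h
    exact hbot (h.eq_bot_of_le hle)
  have hZ := Cfsg.Agent.Lib.Basic.SylowUtil.inf_center_ne_bot_of_isPGroup (isPGroup_UP hF) hne
  obtain ⟨⟨y, hy⟩, hy1⟩ := (Subgroup.ne_bot_iff_exists_ne_one).1 hZ
  have hyT : ((y : UP n F) : ProjectiveSpecialLinearGroup (Fin n) F) ∈ T :=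
    Subgroup.mem_subgroupOf.1 hy.1
  have hyc : ((y : UP n F) : ProjectiveSpecialLinearGroup (Fin n) F) ∈ X0 hn F := by
    refine mem_X0_of_central hn y.2 fun z hz => ?_
    have := Subgroup.mem_center_iff.1 hy.2 ⟨z, hz⟩
    exact (congrArg Subtype.val this).symm
  obtain ⟨c, hc'⟩ := mem_X0.1 hyc
  have hc0 : c ≠ 0 := by
    rintro rfl
    apply hy1
    apply Subtype.ext
    apply Subtype.ext
    rw [hc']
    simp
  rw [hc'] at hyT
  refine le_antisymm hle ?_
  refine Subgroup.map_le_iff_le_comap.2 (USL_le fun i j hij d => ?_)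
  exact all_tv hn hcl hc0 hyT hij d

/-! ### The unipotent radicals of the two extreme maximal parabolic subgroups -/

theorem inv_mem_of_finite {G : Type*} [Group G] [Finite G] (M : Submonoid G) {s : G} (hs : s ∈ M) :
    s⁻¹ ∈ M := by
  have h1 : s⁻¹ = s ^ (orderOf s - 1) := by
    have h0 : 0 < orderOf s := orderOf_pos s
    apply inv_eq_of_mul_eq_one_left
    rw [← pow_succ, Nat.sub_add_cancel h0, pow_orderOf_eq_one]
  rw [h1]
  exact M.pow_mem hs _

/-- Matrices which are the identity off the row `a`. -/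
def RowS (a : Fin n) : Subgroup (Matrix.SpecialLinearGroup (Fin n) F) where
  carrier := {r | ∀ i, i ≠ a → ∀ j, (r : Matrix (Fin n) (Fin n) F) i j = if i = j then 1 else 0}
  mul_mem' := by
    intro r r' hr hr' i hi j
    rw [Matrix.SpecialLinearGroup.coe_mul, Matrix.mul_apply, Finset.sum_eq_single i]
    · rw [hr i hi i, if_pos rfl, one_mul, hr' i hi j]
    · intro k _ hk
      rw [hr i hi k, if_neg (Ne.symm hk), zero_mul]
    · simp
  one_mem' := by
    intro i _ j
    simp [Matrix.one_apply]
  inv_mem' := by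
    intro s hs
    exact inv_mem_of_finite (M := { carrier := {r : Matrix.SpecialLinearGroup (Fin n) F | ∀ i, i ≠ a → ∀ j, (r : Matrix (Fin n) (Fin n) F) i j = if i = j then 1 else 0}
                                    mul_mem' := by
                                      intro r r' hr hr' i hi j
                                      rw [Matrix.SpecialLinearGroup.coe_mul, Matrix.mul_apply, Finset.sum_eq_single i]
                                      · rw [hr i hi i, if_pos rfl, one_mul, hr' i hi j]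
                                      · intro k _ hk
                                        rw [hr i hi k, if_neg (Ne.symm hk), zero_mul]
                                      · simp
                                    one_mem' := by
                                      intro i _ j
                                      simp [Matrix.one_apply] }) hs

/-- Matrices which are the identity off the column `b`. -/
def ColS (b : Fin n) : Subgroup (Matrix.SpecialLinearGroup (Fin n) F) where
  carrier := {r | ∀ j, j ≠ b → ∀ i, (r : Matrix (Fin n) (Fin n) F) i j = if i = j then 1 else 0}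
  mul_mem' := by
    intro r r' hr hr' j hj i
    rw [Matrix.SpecialLinearGroup.coe_mul, Matrix.mul_apply, Finset.sum_eq_single j]
    · rw [hr' j hj j, if_pos rfl, mul_one, hr j hj i]
    · intro k _ hk
      rw [hr' j hj k, if_neg hk, mul_zero]
    · simp
  one_mem' := by
    intro j _ i
    simp [Matrix.one_apply]
  inv_mem' := by
    intro s hs
    exact inv_mem_of_finite (M := { carrier := {r : Matrix.SpecialLinearGroup (Fin n) F | ∀ j, j ≠ b → ∀ i, (r : Matrix (Fin n) (Fin n) F) i j = if i = j then 1 else 0}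
                                    mul_mem' := by
                                      intro r r' hr hr' j hj i
                                      rw [Matrix.SpecialLinearGroup.coe_mul, Matrix.mul_apply, Finset.sum_eq_single j]
                                      · rw [hr' j hj j, if_pos rfl, mul_one, hr j hj i]
                                      · intro k _ hk
                                        rw [hr' j hj k, if_neg hk, mul_zero]
                                      · simp
                                    one_mem' := by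
                                      intro j _ i
                                      simp [Matrix.one_apply] }) hs

theorem mem_RowS {a : Fin n} {r : Matrix.SpecialLinearGroup (Fin n) F} :
    r ∈ RowS a ↔ ∀ i, i ≠ a → ∀ j, (r : Matrix (Fin n) (Fin n) F) i j = if i = j then 1 else 0 :=
  Iff.rfl

theorem mem_ColS {b : Fin n} {r : Matrix.SpecialLinearGroup (Fin n) F} :
    r ∈ ColS b ↔ ∀ j, j ≠ b → ∀ i, (r : Matrix (Fin n) (Fin n) F) i j = if i = j then 1 else 0 :=
  Iff.rfl

theorem coe_mul_inv_apply (s : Matrix.SpecialLinearGroup (Fin n) F) (i j : Fin n) :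
    ∑ l, (s : Matrix (Fin n) (Fin n) F) i l * ((s⁻¹ : Matrix.SpecialLinearGroup (Fin n) F) : Matrix (Fin n) (Fin n) F) l j =
      if i = j then 1 else 0 := by
  have := congrFun (congrFun (coe_mul_inv s) i) j
  rwa [Matrix.mul_apply, Matrix.one_apply] at this

theorem coe_inv_mul_apply (s : Matrix.SpecialLinearGroup (Fin n) F) (i j : Fin n) :
    ∑ l, ((s⁻¹ : Matrix.SpecialLinearGroup (Fin n) F) : Matrix (Fin n) (Fin n) F) i l * (s : Matrix (Fin n) (Fin n) F) l j =
      if i = j then 1 else 0 := by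
  have := congrFun (congrFun (coe_inv_mul s) i) j
  rwa [Matrix.mul_apply, Matrix.one_apply] at this

/-- Elements with `s i a = 0`, `i ≠ a` normalize `RowS a`. -/
theorem conj_mem_RowS {a : Fin n} {s r : Matrix.SpecialLinearGroup (Fin n) F}
    (hs : ∀ i, i ≠ a → (s : Matrix (Fin n) (Fin n) F) i a = 0) (hr : r ∈ RowS a) :
    s * r * s⁻¹ ∈ RowS a := by
  intro i hi j
  have h1 : ∀ l, ((s * r : Matrix.SpecialLinearGroup (Fin n) F) : Matrix (Fin n) (Fin n) F) i l =
      (s : Matrix (Fin n) (Fin n) F) i l := by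
    intro l
    rw [Matrix.SpecialLinearGroup.coe_mul, Matrix.mul_apply, Finset.sum_eq_single l]
    · by_cases hl : l = a
      · subst hl
        rw [hs i hi]
        simp
      · rw [hr l hl l, if_pos rfl, mul_one]
    · intro k _ hk
      by_cases hka : k = a
      · subst hka
        rw [hs i hi, zero_mul]
      · rw [hr k hka l, if_neg hk, mul_zero]
    · simp
  rw [Matrix.SpecialLinearGroup.coe_mul, Matrix.mul_apply, ← coe_mul_inv_apply s i j]
  exact Finset.sum_congr rfl fun l _ => by rw [h1]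

/-- Elements with `s b j = 0`, `j ≠ b` normalize `ColS b`. -/
theorem conj_mem_ColS {b : Fin n} {s r : Matrix.SpecialLinearGroup (Fin n) F}
    (hs : ∀ j, j ≠ b → (s : Matrix (Fin n) (Fin n) F) b j = 0) (hr : r ∈ ColS b) :
    s⁻¹ * r * s ∈ ColS b := by
  intro j hj i
  have h1 : ∀ l, ((r * s : Matrix.SpecialLinearGroup (Fin n) F) : Matrix (Fin n) (Fin n) F) l j =
      (s : Matrix (Fin n) (Fin n) F) l j := by
    intro l
    rw [Matrix.SpecialLinearGroup.coe_mul, Matrix.mul_apply, Finset.sum_eq_single l]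
    · by_cases hl : l = b
      · subst hl
        rw [hs j hj]
        simp
      · rw [hr l hl l, if_pos rfl, one_mul]
    · intro k _ hk
      by_cases hkb : k = b
      · subst hkb
        rw [hs j hj, mul_zero]
      · rw [hr k hkb l, if_neg (Ne.symm hk), zero_mul]
    · simp
  rw [mul_assoc, Matrix.SpecialLinearGroup.coe_mul, Matrix.mul_apply, ← coe_inv_mul_apply s i j]
  exact Finset.sum_congr rfl fun l _ => by rw [h1]

theorem RowS_le_USL (hn : 3 ≤ n) : RowS (i0 hn) ≤ USL n F := by
  intro r hr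
  have hlow : ∀ i j : Fin n, j < i → (r : Matrix (Fin n) (Fin n) F) i j = 0 := by
    intro i j hji
    have hi : i ≠ i0 hn := by
      intro e
      have := i0_le hn j
      rw [← e] at this
      exact absurd hji (not_lt.mpr this)
    rw [hr i hi j, if_neg (ne_of_gt hji)]
  have hdet : (r : Matrix (Fin n) (Fin n) F).det = ∏ i, (r : Matrix (Fin n) (Fin n) F) i i :=
    Matrix.det_of_isUpperTriangular (fun i j hij => hlow i j hij)
  refine ⟨hlow, fun i => ?_⟩
  by_cases hi : i = i0 hn
  · subst hi
    rw [r.2, Finset.prod_eq_single (i0 hn)] at hdet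
    · exact hdet.symm
    · intro b _ hb
      rw [hr b hb b, if_pos rfl]
    · simp
  · rw [hr i hi i, if_pos rfl]

theorem ColS_le_USL (hn : 3 ≤ n) : ColS (i1 hn) ≤ USL n F := by
  intro r hr
  have hlow : ∀ i j : Fin n, j < i → (r : Matrix (Fin n) (Fin n) F) i j = 0 := by
    intro i j hji
    have hj : j ≠ i1 hn := by
      intro e
      have := le_i1 hn i
      rw [← e] at this
      exact absurd hji (not_lt.mpr this)
    rw [hr j hj i, if_neg (ne_of_gt hji)]
  have hdet : (r : Matrix (Fin n) (Fin n) F).det = ∏ i, (r : Matrix (Fin n) (Fin n) F) i i :=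
    Matrix.det_of_isUpperTriangular (fun i j hij => hlow i j hij)
  refine ⟨hlow, fun i => ?_⟩
  by_cases hi : i = i1 hn
  · subst hi
    rw [r.2, Finset.prod_eq_single (i1 hn)] at hdet
    · exact hdet.symm
    · intro b _ hb
      rw [hr b hb b, if_pos rfl]
    · simp
  · rw [hr i hi i, if_pos rfl]

/-- The image of `RowS` in `PSL`. -/
noncomputable def RP (hn : 3 ≤ n) (F : Type*) [Field F] [Finite F] :
    Subgroup (ProjectiveSpecialLinearGroup (Fin n) F) := (RowS (i0 hn)).map mkP

/-- The image of `ColS` in `PSL`. -/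
noncomputable def CP (hn : 3 ≤ n) (F : Type*) [Field F] [Finite F] :
    Subgroup (ProjectiveSpecialLinearGroup (Fin n) F) := (ColS (i1 hn)).map mkP

theorem RP_le_UP (hn : 3 ≤ n) : RP hn F ≤ UP n F := Subgroup.map_mono (RowS_le_USL hn)

theorem CP_le_UP (hn : 3 ≤ n) : CP hn F ≤ UP n F := Subgroup.map_mono (ColS_le_USL hn)

theorem mkP_mem_normalizer_RP (hn : 3 ≤ n) {s : Matrix.SpecialLinearGroup (Fin n) F}
    (hs : ∀ i, i ≠ i0 hn → (s : Matrix (Fin n) (Fin n) F) i (i0 hn) = 0) :
    mkP s ∈ Subgroup.normalizer ((RP hn F : Subgroup _) : Set (ProjectiveSpecialLinearGroup (Fin n) F)) := by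
  apply Cfsg.Agent.Lib.Fusion.SimpleCriterion2.mem_normalizer_of_conj_le'
  rintro _ ⟨r, hr, rfl⟩
  exact ⟨s * r * s⁻¹, conj_mem_RowS hs hr, by simp⟩

theorem mkP_mem_normalizer_CP (hn : 3 ≤ n) {s : Matrix.SpecialLinearGroup (Fin n) F}
    (hs : ∀ j, j ≠ i1 hn → (s : Matrix (Fin n) (Fin n) F) (i1 hn) j = 0) :
    mkP s ∈ Subgroup.normalizer ((CP hn F : Subgroup _) : Set (ProjectiveSpecialLinearGroup (Fin n) F)) := by
  have : (mkP s)⁻¹ ∈ Subgroup.normalizer ((CP hn F : Subgroup _) : Set (ProjectiveSpecialLinearGroup (Fin n) F)) := by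
    apply Cfsg.Agent.Lib.Fusion.SimpleCriterion2.mem_normalizer_of_conj_le'
    rintro _ ⟨r, hr, rfl⟩
    exact ⟨s⁻¹ * r * s, conj_mem_ColS hs hr, by simp⟩
  simpa using Subgroup.inv_mem _ this

theorem UP_le_normalizer_RP (hn : 3 ≤ n) :
    UP n F ≤ Subgroup.normalizer ((RP hn F : Subgroup _) : Set (ProjectiveSpecialLinearGroup (Fin n) F)) := by
  rintro _ ⟨u, hu, rfl⟩
  refine mkP_mem_normalizer_RP hn fun i hi => hu.1 i _ (lt_of_le_of_ne (i0_le hn i) (Ne.symm hi))

theorem UP_le_normalizer_CP (hn : 3 ≤ n) :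
    UP n F ≤ Subgroup.normalizer ((CP hn F : Subgroup _) : Set (ProjectiveSpecialLinearGroup (Fin n) F)) := by
  rintro _ ⟨u, hu, rfl⟩
  refine mkP_mem_normalizer_CP hn fun j hj => hu.1 _ j (lt_of_le_of_ne (le_i1 hn j) hj)

/-! ### Centralizers -/

/-- An upper triangular element of `SL` with constant diagonal is a scalar times an element of `SL`. -/
theorem exists_scalar_form [NeZero n] {s : Matrix.SpecialLinearGroup (Fin n) F} {c : F}
    (hup : ∀ i j : Fin n, j < i → (s : Matrix (Fin n) (Fin n) F) i j = 0)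
    (hd : ∀ i, (s : Matrix (Fin n) (Fin n) F) i i = c) :
    ∃ r : Matrix.SpecialLinearGroup (Fin n) F, mkP r = mkP s ∧ c ≠ 0 ∧
      ∀ i j, (r : Matrix (Fin n) (Fin n) F) i j = c⁻¹ * (s : Matrix (Fin n) (Fin n) F) i j := by
  have hdet : (s : Matrix (Fin n) (Fin n) F).det = ∏ i, (s : Matrix (Fin n) (Fin n) F) i i :=
    Matrix.det_of_isUpperTriangular (fun i j hij => hup i j hij)
  rw [s.2, Finset.prod_congr rfl (fun i _ => hd i), Finset.prod_const, Finset.card_univ,
    Fintype.card_fin] at hdet
  have hc0 : c ≠ 0 := by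
    rintro rfl
    rw [zero_pow (NeZero.ne n)] at hdet
    exact one_ne_zero hdet
  have hdet2 : (c⁻¹ • (s : Matrix (Fin n) (Fin n) F)).det = 1 := by
    rw [Matrix.det_smul, s.2, mul_one, Fintype.card_fin, inv_pow, ← hdet, inv_one]
  refine ⟨⟨c⁻¹ • (s : Matrix (Fin n) (Fin n) F), hdet2⟩, ?_, hc0, fun i j => ?_⟩
  · apply mkP_eq_iff.2
    refine ⟨c, ?_⟩
    change (s : Matrix (Fin n) (Fin n) F) = c • c⁻¹ • (s : Matrix (Fin n) (Fin n) F)
    rw [smul_smul, mul_inv_cancel₀ hc0, one_smul]
  · rfl

include hc in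
/-- What it means to commute in `PSL` with an elementary transvection. -/
theorem comm_of_mem_centralizer [NeZero n] {i j : Fin n} (hij : i ≠ j) (c : F)
    {s : Matrix.SpecialLinearGroup (Fin n) F}
    (h : mkP (tv hij c) * mkP s = mkP s * mkP (tv hij c)) :
    Matrix.single i j c * (s : Matrix (Fin n) (Fin n) F) = (s : Matrix (Fin n) (Fin n) F) * Matrix.single i j c := by
  apply (comm_iff_single hij c s).1
  have h1 : mkP (s * tv hij c * s⁻¹) = mkP (tv hij c) := by
    rw [map_mul, map_mul, ← h, map_inv]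
    group
  have h2 := eq_of_mkP_eq (p := p) ((pEl_tv hij c).conj s) (pEl_tv hij c) h1
  conv_lhs => rw [← h2]
  group

include hc in
theorem centralizer_RP_le [NeZero n] (hn : 3 ≤ n) :
    Subgroup.centralizer ((RP hn F : Subgroup _) : Set (ProjectiveSpecialLinearGroup (Fin n) F)) ≤ RP hn F := by
  intro x hx
  obtain ⟨s, rfl⟩ := mkP_surjective x
  have hk : ∀ j, j ≠ i0 hn → ∀ l, (s : Matrix (Fin n) (Fin n) F) j l =
      if l = j then (s : Matrix (Fin n) (Fin n) F) (i0 hn) (i0 hn) else 0 := by
    intro j hj l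
    have h1 : tv (Ne.symm hj) (1 : F) ∈ RowS (i0 hn) := by
      intro a ha b
      rw [tv_entry, if_neg (fun e : a = i0 hn ∧ b = j => ha e.1), add_zero]
    have h2 := Subgroup.mem_centralizer_iff.1 hx _ ⟨_, h1, rfl⟩
    have h3 := comm_of_mem_centralizer (p := p) (Ne.symm hj) (1 : F) h2
    have h4 := congrFun (congrFun h3 (i0 hn)) l
    rw [single_mul_entry, mul_single_entry, if_pos rfl, one_mul, mul_one] at h4
    exact h4
  have hup : ∀ i j : Fin n, j < i → (s : Matrix (Fin n) (Fin n) F) i j = 0 := by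
    intro i j hji
    have hi : i ≠ i0 hn := by
      intro e
      have := i0_le hn j
      rw [← e] at this
      exact absurd hji (not_lt.mpr this)
    rw [hk i hi j, if_neg (ne_of_lt hji)]
  have hd : ∀ i, (s : Matrix (Fin n) (Fin n) F) i i = (s : Matrix (Fin n) (Fin n) F) (i0 hn) (i0 hn) := by
    intro i
    by_cases hi : i = i0 hn
    · rw [hi]
    · rw [hk i hi i, if_pos rfl]
  obtain ⟨r, hr, hc0, hr2⟩ := exists_scalar_form hup hd
  refine ⟨r, ?_, hr⟩
  intro a ha b
  rw [hr2, hk a ha b]
  by_cases hab : a = b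
  · subst hab
    simp [hc0]
  · simp [hab, Ne.symm hab]

include hc in
theorem centralizer_CP_le [NeZero n] (hn : 3 ≤ n) :
    Subgroup.centralizer ((CP hn F : Subgroup _) : Set (ProjectiveSpecialLinearGroup (Fin n) F)) ≤ CP hn F := by
  intro x hx
  obtain ⟨s, rfl⟩ := mkP_surjective x
  have hk : ∀ j, j ≠ i1 hn → ∀ l, (s : Matrix (Fin n) (Fin n) F) l j =
      if l = j then (s : Matrix (Fin n) (Fin n) F) (i1 hn) (i1 hn) else 0 := by
    intro j hj l
    have h1 : tv hj (1 : F) ∈ ColS (i1 hn) := by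
      intro a ha b
      rw [tv_entry, if_neg (fun e : b = j ∧ a = i1 hn => ha e.2), add_zero]
    have h2 := Subgroup.mem_centralizer_iff.1 hx _ ⟨_, h1, rfl⟩
    have h3 := comm_of_mem_centralizer (p := p) hj (1 : F) h2
    have h4 := congrFun (congrFun h3 l) (i1 hn)
    rw [single_mul_entry, mul_single_entry, if_pos rfl, one_mul, mul_one] at h4
    by_cases hlj : l = j
    · subst hlj
      rw [if_pos rfl] at h4 ⊢
      exact h4.symm
    · rw [if_neg hlj] at h4 ⊢
      exact h4.symm
  have hup : ∀ i j : Fin n, j < i → (s : Matrix (Fin n) (Fin n) F) i j = 0 := by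
    intro i j hji
    have hj : j ≠ i1 hn := by
      intro e
      have := le_i1 hn i
      rw [← e] at this
      exact absurd hji (not_lt.mpr this)
    rw [hk j hj i, if_neg (ne_of_gt hji)]
  have hd : ∀ i, (s : Matrix (Fin n) (Fin n) F) i i = (s : Matrix (Fin n) (Fin n) F) (i1 hn) (i1 hn) := by
    intro i
    by_cases hi : i = i1 hn
    · rw [hi]
    · rw [hk i hi i, if_pos rfl]
  obtain ⟨r, hr, hc0, hr2⟩ := exists_scalar_form hup hd
  refine ⟨r, ?_, hr⟩
  intro a ha b
  rw [hr2, hk a ha b]
  by_cases hab : b = a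
  · subst hab
    simp [hc0]
  · simp [hab, Ne.symm hab]

/-! ### The normalizer of the Sylow subgroup -/

include hc in
/-- Elements of the normalizer are upper triangular. -/
theorem upper_of_normalizer [NeZero n] {f : ℕ} (hF : Nat.card F = p ^ f)
    {g : Matrix.SpecialLinearGroup (Fin n) F}
    (hg : mkP g ∈ Subgroup.normalizer ((UP n F : Subgroup _) : Set (ProjectiveSpecialLinearGroup (Fin n) F))) :
    ∀ i j : Fin n, j < i → (g : Matrix (Fin n) (Fin n) F) i j = 0 := by
  have key : ∀ m : ℕ, ∀ k : Fin n, k.val = m → ∀ t, k < t → (g : Matrix (Fin n) (Fin n) F) t k = 0 := by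
    intro m
    induction m using Nat.strong_induction_on with
    | _ m ih =>
      intro k hk t ht
      have hmem : mkP (g⁻¹ * tv (ne_of_lt ht) (1 : F) * g) ∈ UP n F := by
        have h1 := (Subgroup.mem_normalizer_iff.1 (Subgroup.inv_mem _ hg)
          (mkP (tv (ne_of_lt ht) (1 : F)))).1 ⟨_, isUT_transvection ht 1, rfl⟩
        simpa [map_mul] using h1
      have hp1 : PEl p (g⁻¹ * tv (ne_of_lt ht) (1 : F) * g) := by
        have := (pEl_tv (p := p) (ne_of_lt ht) (1 : F)).conj g⁻¹
        rwa [inv_inv] at this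
      have hUT := mem_USL_of_mkP_mem hF hp1 hmem
      have e : tv (ne_of_lt ht) (1 : F) * g = g * (g⁻¹ * tv (ne_of_lt ht) (1 : F) * g) := by group
      have h2 := congrFun (congrFun (congrArg (fun x : Matrix.SpecialLinearGroup (Fin n) F =>
        (x : Matrix (Fin n) (Fin n) F)) e) k) k
      have lhs : ((tv (ne_of_lt ht) (1 : F) * g : Matrix.SpecialLinearGroup (Fin n) F) :
          Matrix (Fin n) (Fin n) F) k k = (g : Matrix (Fin n) (Fin n) F) k k +
            (g : Matrix (Fin n) (Fin n) F) t k := by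
        rw [Matrix.SpecialLinearGroup.coe_mul]
        change (Matrix.transvection k t (1 : F) * (g : Matrix (Fin n) (Fin n) F)) k k = _
        rw [Cfsg.Agent.Lib.Linalg.Transvection.transvection_mul_apply_eq, if_pos rfl, one_mul]
      have rhs : ((g * (g⁻¹ * tv (ne_of_lt ht) (1 : F) * g) : Matrix.SpecialLinearGroup (Fin n) F) :
          Matrix (Fin n) (Fin n) F) k k = (g : Matrix (Fin n) (Fin n) F) k k := by
        rw [Matrix.SpecialLinearGroup.coe_mul, Matrix.mul_apply, Finset.sum_eq_single k]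
        · rw [hUT.2 k, mul_one]
        · intro l _ hl
          rcases lt_or_gt_of_ne hl with h | h
          · rw [ih l.val (by omega) l rfl k h, zero_mul]
          · rw [hUT.1 l k h, mul_zero]
        · simp
      have h3 : (g : Matrix (Fin n) (Fin n) F) k k + (g : Matrix (Fin n) (Fin n) F) t k =
          (g : Matrix (Fin n) (Fin n) F) k k := by
        rw [← lhs]
        exact h2.trans rhs
      exact add_eq_left.1 h3
  intro i j hji
  exact key j.val j rfl i hji

theorem diag_facts {d : Matrix.SpecialLinearGroup (Fin n) F} {f : Fin n → F}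
    (hd : (d : Matrix (Fin n) (Fin n) F) = diagonal f) :
    (∀ i, f i ≠ 0) ∧ ((d⁻¹ : Matrix.SpecialLinearGroup (Fin n) F) : Matrix (Fin n) (Fin n) F) =
      diagonal fun i => (f i)⁻¹ := by
  have hdet : ∏ i, f i = 1 := by
    rw [← Matrix.det_diagonal, ← hd, d.2]
  have h0 : ∀ i, f i ≠ 0 := by
    intro i hi
    have := Finset.prod_eq_zero (Finset.mem_univ i) hi
    rw [hdet] at this
    exact one_ne_zero this
  refine ⟨h0, ?_⟩
  have h1 := coe_mul_inv d
  rw [hd] at h1
  calc ((d⁻¹ : Matrix.SpecialLinearGroup (Fin n) F) : Matrix (Fin n) (Fin n) F)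
      = (diagonal fun i => (f i)⁻¹) * (diagonal f * ((d⁻¹ : Matrix.SpecialLinearGroup (Fin n) F) : Matrix (Fin n) (Fin n) F)) := by
        rw [← Matrix.mul_assoc, Matrix.diagonal_mul_diagonal]
        have : (fun i => (f i)⁻¹ * f i) = fun _ => (1 : F) := by
          funext i; exact inv_mul_cancel₀ (h0 i)
        rw [this, Matrix.diagonal_one, Matrix.one_mul]
    _ = _ := by rw [h1, Matrix.mul_one]

theorem mkP_diag_mem_normalizer {d : Matrix.SpecialLinearGroup (Fin n) F} {f : Fin n → F}
    (hd : (d : Matrix (Fin n) (Fin n) F) = diagonal f) :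
    mkP d ∈ Subgroup.normalizer ((UP n F : Subgroup _) : Set (ProjectiveSpecialLinearGroup (Fin n) F)) := by
  obtain ⟨h0, hinv⟩ := diag_facts hd
  apply Cfsg.Agent.Lib.Fusion.SimpleCriterion2.mem_normalizer_of_conj_le'
  rintro _ ⟨u, hu, rfl⟩
  refine ⟨d * u * d⁻¹, ?_, by simp⟩
  have hentry : ∀ i j, ((d * u * d⁻¹ : Matrix.SpecialLinearGroup (Fin n) F) : Matrix (Fin n) (Fin n) F) i j =
      f i * (u : Matrix (Fin n) (Fin n) F) i j * (f j)⁻¹ := by
    intro i j
    rw [Matrix.SpecialLinearGroup.coe_mul, Matrix.SpecialLinearGroup.coe_mul, hd, hinv,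
      Matrix.mul_diagonal, Matrix.diagonal_mul]
  constructor
  · intro i j hji
    rw [hentry, hu.1 i j hji]
    simp
  · intro i
    rw [hentry, hu.2 i, mul_one, mul_inv_cancel₀ (h0 i)]

/-- A subgroup containing the elements `diag(c, c⁻¹)` at positions `k, z` contains all the diagonal
elements. -/
theorem diag_mem {H : Subgroup (Matrix.SpecialLinearGroup (Fin n) F)} (z : Fin n)
    (hH : ∀ (k : Fin n) (hk : k ≠ z) (c : F) (hc : c ≠ 0),
      Matrix.SpecialLinearGroup.diag2n hk c hc ∈ H)
    {d : Matrix.SpecialLinearGroup (Fin n) F} {f : Fin n → F}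
    (hd : (d : Matrix (Fin n) (Fin n) F) = diagonal f) : d ∈ H := by
  classical
  have key : ∀ A : Finset (Fin n), z ∉ A → ∀ (d : Matrix.SpecialLinearGroup (Fin n) F) (f : Fin n → F),
      (d : Matrix (Fin n) (Fin n) F) = diagonal f → (∀ k, k ∉ A → k ≠ z → f k = 1) → d ∈ H := by
    intro A
    induction A using Finset.induction_on with
    | empty =>
      intro _ d f hd hf
      have hdet : ∏ i, f i = 1 := by rw [← Matrix.det_diagonal, ← hd, d.2]
      have hz : f z = 1 := by
        rw [Finset.prod_eq_single z] at hdet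
        · exact hdet
        · intro b _ hb
          exact hf b (by simp) hb
        · simp
      have : d = 1 := by
        apply Subtype.ext
        rw [hd]
        have : f = fun _ => 1 := by
          funext k
          by_cases hk : k = z
          · rw [hk, hz]
          · exact hf k (by simp) hk
        rw [this]
        simp
      rw [this]
      exact H.one_mem
    | insert a A ha ih =>
      intro hz d f hd hf
      rw [Finset.mem_insert, not_or] at hz
      have haz : a ≠ z := Ne.symm hz.1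
      obtain ⟨h0, -⟩ := diag_facts hd
      have hmul : d = (d * Matrix.SpecialLinearGroup.diag2n haz (f a)⁻¹ (inv_ne_zero (h0 a))) *
          (Matrix.SpecialLinearGroup.diag2n haz (f a)⁻¹ (inv_ne_zero (h0 a)))⁻¹ := by group
      rw [hmul]
      refine H.mul_mem (ih hz.2 _ (fun k => f k * (if k = a then (f a)⁻¹ else if k = z then ((f a)⁻¹)⁻¹ else 1)) ?_ ?_)
        (H.inv_mem (hH a haz _ _))
      · rw [Matrix.SpecialLinearGroup.coe_mul, hd, Matrix.SpecialLinearGroup.diag2n_coe,
          Matrix.diagonal_mul_diagonal]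
      · intro k hk hkz
        by_cases hka : k = a
        · subst hka
          simp [h0 k]
        · simp only [if_neg hka, if_neg hkz, mul_one]
          exact hf k (by simp [hka, hk]) hkz
  exact key (Finset.univ.erase z) (by simp) d f hd (fun k hk hkz => by simp [hkz] at hk)

end unip

section assembly
variable [Finite F] {p : ℕ} [hp : Fact p.Prime] [hc : CharP F p]

/-- The family of two subgroups. -/
noncomputable def family (hn : 3 ≤ n) (F : Type*) [Field F] [Finite F] :
    Set (Subgroup (ProjectiveSpecialLinearGroup (Fin n) F)) := {RP hn F, CP hn F}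

include hc in
theorem mem_KK_RP (hn : 3 ≤ n) {i j : Fin n} (hij : i ≠ j) (hj : j ≠ i0 hn) (c : F) :
    mkP (tv hij c) ∈ KK p (RP hn F) := by
  refine Subgroup.subset_closure ⟨mkP_mem_normalizer_RP hn fun a ha => ?_, order_mkP_tv hij c⟩
  rw [tv_entry, if_neg ha, if_neg (fun e : a = i ∧ i0 hn = j => hj e.2.symm)]
  simp

include hc in
theorem mem_KK_CP (hn : 3 ≤ n) {i j : Fin n} (hij : i ≠ j) (hi : i ≠ i1 hn) (c : F) :
    mkP (tv hij c) ∈ KK p (CP hn F) := by
  refine Subgroup.subset_closure ⟨mkP_mem_normalizer_CP hn fun a ha => ?_, order_mkP_tv hij c⟩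
  rw [tv_entry, if_neg (Ne.symm ha), if_neg (fun e : i1 hn = i ∧ a = j => hi e.1.symm)]
  simp

theorem diag2n_mem_of {H : Subgroup (ProjectiveSpecialLinearGroup (Fin n) F)} {a b : Fin n}
    (hab : a ≠ b) (hH : ∀ c : F, mkP (tv hab c) ∈ H ∧ mkP (tv hab.symm c) ∈ H) {c : F} (hc0 : c ≠ 0) :
    mkP (Matrix.SpecialLinearGroup.diag2n hab c hc0) ∈ H := by
  rw [Cfsg.Agent.Lib.Linalg.Transvection.diag2n_eq_prod hab hc0]
  simp only [map_mul]
  exact H.mul_mem (hH _).1 (H.mul_mem (hH _).2 (H.mul_mem (hH _).1 (H.mul_mem (hH _).1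
    (H.mul_mem (hH _).2 (hH _).1))))

include hc in
theorem mem_DD_diag2n (hn : 3 ≤ n) {k : Fin n} (hk : k ≠ i1 hn) {c : F} (hc0 : c ≠ 0) :
    mkP (Matrix.SpecialLinearGroup.diag2n hk c hc0) ∈ DD p (family hn F) (UP n F) := by
  have gen : ∀ {a b : Fin n} (hab : a ≠ b) {c : F} (hc0 : c ≠ 0),
      ((a ≠ i0 hn ∧ b ≠ i0 hn) ∨ (a ≠ i1 hn ∧ b ≠ i1 hn)) →
      mkP (Matrix.SpecialLinearGroup.diag2n hab c hc0) ∈ DD p (family hn F) (UP n F) := by
    intro a b hab c hc0 h
    refine Subgroup.subset_closure ?_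
    rcases h with h | h
    · exact ⟨RP hn F, Or.inl rfl,
        diag2n_mem_of hab (fun c => ⟨mem_KK_RP hn hab h.2 c, mem_KK_RP hn hab.symm h.1 c⟩) hc0,
        mkP_diag_mem_normalizer (Matrix.SpecialLinearGroup.diag2n_coe hab c hc0)⟩
    · exact ⟨CP hn F, Or.inr rfl,
        diag2n_mem_of hab (fun c => ⟨mem_KK_CP hn hab h.1 c, mem_KK_CP hn hab.symm h.2 c⟩) hc0,
        mkP_diag_mem_normalizer (Matrix.SpecialLinearGroup.diag2n_coe hab c hc0)⟩
  have hz0 : i1 hn ≠ i0 hn := (i0_ne_i1 hn).symm
  by_cases hk0 : k = i0 hn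
  · subst hk0
    let i₁ : Fin n := ⟨1, by omega⟩
    have h10 : i0 hn ≠ i₁ := by simp [i₁, i0, Fin.ext_iff]
    have h1z : i₁ ≠ i1 hn := by
      simp only [i₁, i1, ne_eq, Fin.mk.injEq]
      omega
    have e : Matrix.SpecialLinearGroup.diag2n hk c hc0 =
        Matrix.SpecialLinearGroup.diag2n h10 c hc0 * Matrix.SpecialLinearGroup.diag2n h1z c hc0 := by
      apply Subtype.ext
      rw [Matrix.SpecialLinearGroup.coe_mul, Matrix.SpecialLinearGroup.diag2n_coe,
        Matrix.SpecialLinearGroup.diag2n_coe, Matrix.SpecialLinearGroup.diag2n_coe,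
        Matrix.diagonal_mul_diagonal]
      congr 1
      funext t
      by_cases h0 : t = i0 hn
      · subst h0
        simp [h10, h10.symm, hk, hk.symm]
      · by_cases h1 : t = i₁
        · subst h1
          simp [h0, h1z, h1z.symm, hc0]
        · by_cases h2 : t = i1 hn
          · subst h2
            simp [h0, h1, hk.symm, h1z.symm]
          · simp [h0, h1, h2]
    rw [e, map_mul]
    exact Subgroup.mul_mem _ (gen h10 hc0 (Or.inr ⟨hk, h1z⟩)) (gen h1z hc0 (Or.inl ⟨h10.symm, hz0⟩))
  · exact gen hk hc0 (Or.inl ⟨hk0, hz0⟩)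

include hc in
theorem mem_DD_UT (hn : 3 ≤ n) {u : Matrix.SpecialLinearGroup (Fin n) F} (hu : IsUT u) :
    mkP u ∈ DD p (family hn F) (UP n F) := by
  have : USL n F ≤ (DD p (family hn F) (UP n F)).comap mkP := by
    refine USL_le fun i j hij c => ?_
    refine Subgroup.subset_closure ⟨RP hn F, Or.inl rfl, mem_KK_RP hn (ne_of_lt hij) ?_ c,
      Subgroup.le_normalizer ⟨_, isUT_transvection hij c, rfl⟩⟩
    exact ne_of_gt (lt_of_le_of_lt (i0_le hn i) hij)
  exact this hu

include hc in
theorem normalizer_le_DD [NeZero n] (hn : 3 ≤ n) {f : ℕ} (hF : Nat.card F = p ^ f) :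
    Subgroup.normalizer ((UP n F : Subgroup _) : Set (ProjectiveSpecialLinearGroup (Fin n) F)) ≤
      DD p (family hn F) (UP n F) := by
  intro x hx
  obtain ⟨g, rfl⟩ := mkP_surjective x
  have hup := upper_of_normalizer hF hx
  -- the diagonal part
  have hdet : ∏ i, (g : Matrix (Fin n) (Fin n) F) i i = 1 := by
    rw [← Matrix.det_of_isUpperTriangular (fun i j hij => hup i j hij), g.2]
  let d : Matrix.SpecialLinearGroup (Fin n) F :=
    ⟨diagonal fun i => (g : Matrix (Fin n) (Fin n) F) i i, by rw [Matrix.det_diagonal, hdet]⟩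
  have hd : (d : Matrix (Fin n) (Fin n) F) = diagonal fun i => (g : Matrix (Fin n) (Fin n) F) i i := rfl
  obtain ⟨h0, hinv⟩ := diag_facts hd
  have hu : IsUT (d⁻¹ * g) := by
    have hentry : ∀ i j, ((d⁻¹ * g : Matrix.SpecialLinearGroup (Fin n) F) : Matrix (Fin n) (Fin n) F) i j =
        ((g : Matrix (Fin n) (Fin n) F) i i)⁻¹ * (g : Matrix (Fin n) (Fin n) F) i j := by
      intro i j
      rw [Matrix.SpecialLinearGroup.coe_mul, hinv, Matrix.diagonal_mul]
    constructor
    · intro i j hji
      rw [hentry, hup i j hji, mul_zero]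
    · intro i
      rw [hentry, inv_mul_cancel₀ (h0 i)]
  have e : g = d * (d⁻¹ * g) := by group
  rw [e, map_mul]
  refine Subgroup.mul_mem _ ?_ (mem_DD_UT hn hu)
  have hle : d ∈ (DD p (family hn F) (UP n F)).comap mkP :=
    diag_mem (i1 hn) (fun k hk c hc0 => mem_DD_diag2n hn hk hc0) hd
  exact hle

/-- **The defining characteristic fusion system of `PSL_n(F)`, `n ≥ 3`, is simple.** -/
theorem isSimple_psl (p : ℕ) [Fact p.Prime] [CharP F p] [Fintype F] (hn : 3 ≤ n)
    (S : Sylow p (ProjectiveSpecialLinearGroup (Fin n) F)) :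
    (groupFusionSystem (S : Subgroup (ProjectiveSpecialLinearGroup (Fin n) F))).IsSimple p := by
  obtain ⟨f₀, -, hq⟩ := FiniteField.card F p
  haveI : NeZero n := ⟨by omega⟩
  have hF : Nat.card F = p ^ (f₀ : ℕ) := by rw [Nat.card_eq_fintype_card, hq]
  let S₀ : Sylow p (ProjectiveSpecialLinearGroup (Fin n) F) :=
    (isPGroup_UP hF).toSylow (not_dvd_index_UP f₀.pos hF)
  have hS₀ : (S₀ : Subgroup (ProjectiveSpecialLinearGroup (Fin n) F)) = UP n F := rfl
  refine isSimple_of_data S₀ ?_ ?_ (family hn F) ?_ ?_ ?_ ?_ S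
  · rw [hS₀]
    intro hbot
    have h1 : mkP (tv (i0_ne_i1 hn) (1 : F)) ∈ UP n F :=
      ⟨_, isUT_transvection (i0_lt_i1 hn) 1, rfl⟩
    rw [hbot, Subgroup.mem_bot, ← map_one mkP] at h1
    have h2 := eq_of_mkP_eq (p := p) (pEl_tv _ _) ⟨0, by simp⟩ h1
    have h3 := congrFun (congrFun (congrArg (fun x : Matrix.SpecialLinearGroup (Fin n) F =>
        (x : Matrix (Fin n) (Fin n) F)) h2) (i0 hn)) (i1 hn)
    simp only [tv_entry] at h3
    simp [i0_ne_i1 hn] at h3
  · intro T hT
    rw [hS₀] at hT ⊢
    exact stronglyClosed_cases hn hF hT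
  · rintro R (rfl | rfl)
    · exact RP_le_UP hn
    · exact CP_le_UP hn
  · rintro R (rfl | rfl)
    · exact UP_le_normalizer_RP hn
    · exact UP_le_normalizer_CP hn
  · rintro R (rfl | rfl)
    · exact centralizer_RP_le (p := p) hn
    · exact centralizer_CP_le (p := p) hn
  · rw [hS₀]
    exact normalizer_le_DD hn hF

end assembly

end Cfsg.Agent.Lib.Fusion.PSLnDef
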