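import Mathlib
import Cfsg.Agent.Lib.PGroup.StableControl
import Cfsg.Agent.Lib.PGroup.StableQuot
import Cfsg.Agent.Lib.PGroup.ZJCore
import Cfsg.Agent.Lib.Fusion.GroupSylow
import Cfsg.Agent.Lib.Fusion.Chain
import Cfsg.Agent.Lib.Fusion.NormalCR
import Cfsg.Agent.Lib.Fusion.Joins
import Cfsg.Agent.S5246

set_option autoImplicit false
set_option linter.unusedSectionVars false

/-!
# A `p`-stable fusion system of a finite group is constrained (`p` odd)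

Let `O = O_p(F)`, `H = C_G(O)`, `V = O ∩ H`.  The group `H / V` is `p`-stable, so `Z(J(C/V))`, for
`C = C_P(O)`, controls strong fusion in `H / V`.  Its preimage `W` is strongly closed in `F` and
lies in every centric radical subgroup, so that `O W` is normal in `F`, and `W ≤ O`.
-/

namespace Cfsg.Agent.Lib.Fusion.PStableConstr

open Cfsg Cfsg.FusionSystem Subgroup
open Cfsg.Agent.Lib.Fusion.Basic Cfsg.Agent.Lib.Fusion.NormalCR Cfsg.Agent.Lib.PGroup.ZJ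

section X

variable {X : Type*} [Group X] [Finite X] {p : ℕ} [Fact p.Prime]

theorem coe_smul_eq (h : X) (T : Sylow p X) :
    ((h • T : Sylow p X) : Subgroup X) = (T : Subgroup X).map (MulAut.conj h).toMonoidHom := by
  rw [Sylow.coe_subgroup_smul]
  rfl

/-- `Z(J(T₂))` meets `T` inside `Z(J(T))`. -/
theorem mem_ZZ_of_mem (hp : p ≠ 2) (hst : IsNormalizerPStable p X) (T T₂ : Sylow p X) {x : X}
    (hx : x ∈ ZZ 0 (T₂ : Subgroup X)) (hxT : x ∈ (T : Subgroup X)) : x ∈ ZZ 0 (T : Subgroup X) := by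
  classical
  obtain ⟨h, rfl⟩ := MulAction.exists_smul_eq X T T₂
  rw [coe_smul_eq, ← ZZ_map] at hx
  obtain ⟨z, hz, rfl⟩ := hx
  have hzT : z ∈ (T : Subgroup X) := ZZ_le_self 0 _ hz
  have hctrl := Cfsg.Agent.Lib.PGroup.StableControl.controls_of_stable hp hst T {z}
    (Set.singleton_subset_iff.2 hzT)
  obtain ⟨n, hn, hne⟩ := hctrl.2 h (by
    rintro _ ⟨a, ha, rfl⟩
    rw [Set.mem_singleton_iff] at ha
    subst ha
    exact hxT)
  have h1 := hne z rfl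
  show h * z * h⁻¹ ∈ _
  rw [h1]
  exact (mem_normalizer_iff.1 hn z).1 hz

/-- An element of `Z(J(T₂))`, for `T₂ ≥ Y`, is conjugate into `Z(J(T))` by an element centralizing `Y`. -/
theorem exists_centralizer_conj (hp : p ≠ 2) (hst : IsNormalizerPStable p X) (T T₂ : Sylow p X)
    (Y : Subgroup X) (hYT : Y ≤ (T : Subgroup X)) (hYT₂ : Y ≤ (T₂ : Subgroup X)) {x : X}
    (hx : x ∈ ZZ 0 (T₂ : Subgroup X)) :
    ∃ c ∈ centralizer (Y : Set X), c * x * c⁻¹ ∈ ZZ 0 (T : Subgroup X) := by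
  classical
  obtain ⟨h, rfl⟩ := MulAction.exists_smul_eq X T T₂
  rw [coe_smul_eq, ← ZZ_map] at hx
  rw [coe_smul_eq] at hYT₂
  obtain ⟨z, hz, rfl⟩ := hx
  have hctrl := Cfsg.Agent.Lib.PGroup.StableControl.controls_of_stable hp hst T (Y : Set X) hYT
  obtain ⟨n, hn, hne⟩ := hctrl.2 h⁻¹ (by
    rintro _ ⟨y, hy, rfl⟩
    obtain ⟨t, ht, rfl⟩ := hYT₂ hy
    show h⁻¹ * (h * t * h⁻¹) * h⁻¹⁻¹ ∈ _
    simpa [mul_assoc] using ht)
  refine ⟨n⁻¹ * h⁻¹, ?_, ?_⟩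
  · rw [mem_centralizer_iff]
    intro y hy
    have h1 := hne y hy
    have h2 : h⁻¹ * y * h = n * y * n⁻¹ := by simpa using h1
    calc y * (n⁻¹ * h⁻¹) = n⁻¹ * (n * y * n⁻¹) * h⁻¹ := by group
      _ = n⁻¹ * (h⁻¹ * y * h) * h⁻¹ := by rw [h2]
      _ = n⁻¹ * h⁻¹ * y := by group
  · have h1 : (n⁻¹ * h⁻¹) * ((MulAut.conj h).toMonoidHom z) * (n⁻¹ * h⁻¹)⁻¹ = n⁻¹ * z * n := by
      show (n⁻¹ * h⁻¹) * (h * z * h⁻¹) * (n⁻¹ * h⁻¹)⁻¹ = _
      group
    rw [h1]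
    have := (mem_normalizer_iff.1 (inv_mem hn) z).1 hz
    simpa using this

end X

section Aut

variable {P : Type*} [Group P] [Finite P] {p : ℕ} [hp : Fact p.Prime]

/-- An automorphism of a finite `p`-group stabilizing a chain has `p`-power order. -/
theorem exists_pow_eq_one_of_stab (hP : IsPGroup p P) {D : ℕ → Subgroup P} {m : ℕ} (h0 : D 0 = ⊥)
    (hm : D m = ⊤) (hmono : ∀ i < m, D i ≤ D (i + 1)) {β : MulAut P}
    (hβ : ∀ i < m, ∀ x ∈ D (i + 1), x⁻¹ * β x ∈ D i) : ∃ k : ℕ, β ^ p ^ k = 1 := by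
  classical
  have hone : ∀ i ≤ m, ∀ x ∈ D i, β x ∈ D i := by
    intro i hi x hx
    cases i with
    | zero =>
      rw [h0, mem_bot] at hx
      subst hx
      simp
    | succ j =>
      have h1 := hβ j (by omega) x hx
      have h2 : β x = x * (x⁻¹ * β x) := by group
      rw [h2]
      exact mul_mem hx (hmono j (by omega) h1)
  haveI : Finite (MulAut P) := inferInstance
  have hinv : ∀ i ≤ m, ∀ α ∈ zpowers β, ∀ x ∈ D i, α x ∈ D i := by
    intro i hi α hα x hx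
    obtain ⟨n, rfl⟩ := (mem_powers_iff_mem_zpowers).2 hα
    clear hα
    induction n generalizing x with
    | zero => simpa using hx
    | succ n ih =>
      show (β ^ (n + 1)) x ∈ D i
      rw [pow_succ', MulAut.mul_apply]
      exact hone i hi _ (ih x hx)
  have h1 := Cfsg.Agent.Lib.Fusion.Chain.chainStab_isPGroup hP (zpowers β) h0 hm hinv
  have hmem : (⟨β, mem_zpowers β⟩ : zpowers β) ∈
      Cfsg.Agent.Lib.Fusion.Chain.chainStab (zpowers β) D m hinv := hβ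
  obtain ⟨k, hk⟩ := h1 ⟨_, hmem⟩
  refine ⟨k, ?_⟩
  have h2 := congrArg (fun t => ((t : zpowers β) : MulAut P)) (congrArg Subtype.val hk)
  simpa using h2

end Aut

section Main

variable {Ω : Type*} [Group Ω] [Finite Ω] {p : ℕ} [Fact p.Prime]

/-- `C_G(O)`. -/
abbrev HH (O : Subgroup Ω) : Subgroup Ω := centralizer (O : Set Ω)

/-- `O ∩ C_G(O)`, in `C_G(O)`. -/
abbrev VV (O : Subgroup Ω) : Subgroup (HH O) := O.subgroupOf (HH O)

theorem mem_VV {O : Subgroup Ω} {h : HH O} : h ∈ VV O ↔ (h : Ω) ∈ O := Subgroup.mem_subgroupOf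

instance VV_normal (O : Subgroup Ω) : (VV O).Normal := by
  refine ⟨fun v hv h => ?_⟩
  rw [mem_VV] at hv ⊢
  have h1 : (v : Ω) * h = h * v := (mem_centralizer_iff.1 h.2 v hv)
  have h2 : ((h * v * h⁻¹ : HH O) : Ω) = v := by
    show (h : Ω) * v * (h : Ω)⁻¹ = v
    rw [← h1]
    group
  rw [h2]
  exact hv

/-- The quotient `C_G(O) / (O ∩ C_G(O))`. -/
abbrev XX (O : Subgroup Ω) := HH O ⧸ VV O

/-- The projection. -/
abbrev pi (O : Subgroup Ω) : HH O →* XX O := QuotientGroup.mk' (VV O)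

theorem pi_surjective (O : Subgroup Ω) : Function.Surjective (pi O) := QuotientGroup.mk'_surjective _

theorem pi_eq_iff {O : Subgroup Ω} {a b : HH O} : pi O a = pi O b ↔ (a : Ω)⁻¹ * b ∈ O := by
  show (QuotientGroup.mk a : XX O) = QuotientGroup.mk b ↔ _
  rw [QuotientGroup.eq, mem_VV]
  rfl

theorem normHH {O : Subgroup Ω} {g : Ω} (hg : g ∈ normalizer (O : Set Ω)) :
    g ∈ normalizer (HH O : Set Ω) := by
  rw [mem_normalizer_iff]
  intro x
  constructor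
  · intro hx
    show g * x * g⁻¹ ∈ centralizer (O : Set Ω)
    rw [mem_centralizer_iff]
    intro o ho
    have h1 : g⁻¹ * o * g ∈ O := by
      have := (mem_normalizer_iff.1 (inv_mem hg) o).1 ho
      simpa using this
    have h2 := mem_centralizer_iff.1 hx _ h1
    calc o * (g * x * g⁻¹) = g * ((g⁻¹ * o * g) * x) * g⁻¹ := by group
      _ = g * (x * (g⁻¹ * o * g)) * g⁻¹ := by rw [h2]
      _ = g * x * g⁻¹ * o := by group
  · intro hx
    show x ∈ centralizer (O : Set Ω)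
    rw [mem_centralizer_iff]
    intro o ho
    have h1 : g * o * g⁻¹ ∈ O := (mem_normalizer_iff.1 hg o).1 ho
    have h2 := mem_centralizer_iff.1 hx _ h1
    calc o * x = g⁻¹ * ((g * o * g⁻¹) * (g * x * g⁻¹)) * g := by group
      _ = g⁻¹ * ((g * x * g⁻¹) * (g * o * g⁻¹)) * g := by rw [h2]
      _ = x * o := by group

theorem conj_mem_HH {O : Subgroup Ω} {g y : Ω} (hg : g ∈ normalizer (O : Set Ω)) (hy : y ∈ HH O) :
    g * y * g⁻¹ ∈ HH O := (mem_normalizer_iff.1 (normHH hg) y).1 hy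

/-- The automorphism of `C_G(O) / V` induced by `g ∈ N_G(O)`. -/
noncomputable def sig (O : Subgroup Ω) {g : Ω} (hg : g ∈ normalizer (O : Set Ω)) : XX O ≃* XX O :=
  QuotientGroup.congr (VV O) (VV O) (normConj g (normHH hg)) (by
    apply le_antisymm
    · rintro _ ⟨v, hv, rfl⟩
      exact mem_VV.2 ((mem_normalizer_iff.1 hg v).1 (mem_VV.1 hv))
    · intro x hx
      rw [mem_VV] at hx
      have h1 : g⁻¹ * x * g ∈ O := by
        have := (mem_normalizer_iff.1 (inv_mem hg) x).1 hx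
        simpa using this
      have h2 : g⁻¹ * x * g ∈ HH O := by
        have := conj_mem_HH (inv_mem hg) x.2
        simpa using this
      refine ⟨⟨_, h2⟩, mem_VV.2 h1, ?_⟩
      apply Subtype.ext
      show g * (g⁻¹ * x * g) * g⁻¹ = x
      group)

theorem sig_pi (O : Subgroup Ω) {g : Ω} (hg : g ∈ normalizer (O : Set Ω)) (h : HH O) :
    sig O hg (pi O h) = pi O ⟨g * h * g⁻¹, conj_mem_HH hg h.2⟩ := rfl

/-- The preimage of a subgroup of the quotient. -/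
def WW (O : Subgroup Ω) (T : Subgroup (XX O)) : Subgroup Ω := (T.comap (pi O)).map (HH O).subtype

theorem mem_WW {O : Subgroup Ω} {T : Subgroup (XX O)} {y : Ω} :
    y ∈ WW O T ↔ ∃ hy : y ∈ HH O, pi O ⟨y, hy⟩ ∈ T := by
  constructor
  · rintro ⟨⟨a, ha⟩, hb, rfl⟩
    exact ⟨ha, hb⟩
  · rintro ⟨hy, h⟩
    exact ⟨⟨y, hy⟩, h, rfl⟩

theorem WW_le_HH (O : Subgroup Ω) (T : Subgroup (XX O)) : WW O T ≤ HH O :=
  fun _ h => (mem_WW.1 h).1

/-- The image of `Q ∩ H` in the quotient. -/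
def YY (O Q : Subgroup Ω) : Subgroup (XX O) := (Q.subgroupOf (HH O)).map (pi O)

theorem pi_mem_YY_iff {O Q : Subgroup Ω} (hOQ : O ≤ Q) (h : HH O) : pi O h ∈ YY O Q ↔ (h : Ω) ∈ Q := by
  constructor
  · rintro ⟨y, hy, hyh⟩
    have h1 := pi_eq_iff.1 hyh
    have h2 : (y : Ω) ∈ Q := Subgroup.mem_subgroupOf.1 hy
    have h3 : (h : Ω) = (y : Ω) * ((y : Ω)⁻¹ * h) := by group
    rw [h3]
    exact mul_mem h2 (hOQ h1)
  · intro hh
    exact ⟨h, Subgroup.mem_subgroupOf.2 hh, rfl⟩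

theorem pi_mem_normalizer {O Q : Subgroup Ω} (hOQ : O ≤ Q) {y : HH O}
    (hy : (y : Ω) ∈ normalizer (Q : Set Ω)) : pi O y ∈ normalizer (YY O Q : Set (XX O)) := by
  rw [mem_normalizer_iff]
  intro a
  obtain ⟨h, rfl⟩ := pi_surjective O a
  have h1 : pi O y * pi O h * (pi O y)⁻¹ = pi O (y * h * y⁻¹) := by simp
  rw [h1, pi_mem_YY_iff hOQ, pi_mem_YY_iff hOQ]
  exact mem_normalizer_iff.1 hy h

/-- `pi` sends an element of `N_G(Q)`-conjugates. -/
theorem mem_ZZ_sig {O : Subgroup Ω} {g : Ω} (hg : g ∈ normalizer (O : Set Ω)) (T : Sylow p (XX O))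
    {y : HH O} (hy : pi O y ∈ ZZ 0 (T : Subgroup (XX O))) :
    pi O ⟨g * y * g⁻¹, conj_mem_HH hg y.2⟩ ∈
      ZZ 0 ((T.mapSurjective (f := (sig O hg).toMonoidHom) (sig O hg).surjective : Sylow p (XX O)) :
        Subgroup (XX O)) := by
  have h1 : ((T.mapSurjective (f := (sig O hg).toMonoidHom) (sig O hg).surjective : Sylow p (XX O)) :
      Subgroup (XX O)) = (T : Subgroup (XX O)).map (sig O hg).toMonoidHom := rfl
  rw [h1, ← ZZ_map]
  exact ⟨_, hy, rfl⟩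

variable (P : Sylow p Ω)

local notation "FF" => groupFusionSystem (P : Subgroup Ω)

theorem normalizer_of_conj_le {O : Subgroup Ω} {g : Ω} (h : ∀ o ∈ O, g * o * g⁻¹ ∈ O) :
    g ∈ normalizer (O : Set Ω) := by
  have h1 : O.map (MulAut.conj g).toMonoidHom ≤ O := by
    rintro _ ⟨o, ho, rfl⟩
    exact h o ho
  have h2 : O.map (MulAut.conj g).toMonoidHom = O :=
    Subgroup.eq_of_le_of_card_ge h1
      (by rw [Subgroup.card_map_of_injective (MulAut.conj g).injective])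
  rw [mem_normalizer_iff]
  intro x
  constructor
  · exact h x
  · intro hx
    rw [← h2] at hx
    obtain ⟨o, ho, hoe⟩ := hx
    have h3 : o = x := mul_left_cancel (mul_right_cancel hoe)
    rwa [← h3]

/-- Data of the Sylow subgroup of the quotient. -/
theorem exists_T0 {O : Subgroup Ω} (hO : (FF).IsNormal O) :
    ∃ T₀ : Sylow p (XX O), ∀ c : HH O, pi O c ∈ (T₀ : Subgroup (XX O)) ↔ (c : Ω) ∈ (P : Subgroup Ω) := by
  have hOP := hO.1
  have hFN : (FF).IsFullyNormalized O := by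
    refine ⟨hOP, fun Q _ => ?_⟩
    have hnorm : normalizerIn (P : Subgroup Ω) O = (P : Subgroup Ω) :=
      inf_eq_left.2 (StronglyClosed.le_normalizer (IsNormal.stronglyClosed hO))
    rw [hnorm]
    exact Subgroup.card_le_of_le inf_le_left
  have h1 := Cfsg.Agent.Lib.Fusion.GroupSylow.isSylowIn_centralizerIn P
    ((Cfsg.Agent.Lib.Fusion.GroupSylow.isFullyNormalized_iff P hOP).1 hFN)
  obtain ⟨R₀, hR₀⟩ := h1
  refine ⟨R₀.mapSurjective (QuotientGroup.mk'_surjective _), fun c => ?_⟩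
  have hco : ((R₀.mapSurjective (QuotientGroup.mk'_surjective _) : Sylow p (XX O)) : Subgroup (XX O)) =
      (R₀ : Subgroup (HH O)).map (pi O) := rfl
  rw [hco, hR₀]
  constructor
  · rintro ⟨d, hd, hde⟩
    have h2 : (d : Ω) ∈ centralizerIn (P : Subgroup Ω) O := Subgroup.mem_subgroupOf.1 hd
    have h3 := pi_eq_iff.1 hde
    have h4 : (c : Ω) = (d : Ω) * ((d : Ω)⁻¹ * c) := by group
    rw [h4]
    exact mul_mem h2.1 (hOP h3)
  · intro hc
    exact ⟨c, Subgroup.mem_subgroupOf.2 ⟨hc, c.2⟩, rfl⟩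

variable {P}

/-- `W ≤ P`. -/
theorem WW_le {O : Subgroup Ω} (hOP : O ≤ (P : Subgroup Ω)) {T₀ : Sylow p (XX O)}
    (hT₀ : ∀ c : HH O, pi O c ∈ (T₀ : Subgroup (XX O)) ↔ (c : Ω) ∈ (P : Subgroup Ω)) :
    WW O (ZZ 0 (T₀ : Subgroup (XX O))) ≤ (P : Subgroup Ω) := by
  intro w hw
  obtain ⟨hwH, hw2⟩ := mem_WW.1 hw
  exact (hT₀ ⟨w, hwH⟩).1 (ZZ_le_self 0 _ hw2)

/-- `W` is strongly closed. -/
theorem stronglyClosed_W (hp : p ≠ 2) {O : Subgroup Ω} (hstX : IsNormalizerPStable p (XX O))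
    (hO : (FF).IsNormal O) {T₀ : Sylow p (XX O)}
    (hT₀ : ∀ c : HH O, pi O c ∈ (T₀ : Subgroup (XX O)) ↔ (c : Ω) ∈ (P : Subgroup Ω)) :
    (FF).StronglyClosed (WW O (ZZ 0 (T₀ : Subgroup (XX O)))) := by
  refine ⟨WW_le hO.1 hT₀, fun R hR φ hφ x => ?_⟩
  obtain ⟨ψ, hψ, hag, himg⟩ := hO.2 R φ hφ
  obtain ⟨-, hval, g, hg⟩ := hψ
  have hgO : g ∈ normalizer (O : Set Ω) := by
    apply normalizer_of_conj_le
    intro o ho
    have h1 : ψ ⟨o, mem_sup_right ho⟩ ∈ O :=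
      himg.le ⟨_, Subgroup.mem_subgroupOf.2 ho, rfl⟩
    rwa [hg] at h1
  have hφx : φ x = g * x * g⁻¹ := by
    rw [← hag x, hg]
    rfl
  obtain ⟨hxH, hxZ⟩ := mem_WW.1 (hR x.2)
  have hφP : φ x ∈ (P : Subgroup Ω) := by
    rw [← hag x]
    exact hval _
  have h2 := mem_ZZ_sig hgO T₀ hxZ
  have h3 : (g * x * g⁻¹) ∈ (P : Subgroup Ω) := hφx ▸ hφP
  have h4 := mem_ZZ_of_mem hp hstX T₀ _ h2 ((hT₀ _).2 h3)
  rw [hφx]
  exact mem_WW.2 ⟨_, h4⟩

variable {S : Subgroup Ω} {F : FusionSystem S}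

/-- The join of a normal and a strongly closed subgroup is strongly closed. -/
theorem stronglyClosed_sup {O W : Subgroup Ω} (hO : F.IsNormal O) (hW : F.StronglyClosed W) :
    F.StronglyClosed (O ⊔ W) := by
  refine ⟨sup_le hO.1 hW.1, fun R hR φ hφ x => ?_⟩
  obtain ⟨ψ, hψ, hag, himg⟩ := hO.2 R φ hφ
  have hWN : W ≤ normalizer (O : Set Ω) :=
    hW.1.trans (StronglyClosed.le_normalizer (IsNormal.stronglyClosed hO))
  have hx : (x : Ω) ∈ W ⊔ O := by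
    rw [sup_comm]
    exact hR x.2
  obtain ⟨w, hw, o, ho, hxe⟩ := Cfsg.Agent.Lib.Fusion.GroupSylow.exists_mul_of_mem_sup hWN hx
  have hxsup : (x : Ω) ∈ R ⊔ O := mem_sup_left x.2
  have hosup : o ∈ R ⊔ O := mem_sup_right ho
  have hwsup : w ∈ R ⊔ O := by
    have : w = (x : Ω) * o⁻¹ := by rw [hxe]; group
    rw [this]
    exact mul_mem hxsup (inv_mem hosup)
  have hle : (R ⊔ O) ⊓ W ≤ R ⊔ O := inf_le_left
  have h1 := hW.2 ((R ⊔ O) ⊓ W) inf_le_right _ (res_mem hψ hle) ⟨w, hwsup, hw⟩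
  have h2 : ψ ⟨o, hosup⟩ ∈ O :=
    himg.le ⟨_, Subgroup.mem_subgroupOf.2 ho, rfl⟩
  have h3 : φ x = ψ ⟨w, hwsup⟩ * ψ ⟨o, hosup⟩ := by
    rw [← hag x, ← map_mul]
    congr 1
    exact Subtype.ext hxe
  rw [h3]
  exact mul_mem (mem_sup_right h1) (mem_sup_left h2)

variable {O R : Subgroup Ω}

/-- The set of elements of `H` in some `Z(J(T))`, `T` a Sylow subgroup containing `R ∩ H`. -/
def Sg (p : ℕ) [Fact p.Prime] (O R : Subgroup Ω) : Set Ω :=
  {y | ∃ hy : y ∈ HH O, ∃ T : Sylow p (XX O), YY O R ≤ (T : Subgroup (XX O)) ∧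
    pi O ⟨y, hy⟩ ∈ ZZ 0 (T : Subgroup (XX O))}

theorem Sg_conj (hOR : O ≤ R) {k y : Ω} (hk : k ∈ normalizer (R : Set Ω)) (hkO : k ∈ normalizer (O : Set Ω))
    (hy : y ∈ Sg p O R) : k * y * k⁻¹ ∈ Sg p O R := by
  obtain ⟨hyH, T, hYT, hz⟩ := hy
  refine ⟨conj_mem_HH hkO hyH, T.mapSurjective (f := (sig O hkO).toMonoidHom) (sig O hkO).surjective,
    ?_, mem_ZZ_sig hkO T hz⟩
  intro a ha
  obtain ⟨h, rfl⟩ := pi_surjective O a
  have hh : (h : Ω) ∈ R := (pi_mem_YY_iff hOR h).1 ha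
  have h1 : k⁻¹ * h * k ∈ R := by
    have := (mem_normalizer_iff.1 (inv_mem hk) h).1 hh
    simpa using this
  have h2 : k⁻¹ * h * k ∈ HH O := by
    have := conj_mem_HH (inv_mem hkO) h.2
    simpa using this
  have h3 : pi O ⟨_, h2⟩ ∈ (T : Subgroup (XX O)) := hYT ((pi_mem_YY_iff hOR _).2 h1)
  refine ⟨_, h3, ?_⟩
  show sig O hkO (pi O ⟨_, h2⟩) = _
  rw [sig_pi]
  congr 1
  apply Subtype.ext
  show k * (k⁻¹ * h * k) * k⁻¹ = h
  group

/-- Each element of `Sg` normalizing `R` has the form `z u`. -/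
theorem exists_decomp (hp : p ≠ 2) (hstX : IsNormalizerPStable p (XX O)) (hOR : O ≤ R) {T₀ : Sylow p (XX O)}
    (hYT₀ : YY O R ≤ (T₀ : Subgroup (XX O))) {y : Ω} (hy : y ∈ Sg p O R)
    (hyN : y ∈ normalizer (R : Set Ω)) :
    y ∈ (WW O (ZZ 0 (T₀ : Subgroup (XX O))) ⊓ WW O (normalizer (YY O R : Set (XX O)))) ⊔
      WW O (centralizer (YY O R : Set (XX O))) := by
  obtain ⟨hyH, T, hYT, hz⟩ := hy
  obtain ⟨cb, hcb, hcz⟩ := exists_centralizer_conj hp hstX T₀ T (YY O R) hYT₀ hYT hz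
  obtain ⟨c, rfl⟩ := pi_surjective O cb
  set yb := pi O ⟨y, hyH⟩ with hyb
  have hybN : yb ∈ normalizer (YY O R : Set (XX O)) := pi_mem_normalizer hOR (y := ⟨y, hyH⟩) hyN
  have hcN : pi O c ∈ normalizer (YY O R : Set (XX O)) := centralizer_le_normalizer _ hcb
  -- `z = c y c⁻¹`
  have hzH : (c : Ω) * y * (c : Ω)⁻¹ ∈ HH O := mul_mem (mul_mem c.2 hyH) (inv_mem c.2)
  have hzpi : pi O ⟨_, hzH⟩ = pi O c * yb * (pi O c)⁻¹ := by
    rw [hyb, ← map_inv, ← map_mul, ← map_mul]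
    rfl
  have hzW : (c : Ω) * y * (c : Ω)⁻¹ ∈ WW O (ZZ 0 (T₀ : Subgroup (XX O))) :=
    mem_WW.2 ⟨hzH, by rw [hzpi]; exact hcz⟩
  have hzN : (c : Ω) * y * (c : Ω)⁻¹ ∈ WW O (normalizer (YY O R : Set (XX O))) :=
    mem_WW.2 ⟨hzH, by rw [hzpi]; exact mul_mem (mul_mem hcN hybN) (inv_mem hcN)⟩
  -- `u = z⁻¹ y`
  have huH : ((c : Ω) * y * (c : Ω)⁻¹)⁻¹ * y ∈ HH O := mul_mem (inv_mem hzH) hyH
  have hupi : pi O ⟨_, huH⟩ = pi O c * (yb⁻¹ * (pi O c)⁻¹ * yb) := by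
    have h1 : pi O ⟨_, huH⟩ = (pi O ⟨_, hzH⟩)⁻¹ * yb := by
      rw [hyb, ← map_inv, ← map_mul]
      rfl
    rw [h1, hzpi]
    group
  have hcc : yb⁻¹ * (pi O c)⁻¹ * yb ∈ centralizer (YY O R : Set (XX O)) := by
    rw [mem_centralizer_iff]
    intro b hb
    have h1 : yb * b * yb⁻¹ ∈ YY O R := (mem_normalizer_iff.1 hybN b).1 hb
    have h2 := mem_centralizer_iff.1 hcb _ h1
    have h3 : (yb * b * yb⁻¹) * (pi O c)⁻¹ = (pi O c)⁻¹ * (yb * b * yb⁻¹) := by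
      have h4 : (pi O c)⁻¹ * ((yb * b * yb⁻¹) * pi O c) * (pi O c)⁻¹ =
          (pi O c)⁻¹ * (pi O c * (yb * b * yb⁻¹)) * (pi O c)⁻¹ := by rw [h2]
      simpa [mul_assoc] using h4.symm
    calc b * (yb⁻¹ * (pi O c)⁻¹ * yb) = yb⁻¹ * ((yb * b * yb⁻¹) * (pi O c)⁻¹) * yb := by group
      _ = yb⁻¹ * ((pi O c)⁻¹ * (yb * b * yb⁻¹)) * yb := by rw [h3]
      _ = yb⁻¹ * (pi O c)⁻¹ * yb * b := by group
  have huU : ((c : Ω) * y * (c : Ω)⁻¹)⁻¹ * y ∈ WW O (centralizer (YY O R : Set (XX O))) :=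
    mem_WW.2 ⟨huH, by rw [hupi]; exact mul_mem hcb hcc⟩
  have hye : y = ((c : Ω) * y * (c : Ω)⁻¹) * (((c : Ω) * y * (c : Ω)⁻¹)⁻¹ * y) := by group
  rw [hye]
  exact mul_mem (mem_sup_left ⟨hzW, hzN⟩) (mem_sup_right huU)

/-- The automorphisms of `R` induced by `(W ∩ A) U` form a `p`-group. -/
theorem isPGroup_autInduced {S : Subgroup Ω} (hS : IsPGroup p S) (hOS : O ≤ S) (hRS : R ≤ S)
    (hSN : S ≤ normalizer (O : Set Ω)) (hOR : O ≤ R) {W : Subgroup Ω} (hWS : W ≤ S) :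
    IsPGroup p (autInducedBy (((W ⊓ WW O (normalizer (YY O R : Set (XX O)))) ⊔
      WW O (centralizer (YY O R : Set (XX O)))) ⊓ normalizer (R : Set Ω)) R) := by
  classical
  set A := WW O (normalizer (YY O R : Set (XX O))) with hA
  set U := WW O (centralizer (YY O R : Set (XX O))) with hU
  have hRp : IsPGroup p R := hS.to_le hRS
  have hLN : (W ⊓ A) ≤ normalizer (U : Set Ω) := by
    rw [Subgroup.le_normalizer_iff]
    intro l hl u hu
    obtain ⟨hlH, hl2⟩ := mem_WW.1 hl.2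
    obtain ⟨huH, hu2⟩ := mem_WW.1 hu
    refine mem_WW.2 ⟨mul_mem (mul_mem hlH huH) (inv_mem hlH), ?_⟩
    have h1 : pi O ⟨l * u * l⁻¹, mul_mem (mul_mem hlH huH) (inv_mem hlH)⟩ =
        pi O ⟨l, hlH⟩ * pi O ⟨u, huH⟩ * (pi O ⟨l, hlH⟩)⁻¹ := by
      rw [← map_inv, ← map_mul, ← map_mul]
      rfl
    rw [h1, mem_centralizer_iff]
    intro b hb
    have h2 : (pi O ⟨l, hlH⟩)⁻¹ * b * (pi O ⟨l, hlH⟩)⁻¹⁻¹ ∈ YY O R :=
      (mem_normalizer_iff.1 (inv_mem hl2) b).1 hb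
    have h3 := mem_centralizer_iff.1 hu2 _ h2
    set a := pi O ⟨l, hlH⟩
    set d := pi O ⟨u, huH⟩
    have h4 : a⁻¹ * b * a * d = d * (a⁻¹ * b * a) := by simpa using h3
    calc b * (a * d * a⁻¹) = a * (a⁻¹ * b * a * d) * a⁻¹ := by group
      _ = a * (d * (a⁻¹ * b * a)) * a⁻¹ := by rw [h4]
      _ = a * d * a⁻¹ * b := by group
  rintro ⟨β, hβ⟩
  obtain ⟨e, he, hval⟩ := mem_autInducedBy_iff.1 hβ
  obtain ⟨l, hl, u, hu, hele⟩ := Cfsg.Agent.Lib.Fusion.GroupSylow.exists_mul_of_mem_sup hLN he.1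
  have heN : e ∈ normalizer (R : Set Ω) := he.2
  -- `l` has `p`-power order
  obtain ⟨n, hn⟩ := hS ⟨l, hWS hl.1⟩
  have hn' : l ^ p ^ n = 1 := by
    have := congrArg Subtype.val hn
    simpa using this
  -- powers of `e`
  have hpow : ∀ m : ℕ, ∃ v ∈ U, e ^ m = l ^ m * v := by
    intro m
    induction m with
    | zero => exact ⟨1, one_mem _, by simp⟩
    | succ m ih =>
      obtain ⟨v, hv, hve⟩ := ih
      refine ⟨l⁻¹ * v * l * u, mul_mem ?_ hu, ?_⟩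
      · have h1 := (mem_normalizer_iff.1 (inv_mem (hLN hl)) v).1 hv
        simpa using h1
      · rw [pow_succ, hve, hele, pow_succ]
        group
  obtain ⟨e₁, he₁, he₁e⟩ := hpow (p ^ n)
  rw [hn', one_mul] at he₁e
  obtain ⟨he₁H, he₁2⟩ := mem_WW.1 he₁
  -- the action of the power
  have hβpow : ∀ m : ℕ, ∀ x : R, (((β ^ m) x : R) : Ω) = e ^ m * x * (e ^ m)⁻¹ := by
    intro m
    induction m with
    | zero => intro x; simp
    | succ m ih =>
      intro x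
      rw [pow_succ, MulAut.mul_apply, ih, hval, pow_succ]
      group
  have hβ₁ : ∀ x : R, (((β ^ p ^ n) x : R) : Ω) = e₁ * x * e₁⁻¹ := by
    intro x
    rw [hβpow, he₁e]
  -- the chain
  let D : ℕ → Subgroup R := fun i =>
    if i = 0 then ⊥ else if i = 1 then (O ⊓ HH O).subgroupOf R else
      if i = 2 then (HH O).subgroupOf R else ⊤
  have hD0 : D 0 = ⊥ := rfl
  have hD1 : D 1 = (O ⊓ HH O).subgroupOf R := rfl
  have hD2 : D 2 = (HH O).subgroupOf R := rfl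
  have hD3 : D 3 = ⊤ := rfl
  have hstab : ∀ i < 3, ∀ x ∈ D (i + 1), x⁻¹ * (β ^ p ^ n) x ∈ D i := by
    intro i hi x hx
    have hxe : ((x⁻¹ * (β ^ p ^ n) x : R) : Ω) = (x : Ω)⁻¹ * (e₁ * x * e₁⁻¹) := by
      rw [Subgroup.coe_mul, hβ₁]
      rfl
    interval_cases i
    · -- `x ∈ O ∩ H`
      rw [hD1] at hx
      have hxO : (x : Ω) ∈ O := (Subgroup.mem_subgroupOf.1 hx).1
      have h1 : e₁ * x * e₁⁻¹ = x := by
        have := mem_centralizer_iff.1 he₁H x hxO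
        rw [← this]
        group
      rw [hD0, mem_bot]
      apply Subtype.ext
      rw [hxe, h1]
      simp
    · -- `x ∈ R ∩ H`
      rw [hD2] at hx
      have hxH : (x : Ω) ∈ HH O := Subgroup.mem_subgroupOf.1 hx
      rw [hD1, Subgroup.mem_subgroupOf, hxe]
      have h1 : pi O ⟨x, hxH⟩ ∈ YY O R := (pi_mem_YY_iff hOR _).2 x.2
      have h2 := mem_centralizer_iff.1 he₁2 _ h1
      have h3 : pi O ⟨x, hxH⟩ = pi O ⟨e₁ * x * e₁⁻¹, mul_mem (mul_mem he₁H hxH) (inv_mem he₁H)⟩ := by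
        have h4 : pi O ⟨e₁ * x * e₁⁻¹, mul_mem (mul_mem he₁H hxH) (inv_mem he₁H)⟩ =
            pi O ⟨e₁, he₁H⟩ * pi O ⟨x, hxH⟩ * (pi O ⟨e₁, he₁H⟩)⁻¹ := by
          rw [← map_inv, ← map_mul, ← map_mul]
          rfl
        rw [h4, ← h2]
        group
      exact Subgroup.mem_inf.2 ⟨pi_eq_iff.1 h3, mul_mem (Subgroup.inv_mem _ hxH)
        (mul_mem (mul_mem he₁H hxH) (Subgroup.inv_mem _ he₁H))⟩
    · -- `x ∈ R`
      rw [hD2, Subgroup.mem_subgroupOf, hxe]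
      have h1 : (x : Ω)⁻¹ * e₁ * (x : Ω)⁻¹⁻¹ ∈ HH O :=
        conj_mem_HH (inv_mem (hSN (hRS x.2))) he₁H
      have h2 : (x : Ω)⁻¹ * (e₁ * x * e₁⁻¹) = ((x : Ω)⁻¹ * e₁ * (x : Ω)⁻¹⁻¹) * e₁⁻¹ := by group
      rw [h2]
      exact mul_mem h1 (inv_mem he₁H)
  have hmono : ∀ i < 3, D i ≤ D (i + 1) := by
    intro i hi
    interval_cases i
    · rw [hD0]; exact bot_le
    · rw [hD1, hD2]
      exact fun x hx => Subgroup.mem_subgroupOf.2 (Subgroup.mem_subgroupOf.1 hx).2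
    · rw [hD3]; exact le_top
  haveI : Finite R := inferInstance
  obtain ⟨k, hk⟩ := exists_pow_eq_one_of_stab hRp hD0 hD3 hmono hstab
  refine ⟨n + k, ?_⟩
  apply Subtype.ext
  show β ^ p ^ (n + k) = 1
  rw [pow_add, pow_mul, hk]

/-- `W` lies in every centric radical subgroup. -/
theorem WW_le_of_centric_radical (hp : p ≠ 2) (hstX : IsNormalizerPStable p (XX O))
    (hO : (FF).IsNormal O) {T₀ : Sylow p (XX O)}
    (hT₀ : ∀ c : HH O, pi O c ∈ (T₀ : Subgroup (XX O)) ↔ (c : Ω) ∈ (P : Subgroup Ω))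
    {R : Subgroup Ω} (hC : (FF).IsCentric R) (hR : (FF).IsRadical p R) :
    WW O (ZZ 0 (T₀ : Subgroup (XX O))) ≤ R := by
  classical
  have hS : IsPGroup p (P : Subgroup Ω) := P.isPGroup'
  have hRS := hC.1
  have hOR : O ≤ R := IsNormal.le_of_centric_radical hS hO hC hR
  have hWP := WW_le hO.1 hT₀
  have hSC := stronglyClosed_W hp hstX hO hT₀
  have hOSC := IsNormal.stronglyClosed hO
  have hYT₀ : YY O R ≤ (T₀ : Subgroup (XX O)) := by
    intro a ha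
    obtain ⟨h, rfl⟩ := pi_surjective O a
    exact (hT₀ h).2 (hRS ((pi_mem_YY_iff hOR h).1 ha))
  refine le_of_normalizer_inf_le hS hRS hWP (StronglyClosed.le_normalizer hSC) ?_
  intro x hxW hxN
  let A := (FF).autGroup R
  haveI hfinA : Finite A := Cfsg.Agent.Lib.Fusion.Saturated.finite_autGroup hRS
  let E₁ : Subgroup (MulAut R) := closure {β | ∃ y ∈ Sg p O R, ∃ hN : y ∈ normalizer (R : Set Ω), β = normConj y hN}
  let K : Subgroup A := E₁.subgroupOf A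
  have hkk : ∀ α : A, ∃ k : Ω, ∃ hk : k ∈ normalizer (R : Set Ω), (α : MulAut R) = normConj k hk ∧
      k ∈ normalizer (O : Set Ω) := by
    intro α
    have h1 : (α : MulAut R) ∈ (FF).autGroup R := α.2
    rw [Cfsg.Agent.Lib.Fusion.GroupSylow.autGroup_groupFusionSystem _ hRS] at h1
    obtain ⟨k, -, hkv⟩ := mem_autInducedBy_iff.1 h1
    have hk : k ∈ normalizer (R : Set Ω) := mem_normalizer_of_aut hkv
    refine ⟨k, hk, ?_, ?_⟩
    · ext x
      exact hkv x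
    · apply normalizer_of_conj_le
      intro o ho
      have h2 := Cfsg.Agent.Lib.Fusion.Chain.StronglyClosed.aut_mem hOSC hRS α.2 ⟨o, hOR ho⟩ ho
      rwa [hkv] at h2
  have hKn : K.Normal := by
    refine ⟨fun β hβ α => ?_⟩
    obtain ⟨k, hk, hαe, hkO⟩ := hkk α
    rw [Subgroup.mem_subgroupOf] at hβ ⊢
    have hle : E₁ ≤ E₁.comap (MulAut.conj (normConj k hk)).toMonoidHom := by
      refine (closure_le _).2 ?_
      rintro _ ⟨y, hy, hN, rfl⟩
      apply Subgroup.subset_closure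
      refine ⟨k * y * k⁻¹, Sg_conj hOR hk hkO hy, mul_mem (mul_mem hk hN) (inv_mem hk), ?_⟩
      ext z
      have hkinv : ∀ w : R, (((normConj k hk)⁻¹ w : R) : Ω) = k⁻¹ * w * k := fun w => rfl
      show ((normConj k hk ((normConj y hN) ((normConj k hk)⁻¹ z)) : R) : Ω) = _
      rw [normConj_apply, normConj_apply, hkinv]
      show _ = k * y * k⁻¹ * z * (k * y * k⁻¹)⁻¹
      group
    have h1 := hle hβ
    have h2 : ((α * β * α⁻¹ : A) : MulAut R) =
        (MulAut.conj (normConj k hk)).toMonoidHom (β : MulAut R) := by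
      show (α : MulAut R) * (β : MulAut R) * (α : MulAut R)⁻¹ = _
      rw [hαe]
      rfl
    rw [h2]
    exact h1
  have hKp : IsPGroup p K := by
    have hle : E₁ ≤ autInducedBy (((WW O (ZZ 0 (T₀ : Subgroup (XX O))) ⊓ WW O (normalizer (YY O R : Set (XX O)))) ⊔
        WW O (centralizer (YY O R : Set (XX O)))) ⊓ normalizer (R : Set Ω)) R := by
      refine (closure_le _).2 ?_
      rintro _ ⟨y, hy, hN, rfl⟩
      exact normConj_mem_autInducedBy (Subgroup.mem_inf.2 ⟨exists_decomp hp hstX hOR hYT₀ hy hN, hN⟩) hN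
    have h1 := isPGroup_autInduced hS hO.1 hRS (StronglyClosed.le_normalizer hOSC) hOR hWP
    exact (h1.to_le hle).comap_of_injective A.subtype A.subtype_injective
  have hxS := hWP hxW
  have hmemA : normConj x hxN ∈ A :=
    autInducedBy_le_autGroup hRS (normConj_mem_autInducedBy hxS hxN)
  have hxSg : x ∈ Sg p O R := by
    obtain ⟨hxH, hxZ⟩ := mem_WW.1 hxW
    exact ⟨hxH, T₀, hYT₀, hxZ⟩
  have hcore : (⟨normConj x hxN, hmemA⟩ : A) ∈ pCore p A :=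
    Cfsg.Agent.Lib.Basic.PCore.le_pCore hKn hKp
      (Subgroup.mem_subgroupOf.2 (Subgroup.subset_closure ⟨x, hxSg, hxN, rfl⟩))
  exact mem_of_conj_mem_pCore hC hR hxS hcore (fun _ => rfl)

/-- **A `p`-stable group fusion system is constrained**, `p` odd. -/
theorem isConstrained (hp : p ≠ 2) (P : Sylow p Ω) (hst : IsNormalizerPStable p Ω) :
    (groupFusionSystem (P : Subgroup Ω)).IsConstrained p := by
  classical
  have hS : IsPGroup p (P : Subgroup Ω) := P.isPGroup'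
  have hFsat := Cfsg.Agent.Lib.Fusion.GroupSylow.isSaturated_groupFusionSystem P
  refine ⟨hFsat, (groupFusionSystem (P : Subgroup Ω)).core, ?_⟩
  set O := (groupFusionSystem (P : Subgroup Ω)).core with hOdef
  have hO : (groupFusionSystem (P : Subgroup Ω)).IsNormal O := Cfsg.Agent.Lib.Fusion.Joins.isNormal_core _
  have hOSC := IsNormal.stronglyClosed hO
  refine ⟨hO, hO.1, fun Q hQ => ?_⟩
  -- `Q = O`
  have hQO : Q = O := by
    obtain ⟨φ, hφ, rfl⟩ := hQ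
    have h1 := StronglyClosed.map_eq hOSC le_rfl hφ
    refine Eq.trans ?_ h1
    ext y
    constructor
    · rintro ⟨x, rfl⟩
      exact ⟨x, by simp [Subgroup.mem_subgroupOf], rfl⟩
    · rintro ⟨x, -, rfl⟩
      exact ⟨x, rfl⟩
  rw [hQO]
  have hstH := Cfsg.Agent.Lib.PGroup.ZJCore.normalizerPStable_subgroup hst (HH O)
  have hVp : IsPGroup p (VV O) := by
    rintro ⟨v, hv⟩
    obtain ⟨k, hk⟩ := hS ⟨(v : Ω), hO.1 (mem_VV.1 hv)⟩
    refine ⟨k, ?_⟩
    apply Subtype.ext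
    apply Subtype.ext
    have := congrArg Subtype.val hk
    simpa using this
  have hstX : IsNormalizerPStable p (XX O) :=
    Cfsg.Agent.Lib.PGroup.StableQuot.stable_quot hp hstH (VV O) hVp (fun g _ => by
      rw [mem_centralizer_iff]
      intro v hv
      apply Subtype.ext
      exact mem_centralizer_iff.1 g.2 v (mem_VV.1 hv))
  obtain ⟨T₀, hT₀⟩ := exists_T0 P hO
  set W := WW O (ZZ 0 (T₀ : Subgroup (XX O))) with hW
  have hSC := stronglyClosed_W hp hstX hO hT₀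
  have hnorm : (groupFusionSystem (P : Subgroup Ω)).IsNormal (O ⊔ W) :=
    isNormal_of_stronglyClosed_of_le hS hFsat (stronglyClosed_sup hO hSC) (fun R hC hR =>
      sup_le (IsNormal.le_of_centric_radical hS hO hC hR)
        (WW_le_of_centric_radical hp hstX hO hT₀ hC hR))
  have hWO : W ≤ O := le_sup_right.trans (le_sSup hnorm)
  have hZbot : ZZ 0 (T₀ : Subgroup (XX O)) = ⊥ := by
    rw [eq_bot_iff]
    intro a ha
    obtain ⟨h, rfl⟩ := pi_surjective O a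
    have h1 : (h : Ω) ∈ W := mem_WW.2 ⟨h.2, ha⟩
    have h2 := hWO h1
    rw [mem_bot]
    exact (QuotientGroup.eq_one_iff h).2 (mem_VV.2 h2)
  have hTbot : (T₀ : Subgroup (XX O)) = ⊥ := by
    by_contra hne
    exact Cfsg.Agent.Lib.PGroup.ZJControl.ZZ_ne_bot (Or.inl rfl) T₀.isPGroup' hne hZbot
  rintro c ⟨hcP, hcH⟩
  have h1 : pi O ⟨c, hcH⟩ ∈ (T₀ : Subgroup (XX O)) := (hT₀ _).2 hcP
  rw [hTbot, mem_bot] at h1
  exact mem_VV.1 ((QuotientGroup.eq_one_iff _).1 h1)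

end Main

end Cfsg.Agent.Lib.Fusion.PStableConstr
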