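import Mathlib
import Cfsg.Agent.Lib.Fusion.PermFusDataMcL

/-! The kernel checks for the simplicity of the `2`-fusion system of `McL`. -/

set_option autoImplicit false
set_option maxRecDepth 100000
set_option maxHeartbeats 0
set_option Elab.async false

namespace Cfsg.Agent.Lib.Fusion.PermFusData.McL

open Cfsg.Agent.Lib.Compute.PermCert Cfsg.Agent.Lib.Compute.OutChain Cfsg.Agent.Lib.Compute.OutFinal
  Cfsg.Agent.Lib.Fusion.PermFusC

local notation "W" => (9 : Nat)
local notation "M" => (511 : Nat)
local notation "NN" => (275 : Nat)
local notation "TW" => (21 : Nat)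
local notation "TM" => (2097151 : Nat)
local notation "DD" => (9 : Nat)

theorem hcent : enumS W M (centLeaf W M (nextGens sl) ze (baseL (lrK.map Prod.fst))) sl id id = true := by decide +kernel
theorem hsteps : stepsOK W M NN TW TM DD (lrK.map Prod.fst) sl finL [ze] stepsL = true := by decide +kernel
theorem hts : tsOK W M NN TW TM DD (lrK.map Prod.fst) rl 3 ts = true := by decide +kernel
theorem hrules : rulesOK NN (get W M ze.f) [] lrK = true := by decide +kernel

end Cfsg.Agent.Lib.Fusion.PermFusData.McL
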