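/-
If `Qd(p)` (`p` odd) is involved in a finite group `G`, then it is involved in `N_G(U)` for a fully normalized centric
subgroup `U` of a Sylow subgroup; hence the fusion system of `G` is `Qd(p)`-free iff `G` is.
-/
import Mathlib
import Cfsg.Agent.Lib.Fusion.QdStruct
import Cfsg.Agent.Lib.Fusion.GroupFree

set_option autoImplicit false

namespace Cfsg.Agent.Lib.Fusion.QdLocal

open Cfsg Cfsg.FusionSystem Cfsg.Agent.Lib.Fusion.Basic Cfsg.Agent.Lib.Fusion.GroupSylow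
  Cfsg.Agent.Lib.Fusion.Saturated Cfsg.Agent.Lib.Fusion.ModelLocal
  Cfsg.Agent.Lib.Fusion.NormalCR Cfsg.Agent.Lib.Fusion.EmbedF
  Cfsg.Agent.Lib.PGroup.QdSplit Cfsg.Agent.Lib.Fusion.QdStruct Cfsg.Agent.Lib.Fusion.GroupFree
open scoped MatrixGroups Pointwise
open Matrix

universe u

section frattini

variable {p : ℕ} [Fact p.Prime]

/-- The Frattini argument through the Sylow subgroup of a normal subgroup with `p`-group image. -/
theorem exists_sylow_frattini {Γ X : Type*} [Group Γ] [Finite Γ] [Group X] (π : Γ →* X)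
    (M : Subgroup Γ) [hM : M.Normal] (hp : IsPGroup p (M.map π)) :
    ∃ V : Subgroup Γ, V ≤ M ∧ IsPGroup p V ∧ V.map π = M.map π ∧
      ∀ g : Γ, ∃ n ∈ Subgroup.normalizer (V : Set Γ), π n = π g := by
  classical
  obtain ⟨R⟩ : Nonempty (Sylow p M) := inferInstance
  let V : Subgroup Γ := (R : Subgroup M).map M.subtype
  have hVM : V ≤ M := Subgroup.map_subtype_le _
  have himg : V.map π = M.map π := by
    let ρ : M →* M.map π := π.subgroupMap M
    have hρ : Function.Surjective ρ := π.subgroupMap_surjective M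
    let Y := R.mapSurjective hρ
    have hY : (Y : Subgroup (M.map π)) = ⊤ := (Y.is_maximal' (Q := ⊤) (hp.to_subgroup ⊤) le_top).symm
    apply le_antisymm (Subgroup.map_mono hVM)
    rintro _ ⟨m, hm, rfl⟩
    have h1 : (⟨π m, ⟨m, hm, rfl⟩⟩ : M.map π) ∈ (Y : Subgroup (M.map π)) := by
      rw [hY]
      exact Subgroup.mem_top _
    rw [Sylow.coe_mapSurjective] at h1
    obtain ⟨r, hr, hre⟩ := h1
    exact ⟨r, ⟨r, hr, rfl⟩, congrArg Subtype.val hre⟩
  refine ⟨V, hVM, R.isPGroup'.map M.subtype, himg, fun g => ?_⟩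
  have htop := Sylow.normalizer_sup_eq_top R
  have hg : g ∈ (Subgroup.normalizer (V : Set Γ)) ⊔ M := by
    rw [htop]
    exact Subgroup.mem_top _
  have hg' : g ∈ ((Subgroup.normalizer (V : Set Γ) : Set Γ) * (M : Set Γ)) := by
    rw [← Subgroup.mul_normal]
    exact hg
  obtain ⟨n, hn, m, hm, rfl⟩ := Set.mem_mul.1 hg'
  obtain ⟨v, hv, hve⟩ : π m ∈ V.map π := by
    rw [himg]
    exact ⟨m, hm, rfl⟩
  refine ⟨n * v, Subgroup.mul_mem _ hn (Subgroup.le_normalizer hv), ?_⟩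
  rw [map_mul, map_mul, hve]

variable {G : Type u} [Group G] [Finite G]

/-- The Frattini argument in a subgroup `K` of `G`. -/
theorem exists_frattini_in (K : Subgroup G) {X : Type*} [Group X] (π : K →* X) (M : Subgroup K) [M.Normal]
    (hp : IsPGroup p (M.map π)) :
    ∃ V : Subgroup G, V ≤ K ∧ IsPGroup p V ∧ (∀ v : K, (v : G) ∈ V → v ∈ M) ∧
      (∀ m ∈ M, ∃ v : K, (v : G) ∈ V ∧ π v = π m) ∧
      ∀ k : K, ∃ n : K, (n : G) ∈ Subgroup.normalizer (V : Set G) ∧ π n = π k := by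
  obtain ⟨V', hV'M, hV'p, hV'im, hfr⟩ := exists_sylow_frattini π M hp
  refine ⟨V'.map K.subtype, Subgroup.map_subtype_le _, hV'p.map _, ?_, ?_, ?_⟩
  · rintro v ⟨w, hw, hwe⟩
    have : w = v := Subtype.ext hwe
    rw [← this]
    exact hV'M hw
  · intro m hm
    obtain ⟨v, hv, hve⟩ : π m ∈ V'.map π := by
      rw [hV'im]
      exact ⟨m, hm, rfl⟩
    exact ⟨v, ⟨v, hv, rfl⟩, hve⟩
  · intro k
    obtain ⟨n, hn, hne⟩ := hfr k
    refine ⟨n, ?_, hne⟩
    rw [Subgroup.mem_normalizer_iff]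
    intro x
    constructor
    · rintro ⟨w, hw, rfl⟩
      exact ⟨n * w * n⁻¹, (Subgroup.mem_normalizer_iff.1 hn w).1 hw, rfl⟩
    · rintro ⟨w, hw, hwe⟩
      have hxK : x ∈ K := by
        have e : x = (n : G)⁻¹ * (w : G) * n := by
          rw [show (w : G) = n * x * (n : G)⁻¹ from hwe]
          group
        rw [e]
        exact K.mul_mem (K.mul_mem (K.inv_mem n.2) w.2) n.2
      have hw' : n * (⟨x, hxK⟩ : K) * n⁻¹ = w := Subtype.ext hwe.symm
      have h2 := (Subgroup.mem_normalizer_iff.1 hn (⟨x, hxK⟩ : K)).2 (by rw [hw']; exact hw)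
      exact ⟨_, h2, rfl⟩

/-- Lifting a quotient of `K` through `C` to the normalizer of a Sylow subgroup of `C`. -/
theorem exists_lift_sylow {R : Type*} [Group R] {K C D : Subgroup G} (hKC : K ≤ Subgroup.normalizer (C : Set G))
    (hD : IsSylowIn p D C) (hDC : D ≤ C) (ρ : K →* R) (hρ : Function.Surjective ρ)
    (hker : ∀ k : K, (k : G) ∈ C → ρ k = 1) :
    ∃ ρ₂ : ↥((K ⊔ C) ⊓ Subgroup.normalizer (D : Set G)) →* R, Function.Surjective ρ₂ ∧
      ∀ b : ↥((K ⊔ C) ⊓ Subgroup.normalizer (D : Set G)), ∃ k : K, ∃ c ∈ C, (b : G) = k * c ∧ ρ₂ b = ρ k := by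
  classical
  let B : Subgroup G := K ⊔ C
  have hBn : B ≤ Subgroup.normalizer (C : Set G) := sup_le hKC Subgroup.le_normalizer
  haveI hCn : (C.subgroupOf B).Normal := Subgroup.normal_subgroupOf_of_le_normalizer hBn
  let q : B →* B ⧸ C.subgroupOf B := QuotientGroup.mk' _
  let f : K →* B ⧸ C.subgroupOf B := q.comp (Subgroup.inclusion le_sup_left)
  have hq : ∀ (k : K) (c : G) (hc : c ∈ C) (h : (k : G) * c ∈ B), q ⟨(k : G) * c, h⟩ = f k := by
    intro k c hc h
    apply Eq.symm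
    apply QuotientGroup.eq.2
    rw [Subgroup.mem_subgroupOf]
    show ((k : G))⁻¹ * (k * c) ∈ C
    rw [inv_mul_cancel_left]
    exact hc
  have hf : Function.Surjective f := by
    intro y
    obtain ⟨⟨b, hb⟩, rfl⟩ := QuotientGroup.mk'_surjective _ y
    obtain ⟨a, ha, c, hc, rfl⟩ := exists_mul_of_mem_sup hKC hb
    exact ⟨⟨a, ha⟩, (hq ⟨a, ha⟩ c hc hb).symm⟩
  have hkerle : f.ker ≤ ρ.ker := by
    intro k hk
    have h1 : (Subgroup.inclusion (le_sup_left : K ≤ B) k) ∈ C.subgroupOf B := (QuotientGroup.eq_one_iff _).1 hk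
    exact hker k h1
  let ρb : (B ⧸ C.subgroupOf B) →* R := f.liftOfSurjective hf ⟨ρ, hkerle⟩
  have hρb : ∀ k : K, ρb (f k) = ρ k := fun k => f.liftOfRightInverse_comp_apply _ _ ⟨ρ, hkerle⟩ k
  let ρ₂ : ↥(B ⊓ Subgroup.normalizer (D : Set G)) →* R := ρb.comp (q.comp (Subgroup.inclusion inf_le_left))
  refine ⟨ρ₂, fun r => ?_, fun b => ?_⟩
  · obtain ⟨k, rfl⟩ := hρ r
    have hkCle : cj (k : G) D ≤ C := by
      rw [cj_le_iff]
      intro x hx
      exact (Subgroup.mem_normalizer_iff.1 (hKC k.2) x).1 (hDC hx)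
    have hDp : IsPGroup p D := hD.isPGroup hDC
    obtain ⟨n, hn, hle⟩ := hD.exists_conj_le hkCle (isPGroup_cj _ hDp)
    have heq : cj (n * k) D = D := by
      rw [cj_mul]
      apply Subgroup.eq_of_le_of_card_ge hle
      rw [card_cj, card_cj]
    have hnorm : n * (k : G) ∈ Subgroup.normalizer (D : Set G) :=
      Subgroup.mem_normalizer_iff_map_conj_eq.2 heq
    have hck : (k : G)⁻¹ * n * k ∈ C := by
      have h1 := (Subgroup.mem_normalizer_iff.1 (hKC (K.inv_mem k.2)) n).1 hn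
      simpa using h1
    have e : n * (k : G) = k * ((k : G)⁻¹ * n * k) := by group
    have hB : n * (k : G) ∈ B :=
      B.mul_mem (Subgroup.mem_sup_right hn) (Subgroup.mem_sup_left k.2)
    refine ⟨⟨n * k, hB, hnorm⟩, ?_⟩
    show ρb (q ⟨n * k, hB⟩) = ρ k
    have hB' : (k : G) * ((k : G)⁻¹ * n * k) ∈ B := by
      rw [← e]
      exact hB
    have h2 : (⟨n * k, hB⟩ : B) = ⟨(k : G) * ((k : G)⁻¹ * n * k), hB'⟩ := Subtype.ext e
    rw [h2, hq k _ hck hB', hρb]
  · obtain ⟨a, ha, c, hc, hac⟩ := exists_mul_of_mem_sup hKC b.2.1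
    refine ⟨⟨a, ha⟩, c, hc, hac, ?_⟩
    show ρb (q ⟨b, b.2.1⟩) = ρ ⟨a, ha⟩
    have hB : (a : G) * c ∈ B := hac ▸ b.2.1
    have h2 : (⟨b, b.2.1⟩ : B) = ⟨a * c, hB⟩ := Subtype.ext hac
    rw [h2, hq ⟨a, ha⟩ c hc hB, hρb]

end frattini

section main

variable {G : Type u} [Group G] [Finite G] {p : ℕ} [Fact p.Prime]

theorem involves_of_sec {X A : Type*} [Group X] [Group A] (h : Sec X A) : Involves X A := by
  obtain ⟨K, Φ, hΦ⟩ := h
  exact involves_of_inj_surj K.subtype K.subtype_injective Φ hΦ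

theorem normalizer_inf_le_sup (A B : Subgroup G) :
    Subgroup.normalizer (A : Set G) ⊓ Subgroup.normalizer (B : Set G) ≤ Subgroup.normalizer ((A ⊔ B : Subgroup G) : Set G) := by
  rw [Subgroup.le_normalizer_iff]
  intro t ht x hx
  have hle : A ⊔ B ≤ (A ⊔ B).comap (MulAut.conj t).toMonoidHom := by
    refine sup_le (fun a ha => ?_) (fun b hb => ?_)
    · exact Subgroup.mem_sup_left ((Subgroup.mem_normalizer_iff.1 ht.1 a).1 ha)
    · exact Subgroup.mem_sup_right ((Subgroup.mem_normalizer_iff.1 ht.2 b).1 hb)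
  exact hle hx

theorem normalizer_le_normalizer_centralizer (U : Subgroup G) :
    Subgroup.normalizer (U : Set G) ≤ Subgroup.normalizer (Subgroup.centralizer (U : Set G) : Set G) := by
  rw [Subgroup.le_normalizer_iff]
  intro t ht c hc
  rw [Subgroup.mem_centralizer_iff] at hc ⊢
  intro u hu
  have h1 : t⁻¹ * u * t ∈ U := by
    have := (Subgroup.mem_normalizer_iff.1 ht (t⁻¹ * u * t)).2
    apply this
    have e : t * (t⁻¹ * u * t) * t⁻¹ = u := by group
    rw [e]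
    exact hu
  have h2 := hc _ h1
  calc u * (t * c * t⁻¹) = t * ((t⁻¹ * u * t) * c) * t⁻¹ := by group
    _ = t * (c * (t⁻¹ * u * t)) * t⁻¹ := by rw [h2]
    _ = t * c * t⁻¹ * u := by group

theorem card_lt_of_not_le {A B : Subgroup G} (h : ¬ B ≤ A) : Nat.card A < Nat.card (A ⊔ B : Subgroup G) := by
  by_contra hc
  have h1 : A = A ⊔ B := Subgroup.eq_of_le_of_card_ge le_sup_left (not_lt.1 hc)
  exact h (h1 ▸ le_sup_right)

/-- The main step: `Qd(p)` in `N_G(U)`, `U` fully normalized not containing `C_P(U)`: some larger `p`-subgroup has a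
normalizer involving `Qd(p)`. -/
theorem exists_larger (hp2 : p ≠ 2) (P : Sylow p G) {U : Subgroup G} (hUP : U ≤ P)
    (hFN : IsSylowIn p (normalizerIn (P : Subgroup G) U) (Subgroup.normalizer (U : Set G)))
    (hD : ¬ centralizerIn (P : Subgroup G) U ≤ U)
    {K : Subgroup G} (hK : K ≤ Subgroup.normalizer (U : Set G)) (π : K →* qd p) (hπ : Function.Surjective π) :
    ∃ U' : Subgroup G, IsPGroup p U' ∧ Nat.card U < Nat.card U' ∧ Involves ↥(qd p) ↥(Subgroup.normalizer (U' : Set G)) := by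
  classical
  have hUp : IsPGroup p U := isPGroup_of_le_sylow P hUP
  let D : Subgroup G := centralizerIn (P : Subgroup G) U
  let C : Subgroup G := Subgroup.centralizer (U : Set G)
  have hDC : D ≤ C := inf_le_right
  have hDP : D ≤ P := inf_le_left
  have hDsyl : IsSylowIn p D C := isSylowIn_centralizerIn P hFN
  let H : Subgroup G := Subgroup.normalizer (U : Set G)
  have hCH : C ≤ H := Subgroup.centralizer_le_normalizer _
  have hHC : H ≤ Subgroup.normalizer (C : Set G) := normalizer_le_normalizer_centralizer U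
  let Q : Subgroup G := U ⊔ D
  have hQP : Q ≤ P := sup_le hUP hDP
  have hQp : IsPGroup p Q := isPGroup_of_le_sylow P hQP
  have hcard : Nat.card U < Nat.card Q := card_lt_of_not_le hD
  have hNQ : H ⊓ Subgroup.normalizer (D : Set G) ≤ Subgroup.normalizer (Q : Set G) := normalizer_inf_le_sup U D
  -- step A
  by_cases hA : ∀ k : K, (k : G) ∈ C → π k = 1
  · obtain ⟨ρ₂, hρ₂, -⟩ := exists_lift_sylow (p := p) (hK.trans hHC) hDsyl hDC π hπ hA
    refine ⟨Q, hQp, hcard, ?_⟩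
    have hle : (K ⊔ C) ⊓ Subgroup.normalizer (D : Set G) ≤ Subgroup.normalizer (Q : Set G) :=
      (inf_le_inf_right _ (sup_le hK hCH)).trans hNQ
    exact involves_of_inj_surj (Subgroup.inclusion hle) (Subgroup.inclusion_injective hle) ρ₂ hρ₂
  push_neg at hA
  obtain ⟨k₀, hk₀C, hk₀⟩ := hA
  -- the image of `K ∩ C` contains the translations
  haveI hCK : (C.subgroupOf K).Normal := Subgroup.normal_subgroupOf_of_le_normalizer (hK.trans hHC)
  haveI hN₁n : ((C.subgroupOf K).map π).Normal := Subgroup.Normal.map hCK π hπ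
  have hN₁ne : (C.subgroupOf K).map π ≠ ⊥ := by
    intro h
    have h1 : π k₀ ∈ (C.subgroupOf K).map π := ⟨k₀, hk₀C, rfl⟩
    rw [h] at h1
    exact hk₀ (Subgroup.mem_bot.1 h1)
  have hT : ∀ c : Multiplicative (Fin 2 → ZMod p), ∃ k : K, (k : G) ∈ C ∧ π k = T c := by
    intro c
    obtain ⟨k, hk, hke⟩ := T_mem_of_normal hN₁ne c
    exact ⟨k, hk, hke⟩
  let M : Subgroup K := C.subgroupOf K ⊓ ((τ : qd p →* SL(2, ZMod p)).comp π).ker
  have hMp : IsPGroup p (M.map π) := by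
    rintro ⟨_, m, hm, rfl⟩
    have h1 : τ (π m) = 1 := hm.2
    obtain ⟨c, hc⟩ := mem_range_T_iff.1 h1
    refine ⟨1, ?_⟩
    apply Subtype.ext
    rw [pow_one]
    show π m ^ p = 1
    rw [← hc]
    exact T_pow_p c
  obtain ⟨V, hVK, hVp, hVM, hVim, hVfr⟩ := exists_frattini_in K π M hMp
  have hVC : V ≤ C := fun v hv => (hVM ⟨v, hVK hv⟩ hv).1
  have hTV : ∀ c : Multiplicative (Fin 2 → ZMod p), ∃ v : K, (v : G) ∈ V ∧ π v = T c := by
    intro c
    obtain ⟨k, hk, hke⟩ := hT c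
    have hkM : k ∈ M := ⟨hk, by
      show τ (π k) = 1
      rw [hke, τ_T]⟩
    obtain ⟨v, hv, hve⟩ := hVim k hkM
    exact ⟨v, hv, hve.trans hke⟩
  let K₁ : Subgroup G := K ⊓ Subgroup.normalizer (V : Set G)
  let π₁ : K₁ →* qd p := π.comp (Subgroup.inclusion inf_le_left)
  have hπ₁ : Function.Surjective π₁ := by
    intro x
    obtain ⟨k, rfl⟩ := hπ x
    obtain ⟨n, hn, hne⟩ := hVfr k
    exact ⟨⟨n, n.2, hn⟩, hne⟩
  have hK₁H : K₁ ≤ H := inf_le_left.trans hK
  -- a larger subgroup if `V` is not inside `U`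
  by_cases hVU : ¬ V ≤ U
  · refine ⟨U ⊔ V, ?_, card_lt_of_not_le hVU, ?_⟩
    · exact hUp.to_sup_of_normal_left' hVp (hVC.trans hCH)
    · have hle : K₁ ≤ Subgroup.normalizer ((U ⊔ V : Subgroup G) : Set G) :=
        (le_inf hK₁H inf_le_right).trans (normalizer_inf_le_sup U V)
      exact involves_of_inj_surj (Subgroup.inclusion hle) (Subgroup.inclusion_injective hle) π₁ hπ₁
  push_neg at hVU
  -- the natural module
  let ρ : K₁ →* SL(2, ZMod p) := (τ : qd p →* SL(2, ZMod p)).comp π₁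
  have hρ : Function.Surjective ρ := τ_surjective.comp hπ₁
  have hρker : ∀ k : K₁, (k : G) ∈ C → ρ k = 1 := by
    intro k hk
    apply τ_eq_one_of_commute
    intro c
    obtain ⟨v, hv, hve⟩ := hTV (Multiplicative.ofAdd c)
    rw [← hve]
    have h1 : (k : G) * v = v * k := (Subgroup.mem_centralizer_iff.1 hk v (hVU hv)).symm
    have h2 : (Subgroup.inclusion inf_le_left k : K) * v = v * Subgroup.inclusion inf_le_left k := Subtype.ext h1
    show π (Subgroup.inclusion inf_le_left k) * π v = π v * π (Subgroup.inclusion inf_le_left k)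
    rw [← map_mul, ← map_mul, h2]
  obtain ⟨ρ₂, hρ₂, hρ₂d⟩ := exists_lift_sylow (p := p) (hK₁H.trans hHC) hDsyl hDC ρ hρ hρker
  let B₂ : Subgroup G := (K₁ ⊔ C) ⊓ Subgroup.normalizer (D : Set G)
  have hB₂Q : B₂ ≤ Subgroup.normalizer (Q : Set G) := (inf_le_inf_right _ (sup_le hK₁H hCH)).trans hNQ
  -- `U` normalizes `D`
  have hUD : U ≤ Subgroup.normalizer (D : Set G) := by
    rw [Subgroup.le_normalizer_iff]
    intro u hu d hd
    refine ⟨(P : Subgroup G).mul_mem ((P : Subgroup G).mul_mem (hUP hu) hd.1) ((P : Subgroup G).inv_mem (hUP hu)), ?_⟩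
    exact (Subgroup.le_normalizer_iff.1 hHC u (Subgroup.le_normalizer hu)) d hd.2
  have hVK₁ : V ≤ K₁ := le_inf hVK Subgroup.le_normalizer
  have hVB₂ : V ≤ B₂ := le_inf (hVK₁.trans le_sup_left) (hVU.trans hUD)
  have hρ₂V : ∀ b : B₂, (b : G) ∈ C → ρ₂ b = 1 := by
    intro b hb
    obtain ⟨k, c, hc, he, hbe⟩ := hρ₂d b
    rw [hbe]
    apply hρker
    have e : (k : G) = b * c⁻¹ := by rw [he]; group
    rw [e]
    exact C.mul_mem hb (C.inv_mem hc)
  -- the action of `B₂` on `V`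
  have hact₀ : ∀ b : B₂, ∀ y ∈ V, ∃ k : K₁, (b : G) * y * (b : G)⁻¹ = k * y * (k : G)⁻¹ ∧ ρ₂ b = ρ k := by
    intro b y hy
    obtain ⟨k, c, hc, he, hbe⟩ := hρ₂d b
    refine ⟨k, ?_, hbe⟩
    rw [he]
    have h1 : c * y = y * c := (Subgroup.mem_centralizer_iff.1 hc y (hVU hy)).symm
    calc (k : G) * c * y * ((k : G) * c)⁻¹ = k * (c * y) * c⁻¹ * (k : G)⁻¹ := by group
      _ = k * y * (k : G)⁻¹ := by rw [h1]; group
  have hVnorm : ∀ k : K₁, ∀ y ∈ V, (k : G) * y * (k : G)⁻¹ ∈ V := fun k y hy =>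
    (Subgroup.mem_normalizer_iff.1 k.2.2 y).1 hy
  -- the kernel
  let πV : ↥V →* qd p := π.comp (Subgroup.inclusion hVK)
  let Y₀ : Subgroup G := πV.ker.map V.subtype
  have hY₀mem : ∀ x : G, x ∈ Y₀ ↔ ∃ h : x ∈ V, πV ⟨x, h⟩ = 1 := by
    intro x
    constructor
    · rintro ⟨y, hy, rfl⟩
      exact ⟨y.2, hy⟩
    · rintro ⟨h, he⟩
      exact ⟨⟨x, h⟩, he, rfl⟩
  have hπconj : ∀ (k : K₁) (y : G) (hy : y ∈ V), πV ⟨(k : G) * y * (k : G)⁻¹, hVnorm k y hy⟩ =
      π₁ k * πV ⟨y, hy⟩ * (π₁ k)⁻¹ := by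
    intro k y hy
    show π _ = π (Subgroup.inclusion inf_le_left k) * π _ * (π (Subgroup.inclusion inf_le_left k))⁻¹
    rw [← map_inv, ← map_mul, ← map_mul]
    rfl
  let Y₀' : Subgroup B₂ := Y₀.subgroupOf B₂
  haveI hY₀n : Y₀'.Normal := by
    refine ⟨fun y hy b => ?_⟩
    rw [Subgroup.mem_subgroupOf] at hy ⊢
    obtain ⟨hyV, hy1⟩ := (hY₀mem _).1 hy
    obtain ⟨k, he, -⟩ := hact₀ b y hyV
    show (b : G) * y * (b : G)⁻¹ ∈ Y₀
    rw [he]
    refine (hY₀mem _).2 ⟨hVnorm k y hyV, ?_⟩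
    rw [hπconj k y hyV, hy1, mul_one, mul_inv_cancel]
  let Γ := ↥B₂ ⧸ Y₀'
  have hliftker : ∀ y ∈ Y₀', ρ₂ y = 1 := by
    intro y hy
    rw [Subgroup.mem_subgroupOf] at hy
    obtain ⟨hyV, -⟩ := (hY₀mem _).1 hy
    exact hρ₂V y (hVC hyV)
  let τ' : Γ →* SL(2, ZMod p) := QuotientGroup.lift Y₀' ρ₂ hliftker
  have hτ'mk : ∀ b : B₂, τ' (b : Γ) = ρ₂ b := fun b => rfl
  have hτ' : Function.Surjective τ' := by
    intro s
    obtain ⟨b, rfl⟩ := hρ₂ s
    exact ⟨(b : Γ), rfl⟩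
  -- the embedding of the natural module
  choose y hyV hye using hTV
  let yb : Multiplicative (Fin 2 → ZMod p) → B₂ := fun c => ⟨y c, hVB₂ (hyV c)⟩
  have hybπ : ∀ c, πV ⟨y c, hyV c⟩ = T c := fun c => hye c
  -- two elements of `B₂` in `V` with equal images agree in `Γ`
  have hΓeq : ∀ (a b : B₂) (ha : (a : G) ∈ V) (hb : (b : G) ∈ V), πV ⟨a, ha⟩ = πV ⟨b, hb⟩ → (a : Γ) = (b : Γ) := by
    intro a b ha hb he
    apply QuotientGroup.eq.2
    rw [Subgroup.mem_subgroupOf]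
    show (a : G)⁻¹ * b ∈ Y₀
    have hm : (a : G)⁻¹ * b ∈ V := V.mul_mem (V.inv_mem ha) hb
    refine (hY₀mem _).2 ⟨hm, ?_⟩
    have e : (⟨(a : G)⁻¹ * b, hm⟩ : ↥V) = (⟨a, ha⟩ : ↥V)⁻¹ * ⟨b, hb⟩ := rfl
    rw [e, map_mul, map_inv, he, inv_mul_cancel]
  let μ : Multiplicative (Fin 2 → ZMod p) →* Γ := MonoidHom.mk' (fun c => (yb c : Γ)) (fun a b => by
    show ((yb (a * b) : B₂) : Γ) = ((yb a * yb b : B₂) : Γ)
    apply hΓeq _ _ (hyV _) (V.mul_mem (hyV a) (hyV b))
    have e : (⟨((yb a * yb b : B₂) : G), V.mul_mem (hyV a) (hyV b)⟩ : ↥V) = ⟨y a, hyV a⟩ * ⟨y b, hyV b⟩ := rfl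
    rw [e, map_mul, hybπ, hybπ, hybπ, map_mul])
  have hμinj : Function.Injective μ := by
    intro a b hab
    have h1 : (yb a : Γ) = (yb b : Γ) := hab
    have h2 : (yb a)⁻¹ * yb b ∈ Y₀' := QuotientGroup.eq.1 h1
    rw [Subgroup.mem_subgroupOf] at h2
    obtain ⟨hm, hm1⟩ := (hY₀mem _).1 h2
    have e : (⟨_, hm⟩ : ↥V) = (⟨y a, hyV a⟩ : ↥V)⁻¹ * ⟨y b, hyV b⟩ := rfl
    rw [e, map_mul, map_inv, hybπ, hybπ] at hm1
    have h3 : T a = T b := (inv_mul_eq_one.1 hm1)
    exact T_injective h3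
  have hτμ : ∀ c, τ' (μ c) = 1 := by
    intro c
    show ρ₂ (yb c) = 1
    exact hρ₂V _ (hVC (hyV c))
  have hactμ : ∀ (d : Γ) (c : Fin 2 → ZMod p), d * μ (Multiplicative.ofAdd c) * d⁻¹ =
      μ (Multiplicative.ofAdd ((τ' d).1 *ᵥ c)) := by
    intro d c
    obtain ⟨b, rfl⟩ := QuotientGroup.mk'_surjective Y₀' d
    obtain ⟨k, he, hρe⟩ := hact₀ b _ (hyV (Multiplicative.ofAdd c))
    have hmem : ((b * yb (Multiplicative.ofAdd c) * b⁻¹ : B₂) : G) ∈ V := by
      show (b : G) * y (Multiplicative.ofAdd c) * (b : G)⁻¹ ∈ V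
      rw [he]
      exact hVnorm k _ (hyV _)
    show ((b * yb (Multiplicative.ofAdd c) * b⁻¹ : B₂) : Γ) = _
    refine (hΓeq _ (yb (Multiplicative.ofAdd ((τ' (b : Γ)).1 *ᵥ c))) hmem (hyV _) ?_)
    have e : (⟨((b * yb (Multiplicative.ofAdd c) * b⁻¹ : B₂) : G), hmem⟩ : ↥V) =
        ⟨(k : G) * y (Multiplicative.ofAdd c) * (k : G)⁻¹, hVnorm k _ (hyV _)⟩ := Subtype.ext he
    rw [e, hπconj k _ (hyV _), hybπ, hybπ, T_conj]
    show T _ = T (Multiplicative.ofAdd ((ρ₂ b).1 *ᵥ c))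
    rw [hρe]
    rfl
  have hsec : Sec (qd p) Γ := sec_qd_of_natural hp2 τ' hτ' μ hμinj hτμ hactμ
  have hsec' : Sec (qd p) B₂ := Sec.of_surj (QuotientGroup.mk'_surjective Y₀') hsec
  refine ⟨Q, hQp, hcard, ?_⟩
  exact involves_of_injective (Subgroup.inclusion hB₂Q) (Subgroup.inclusion_injective hB₂Q) (involves_of_sec hsec')

/-- If `Qd(p)` is involved in `G`, it is involved in `N_G(V)` for a nontrivial `p`-subgroup `V`. -/
theorem exists_local_nontrivial (h : Involves ↥(qd p) G) :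
    ∃ U : Subgroup G, IsPGroup p U ∧ U ≠ ⊥ ∧ Involves ↥(qd p) ↥(Subgroup.normalizer (U : Set G)) := by
  classical
  obtain ⟨K, π, hπ⟩ := exists_subgroup_surj h
  let M : Subgroup K := ((τ : qd p →* SL(2, ZMod p)).comp π).ker
  have hMp : IsPGroup p (M.map π) := by
    rintro ⟨_, m, hm, rfl⟩
    have h1 : τ (π m) = 1 := hm
    obtain ⟨c, hc⟩ := mem_range_T_iff.1 h1
    refine ⟨1, ?_⟩
    apply Subtype.ext
    rw [pow_one]
    show π m ^ p = 1
    rw [← hc]
    exact T_pow_p c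
  obtain ⟨V, hVK, hVp, hVM, hVim, hVfr⟩ := exists_frattini_in K π M hMp
  refine ⟨V, hVp, ?_, ?_⟩
  · intro hbot
    obtain ⟨c, hc⟩ := T_ne_one (p := p)
    obtain ⟨k, hk⟩ := hπ (T c)
    have hkM : k ∈ M := by
      show τ (π k) = 1
      rw [hk, τ_T]
    obtain ⟨v, hv, hve⟩ := hVim k hkM
    rw [hbot, Subgroup.mem_bot] at hv
    have hv1 : v = 1 := Subtype.ext hv
    rw [hv1, map_one, hk] at hve
    exact hc hve.symm
  · let K₁ : Subgroup G := K ⊓ Subgroup.normalizer (V : Set G)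
    let π₁ : K₁ →* qd p := π.comp (Subgroup.inclusion inf_le_left)
    have hπ₁ : Function.Surjective π₁ := by
      intro x
      obtain ⟨k, rfl⟩ := hπ x
      obtain ⟨n, hn, hne⟩ := hVfr k
      exact ⟨⟨n, n.2, hn⟩, hne⟩
    have hle : K₁ ≤ Subgroup.normalizer (V : Set G) := inf_le_right
    exact involves_of_inj_surj (Subgroup.inclusion hle) (Subgroup.inclusion_injective hle) π₁ hπ₁

theorem involves_cj {X : Type*} [Group X] (g : G) {U : Subgroup G} (h : Involves X ↥(Subgroup.normalizer (U : Set G))) :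
    Involves X ↥(Subgroup.normalizer ((cj g U : Subgroup G) : Set G)) := by
  have hmem : ∀ x : ↥(Subgroup.normalizer (U : Set G)),
      g * (x : G) * g⁻¹ ∈ Subgroup.normalizer ((cj g U : Subgroup G) : Set G) := by
    intro x
    rw [normalizer_cj]
    exact conj_mem_cj x.2
  let f : ↥(Subgroup.normalizer (U : Set G)) →* ↥(Subgroup.normalizer ((cj g U : Subgroup G) : Set G)) :=
    ((MulAut.conj g).toMonoidHom.comp (Subgroup.normalizer (U : Set G)).subtype).codRestrict _ hmem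
  refine involves_of_injective f ?_ h
  intro a b hab
  have h1 : g * (a : G) * g⁻¹ = g * (b : G) * g⁻¹ := congrArg Subtype.val hab
  exact Subtype.ext (mul_left_cancel (mul_right_cancel h1))

/-- Existence of the fully normalized subgroup with `C_P(U) ≤ U`, with normalizer involving `Qd(p)`. -/
theorem exists_local (hp2 : p ≠ 2) (P : Sylow p G) (h : Involves ↥(qd p) G) :
    ∃ U : Subgroup G, U ≤ P ∧ IsSylowIn p (normalizerIn (P : Subgroup G) U) (Subgroup.normalizer (U : Set G)) ∧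
      centralizerIn (P : Subgroup G) U ≤ U ∧ Involves ↥(qd p) ↥(Subgroup.normalizer (U : Set G)) := by
  classical
  let 𝒰 : Set (Subgroup G) := {U | IsPGroup p U ∧ Involves ↥(qd p) ↥(Subgroup.normalizer (U : Set G))}
  have hfin : 𝒰.Finite := Set.toFinite _
  have hne : 𝒰.Nonempty := by
    obtain ⟨U, h1, -, h2⟩ := exists_local_nontrivial h
    exact ⟨U, h1, h2⟩
  obtain ⟨U₀, ⟨hU₀p, hU₀i⟩, hmax⟩ := Set.exists_max_image 𝒰 (fun U => Nat.card U) hfin hne
  obtain ⟨g₁, hg₁, -⟩ := exists_conj_le_sylow P hU₀p Subgroup.le_normalizer hU₀p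
  obtain ⟨g₂, hg₂, hsyl⟩ := exists_conj_isSylowIn P hg₁
  let U : Subgroup G := cj g₂ (cj g₁ U₀)
  have hUi : Involves ↥(qd p) ↥(Subgroup.normalizer (U : Set G)) := involves_cj g₂ (involves_cj g₁ hU₀i)
  have hcard : Nat.card U = Nat.card U₀ := by
    show Nat.card (cj g₂ (cj g₁ U₀)) = _
    rw [card_cj, card_cj]
  refine ⟨U, hg₂, hsyl, ?_, hUi⟩
  by_contra hD
  obtain ⟨K, hKU⟩ := exists_subgroup_surj hUi
  obtain ⟨π, hπ⟩ := hKU
  -- transfer the section to `G`
  obtain ⟨K', Φ, hK', hΦ⟩ := Sec.of_subgroup (G := G) (D := Subgroup.normalizer (U : Set G)) ⟨K, π, hπ⟩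
  obtain ⟨U', hU'p, hlt, hU'i⟩ := exists_larger hp2 P hg₂ hsyl hD hK' Φ hΦ
  have h1 := hmax U' ⟨hU'p, hU'i⟩
  have hlt' : Nat.card U₀ < Nat.card U' := hcard ▸ hlt
  omega

/-- `U` with `C_P(U) ≤ U`, `U` fully normalized, is centric. -/
theorem isCentric_of_centralizer_le (P : Sylow p G) {U : Subgroup G} (hUP : U ≤ P)
    (hFN : IsSylowIn p (normalizerIn (P : Subgroup G) U) (Subgroup.normalizer (U : Set G)))
    (hD : centralizerIn (P : Subgroup G) U ≤ U) : (groupFusionSystem (P : Subgroup G)).IsCentric U := by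
  refine ⟨hUP, fun R hR => ?_⟩
  obtain ⟨-, hRP, g, rfl⟩ := (isConj_iff _ _ _).1 hR
  have hsyl := isSylowIn_centralizerIn P hFN
  intro x hx
  -- `g⁻¹ x g` centralizes `U`
  have hxc : g⁻¹ * x * g ∈ Subgroup.centralizer (U : Set G) := by
    rw [Subgroup.mem_centralizer_iff]
    intro u hu
    have h1 := Subgroup.mem_centralizer_iff.1 hx.2 (g * u * g⁻¹) (conj_mem_cj hu)
    have h2 : (g * u * g⁻¹) * x = x * (g * u * g⁻¹) := h1
    calc u * (g⁻¹ * x * g) = g⁻¹ * ((g * u * g⁻¹) * x) * g := by group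
      _ = g⁻¹ * (x * (g * u * g⁻¹)) * g := by rw [h2]
      _ = g⁻¹ * x * g * u := by group
  have hzp : IsPGroup p (Subgroup.zpowers (g⁻¹ * x * g)) := by
    have h1 : IsPGroup p (Subgroup.zpowers x) :=
      isPGroup_of_le_sylow P ((Subgroup.zpowers_le.2 hx.1))
    have h2 : Subgroup.zpowers (g⁻¹ * x * g) = cj g⁻¹ (Subgroup.zpowers x) := by
      rw [cj, MonoidHom.map_zpowers]
      simp
    rw [h2]
    exact isPGroup_cj _ h1
  obtain ⟨n, hn, hle⟩ := hsyl.exists_conj_le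
    (Subgroup.zpowers_le.2 hxc) hzp
  have h3 : n * (g⁻¹ * x * g) * n⁻¹ ∈ centralizerIn (P : Subgroup G) U :=
    hle (conj_mem_cj (Subgroup.mem_zpowers _))
  have h4 : n * (g⁻¹ * x * g) * n⁻¹ ∈ U := hD h3
  have h5 : n⁻¹ * (n * (g⁻¹ * x * g) * n⁻¹) = (n * (g⁻¹ * x * g) * n⁻¹) * n⁻¹ :=
    Subgroup.mem_centralizer_iff.1 (Subgroup.centralizer (U : Set G) |>.inv_mem hn) _ h4 |>.symm
  have h6 : g⁻¹ * x * g = n * (g⁻¹ * x * g) * n⁻¹ := by
    have h7 : n⁻¹ * (n * (g⁻¹ * x * g) * n⁻¹) * n = n * (g⁻¹ * x * g) * n⁻¹ := by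
      rw [h5]
      group
    rw [← h7]
    group
  rw [← h6] at h4
  have h8 := conj_mem_cj (g := g) h4
  have e : g * (g⁻¹ * x * g) * g⁻¹ = x := by group
  rwa [e] at h8

/-- The quotient by the `p'`-core still involves `Qd(p)`. -/
theorem involves_quotient_pPrimeCore {H : Type u} [Group H] [Finite H] (h : Involves ↥(qd p) H) :
    Involves ↥(qd p) (H ⧸ pPrimeCore p H) := by
  classical
  obtain ⟨K, π, hπ⟩ := exists_subgroup_surj h
  let O := pPrimeCore p H
  have hcop : (Nat.card O).Coprime p := Cfsg.Agent.Lib.Solvable.PSeries.pPrimeCore_coprime (G := H) p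
  let N : Subgroup K := O.subgroupOf K
  haveI hNn : N.Normal := inferInstance
  haveI hNmap : (N.map π).Normal := hNn.map π hπ
  have hbot : N.map π = ⊥ := by
    apply eq_bot_of_normal_coprime
    rintro _ ⟨k, hk, rfl⟩ hpow
    have hk1 : (⟨k, hk⟩ : O) ^ Nat.card O = 1 := pow_card_eq_one'
    have hk2 : (k : H) ^ Nat.card O = 1 := congrArg Subtype.val hk1
    have hk3 : k ^ Nat.card O = 1 := Subtype.ext hk2
    have h1 : π k ^ Nat.card O = 1 := by rw [← map_pow, hk3, map_one]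
    have h2 : orderOf (π k) ∣ Nat.gcd (Nat.card O) p :=
      Nat.dvd_gcd (orderOf_dvd_of_pow_eq_one h1) (orderOf_dvd_of_pow_eq_one hpow)
    rw [Nat.Coprime.gcd_eq_one hcop] at h2
    exact orderOf_eq_one_iff.1 (Nat.dvd_one.1 h2)
  let mk : H →* H ⧸ O := QuotientGroup.mk' O
  let f : K →* K.map mk := mk.subgroupMap K
  have hf : Function.Surjective f := mk.subgroupMap_surjective K
  have hker : f.ker ≤ π.ker := by
    intro k hk
    have h1 : mk k = 1 := congrArg Subtype.val hk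
    have h2 : (k : H) ∈ O := (QuotientGroup.eq_one_iff _).1 h1
    have h3 : π k ∈ N.map π := ⟨k, h2, rfl⟩
    rw [hbot] at h3
    exact Subgroup.mem_bot.1 h3
  let πb : K.map mk →* qd p := f.liftOfSurjective hf ⟨π, hker⟩
  have hπb : Function.Surjective πb := by
    intro x
    obtain ⟨k, rfl⟩ := hπ x
    exact ⟨f k, f.liftOfRightInverse_comp_apply _ _ ⟨π, hker⟩ k⟩
  exact involves_of_inj_surj (K.map mk).subtype (K.map mk).subtype_injective πb hπb

/-- The model of the normalizer system in the fusion system of a group. -/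
theorem isModel_quotient (P : Sylow p G) {Q : Subgroup G} (hQ : (groupFusionSystem (P : Subgroup G)).IsFullyNormalized Q)
    (hc : (groupFusionSystem (P : Subgroup G)).IsCentric Q) {N : FusionSystem (normalizerIn (P : Subgroup G) Q)}
    (hN : (groupFusionSystem (P : Subgroup G)).IsNormalizerSystem Q N) :
    N.IsModel p (↥(Subgroup.normalizer (Q : Set G)) ⧸ pPrimeCore p ↥(Subgroup.normalizer (Q : Set G)))
      ((QuotientGroup.mk' (pPrimeCore p ↥(Subgroup.normalizer (Q : Set G)))).comp (inclN (P : Subgroup G) Q)) := by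
  classical
  have hS : IsPGroup p (P : Subgroup G) := P.isPGroup'
  have hQP : Q ≤ (P : Subgroup G) := hQ.1
  have hT : IsPGroup p (normalizerIn (P : Subgroup G) Q) := isPGroup_normalizerIn P Q
  let H : Subgroup G := Subgroup.normalizer (Q : Set G)
  obtain ⟨Y, hY⟩ := (isFullyNormalized_iff P hQP).1 hQ
  have hrange : (inclN (P : Subgroup G) Q).range = (normalizerIn (P : Subgroup G) Q).subgroupOf H := by
    ext x
    constructor
    · rintro ⟨y, rfl⟩
      exact y.2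
    · intro hx
      exact ⟨⟨x, hx⟩, rfl⟩
  have hYr : (Y : Subgroup H) = (inclN (P : Subgroup G) Q).range := by
    rw [hY, hrange]
  have hreal := isRealizedBy_inclN hQP hN
  let V : Subgroup H := Q.subgroupOf H
  haveI hVn : V.Normal := Subgroup.normal_in_normalizer
  have hVp : IsPGroup p V := by
    have h1 : IsPGroup p Q := isPGroup_of_le hS hQP
    exact h1.of_equiv (Subgroup.subgroupOfEquivOfLe Subgroup.le_normalizer).symm
  have hC : ∀ x ∈ (Y : Subgroup H), x ∈ Subgroup.centralizer (V : Set H) → x ∈ V := by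
    intro x hx hxc
    rw [hY] at hx
    have h1 : (x : G) ∈ centralizerIn (P : Subgroup G) Q := by
      refine ⟨hx.1, Subgroup.mem_centralizer_iff.2 fun q hq => ?_⟩
      have h2 := Subgroup.mem_centralizer_iff.1 hxc ⟨q, Subgroup.le_normalizer hq⟩ hq
      exact congrArg Subtype.val h2
    exact hc.2 Q (Basic.IsConj.refl hQP) h1
  have hcop := Cfsg.Agent.Lib.Solvable.PSeries.pPrimeCore_coprime (G := H) p
  refine ⟨inferInstance, Cfsg.Agent.Lib.Fusion.ModelQuot.isRealizedBy_mk hT hreal _ hcop,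
    ⟨Y.mapSurjective (QuotientGroup.mk'_surjective _), ?_⟩,
    Cfsg.Agent.Lib.Fusion.GroupCentric.centralizer_pCore_quotient_le Y hVp hC⟩
  rw [Sylow.coe_mapSurjective, hYr, MonoidHom.range_comp]

/-- **S5206**: `F_P(G)` is `Qd(p)`-free iff `G` is. -/
theorem isSectionFree_iff (hp2 : p ≠ 2) (P : Sylow p G) :
    (groupFusionSystem (P : Subgroup G)).IsSectionFree p ↥(qd p) ↔ ¬ Involves ↥(qd p) G := by
  refine ⟨fun hfree hinv => ?_, isSectionFree_of_not_involves P⟩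
  obtain ⟨U, hUP, hFN, hD, hi⟩ := exists_local hp2 P hinv
  have hFN' : (groupFusionSystem (P : Subgroup G)).IsFullyNormalized U := (isFullyNormalized_iff P hUP).2 hFN
  have hc := isCentric_of_centralizer_le P hUP hFN hD
  let N := Cfsg.Agent.Lib.Fusion.LocalSystems.normalizerSystem (groupFusionSystem (P : Subgroup G)) U hUP
  have hN := Cfsg.Agent.Lib.Fusion.LocalSystems.normalizerSystem_isNormalizerSystem (groupFusionSystem (P : Subgroup G)) U hUP
  exact hfree U hFN' hc N hN _ _ (isModel_quotient P hFN' hc hN) (involves_quotient_pPrimeCore hi)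

end main

end Cfsg.Agent.Lib.Fusion.QdLocal
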