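/-
A normal subgroup `N` of a group `G` realizing `F` through `ι : S → G` gives a normal subsystem of `F`
(in the ambient group of `F`), realized by `N`.
-/
import Mathlib
import Cfsg.Agent.Lib.Fusion.GroupNormal
import Cfsg.Agent.Lib.Fusion.Pullback

set_option autoImplicit false
set_option linter.style.haveILetI false

namespace Cfsg.Agent.Lib.Fusion.RealizedNormal

open Cfsg Cfsg.FusionSystem Cfsg.Agent.Lib.Fusion.Basic Cfsg.Agent.Lib.Fusion.GroupNormal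
open Cfsg.Agent.Lib.Fusion.GroupSylow

variable {Ω : Type*} [Group Ω] {S : Subgroup Ω} {F : FusionSystem S} {G : Type*} [Group G]
  {ι : S →* G}

/-- The preimage of `N` in `S`, as a subgroup of the ambient group. -/
def preT (ι : S →* G) (N : Subgroup G) : Subgroup Ω := (N.comap ι).map S.subtype

theorem preT_le (N : Subgroup G) : preT ι N ≤ S := by
  rintro _ ⟨x, -, rfl⟩
  exact x.2

theorem mem_preT {N : Subgroup G} {x : Ω} (hx : x ∈ S) : x ∈ preT ι N ↔ ι ⟨x, hx⟩ ∈ N := by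
  constructor
  · rintro ⟨y, hy, rfl⟩
    exact hy
  · intro h
    exact ⟨⟨x, hx⟩, h, rfl⟩

theorem map_mem_of_mem_preT {N : Subgroup G} {x : Ω} (hx : x ∈ preT ι N) (h : x ∈ S) : ι ⟨x, h⟩ ∈ N :=
  (mem_preT h).1 hx

/-- The system of `N` on the preimage of `N`. -/
def subSystem (F : FusionSystem S) (ι : S →* G) (N : Subgroup G) : FusionSystem (preT ι N) where
  Hom P := {φ | φ ∈ F.Hom P ∧ P ≤ preT ι N ∧ (∀ x : P, φ x ∈ preT ι N) ∧
    ∃ g ∈ N, ∀ (x : P) (h1 : (x : Ω) ∈ S) (h2 : φ x ∈ S), ι ⟨φ x, h2⟩ = g * ι ⟨x, h1⟩ * g⁻¹}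
  le_of_mem h := ⟨h.2.1, h.2.2.1⟩
  injective_of_mem h := F.injective_of_mem h.1
  conj_mem := by
    intro P g hP hg
    have hgS : g ∈ S := preT_le N hg
    refine ⟨F.conj_mem (hP.trans (preT_le N)) hgS, hP, fun x => ?_, ι ⟨g, hgS⟩,
      map_mem_of_mem_preT hg hgS, fun x h1 h2 => ?_⟩
    · exact (preT ι N).mul_mem ((preT ι N).mul_mem hg (hP x.2)) ((preT ι N).inv_mem hg)
    · have e : (⟨conjHom P g x, h2⟩ : S) = ⟨g, hgS⟩ * ⟨x, h1⟩ * ⟨g, hgS⟩⁻¹ := rfl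
      rw [e, map_mul, map_mul, map_inv]
  comp_mem := by
    rintro P Q φ ψ ⟨hφ, hP, hv, g, hg, e⟩ ⟨hψ, hQ, hw, k, hk, f⟩ h
    refine ⟨F.comp_mem hφ hψ h, hP, fun x => hw _, k * g, N.mul_mem hk hg, fun x h1 h2 => ?_⟩
    have h3 : φ x ∈ S := (F.le_of_mem hφ).2 x
    have h4 := f ⟨φ x, h x⟩ h3 h2
    have h5 := e x h1 h3
    show ι ⟨ψ ⟨φ x, h x⟩, h2⟩ = _
    rw [h4, h5]
    group
  inv_mem := by
    rintro P φ ⟨hφ, hP, hv, g, hg, e⟩
    obtain ⟨ψ, hψ, hψe⟩ := F.inv_mem hφ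
    refine ⟨ψ, ⟨hψ, ?_, ?_, g⁻¹, N.inv_mem hg, ?_⟩, hψe⟩
    · rintro _ ⟨x, rfl⟩
      exact hv x
    · rintro ⟨_, x, rfl⟩
      rw [hψe]
      exact hP x.2
    · rintro ⟨_, x, rfl⟩ h1 h2
      have h3 : (⟨ψ ⟨φ x, ⟨x, rfl⟩⟩, h2⟩ : S) = ⟨x, (F.le_of_mem hφ).1 x.2⟩ := Subtype.ext (hψe x)
      show ι ⟨ψ ⟨φ x, ⟨x, rfl⟩⟩, h2⟩ = _
      rw [h3]
      have h4 := e x ((F.le_of_mem hφ).1 x.2) h1
      rw [h4]
      group

theorem mem_subSystem {N : Subgroup G} {P : Subgroup Ω} {φ : P →* Ω} :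
    φ ∈ (subSystem F ι N).Hom P ↔ φ ∈ F.Hom P ∧ P ≤ preT ι N ∧ (∀ x : P, φ x ∈ preT ι N) ∧
    ∃ g ∈ N, ∀ (x : P) (h1 : (x : Ω) ∈ S) (h2 : φ x ∈ S), ι ⟨φ x, h2⟩ = g * ι ⟨x, h1⟩ * g⁻¹ :=
  Iff.rfl

/-- The map `T → N`. -/
def iotaN (ι : S →* G) (N : Subgroup G) : preT ι N →* N :=
  (ι.comp (Subgroup.inclusion (preT_le N))).codRestrict N
    (fun x => map_mem_of_mem_preT x.2 (preT_le N x.2))

theorem isRealizedBy_subSystem (hF : F.IsRealizedBy ι) (N : Subgroup G) :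
    (subSystem F ι N).IsRealizedBy (iotaN ι N) := by
  refine ⟨fun a b hab => ?_, fun P hP φ hφ => ⟨?_, ?_⟩⟩
  · have h1 : ι (Subgroup.inclusion (preT_le N) a) = ι (Subgroup.inclusion (preT_le N) b) :=
      congrArg (fun t : N => (t : G)) hab
    exact Subgroup.inclusion_injective (preT_le N) (hF.1 h1)
  · rintro ⟨-, -, -, g, hg, e⟩
    exact ⟨⟨g, hg⟩, fun x => Subtype.ext (e x _ _)⟩
  · rintro ⟨g, e⟩
    refine ⟨(hF.2 P (hP.trans (preT_le N)) φ (fun x => preT_le N (hφ x))).2 ⟨g, fun x => ?_⟩, hP, hφ, g, g.2,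
      fun x h1 h2 => ?_⟩
    · exact congrArg (fun t : N => (t : G)) (e x)
    · exact congrArg (fun t : N => (t : G)) (e x)

section eqv

variable (hι : Function.Injective ι)

/-- The isomorphism between a subgroup of `S` and its image under `ι`. -/
noncomputable def eqvOf {U : Subgroup Ω} (hU : U ≤ S) {U' : Subgroup G}
    (h : ∀ y, y ∈ U' ↔ ∃ x, ∃ hx : x ∈ U, ι ⟨x, hU hx⟩ = y) : U ≃* U' :=
  MulEquiv.ofBijective ((ι.comp (Subgroup.inclusion hU)).codRestrict U' (fun x => (h _).2 ⟨x, x.2, rfl⟩))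
    ⟨fun a b hab => by
        have h1 : ι (Subgroup.inclusion hU a) = ι (Subgroup.inclusion hU b) :=
          congrArg (fun t : U' => (t : G)) hab
        exact Subgroup.inclusion_injective hU (hι h1),
      fun y => by
        obtain ⟨x, hx, e⟩ := (h y).1 y.2
        exact ⟨⟨x, hx⟩, Subtype.ext e⟩⟩

theorem eqvOf_apply {U : Subgroup Ω} (hU : U ≤ S) {U' : Subgroup G}
    (h : ∀ y, y ∈ U' ↔ ∃ x, ∃ hx : x ∈ U, ι ⟨x, hU hx⟩ = y) (x : U) :
    ((eqvOf hι hU h x : U') : G) = ι ⟨x, hU x.2⟩ := rfl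

theorem eqvOf_symm_apply {U : Subgroup Ω} (hU : U ≤ S) {U' : Subgroup G}
    (h : ∀ y, y ∈ U' ↔ ∃ x, ∃ hx : x ∈ U, ι ⟨x, hU hx⟩ = y) (y : U') :
    ι ⟨(((eqvOf hι hU h).symm y : U) : Ω), hU ((eqvOf hι hU h).symm y).2⟩ = y := by
  have := eqvOf_apply hι hU h ((eqvOf hι hU h).symm y)
  rw [MulEquiv.apply_symm_apply] at this
  exact this.symm

end eqv

section normal

variable [Finite G] {p : ℕ} [Fact p.Prime]

/-- Membership in `Y ⊓ N` for `Y = ι.range`. -/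
theorem mem_inf_iff {Y : Subgroup G} (hY : Y = ι.range) (N : Subgroup G) (y : G) :
    y ∈ Y ⊓ N ↔ ∃ x, ∃ hx : x ∈ preT ι N, ι ⟨x, preT_le N hx⟩ = y := by
  subst hY
  constructor
  · rintro ⟨⟨x, rfl⟩, h⟩
    exact ⟨x, (mem_preT x.2).2 h, rfl⟩
  · rintro ⟨x, hx, rfl⟩
    exact ⟨⟨_, rfl⟩, map_mem_of_mem_preT hx _⟩

variable {Y : Subgroup G} (hY : Y = ι.range) (hF : F.IsRealizedBy ι) (N : Subgroup G)

/-- The isomorphism `T ≃ Y ⊓ N`. -/
noncomputable def eT : preT ι N ≃* ↥(Y ⊓ N) :=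
  eqvOf hF.1 (preT_le N) (mem_inf_iff hY N)

theorem eT_apply (x : preT ι N) :
    ((eT hY hF N x : ↥(Y ⊓ N)) : G) = ι ⟨x, preT_le N x.2⟩ := rfl

theorem eT_symm_apply (y : ↥(Y ⊓ N)) :
    ι ⟨(((eT hY hF N).symm y : preT ι N) : Ω), preT_le N ((eT hY hF N).symm y).2⟩ = y :=
  eqvOf_symm_apply hF.1 (preT_le N) (mem_inf_iff hY N) y

/-- The pull back of a conjugation with values in `Y ⊓ N`. -/
noncomputable def conjPull {U : Subgroup Ω} (hU : U ≤ preT ι N) (k : G)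
    (h : ∀ u : U, k * ι ⟨u, preT_le N (hU u.2)⟩ * k⁻¹ ∈ Y ⊓ N) : U →* Ω :=
  (preT ι N).subtype.comp ((eT hY hF N).symm.toMonoidHom.comp
    (((MulAut.conj k).toMonoidHom.comp (ι.comp (Subgroup.inclusion (hU.trans (preT_le N))))).codRestrict
      (Y ⊓ N) h))

theorem conjPull_mem {U : Subgroup Ω} (hU : U ≤ preT ι N) (k : G)
    (h : ∀ u : U, k * ι ⟨u, preT_le N (hU u.2)⟩ * k⁻¹ ∈ Y ⊓ N) (u : U) :
    conjPull hY hF N hU k h u ∈ preT ι N :=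
  ((eT hY hF N).symm _).2

theorem conjPull_apply {U : Subgroup Ω} (hU : U ≤ preT ι N) (k : G)
    (h : ∀ u : U, k * ι ⟨u, preT_le N (hU u.2)⟩ * k⁻¹ ∈ Y ⊓ N) (u : U) (h2 : conjPull hY hF N hU k h u ∈ S) :
    ι ⟨conjPull hY hF N hU k h u, h2⟩ = k * ι ⟨u, preT_le N (hU u.2)⟩ * k⁻¹ :=
  eT_symm_apply hY hF N ⟨_, h u⟩

theorem conjPull_hom {U : Subgroup Ω} (hU : U ≤ preT ι N) (k : G)
    (h : ∀ u : U, k * ι ⟨u, preT_le N (hU u.2)⟩ * k⁻¹ ∈ Y ⊓ N) :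
    conjPull hY hF N hU k h ∈ F.Hom U := by
  refine (hF.2 U (hU.trans (preT_le N)) _ (fun x => preT_le N (conjPull_mem hY hF N hU k h x))).2 ⟨k, fun x => ?_⟩
  exact conjPull_apply hY hF N hU k h x _

theorem conjPull_subSystem {U : Subgroup Ω} (hU : U ≤ preT ι N) {k : G} (hk : k ∈ N)
    (h : ∀ u : U, k * ι ⟨u, preT_le N (hU u.2)⟩ * k⁻¹ ∈ Y ⊓ N) :
    conjPull hY hF N hU k h ∈ (subSystem F ι N).Hom U :=
  ⟨conjPull_hom hY hF N hU k h, hU, conjPull_mem hY hF N hU k h, k, hk,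
    fun x _ h2 => conjPull_apply hY hF N hU k h x h2⟩

/-- `T` is strongly closed. -/
theorem stronglyClosed_preT (hF : F.IsRealizedBy ι) (N : Subgroup G) [hN : N.Normal] : F.StronglyClosed (preT ι N) := by
  refine ⟨preT_le N, fun R hR φ hφ x => ?_⟩
  have h1 : φ x ∈ S := (F.le_of_mem hφ).2 x
  have h2 : (x : Ω) ∈ S := (F.le_of_mem hφ).1 x.2
  obtain ⟨g, hg⟩ := (hF.2 R (F.le_of_mem hφ).1 φ (F.le_of_mem hφ).2).1 hφ
  refine (mem_preT h1).2 ?_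
  have h3 := hg x
  show ι ⟨φ x, h1⟩ ∈ N
  have h4 : ι ⟨φ x, h1⟩ = g * ι ⟨x, h2⟩ * g⁻¹ := h3
  rw [h4]
  exact hN.conj_mem _ (map_mem_of_mem_preT (hR x.2) h2) g

/-- Maps of `Aut_F(T)` are conjugations in `G`. -/
theorem exists_conj_of_autGroup {N : Subgroup G} (hF : F.IsRealizedBy ι) {α : MulAut (preT ι N)} (hα : α ∈ F.autGroup (preT ι N)) :
    ∃ g : G, ∀ (t : preT ι N), ι ⟨(α t : preT ι N), preT_le N (α t).2⟩ = g * ι ⟨t, preT_le N t.2⟩ * g⁻¹ := by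
  have h1 := autGroup_mem_hom (preT_le N) hα
  obtain ⟨g, hg⟩ := (hF.2 _ (preT_le N) _ (fun x => preT_le N (α x).2)).1 h1
  exact ⟨g, hg⟩

include hY hF in
/-- The invariance clause. -/
theorem invariance_clause' [hN : N.Normal] (P : Subgroup Ω) (hPT : P ≤ preT ι N) (φ : P →* Ω)
    (hφ : φ ∈ (subSystem F ι N).Hom P) (α : MulAut (preT ι N)) (hα : α ∈ F.autGroup (preT ι N)) :
      ∃ χ ∈ (subSystem F ι N).Hom ((P.subgroupOf (preT ι N)).map ((preT ι N).subtype.comp α.toMonoidHom)),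
        ∀ (x : P) (hφx : φ x ∈ preT ι N)
          (hαx : ((α ⟨x, hPT x.2⟩ : preT ι N) : Ω) ∈ (P.subgroupOf (preT ι N)).map ((preT ι N).subtype.comp α.toMonoidHom)),
          χ ⟨(α ⟨x, hPT x.2⟩ : preT ι N), hαx⟩ = ((α ⟨φ x, hφx⟩ : preT ι N) : Ω) := by
  obtain ⟨-, -, hv, g, hg, hge⟩ := hφ
  obtain ⟨h, he⟩ := exists_conj_of_autGroup hF hα
  set k := h * g * h⁻¹ with hk
  have hkN : k ∈ N := hN.conj_mem _ hg h
  have hP₁ : (P.subgroupOf (preT ι N)).map ((preT ι N).subtype.comp α.toMonoidHom) ≤ preT ι N := by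
    rintro _ ⟨x, -, rfl⟩
    exact (α x).2
  have key : ∀ (x : P) (hφx : φ x ∈ preT ι N), k * ι ⟨(α ⟨x, hPT x.2⟩ : preT ι N), preT_le N (α _).2⟩ * k⁻¹ =
      ι ⟨(α ⟨φ x, hφx⟩ : preT ι N), preT_le N (α _).2⟩ := by
    intro x hφx
    rw [he, he]
    have h1 := hge x (preT_le N (hPT x.2)) (preT_le N hφx)
    simp only [h1, hk]
    group
  have hmem : ∀ u : ↥((P.subgroupOf (preT ι N)).map ((preT ι N).subtype.comp α.toMonoidHom)),
      k * ι ⟨u, preT_le N (hP₁ u.2)⟩ * k⁻¹ ∈ Y ⊓ N := by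
    rintro ⟨_, t, ht, rfl⟩
    have ht' : (t : Ω) ∈ P := ht
    have h1 := key ⟨t, ht'⟩ (hv _)
    have h2 : (⟨(α ⟨(t : Ω), hPT ht'⟩ : preT ι N), preT_le N (α _).2⟩ : S) =
        ⟨((preT ι N).subtype.comp α.toMonoidHom) t, preT_le N (hP₁ ⟨t, ht, rfl⟩)⟩ := rfl
    show k * ι ⟨((preT ι N).subtype.comp α.toMonoidHom) t, preT_le N (hP₁ ⟨t, ht, rfl⟩)⟩ * k⁻¹ ∈ Y ⊓ N
    rw [← h2, h1]
    exact (mem_inf_iff hY N _).2 ⟨_, (α _).2, rfl⟩
  refine ⟨conjPull hY hF N hP₁ k hmem, conjPull_subSystem hY hF N hP₁ hkN hmem, fun x hφx hαx => ?_⟩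
  have hin := conjPull_mem hY hF N hP₁ k hmem ⟨_, hαx⟩
  have h1 := conjPull_apply hY hF N hP₁ k hmem ⟨_, hαx⟩ (preT_le N hin)
  have h2 := key x hφx
  apply congrArg (fun t : S => (t : Ω)) (hF.1 (h1.trans h2))

include hY hF in
/-- The Frattini clause. -/
theorem frattini_clause' [hN : N.Normal] (YS : Sylow p G) (hYS : (YS : Subgroup G) = Y) (P : Subgroup Ω) (hPT : P ≤ preT ι N) (φ : P →* Ω)
    (hφ : φ ∈ F.Hom P) :
      ∃ α ∈ F.autGroup (preT ι N), ∃ φ₀ ∈ (subSystem F ι N).Hom P,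
        ∀ (x : P) (hx : φ₀ x ∈ preT ι N), φ x = ((α ⟨φ₀ x, hx⟩ : preT ι N) : Ω) := by
  subst hYS
  have hPS : P ≤ S := hPT.trans (preT_le N)
  obtain ⟨g, hg⟩ := (hF.2 P hPS φ (F.le_of_mem hφ).2).1 hφ
  set T' := (YS : Subgroup G) ⊓ N with hT'
  have hT : IsSylowIn p T' N := isSylowIn_inf YS N
  have hT₁H : cj g⁻¹ T' ≤ N := cj_le_of_normal inf_le_right _
  have hT₁p : IsPGroup p (cj g⁻¹ T') := isPGroup_cj _ (isPGroup_of_le_sylow YS inf_le_left)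
  obtain ⟨y, hy, hyle⟩ := hT.exists_conj_le hT₁H hT₁p
  have hyeq : cj y (cj g⁻¹ T') = T' := by
    apply Subgroup.eq_of_le_of_card_ge hyle
    rw [card_cj, card_cj]
  have hcl := stronglyClosed_preT hF N
  have hval0 : ∀ x : P, g * ι ⟨x, hPS x.2⟩ * g⁻¹ ∈ T' := by
    intro x
    rw [← hg x]
    exact (mem_inf_iff hY N _).2 ⟨_, hcl.2 P hPT φ hφ x, rfl⟩
  have hPT₁ : ∀ x : P, ι ⟨x, hPS x.2⟩ ∈ cj g⁻¹ T' := by
    intro x
    rw [mem_cj]
    simpa using hval0 x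
  have hval : ∀ x : P, y * ι ⟨x, hPS x.2⟩ * y⁻¹ ∈ T' := by
    intro x
    rw [← hyeq]
    exact conj_mem_cj (hPT₁ x)
  let n := g * y⁻¹
  have hn : cj n T' = T' := by
    have h1 : cj y⁻¹ T' = cj g⁻¹ T' := by
      conv_lhs => rw [← hyeq]
      rw [cj_inv_cj]
    simp only [n]
    rw [cj_mul, h1, cj_cj_inv]
  have hnN : n ∈ Subgroup.normalizer (T' : Set G) := mem_normalizer_of_cj_eq hn
  let α : MulAut (preT ι N) := (eT hY hF N).trans ((normConj n hnN).trans (eT hY hF N).symm)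
  have hαe : ∀ t : preT ι N, ι ⟨(α t : preT ι N), preT_le N (α t).2⟩ = n * ι ⟨t, preT_le N t.2⟩ * n⁻¹ := by
    intro t
    exact eT_symm_apply hY hF N _
  refine ⟨α, ?_, conjPull hY hF N hPT y hval, conjPull_subSystem hY hF N hPT hy hval, fun x hx => ?_⟩
  · apply mem_autGroup_of_mem
    exact (hF.2 _ (preT_le N) _ (fun x => preT_le N (α x).2)).2 ⟨n, hαe⟩
  · apply congrArg (fun t : S => (t : Ω)) (hF.1 ?_ : (⟨φ x, (F.le_of_mem hφ).2 x⟩ : S) = ⟨_, preT_le N (α ⟨_, hx⟩).2⟩)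
    rw [hg x, hαe, conjPull_apply hY hF N hPT y hval x (preT_le N hx)]
    simp only [n]
    group

include hY hF in
/-- The extension clause. -/
theorem extension_clause' [hN : N.Normal] (YS : Sylow p G) (hYS : (YS : Subgroup G) = Y)
    (α : MulAut (preT ι N)) (hα : α ∈ (subSystem F ι N).autGroup (preT ι N)) :
    ∃ β ∈ F.autGroup (preT ι N ⊔ centralizerIn S (preT ι N)),
      (∀ x : preT ι N, ((β (Subgroup.inclusion le_sup_left x) : ↥(preT ι N ⊔ centralizerIn S (preT ι N))) : Ω) =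
        ((α x : preT ι N) : Ω)) ∧
      ∀ c : ↥(preT ι N ⊔ centralizerIn S (preT ι N)), (c : Ω) ∈ centralizerIn S (preT ι N) →
        (c : Ω)⁻¹ * ((β c : ↥(preT ι N ⊔ centralizerIn S (preT ι N))) : Ω) ∈ preT ι N ⊓ Subgroup.centralizer (preT ι N : Set Ω) := by
  subst hYS
  have hTS : preT ι N ≤ S := preT_le N
  set T' := (YS : Subgroup G) ⊓ N with hT'
  set C := centralizerIn S (preT ι N) with hC
  set C' := centralizerIn (YS : Subgroup G) T' with hC'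
  set W := preT ι N ⊔ C with hW
  set W' := T' ⊔ C' with hW'
  have hCS : C ≤ S := inf_le_left
  have hWS : W ≤ S := sup_le hTS hCS
  -- the map on elements
  have hmemT : ∀ {x : Ω} (hx : x ∈ preT ι N), ι ⟨x, hTS hx⟩ ∈ T' := fun {x} hx =>
    (mem_inf_iff hY N _).2 ⟨x, hx, rfl⟩
  have hmemT' : ∀ {y : G}, y ∈ T' → ∃ x, ∃ hx : x ∈ preT ι N, ι ⟨x, hTS hx⟩ = y := fun {y} hy =>
    (mem_inf_iff hY N y).1 hy
  have hmemC : ∀ {x : Ω} (hx : x ∈ C), ι ⟨x, hCS hx⟩ ∈ C' := by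
    intro x hx
    refine ⟨hY ▸ ⟨_, rfl⟩, ?_⟩
    refine Subgroup.mem_centralizer_iff.2 fun y hy => ?_
    obtain ⟨t, ht, rfl⟩ := hmemT' hy
    have h1 : t * x = x * t := Subgroup.mem_centralizer_iff.1 hx.2 t ht
    rw [← map_mul, ← map_mul]
    congr 1
    exact Subtype.ext h1
  have hmemC' : ∀ {y : G}, y ∈ C' → ∃ x, ∃ hx : x ∈ C, ι ⟨x, hCS hx⟩ = y := by
    intro y hy
    have h1 : y ∈ ι.range := hY ▸ hy.1
    obtain ⟨x, rfl⟩ := h1
    refine ⟨x, ⟨x.2, Subgroup.mem_centralizer_iff.2 fun t ht => ?_⟩, rfl⟩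
    have h2 := Subgroup.mem_centralizer_iff.1 hy.2 _ (hmemT ht)
    rw [← map_mul, ← map_mul] at h2
    exact congrArg (fun t : S => (t : Ω)) (hF.1 h2)
  have hW₁ : ∀ y, y ∈ W' ↔ ∃ x, ∃ hx : x ∈ W, ι ⟨x, hWS hx⟩ = y := by
    intro y
    constructor
    · intro hy
      have hle : W' ≤ ((W.subgroupOf S).map ι) := by
        refine sup_le ?_ ?_
        · intro z hz
          obtain ⟨x, hx, rfl⟩ := hmemT' hz
          exact ⟨⟨x, hTS hx⟩, (le_sup_left : preT ι N ≤ W) hx, rfl⟩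
        · intro z hz
          obtain ⟨x, hx, rfl⟩ := hmemC' hz
          exact ⟨⟨x, hCS hx⟩, (le_sup_right : C ≤ W) hx, rfl⟩
      obtain ⟨x, hx, rfl⟩ := hle hy
      exact ⟨x, hx, rfl⟩
    · rintro ⟨x, hx, rfl⟩
      have hle : W ≤ ((W'.comap ι).map S.subtype) := by
        refine sup_le ?_ ?_
        · intro z hz
          exact ⟨⟨z, hTS hz⟩, (le_sup_left : T' ≤ W') (hmemT hz), rfl⟩
        · intro z hz
          exact ⟨⟨z, hCS hz⟩, (le_sup_right : C' ≤ W') (hmemC hz), rfl⟩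
      obtain ⟨z, hz, rfl⟩ := hle hx
      exact hz
  let eW : W ≃* W' := eqvOf hF.1 hWS hW₁
  have heW : ∀ x : W, ((eW x : W') : G) = ι ⟨x, hWS x.2⟩ := fun _ => rfl
  have heWs : ∀ y : W', ι ⟨((eW.symm y : W) : Ω), hWS (eW.symm y).2⟩ = y := fun y => eqvOf_symm_apply hF.1 hWS hW₁ y
  -- the automorphism on the `G` side
  have hα₁ := autGroup_mem_hom le_rfl hα
  obtain ⟨-, -, -, n, hnN, hn⟩ := hα₁
  let α' : MulAut T' := (eT hY hF N).symm.trans (α.trans (eT hY hF N))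
  have hα'e : ∀ t : T', ((α' t : T') : G) = n * t * n⁻¹ := by
    intro t
    have h1 := hn ((eT hY hF N).symm t) (hTS ((eT hY hF N).symm t).2) (preT_le N (α ((eT hY hF N).symm t)).2)
    rw [eT_symm_apply hY hF N] at h1
    exact h1
  have hα'F : α' ∈ (fusionSystemOfSubgroup N T' inf_le_right).autGroup T' := by
    apply mem_autGroup_of_mem
    exact ⟨le_rfl, fun x => (α' x).2, n, hnN, hα'e⟩
  obtain ⟨β', hβ'F, hβ'1, hβ'2⟩ := extension_clause YS N α' hα'F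
  let β : MulAut W := eW.trans (β'.trans eW.symm)
  have hβe : ∀ x : W, ι ⟨(β x : W), hWS (β x).2⟩ = ((β' (eW x) : W') : G) := fun x => heWs _
  refine ⟨β, ?_, fun x => ?_, fun c hc => ?_⟩
  · apply mem_autGroup_of_mem
    obtain ⟨-, -, g, hg⟩ := autGroup_mem_hom (sup_le inf_le_left inf_le_left) hβ'F
    refine (hF.2 _ hWS _ (fun x => hWS (β x).2)).2 ⟨g, fun x => ?_⟩
    exact (hβe x).trans (hg (eW x))
  · have h1 : eW (Subgroup.inclusion le_sup_left x) = Subgroup.inclusion le_sup_left (eT hY hF N x) := rfl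
    have h2 := hβe (Subgroup.inclusion le_sup_left x)
    rw [h1, hβ'1] at h2
    have h3 : ((α' (eT hY hF N x) : T') : G) = ι ⟨(α x : preT ι N), hTS (α x).2⟩ := by
      show ((eT hY hF N (α ((eT hY hF N).symm (eT hY hF N x))) : T') : G) = _
      rw [MulEquiv.symm_apply_apply]
      rfl
    rw [h3] at h2
    exact congrArg (fun t : S => (t : Ω)) (hF.1 h2)
  · have hc1 : (eW c : G) ∈ C' := hmemC hc
    have h1 := hβ'2 (eW c) hc1
    rw [heW] at h1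
    have h2 : (c : Ω)⁻¹ * ((β c : W) : Ω) ∈ S := S.mul_mem (S.inv_mem (hWS c.2)) (hWS (β c).2)
    have h3 : ι ⟨(c : Ω)⁻¹ * ((β c : W) : Ω), h2⟩ = (ι ⟨c, hWS c.2⟩)⁻¹ * ((β' (eW c) : W') : G) := by
      rw [← hβe c, ← map_inv, ← map_mul]
      rfl
    rw [← h3] at h1
    refine ⟨(mem_preT h2).2 h1.1.2, Subgroup.mem_centralizer_iff.2 fun t ht => ?_⟩
    have h4 := Subgroup.mem_centralizer_iff.1 h1.2 _ (hmemT ht)
    rw [← map_mul, ← map_mul] at h4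
    exact congrArg (fun t : S => (t : Ω)) (hF.1 h4)

include hY hF in
/-- The system of a normal subgroup is normal. -/
theorem isNormalIn_subSystem [hN : N.Normal] (YS : Sylow p G) (hYS : (YS : Subgroup G) = Y) (hsat : F.IsSaturated p) :
    (subSystem F ι N).IsNormalIn F p := by
  refine ⟨⟨?_, hsat, fun P φ hφ => hφ.1, stronglyClosed_preT hF N, ?_, ?_⟩, ?_⟩
  · obtain ⟨R, hR⟩ := isSylowIn_inf YS N
    refine Pullback.isSaturated_of_isRealizedBy (isRealizedBy_subSystem hF N) R ?_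
    rw [hR]
    ext y
    rw [Subgroup.mem_subgroupOf, hYS, mem_inf_iff hY N]
    constructor
    · rintro ⟨x, hx, e⟩
      exact ⟨⟨x, hx⟩, Subtype.ext e⟩
    · rintro ⟨x, rfl⟩
      exact ⟨x, x.2, rfl⟩
  · intro P hPT φ hφ α hα
    exact invariance_clause' hY hF N P hPT φ hφ α hα
  · intro P hPT φ hφ
    exact frattini_clause' hY hF N YS hYS P hPT φ hφ
  · intro α hα
    exact extension_clause' hY hF N YS hYS α hα

end normal

end Cfsg.Agent.Lib.Fusion.RealizedNormal
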