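/-
Tate's theorem for fusion systems, nilpotence form: a saturated system whose maps all act trivially
modulo the Frattini subgroup of `S` is the inner system of `S`.
-/
import Mathlib
import Cfsg.Agent.Lib.Fusion.FocalClosed
import Cfsg.Agent.Lib.Fusion.Tate
import Cfsg.Agent.Lib.Fusion.LocalSystems

set_option autoImplicit false

namespace Cfsg.Agent.Lib.Fusion.TateInner

open Cfsg Cfsg.FusionSystem Cfsg.Agent.Lib.Fusion Cfsg.Agent.Lib.Fusion.Basic
open Cfsg.Agent.Lib
open scoped commutatorElement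

variable {Ω : Type*} [Group Ω] {S : Subgroup Ω} {F : FusionSystem S} [Finite S] {p : ℕ} [Fact p.Prime]

/-- A saturated system with trivial hyperfocal subgroup is inner. -/
theorem hom_eq_inner_of_hyperfocal_le_bot (hS : IsPGroup p S) (hF : F.IsSaturated p)
    (hbot : F.hyperfocalSubgroup p ≤ ⊥) (P : Subgroup Ω) :
    F.Hom P = (innerFusionSystem S).Hom P := by
  ext φ
  constructor
  · intro hφ
    obtain ⟨h, hh, hc⟩ := Tate.exists_conj_mod_hyperfocal hS hF hφ
    refine ⟨source_le hφ, h, hh, fun a => ?_⟩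
    have h1 := hbot (hc a)
    rw [Subgroup.mem_bot] at h1
    have h2 : h⁻¹ * φ a * h = a := by
      rw [inv_mul_eq_one] at h1
      exact h1.symm
    rw [← h2]
    group
  · rintro ⟨hP, g, hg, hgc⟩
    have : φ = conjHom P g := by
      ext x
      exact hgc x
    rw [this]
    exact F.conj_mem hP hg

/-- **Tate for fusion systems.** If all maps act trivially modulo the Frattini subgroup of `S`, the
system is inner. -/
theorem hom_eq_inner_of_map_mem_frattini (hS : IsPGroup p S) (hF : F.IsSaturated p)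
    (h : ∀ {P : Subgroup Ω} {φ : P →* Ω}, φ ∈ F.Hom P → ∀ x : P,
      (x : Ω)⁻¹ * φ x ∈ (frattini S).map S.subtype) (P : Subgroup Ω) :
    F.Hom P = (innerFusionSystem S).Hom P := by
  refine hom_eq_inner_of_hyperfocal_le_bot hS hF ?_ P
  have hhyp : F.hyperfocalSubgroup p ≤ (frattini S).map S.subtype := by
    refine (Subgroup.closure_le _).2 ?_
    rintro y ⟨P, α, x, hP, -, rfl⟩
    exact h (autGroup_mem_hom hP α.2) x
  refine Tate.hyperfocal_le_of_le_frattini_sup hS hF ?_ bot_le (hhyp.trans le_sup_left)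
  intro g _ t ht
  rw [Subgroup.mem_bot] at ht ⊢
  simp [ht]

/-- Commutators of `S` lie in its Frattini subgroup. -/
theorem conj_quot_mem_frattini (hS : IsPGroup p S) {g x : Ω} (hg : g ∈ S) (hx : x ∈ S) :
    x⁻¹ * (g * x * g⁻¹) ∈ (frattini S).map S.subtype := by
  have h1 : ⁅(⟨x, hx⟩ : S)⁻¹, (⟨g, hg⟩ : S)⁆ ∈ frattini S :=
    PGroup.FrattiniBasis.commutator_le_frattini hS
      (Subgroup.commutator_mem_commutator (Subgroup.mem_top _) (Subgroup.mem_top _))
  refine ⟨_, h1, ?_⟩
  simp [commutatorElement_def]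
  group

/-- Maps of `N_F(S)` are conjugations, when that system is inner. -/
theorem exists_conj_of_normalizer_inner
    (hN : ∀ N : FusionSystem (normalizerIn S S), F.IsNormalizerSystem S N → ∀ P : Subgroup Ω,
      N.Hom P = (innerFusionSystem (normalizerIn S S)).Hom P) {φ : S →* Ω} (hφ : φ ∈ F.Hom S) :
    ∃ g ∈ S, ∀ x : S, φ x = g * (x : Ω) * g⁻¹ := by
  have hNS := hN (LocalSystems.normalizerSystem F S le_rfl)
    (LocalSystems.normalizerSystem_isNormalizerSystem F S le_rfl) S
  have hSN : S ≤ normalizerIn S S := le_normalizerIn le_rfl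
  have hm : φ ∈ F.normalizerHom S S := by
    refine ⟨hφ, hSN, fun x => hSN (map_mem_S hφ x), ?_⟩
    have hle : S ⊔ S ≤ S := sup_le le_rfl le_rfl
    refine ⟨φ.comp (Subgroup.inclusion hle), res_mem hφ hle, fun x => rfl, ?_⟩
    have hr : φ.range = S := range_eq_of_card hφ (map_mem_S hφ) le_rfl
    ext y
    constructor
    · rintro ⟨z, hz, rfl⟩
      exact map_mem_S hφ _
    · intro hy
      have hy' : y ∈ φ.range := hr.ge hy
      obtain ⟨z, rfl⟩ := hy'
      exact ⟨⟨z, (le_sup_left : S ≤ S ⊔ S) z.2⟩, z.2, rfl⟩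
  have h1 : φ ∈ (LocalSystems.normalizerSystem F S le_rfl).Hom S := hm
  rw [hNS] at h1
  obtain ⟨-, g, hg, hgc⟩ := h1
  exact ⟨g, hg.1, hgc⟩

end Cfsg.Agent.Lib.Fusion.TateInner
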