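/-
Automorphisms of order prime to `p` and the elements of order `p` (or dividing `4` when `p = 2`):
fusion of small elements in the hyperfocal and focal subgroups.
-/
import Mathlib
import Cfsg.Agent.Lib.Fusion.TateInner
import Cfsg.Agent.Lib.PGroup.Critical

set_option autoImplicit false

namespace Cfsg.Agent.Lib.Fusion.SmallElements

open Cfsg Cfsg.FusionSystem Cfsg.Agent.Lib.Fusion Cfsg.Agent.Lib.Fusion.Basic
open Cfsg.Agent.Lib
open scoped commutatorElement

section Abstract

variable {G : Type*} [Group G] [Finite G] {p : ℕ} [hp : Fact p.Prime]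

/-- The exponent of small elements. -/
def smallExp (p : ℕ) : ℕ := if p = 2 then 4 else p

omit hp in
theorem smallExp_of_two : smallExp 2 = 4 := rfl

omit hp in
theorem smallExp_of_ne (h : p ≠ 2) : smallExp p = p := if_neg h

theorem dvd_smallExp : p ∣ smallExp p := by
  by_cases h : p = 2
  · subst h
    rw [smallExp_of_two]
    norm_num
  · rw [smallExp_of_ne h]

theorem dvd_choose_smallExp : p ∣ (smallExp p).choose 2 := by
  by_cases h : p = 2
  · subst h
    rw [smallExp_of_two]
    decide
  · rw [smallExp_of_ne h]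
    exact PGroup.Critical.prime_dvd_choose_two h

/-- A `p'`-automorphism fixing a `p`-element's quotient by its image fixes the element. -/
theorem fixed_of_quot_fixed (hG : IsPGroup p G) (a : MulAut G) (ha : (orderOf a).Coprime p) {x : G}
    (h : a (x⁻¹ * a x) = x⁻¹ * a x) : a x = x := by
  set c := x⁻¹ * a x with hc
  have hax : a x = x * c := by rw [hc]; group
  have hn : ∀ n : ℕ, (a ^ n) x = x * c ^ n := by
    intro n
    induction n with
    | zero => simp
    | succ n ih =>
      rw [pow_succ', MulAut.mul_apply, ih, map_mul, map_pow, h, hax, pow_succ']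
      group
  have h1 := hn (orderOf a)
  rw [pow_orderOf_eq_one] at h1
  have h2 : c ^ orderOf a = 1 := by
    have h3 : x = x * c ^ orderOf a := h1
    exact (mul_eq_left.1 h3.symm)
  have h4 : orderOf c ∣ orderOf a := orderOf_dvd_of_pow_eq_one h2
  obtain ⟨k, hk⟩ := (IsPGroup.iff_orderOf.1 hG) c
  have h5 : (orderOf c).Coprime p := Nat.Coprime.coprime_dvd_left h4 ha
  have h6 : orderOf c = 1 := by
    rw [hk] at h5 ⊢
    rcases k with _ | k
    · simp
    · exfalso
      have h7 : p ∣ p ^ (k + 1) := dvd_pow_self p (by omega)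
      have h8 := Nat.dvd_gcd h7 (dvd_refl p)
      rw [h5] at h8
      exact hp.out.one_lt.ne' (Nat.dvd_one.1 h8)
  have h9 : c = 1 := orderOf_eq_one_iff.1 h6
  rw [hax, h9, mul_one]

/-- A `p'`-automorphism fixing the small elements of an invariant subgroup fixes that subgroup. -/
theorem fixed_of_small (hG : IsPGroup p G) (a : MulAut G) (ha : (orderOf a).Coprime p)
    (B : Subgroup G) (hB : ∀ b ∈ B, a b ∈ B) (h : ∀ x ∈ B, x ^ smallExp p = 1 → a x = x) :
    ∀ x ∈ B, a x = x := by
  classical
  have hinj : Function.Injective (fun b : B => (⟨a b, hB b b.2⟩ : B)) := by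
    intro u v huv
    have h1 : a u = a v := congrArg Subtype.val huv
    exact Subtype.ext (a.injective h1)
  let f : B →* B :=
    { toFun := fun b => ⟨a b, hB b b.2⟩
      map_one' := Subtype.ext (by simp)
      map_mul' := fun u v => Subtype.ext (by simp) }
  have hfb : Function.Bijective f := Finite.injective_iff_bijective.1 hinj
  let a' : MulAut B := MulEquiv.ofBijective f hfb
  have hpow : ∀ (n : ℕ) (b : B), (((a' ^ n) b : B) : G) = (a ^ n) b := by
    intro n b
    induction n generalizing b with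
    | zero => simp
    | succ n ih =>
      rw [pow_succ, pow_succ, MulAut.mul_apply, MulAut.mul_apply, ih]
      rfl
  have hord : orderOf a' ∣ orderOf a := by
    refine orderOf_dvd_of_pow_eq_one ?_
    apply MulEquiv.ext
    intro b
    apply Subtype.ext
    rw [hpow, pow_orderOf_eq_one]
    rfl
  have ha' : (orderOf a').Coprime p := Nat.Coprime.coprime_dvd_left hord ha
  have h1 : a' = 1 := by
    refine PGroup.Critical.coprime_aut_eq_one_of_fixes (hG.to_subgroup B) a' ha'
      dvd_smallExp dvd_choose_smallExp ?_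
    intro x hx
    apply Subtype.ext
    exact h x x.2 (by simpa using congrArg Subtype.val hx)
  intro x hx
  have h2 : a' ⟨x, hx⟩ = ⟨x, hx⟩ := by rw [h1]; rfl
  exact congrArg Subtype.val h2

/-- `p'`-automorphism fixing everything in a subgroup containing all quotients `x⁻¹ a(x)` is trivial. -/
theorem eq_one_of_fixed_quots (hG : IsPGroup p G) (a : MulAut G) (ha : (orderOf a).Coprime p)
    (B : Subgroup G) (hB : ∀ x, x⁻¹ * a x ∈ B) (h : ∀ x ∈ B, a x = x) : a = 1 := by
  apply MulEquiv.ext
  intro x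
  exact fixed_of_quot_fixed hG a ha (h _ (hB x))

end Abstract

section System

variable {Ω : Type*} [Group Ω] {S : Subgroup Ω} {F : FusionSystem S} [Finite S] {p : ℕ} [Fact p.Prime]

/-- A small nontrivial element generates a cyclic group of order `p` or `4`. -/
theorem card_zpowers_of_small (hS : IsPGroup p S) {y : Ω} (hy : y ^ smallExp p = 1) (hy1 : y ≠ 1) :
    Nat.card (Subgroup.zpowers y) = p ∨ Nat.card (Subgroup.zpowers y) = 4 := by
  rw [Nat.card_zpowers]
  have h1 : orderOf y ∣ smallExp p := orderOf_dvd_of_pow_eq_one hy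
  have h2 : orderOf y ≠ 1 := fun h => hy1 (orderOf_eq_one_iff.1 h)
  by_cases hp2 : p = 2
  · subst hp2
    rw [smallExp_of_two] at h1
    have h3 : orderOf y ≤ 4 := Nat.le_of_dvd (by norm_num) h1
    interval_cases h : orderOf y <;> simp_all <;> omega
  · rw [smallExp_of_ne hp2] at h1
    left
    exact ((Nat.dvd_prime Fact.out).1 h1).resolve_left h2

/-- Step 1: a map between small cyclic subgroups of the hyperfocal subgroup is conjugation. -/
theorem exists_conj_of_small (hS : IsPGroup p S) (hF : F.IsSaturated p)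
    (h : ∀ A B : Subgroup Ω, A ≤ F.hyperfocalSubgroup p → B ≤ F.hyperfocalSubgroup p →
      IsCyclic ↥A → (Nat.card ↥A = p ∨ Nat.card ↥A = 4) → IsCyclic ↥B →
      (Nat.card ↥B = p ∨ Nat.card ↥B = 4) → F.homSet A B ⊆ (innerFusionSystem S).Hom A)
    {Q : Subgroup Ω} (hQ : Q ≤ S) {β : MulAut Q} (hβ : β ∈ F.autGroup Q) (y : Q)
    (hyH : (y : Ω) ∈ F.hyperfocalSubgroup p) (hy : y ^ smallExp p = 1) :
    ∃ s ∈ S, ((β y : Q) : Ω) = s * (y : Ω) * s⁻¹ := by
  by_cases hy1 : y = 1
  · refine ⟨1, S.one_mem, ?_⟩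
    subst hy1
    simp
  have hy1' : (y : Ω) ≠ 1 := fun h => hy1 (Subtype.ext h)
  have hφ := autGroup_mem_hom hQ hβ
  have hT := Hyperfocal.stronglyClosed_hyperfocal (F := F) hS hF
  have hβH : ((β y : Q) : Ω) ∈ F.hyperfocalSubgroup p :=
    FocalClosed.map_mem_of_stronglyClosed hT hφ y hyH
  have hA : Subgroup.zpowers (y : Ω) ≤ F.hyperfocalSubgroup p :=
    (Subgroup.zpowers_le).2 hyH
  have hB : Subgroup.zpowers ((β y : Q) : Ω) ≤ F.hyperfocalSubgroup p :=
    (Subgroup.zpowers_le).2 hβH
  have hAQ : Subgroup.zpowers (y : Ω) ≤ Q := (Subgroup.zpowers_le).2 y.2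
  have hys : (y : Ω) ^ smallExp p = 1 := by
    have := congrArg Subtype.val hy
    simpa using this
  have hβs : ((β y : Q) : Ω) ^ smallExp p = 1 := by
    have h1 : (β y) ^ smallExp p = 1 := by rw [← map_pow, hy, map_one]
    have := congrArg Subtype.val h1
    simpa using this
  have hβ1 : ((β y : Q) : Ω) ≠ 1 := by
    intro h1
    apply hy1
    apply β.injective
    rw [map_one]
    exact Subtype.ext h1
  let φ : Subgroup.zpowers (y : Ω) →* Ω :=
    (Q.subtype.comp β.toMonoidHom).comp (Subgroup.inclusion hAQ)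
  have hφm : φ ∈ F.Hom (Subgroup.zpowers (y : Ω)) := res_mem hφ hAQ
  have hφv : ∀ x : Subgroup.zpowers (y : Ω), φ x ∈ Subgroup.zpowers ((β y : Q) : Ω) := by
    rintro ⟨x, k, rfl⟩
    refine ⟨k, ?_⟩
    have e : (⟨(y : Ω) ^ k, k, rfl⟩ : Subgroup.zpowers (y : Ω)) =
        (⟨(y : Ω), Subgroup.mem_zpowers _⟩ : Subgroup.zpowers (y : Ω)) ^ k := rfl
    change ((β y : Q) : Ω) ^ k = φ _
    simp only [e, map_zpow]
    rfl
  have hin := h _ _ hA hB inferInstance (card_zpowers_of_small hS hys hy1') inferInstance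
    (card_zpowers_of_small hS hβs hβ1) ⟨hφm, hφv⟩
  obtain ⟨-, s, hs, hsc⟩ := hin
  exact ⟨s, hs, hsc ⟨y, Subgroup.mem_zpowers _⟩⟩

/-- The lower central series of `S`, inside the ambient group. -/
def lcsIn (S : Subgroup Ω) (i : ℕ) : Subgroup Ω :=
  (Subgroup.lowerCentralSeries (⊤ : Subgroup S) i).map S.subtype

omit [Finite S] [Fact p.Prime] in
theorem quot_mem_lcsIn {i : ℕ} {y s : Ω} (hy : y ∈ lcsIn S i) (hs : s ∈ S) :
    y⁻¹ * (s * y * s⁻¹) ∈ lcsIn S (i + 1) := by
  obtain ⟨y', hy', rfl⟩ := hy
  refine ⟨⁅y'⁻¹, (⟨s, hs⟩ : S)⁆, ?_, ?_⟩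
  · rw [Subgroup.lowerCentralSeries_succ]
    refine Subgroup.subset_closure ⟨y'⁻¹, Subgroup.inv_mem _ hy', ⟨s, hs⟩, Subgroup.mem_top _, rfl⟩
  · simp [commutatorElement_def]
    group

/-- **Main lemma**: a `p'`-automorphism of the system is trivial when small elements of the
hyperfocal subgroup fuse by conjugation in `S`. -/
theorem aut_eq_one_of_small (hS : IsPGroup p S) (hF : F.IsSaturated p)
    (h : ∀ A B : Subgroup Ω, A ≤ F.hyperfocalSubgroup p → B ≤ F.hyperfocalSubgroup p →
      IsCyclic ↥A → (Nat.card ↥A = p ∨ Nat.card ↥A = 4) → IsCyclic ↥B →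
      (Nat.card ↥B = p ∨ Nat.card ↥B = 4) → F.homSet A B ⊆ (innerFusionSystem S).Hom A)
    {Q : Subgroup Ω} (hQ : Q ≤ S) {α : MulAut Q} (hα : α ∈ F.autGroup Q)
    (hord : (orderOf α).Coprime p) : α = 1 := by
  classical
  have : Finite Q := finite_of_le hQ
  have hQp : IsPGroup p Q := isPGroup_of_le hS hQ
  have hT := Hyperfocal.stronglyClosed_hyperfocal (F := F) hS hF
  have hφ := autGroup_mem_hom hQ hα
  have hαH : ∀ y : Q, (y : Ω) ∈ F.hyperfocalSubgroup p → ((α y : Q) : Ω) ∈ F.hyperfocalSubgroup p :=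
    fun y hy => FocalClosed.map_mem_of_stronglyClosed hT hφ y hy
  have hpowmem : ∀ j : ℕ, α ^ j ∈ F.autGroup Q := fun j => Subgroup.pow_mem _ hα j
  obtain ⟨N, hN⟩ := (Subgroup.nilpotent_iff_lowerCentralSeries.1 hS.isNilpotent)
  -- descending induction along the lower central series
  have key : ∀ k i : ℕ, i + k = N → ∀ y : Q, (y : Ω) ∈ F.hyperfocalSubgroup p →
      (y : Ω) ∈ lcsIn S i → y ^ smallExp p = 1 → α y = y := by
    intro k
    induction k with
    | zero =>
      intro i hi y _ hyL _
      have h1 : lcsIn S i = ⊥ := by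
        rw [show i = N by omega, lcsIn, hN]
        simp
      rw [h1, Subgroup.mem_bot] at hyL
      have hy1 : y = 1 := Subtype.ext hyL
      rw [hy1, map_one]
    | succ k ih =>
      intro i hi y hyH hyL hys
      -- the orbit of `y` stays in the same coset
      have hj : ∀ j : ℕ, (y : Ω)⁻¹ * (((α ^ j) y : Q) : Ω) ∈ lcsIn S (i + 1) := by
        intro j
        obtain ⟨s, hs, hsc⟩ := exists_conj_of_small hS hF h hQ (hpowmem j) y hyH hys
        rw [hsc]
        exact quot_mem_lcsIn hyL hs
      have hjH : ∀ j : ℕ, (((α ^ j) y : Q) : Ω) ∈ F.hyperfocalSubgroup p := by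
        intro j
        induction j with
        | zero => simpa using hyH
        | succ j ihj =>
          rw [pow_succ', MulAut.mul_apply]
          exact hαH _ ihj
      set c : Q := y⁻¹ * α y with hc
      -- the subgroup generated by the orbit of `c`
      let B : Subgroup Q := Subgroup.closure (Set.range fun j : ℕ => (α ^ j) c)
      have horb : ∀ j : ℕ, (((α ^ j) c : Q) : Ω) ∈ F.hyperfocalSubgroup p ⊓ lcsIn S (i + 1) := by
        intro j
        have e : (α ^ j) c = ((α ^ j) y)⁻¹ * (α ^ (j + 1)) y := by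
          rw [hc, map_mul, map_inv, pow_succ, MulAut.mul_apply]
        have e' : (((α ^ j) c : Q) : Ω) =
            ((y : Ω)⁻¹ * (((α ^ j) y : Q) : Ω))⁻¹ * ((y : Ω)⁻¹ * (((α ^ (j + 1)) y : Q) : Ω)) := by
          rw [e]
          simp only [Subgroup.coe_mul, Subgroup.coe_inv]
          group
        constructor
        · rw [e]
          exact Subgroup.mul_mem _ (Subgroup.inv_mem _ (hjH j)) (hjH (j + 1))
        · rw [e']
          exact Subgroup.mul_mem _ (Subgroup.inv_mem _ (hj j)) (hj (j + 1))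
      have hBin : ∀ b ∈ B, (b : Ω) ∈ F.hyperfocalSubgroup p ⊓ lcsIn S (i + 1) := by
        intro b hb
        induction hb using Subgroup.closure_induction with
        | mem x hx =>
          obtain ⟨j, rfl⟩ := hx
          exact horb j
        | one => exact Subgroup.one_mem _
        | mul x y _ _ hx hy => exact Subgroup.mul_mem _ hx hy
        | inv x _ hx => exact Subgroup.inv_mem _ hx
      have hBinv : ∀ b ∈ B, α b ∈ B := by
        intro b hb
        induction hb using Subgroup.closure_induction with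
        | mem x hx =>
          obtain ⟨j, rfl⟩ := hx
          refine Subgroup.subset_closure ⟨j + 1, ?_⟩
          change (α ^ (j + 1)) c = α ((α ^ j) c)
          rw [pow_succ', MulAut.mul_apply]
        | one => rw [map_one]; exact Subgroup.one_mem _
        | mul x y _ _ hx hy => rw [map_mul]; exact Subgroup.mul_mem _ hx hy
        | inv x _ hx => rw [map_inv]; exact Subgroup.inv_mem _ hx
      have hfix := fixed_of_small hQp α hord B hBinv (fun x hx hxs =>
        ih (i + 1) (by omega) x (hBin x hx).1 (hBin x hx).2 hxs)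
      have hcB : c ∈ B := Subgroup.subset_closure ⟨0, by simp⟩
      exact fixed_of_quot_fixed hQp α hord (hfix c hcB)
  -- all small elements of the hyperfocal subgroup are fixed
  have hsmall : ∀ y : Q, (y : Ω) ∈ F.hyperfocalSubgroup p → y ^ smallExp p = 1 → α y = y := by
    intro y hy hys
    have hy0 : (y : Ω) ∈ lcsIn S 0 := ⟨⟨y, hQ y.2⟩, Subgroup.mem_top _, rfl⟩
    exact key N 0 (by omega) y hy hy0 hys
  let U : Subgroup Q := (F.hyperfocalSubgroup p).comap Q.subtype
  have hU := fixed_of_small hQp α hord U (fun b hb => hαH b hb) (fun x hx hxs => hsmall x hx hxs)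
  refine eq_one_of_fixed_quots hQp α hord U (fun x => ?_) hU
  have h1 := Hyperfocal.mem_hyperfocal_of_coprime (F := F) (p := p) hQ (α := ⟨α, hα⟩)
    (by rw [← Subgroup.orderOf_coe]; exact hord) x
  change (x⁻¹ * α x : Q).1 ∈ F.hyperfocalSubgroup p
  simpa using h1

/-- **S5298 core**: a saturated system whose small fusion in the hyperfocal subgroup is inner, is inner. -/
theorem hom_eq_inner_of_small (hS : IsPGroup p S) (hF : F.IsSaturated p)
    (h : ∀ A B : Subgroup Ω, A ≤ F.hyperfocalSubgroup p → B ≤ F.hyperfocalSubgroup p →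
      IsCyclic ↥A → (Nat.card ↥A = p ∨ Nat.card ↥A = 4) → IsCyclic ↥B →
      (Nat.card ↥B = p ∨ Nat.card ↥B = 4) → F.homSet A B ⊆ (innerFusionSystem S).Hom A)
    (P : Subgroup Ω) : F.Hom P = (innerFusionSystem S).Hom P := by
  refine TateInner.hom_eq_inner_of_hyperfocal_le_bot hS hF ?_ P
  refine Hyperfocal.hyperfocal_le fun Q hQ α hα x => ?_
  have h1 : (α : MulAut Q) = 1 := aut_eq_one_of_small hS hF h hQ α.2
    (by rw [Subgroup.orderOf_coe]; exact hα)
  rw [h1]
  simp

end System

end Cfsg.Agent.Lib.Fusion.SmallElements
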