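/-
Small abelian subgroups of the hyperfocal subgroup control fusion. For a finite `p`-group `X` and a normal subgroup `R`
there is an abelian subgroup `B ≤ R` of small exponent, normal in `X`, such that a `p'`-automorphism of `R` fixing `B`
elementwise is trivial. In a saturated system the elements of `Aut_F(Q)` fixing such a `B` elementwise lie in `Aut_S(Q)`.
-/
import Mathlib
import Cfsg.Prelude.Def_FusionSystem
import Cfsg.Agent.Lib.Fusion.SmallElements
import Cfsg.Agent.Lib.Fusion.Alperin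
import Cfsg.Agent.Lib.Fusion.Saturated
import Cfsg.Agent.Lib.Fusion.Saturated2
import Cfsg.Agent.Lib.Fusion.Hyperfocal
import Cfsg.Agent.Lib.Fusion.NormalCR
import Cfsg.Agent.Lib.Fusion.FocalClosed
import Cfsg.Agent.Lib.Fusion.GroupSylow
import Cfsg.Agent.Lib.PGroup.Critical

set_option autoImplicit false
set_option linter.style.haveILetI false

namespace Cfsg.Agent.Lib.Fusion.SmallControl

open Cfsg Cfsg.FusionSystem Cfsg.Agent.Lib.Fusion Cfsg.Agent.Lib.Fusion.Basic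
open Cfsg.Agent.Lib
open scoped commutatorElement

section Group

variable {X : Type*} [Group X] [Finite X] {p : ℕ} [hp : Fact p.Prime]

/-- The small elements of the critical subgroup. -/
theorem exists_small_normal (hX : IsPGroup p X) (R : Subgroup X) [hR : R.Normal] {n : ℕ} (hpn : p ∣ n)
    (hn : p ∣ n.choose 2) :
    ∃ B : Subgroup X, B ≤ R ∧ (∀ a ∈ B, ∀ b ∈ B, a * b = b * a) ∧ (∀ b ∈ B, b ^ n = 1) ∧ B.Normal ∧
      ∀ β : MulAut R, (orderOf β).Coprime p → (∀ x : R, (x : X) ∈ B → β x = x) → β = 1 := by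
  classical
  have hRp : IsPGroup p R := hX.to_subgroup R
  obtain ⟨C, hchar, h1, h2, h3⟩ := PGroup.Critical.exists_critical hRp
  have hmul : ∀ x ∈ C, ∀ y ∈ C, (x * y) ^ n = x ^ n * y ^ n := fun x hx y hy =>
    PGroup.Critical.critical_mul_pow hRp h1 h2 hn hx hy
  have haut : ∀ (a : MulAut R) (x : R), x ∈ C → a x ∈ C := fun a x hx =>
    (Subgroup.characteristic_iff_map_le.mp hchar a) ⟨x, hx, rfl⟩
  let D₀ : Subgroup R :=
    { carrier := {x | x ∈ C ∧ x ^ n = 1}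
      mul_mem' := by
        rintro a b ⟨ha, ha1⟩ ⟨hb, hb1⟩
        exact ⟨C.mul_mem ha hb, by rw [hmul a ha b hb, ha1, hb1, one_mul]⟩
      one_mem' := ⟨C.one_mem, one_pow _⟩
      inv_mem' := by
        rintro a ⟨ha, ha1⟩
        exact ⟨C.inv_mem ha, by rw [inv_pow, ha1, inv_one]⟩ }
  have hD₀ : ∀ (a : MulAut R) (x : R), x ∈ D₀ → a x ∈ D₀ := fun a x hx =>
    ⟨haut a x hx.1, by rw [← map_pow, hx.2, map_one]⟩
  let D : Subgroup X := D₀.map R.subtype
  have hDn : D.Normal := by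
    refine ⟨?_⟩
    rintro _ ⟨x, hx, rfl⟩ g
    exact ⟨MulAut.conjNormal g x, hD₀ _ x hx, by simp⟩
  have hDR : D ≤ R := by
    rintro _ ⟨x, -, rfl⟩
    exact x.2
  let 𝔉 : Set (Subgroup X) := {B | B ≤ D ∧ (∀ a ∈ B, ∀ b ∈ B, a * b = b * a) ∧ B.Normal}
  have hbot : (⊥ : Subgroup X) ∈ 𝔉 := by
    refine ⟨bot_le, ?_, inferInstance⟩
    intro a ha b hb
    rw [Subgroup.mem_bot.1 ha, Subgroup.mem_bot.1 hb]
  obtain ⟨B, hBm⟩ := (Set.toFinite 𝔉).exists_maximal ⟨⊥, hbot⟩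
  obtain ⟨hBD, hBc, hBn⟩ := hBm.1
  have hcent : ∀ x ∈ D, (∀ b ∈ B, x * b = b * x) → x ∈ B := by
    by_contra hcon
    push Not at hcon
    obtain ⟨x₀, hx₀D, hx₀c, hx₀B⟩ := hcon
    let N : Subgroup X := D ⊓ Subgroup.centralizer (B : Set X)
    haveI hNn : N.Normal := by
      haveI : (Subgroup.centralizer (B : Set X)).Normal := Subgroup.normal_centralizer
      exact Subgroup.normal_inf_normal _ _
    have hNB : ¬ N ≤ B := by
      intro h
      exact hx₀B (h ⟨hx₀D, Subgroup.mem_centralizer_iff.2 fun b hb => (hx₀c b hb).symm⟩)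
    obtain ⟨x, hxN, hxB, -, hxc⟩ := PGroup.Critical.exists_mem_central_mod hX B N hNB
    have hxD : x ∈ D := hxN.1
    have hxC : ∀ b ∈ B, b * x = x * b := fun b hb =>
      Subgroup.mem_centralizer_iff.1 hxN.2 b hb
    have hB'n : (B ⊔ Subgroup.zpowers x : Subgroup X).Normal :=
      PGroup.Critical.normal_sup_zpowers B hxc
    have hz : Subgroup.zpowers x ≤ Subgroup.centralizer (B : Set X) := by
      rw [Subgroup.zpowers_le]
      exact hxN.2
    have hBB : B ≤ Subgroup.centralizer (B : Set X) := fun a ha =>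
      Subgroup.mem_centralizer_iff.2 fun b hb => hBc b hb a ha
    have hcomm : B ⊔ Subgroup.zpowers x ≤ Subgroup.centralizer (B : Set X) := sup_le hBB hz
    have hB2 : B ≤ Subgroup.centralizer ((B ⊔ Subgroup.zpowers x : Subgroup X) : Set X) :=
      Subgroup.le_centralizer_iff.1 hcomm
    have hz2 : Subgroup.zpowers x ≤ Subgroup.centralizer ((B ⊔ Subgroup.zpowers x : Subgroup X) : Set X) := by
      rw [Subgroup.zpowers_le]
      have h : B ⊔ Subgroup.zpowers x ≤ Subgroup.centralizer (({x} : Set X)) := by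
        refine sup_le ?_ ?_
        · intro b hb
          rw [Subgroup.mem_centralizer_singleton_iff]
          exact hxC b hb
        · rw [Subgroup.zpowers_le, Subgroup.mem_centralizer_singleton_iff]
      rw [Subgroup.mem_centralizer_iff]
      intro y hy
      have := h hy
      rw [Subgroup.mem_centralizer_singleton_iff] at this
      exact this
    have hall : B ⊔ Subgroup.zpowers x ≤ Subgroup.centralizer ((B ⊔ Subgroup.zpowers x : Subgroup X) : Set X) :=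
      sup_le hB2 hz2
    have hmem : (B ⊔ Subgroup.zpowers x : Subgroup X) ∈ 𝔉 := by
      refine ⟨sup_le hBD ((Subgroup.zpowers_le).2 hxD), ?_, hB'n⟩
      intro a ha b hb
      exact (Subgroup.mem_centralizer_iff.1 (hall hb) a ha)
    have hle := hBm.2 hmem le_sup_left
    exact hxB (hle (Subgroup.mem_sup_right (Subgroup.mem_zpowers x)))
  refine ⟨B, hBD.trans hDR, hBc, ?_, hBn, ?_⟩
  · intro b hb
    obtain ⟨y, hy, rfl⟩ := hBD hb
    have := hy.2
    simpa using congrArg Subtype.val this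
  · intro β hβ hfix
    have hsmall : ∀ x : R, x ∈ D₀ → β x = x := by
      intro x hx
      have hc : x⁻¹ * β x ∈ D₀ := D₀.mul_mem (D₀.inv_mem hx) (hD₀ β x hx)
      have hcB : ((x⁻¹ * β x : R) : X) ∈ B := by
        refine hcent _ ⟨_, hc, rfl⟩ ?_
        intro b hb
        have hbR : b ∈ R := hDR (hBD hb)
        have hconj : (x : X) * b * (x : X)⁻¹ ∈ B := hBn.conj_mem b hb x
        have h4 : ((x : X) * b * (x : X)⁻¹) ∈ R := hDR (hBD hconj)
        have e1 : (⟨(x : X) * b * (x : X)⁻¹, h4⟩ : R) = x * ⟨b, hbR⟩ * x⁻¹ := rfl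
        have h5 := hfix ⟨_, h4⟩ hconj
        rw [e1, map_mul, map_mul, map_inv, hfix ⟨b, hbR⟩ hb] at h5
        have h6 := congrArg Subtype.val h5
        simp only [Subgroup.coe_mul, Subgroup.coe_inv] at h6
        have h7 : ((β x : R) : X) * b = (x : X) * b * (x : X)⁻¹ * ((β x : R) : X) := by
          rw [← h6]
          group
        simp only [Subgroup.coe_mul, Subgroup.coe_inv]
        calc (x : X)⁻¹ * ((β x : R) : X) * b = (x : X)⁻¹ * (((β x : R) : X) * b) := by group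
          _ = (x : X)⁻¹ * ((x : X) * b * (x : X)⁻¹ * ((β x : R) : X)) := by rw [h7]
          _ = b * ((x : X)⁻¹ * ((β x : R) : X)) := by group
      have hfixc := hfix _ hcB
      exact SmallElements.fixed_of_quot_fixed hRp β hβ hfixc
    have hC : ∀ x ∈ C, β x = x :=
      PGroup.Critical.fixes_of_fixes_kernel hRp C β hβ (fun x hx => haut β x hx) hpn hmul
        (fun x hx hx1 => hsmall x ⟨hx, hx1⟩)
    exact Cfsg.Agent.S0121.result hRp C hchar h1 h2 h3 β hβ hC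

end Group

section System

variable {Ω : Type*} [Group Ω] {S : Subgroup Ω} {E F : FusionSystem S} [Finite S] {p : ℕ} [hp : Fact p.Prime]

/-- A `p'`-automorphism of `Q` in `Aut_F(Q)` fixing the hyperfocal part of `Q` is trivial. -/
theorem eq_one_of_fix_hyperfocal (hS : IsPGroup p S) {Q : Subgroup Ω} (hQS : Q ≤ S) {ν : MulAut Q}
    (hν : ν ∈ F.autGroup Q) (hc : (orderOf ν).Coprime p)
    (hfix : ∀ x : Q, (x : Ω) ∈ F.hyperfocalSubgroup p → ν x = x) : ν = 1 := by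
  haveI : Finite Q := finite_of_le hQS
  have hQp : IsPGroup p Q := isPGroup_of_le hS hQS
  refine SmallElements.eq_one_of_fixed_quots hQp ν hc ((F.hyperfocalSubgroup p).subgroupOf Q) ?_ ?_
  · intro x
    rw [Subgroup.mem_subgroupOf]
    have h1 : (orderOf (⟨ν, hν⟩ : F.autGroup Q)).Coprime p := by
      rwa [Subgroup.orderOf_mk]
    exact Hyperfocal.mem_hyperfocal_of_coprime hQS h1 x
  · intro x hx
    exact hfix x hx

/-- The small abelian subgroup attached to a subgroup: for `Q` normal in the finite `p`-group `P` and an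
`P`-invariant `D`, a small abelian subgroup `B ≤ Q ⊓ D`, `P`-invariant, such that a `p'`-automorphism of `Q`
preserving `Q ⊓ D` and fixing `B` elementwise fixes `Q ⊓ D` elementwise. -/
theorem exists_small_in {P Q D : Subgroup Ω} (hP : P ≤ S) (hS : IsPGroup p S) (hQP : Q ≤ P)
    (hPQ : P ≤ Subgroup.normalizer (Q : Set Ω)) (hPD : P ≤ Subgroup.normalizer (D : Set Ω)) {n : ℕ}
    (hpn : p ∣ n) (hn : p ∣ n.choose 2) :
    ∃ B : Subgroup Ω, B ≤ Q ∧ B ≤ D ∧ (∀ a ∈ B, ∀ b ∈ B, a * b = b * a) ∧ (∀ b ∈ B, b ^ n = 1) ∧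
      P ≤ Subgroup.normalizer (B : Set Ω) ∧
      ∀ ν : MulAut Q, (orderOf ν).Coprime p → (∀ x : Q, (x : Ω) ∈ D → (ν x : Ω) ∈ D) →
        (∀ x : Q, (x : Ω) ∈ B → ν x = x) → ∀ x : Q, (x : Ω) ∈ D → ν x = x := by
  classical
  haveI : Finite P := finite_of_le hP
  haveI : Finite Q := Finite.of_injective (Subgroup.inclusion hQP) (Subgroup.inclusion_injective hQP)
  have hPp : IsPGroup p P := isPGroup_of_le hS hP
  let R : Subgroup P := (Q ⊓ D).subgroupOf P
  haveI hRn : R.Normal := by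
    refine ⟨fun x hx g => ?_⟩
    rw [Subgroup.mem_subgroupOf] at hx ⊢
    exact ⟨(Subgroup.mem_normalizer_iff.1 (hPQ g.2) x).1 hx.1,
      (Subgroup.mem_normalizer_iff.1 (hPD g.2) x).1 hx.2⟩
  obtain ⟨B₀, hB₀R, hB₀c, hB₀s, hB₀n, hB₀f⟩ := exists_small_normal hPp R hpn hn
  refine ⟨B₀.map P.subtype, ?_, ?_, ?_, ?_, ?_, ?_⟩
  · rintro _ ⟨x, hx, rfl⟩
    exact (Subgroup.mem_subgroupOf.1 (hB₀R hx)).1
  · rintro _ ⟨x, hx, rfl⟩
    exact (Subgroup.mem_subgroupOf.1 (hB₀R hx)).2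
  · rintro _ ⟨x, hx, rfl⟩ _ ⟨y, hy, rfl⟩
    exact congrArg Subtype.val (hB₀c x hx y hy)
  · rintro _ ⟨x, hx, rfl⟩
    have := hB₀s x hx
    simpa using congrArg Subtype.val this
  · intro g hg
    refine Subgroup.mem_normalizer_iff.2 fun y => ⟨?_, ?_⟩
    · rintro ⟨x, hx, rfl⟩
      exact ⟨⟨g, hg⟩ * x * ⟨g, hg⟩⁻¹, hB₀n.conj_mem x hx ⟨g, hg⟩, rfl⟩
    · rintro ⟨x, hx, hxe⟩
      have h2 := hB₀n.conj_mem x hx (⟨g, hg⟩⁻¹)
      refine ⟨_, h2, ?_⟩
      have e : (x : Ω) = g * y * g⁻¹ := hxe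
      simp only [Subgroup.subtype_apply, Subgroup.coe_mul, Subgroup.coe_inv, inv_inv, e]
      group
  · intro ν hν hνD hfix
    -- the restriction to `R`
    have hRQ : ∀ r : R, ((r : P) : Ω) ∈ Q := fun r => (Subgroup.mem_subgroupOf.1 r.2).1
    have hRD : ∀ r : R, ((r : P) : Ω) ∈ D := fun r => (Subgroup.mem_subgroupOf.1 r.2).2
    have hval : ∀ r : R, ((ν ⟨_, hRQ r⟩ : Q) : Ω) ∈ P := fun r => hQP (ν ⟨_, hRQ r⟩).2
    have hmemR : ∀ r : R, (⟨_, hval r⟩ : P) ∈ R := fun r => by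
      rw [Subgroup.mem_subgroupOf]
      exact ⟨(ν ⟨_, hRQ r⟩).2, hνD _ (hRD r)⟩
    let f : R →* R :=
      { toFun := fun r => ⟨⟨_, hval r⟩, hmemR r⟩
        map_one' := by
          apply Subtype.ext
          apply Subtype.ext
          have e : (⟨((1 : R) : P), hRQ 1⟩ : Q) = 1 := rfl
          simp only [e, map_one]
          rfl
        map_mul' := fun u v => by
          apply Subtype.ext
          apply Subtype.ext
          have e : (⟨((u * v : R) : P), hRQ (u * v)⟩ : Q) = ⟨_, hRQ u⟩ * ⟨_, hRQ v⟩ := rfl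
          simp only [e, map_mul]
          rfl }
    have hfv : ∀ r : R, (((f r : R) : P) : Ω) = (ν ⟨_, hRQ r⟩ : Q) := fun r => rfl
    have hinj : Function.Injective f := by
      intro u v huv
      have h1 : ((f u : R) : P) = (f v : R) := congrArg Subtype.val huv
      have h2 : (((f u : R) : P) : Ω) = (f v : R) := congrArg Subtype.val h1
      rw [hfv, hfv] at h2
      have h3 := ν.injective (Subtype.ext h2)
      apply Subtype.ext
      apply Subtype.ext
      exact congrArg (fun t : Q => (t : Ω)) h3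
    let β : MulAut R := MulEquiv.ofBijective f (Finite.injective_iff_bijective.1 hinj)
    have hβv : ∀ r : R, (((β r : R) : P) : Ω) = (ν ⟨_, hRQ r⟩ : Q) := fun r => rfl
    have hpow : ∀ (k : ℕ) (r : R), ((((β ^ k) r : R) : P) : Ω) = ((ν ^ k) ⟨_, hRQ r⟩ : Q) := by
      intro k
      induction k with
      | zero => intro r; simp
      | succ k ih =>
        intro r
        rw [pow_succ, pow_succ, MulAut.mul_apply, MulAut.mul_apply, ih]
        have e : (⟨((β r : R) : P), hRQ (β r)⟩ : Q) = ν ⟨_, hRQ r⟩ := Subtype.ext (hβv r)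
        rw [e]
    have hord : orderOf β ∣ orderOf ν := by
      refine orderOf_dvd_of_pow_eq_one ?_
      apply MulEquiv.ext
      intro r
      apply Subtype.ext
      apply Subtype.ext
      have := hpow (orderOf ν) r
      rw [pow_orderOf_eq_one] at this
      exact this
    have hβ1 : β = 1 := by
      refine hB₀f β (Nat.Coprime.coprime_dvd_left hord hν) ?_
      intro r hr
      apply Subtype.ext
      apply Subtype.ext
      have h1 : (((r : P) : Ω)) ∈ B₀.map P.subtype := ⟨_, hr, rfl⟩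
      have h2 := hfix ⟨_, hRQ r⟩ h1
      rw [hβv, h2]
    intro x hx
    have hxP : (x : Ω) ∈ P := hQP x.2
    have hxR : (⟨x, hxP⟩ : P) ∈ R := Subgroup.mem_subgroupOf.2 ⟨x.2, hx⟩
    have h3 : β ⟨⟨x, hxP⟩, hxR⟩ = ⟨⟨x, hxP⟩, hxR⟩ := by rw [hβ1]; rfl
    have h4 := hβv ⟨⟨x, hxP⟩, hxR⟩
    rw [h3] at h4
    exact Subtype.ext h4.symm

/-- Elements of `Aut_F(Q)` fixing `B` elementwise lie in `Aut_S(Q)`, when `N_S(Q)` normalizes `B` and no nontrivial
`p'`-element of `Aut_F(Q)` fixes `B` elementwise. -/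
theorem mem_autInducedBy_of_fix {Q B : Subgroup Ω} (hQS : Q ≤ S) (hQa : F.IsFullyAutomized p Q)
    (hBN : normalizerIn S Q ≤ Subgroup.normalizer (B : Set Ω))
    (h0 : ∀ ν ∈ F.autGroup Q, (orderOf ν).Coprime p → (∀ x : Q, (x : Ω) ∈ B → ν x = x) → ν = 1)
    {ν : MulAut Q} (hν : ν ∈ F.autGroup Q) (hfix : ∀ x : Q, (x : Ω) ∈ B → ν x = x) :
    ν ∈ autInducedBy S Q := by
  classical
  haveI : Finite Q := finite_of_le hQS
  obtain ⟨-, R₀, hR₀⟩ := hQa
  let U : Subgroup (F.autGroup Q) :=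
    { carrier := {g | ∀ x : Q, (x : Ω) ∈ B → (g : MulAut Q) x = x}
      mul_mem' := by
        intro a b ha hb x hx
        change (a : MulAut Q) ((b : MulAut Q) x) = x
        rw [hb x hx, ha x hx]
      one_mem' := fun _ _ => rfl
      inv_mem' := by
        intro a ha x hx
        change ((a : MulAut Q))⁻¹ x = x
        conv_lhs => rw [← ha x hx]
        exact MulAut.inv_apply_self _ _ _ }
  have hUp : IsPGroup p U := by
    refine IsPGroup.iff_orderOf.2 fun g => ?_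
    have hg : ((g : F.autGroup Q) : MulAut Q) ∈ F.autGroup Q := (g : F.autGroup Q).2
    have hgf : ∀ x : Q, (x : Ω) ∈ B → ((g : F.autGroup Q) : MulAut Q) x = x := g.2
    set a : MulAut Q := ((g : F.autGroup Q) : MulAut Q) with ha
    have hord : orderOf g = orderOf a := by
      rw [ha, Subgroup.orderOf_coe, Subgroup.orderOf_coe]
    have hm0 : orderOf a ≠ 0 := (orderOf_pos a).ne'
    obtain ⟨k, m, hpm, hm⟩ := Nat.exists_eq_pow_mul_and_not_dvd hm0 p hp.out.ne_one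
    refine ⟨k, ?_⟩
    rw [hord]
    have hdvd : p ^ k ∣ orderOf a := ⟨m, hm⟩
    have hk0 : p ^ k ≠ 0 := pow_ne_zero _ hp.out.ne_zero
    have h1 : orderOf (a ^ p ^ k) = m := by
      rw [orderOf_pow_of_dvd hk0 hdvd, hm, Nat.mul_div_cancel_left _ (Nat.pos_of_ne_zero hk0)]
    have hc : (orderOf (a ^ p ^ k)).Coprime p := by
      rw [h1]
      exact ((Nat.Prime.coprime_iff_not_dvd hp.out).2 hpm).symm
    have hfixp : ∀ (j : ℕ) (x : Q), (x : Ω) ∈ B → (a ^ j) x = x := by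
      intro j
      induction j with
      | zero => intro x _; rfl
      | succ j ih =>
        intro x hx
        rw [pow_succ, MulAut.mul_apply, hgf x hx, ih x hx]
    have h2 := h0 (a ^ p ^ k) (Subgroup.pow_mem _ hg _) hc (fun x hx => hfixp _ x hx)
    have h3 : m = 1 := by
      rw [← h1, h2, orderOf_one]
    rw [hm, h3, mul_one]
  have hnorm : (R₀ : Subgroup (F.autGroup Q)) ≤ Subgroup.normalizer (U : Subgroup (F.autGroup Q)) := by
    intro t ht
    have ht' : (t : MulAut Q) ∈ autInducedBy S Q := by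
      have : t ∈ (autInducedBy S Q).subgroupOf (F.autGroup Q) := hR₀ ▸ ht
      exact Subgroup.mem_subgroupOf.1 this
    obtain ⟨g, hgS, hg⟩ := mem_autInducedBy_iff.1 ht'
    have hgN : g ∈ normalizerIn S Q := ⟨hgS, mem_normalizer_of_aut hg⟩
    have hgB := hBN hgN
    have hginvB := Subgroup.inv_mem _ hgB
    have htB : ∀ x : Q, (x : Ω) ∈ B → (((t : MulAut Q) x : Q) : Ω) ∈ B := by
      intro x hx
      rw [hg]
      exact (Subgroup.mem_normalizer_iff.1 hgB x).1 hx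
    have htiB : ∀ x : Q, (x : Ω) ∈ B → ((((t : MulAut Q))⁻¹ x : Q) : Ω) ∈ B := by
      intro x hx
      have h1 := hg (((t : MulAut Q))⁻¹ x)
      rw [MulAut.apply_inv_self] at h1
      have h2 : (((t : MulAut Q))⁻¹ x : Q) = (⟨g⁻¹ * x * g, by
          rw [show (g⁻¹ * x * g : Ω) = ((((t : MulAut Q))⁻¹ x : Q) : Ω) by
            rw [h1]; group]
          exact (((t : MulAut Q))⁻¹ x).2⟩ : Q) := by
        apply Subtype.ext
        simp only
        rw [h1]
        group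
      rw [h2]
      have h3 := (Subgroup.mem_normalizer_iff.1 hginvB x).1 hx
      simpa using h3
    refine Subgroup.mem_normalizer_iff.2 fun h => ⟨fun hh => ?_, fun hh => ?_⟩
    · intro x hx
      change (t : MulAut Q) ((h : MulAut Q) (((t : MulAut Q))⁻¹ x)) = x
      rw [hh _ (htiB x hx), MulAut.apply_inv_self]
    · intro x hx
      have h1 := hh _ (htB x hx)
      change (t : MulAut Q) ((h : MulAut Q) (((t : MulAut Q))⁻¹ ((t : MulAut Q) x))) = (t : MulAut Q) x at h1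
      rw [MulAut.inv_apply_self] at h1
      exact (t : MulAut Q).injective h1
  have hsup : IsPGroup p ((R₀ : Subgroup (F.autGroup Q)) ⊔ U : Subgroup (F.autGroup Q)) :=
    IsPGroup.to_sup_of_normal_right' R₀.isPGroup' hUp hnorm
  have heq := R₀.is_maximal' hsup le_sup_left
  have hmem : (⟨ν, hν⟩ : F.autGroup Q) ∈ (R₀ : Subgroup (F.autGroup Q)) := by
    have : (⟨ν, hν⟩ : F.autGroup Q) ∈ (R₀ : Subgroup (F.autGroup Q)) ⊔ U :=
      Subgroup.mem_sup_right (show (⟨ν, hν⟩ : F.autGroup Q) ∈ U from hfix)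
    rw [heq] at this
    exact this
  have := hR₀ ▸ hmem
  exact Subgroup.mem_subgroupOf.1 this

omit [Finite S] [hp : Fact p.Prime] in
/-- An element of `S` normalizing `B` normalizes `C_S(B)`. -/
theorem mem_normalizer_centralizerIn {B : Subgroup Ω} {s : Ω} (hsS : s ∈ S)
    (hsN : s ∈ Subgroup.normalizer (B : Set Ω)) :
    s ∈ Subgroup.normalizer (centralizerIn S B : Set Ω) := by
  have key : ∀ {s x : Ω}, s ∈ S → s ∈ Subgroup.normalizer (B : Set Ω) → x ∈ centralizerIn S B →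
      s * x * s⁻¹ ∈ centralizerIn S B := by
    intro s x hsS hsN hx
    refine ⟨S.mul_mem (S.mul_mem hsS hx.1) (S.inv_mem hsS), Subgroup.mem_centralizer_iff.2 fun h hh => ?_⟩
    have h' : s⁻¹ * h * s ∈ B := by
      have := (Subgroup.mem_normalizer_iff.1 (Subgroup.inv_mem _ hsN) h).1 hh
      simpa using this
    have hc := Subgroup.mem_centralizer_iff.1 hx.2 _ h'
    calc h * (s * x * s⁻¹) = s * ((s⁻¹ * h * s) * x) * s⁻¹ := by group
      _ = s * (x * (s⁻¹ * h * s)) * s⁻¹ := by rw [hc]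
      _ = s * x * s⁻¹ * h := by group
  refine Subgroup.mem_normalizer_iff.2 fun x => ⟨fun hx => key hsS hsN hx, fun hx => ?_⟩
  have := key (S.inv_mem hsS) (Subgroup.inv_mem _ hsN) hx
  simpa [mul_assoc] using this

/-- The key step: maps of `F` on larger subgroups lie in `E`, and `E`, `F` agree on small abelian subgroups of the
hyperfocal subgroup. Then `E` contains `Aut_F(Q)` for `Q` fully normalized. -/
theorem autGroup_le_of_small (hS : IsPGroup p S) (hE : E.IsSaturated p) (hF : F.IsSaturated p) (hEF : E ≤ F)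
    (hSm : ∀ A : Subgroup Ω, A ≤ F.hyperfocalSubgroup p → (∀ a ∈ A, ∀ b ∈ A, a * b = b * a) →
      (∀ a ∈ A, a ^ SmallElements.smallExp p = 1) → ∀ φ : A →* Ω, φ ∈ F.Hom A → φ ∈ E.Hom A)
    {Q : Subgroup Ω} (hQ : F.IsFullyNormalized Q)
    (IH : ∀ R : Subgroup Ω, Nat.card Q < Nat.card R → ∀ θ : R →* Ω, θ ∈ F.Hom R → θ ∈ E.Hom R) :
    F.autGroup Q ≤ E.autGroup Q := by
  classical
  have hQS : Q ≤ S := hQ.1
  haveI hQfin : Finite Q := finite_of_le hQS
  obtain ⟨-, hQa⟩ := Saturated.fullyNormalized_props hS hF hQ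
  have hQr := Saturated.fullyNormalized_receptive hS hF hQ
  have hQE : E.IsFullyNormalized Q := by
    refine ⟨hQS, fun R hR => hQ.2 R ?_⟩
    obtain ⟨φ, hφ, hr⟩ := hR
    exact ⟨φ, hEF Q hφ, hr⟩
  have hExt : Alperin.extendingAuts F Q ≤ E.autGroup Q :=
    Alperin.extendingAuts_le_of (fun R hQR θ hθ => by
      haveI : Finite R := finite_of_le (source_le hθ)
      have hc : Nat.card Q < Nat.card R := by
        refine lt_of_le_of_ne (Subgroup.card_le_of_le hQR.le) fun he => hQR.ne ?_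
        exact Subgroup.eq_of_le_of_card_ge hQR.le he.ge
      exact IH R hc θ hθ)
  by_cases hC : centralizerIn S Q ≤ Q
  swap
  · exact (Alperin.autGroup_le_extendingAuts_of_not_centralizer_le hQr hC).trans hExt
  have hT := Hyperfocal.stronglyClosed_hyperfocal (F := F) hS hF
  have hPN : normalizerIn S Q ≤ Subgroup.normalizer (Q : Set Ω) := inf_le_right
  obtain ⟨B, hBQ, hBD, hBc, hBs, hBN, hBf⟩ := exists_small_in (P := normalizerIn S Q) (Q := Q)
    (D := F.hyperfocalSubgroup p) normalizerIn_le hS (le_normalizerIn hQS) hPN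
    (normalizerIn_le.trans (NormalCR.StronglyClosed.le_normalizer hT))
    (SmallElements.dvd_smallExp) (SmallElements.dvd_choose_smallExp)
  have h0 : ∀ ν ∈ F.autGroup Q, (orderOf ν).Coprime p → (∀ x : Q, (x : Ω) ∈ B → ν x = x) → ν = 1 := by
    intro ν hν hc hfix
    refine eq_one_of_fix_hyperfocal hS hQS hν hc ?_
    exact hBf ν hc (fun x hx => FocalClosed.map_mem_of_stronglyClosed hT (autGroup_mem_hom hQS hν) x hx) hfix
  have hU : ∀ ν ∈ F.autGroup Q, (∀ x : Q, (x : Ω) ∈ B → ν x = x) → ν ∈ autInducedBy S Q :=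
    fun ν hν hfix => mem_autInducedBy_of_fix hQS hQa hBN h0 hν hfix
  have hQNB : Q ≤ Subgroup.normalizer (B : Set Ω) := (le_normalizerIn hQS).trans hBN
  intro y hy
  have hφy := autGroup_mem_hom hQS hy
  -- the map on `B`
  let θ : B →* Ω := (Q.subtype.comp y.toMonoidHom).comp (Subgroup.inclusion hBQ)
  have hθF : θ ∈ F.Hom B := res_mem hφy hBQ
  have hθE : θ ∈ E.Hom B := hSm B hBD hBc hBs θ hθF
  have hB₁S : θ.range ≤ S := range_le hθF
  obtain ⟨B₂, hB₁₂, hB₂⟩ := Saturated.exists_fullyNormalized (F := E) hB₁S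
  obtain ⟨ρ, hρ, hρv, hρm⟩ := Saturated.exists_map_to_fullyNormalized hS hE hB₂ hB₁₂
  -- `Q` normalizes the image of `B`
  have hθconj : ∀ (q : Q) (b : B) (h : (q : Ω) * (b : Ω) * (q : Ω)⁻¹ ∈ B),
      θ ⟨_, h⟩ = ((y q : Q) : Ω) * θ b * ((y q : Q) : Ω)⁻¹ := by
    intro q b h
    have e : (Subgroup.inclusion hBQ ⟨_, h⟩ : Q) = q * (Subgroup.inclusion hBQ b) * q⁻¹ := rfl
    change ((y (Subgroup.inclusion hBQ ⟨_, h⟩) : Q) : Ω) = _
    rw [e, map_mul, map_mul, map_inv]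
    rfl
  have hQconjB : ∀ (q : Q) (b : B), (q : Ω) * (b : Ω) * (q : Ω)⁻¹ ∈ B := fun q b =>
    (Subgroup.mem_normalizer_iff.1 (hQNB q.2) b).1 b.2
  have hQN₁ : Q ≤ normalizerIn S θ.range := by
    intro u hu
    have hyq : ((y (y⁻¹ ⟨u, hu⟩) : Q) : Ω) = u := by rw [MulAut.apply_inv_self]
    refine ⟨hQS hu, Subgroup.mem_normalizer_iff.2 fun w => ⟨?_, ?_⟩⟩
    · rintro ⟨b, rfl⟩
      refine ⟨⟨_, hQconjB (y⁻¹ ⟨u, hu⟩) b⟩, ?_⟩
      rw [hθconj, hyq]
    · rintro ⟨b, hb⟩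
      have h1 := hθconj (y⁻¹ ⟨u, hu⟩)⁻¹ b (hQconjB _ b)
      refine ⟨⟨_, hQconjB (y⁻¹ ⟨u, hu⟩)⁻¹ b⟩, ?_⟩
      rw [h1, map_inv]
      simp only [Subgroup.coe_inv, inv_inv, hyq, hb]
      group
  let ζ : Q →* Ω := ρ.comp (Subgroup.inclusion hQN₁)
  have hζ : ζ ∈ E.Hom Q := res_mem hρ hQN₁
  let τ : Q →* Ω := ζ.comp y.toMonoidHom
  have hτF : τ ∈ F.Hom Q := comp_mem' hφy (hEF Q hζ) (fun x => (y x).2) (χ := τ) (fun x => rfl)
  let φ₂ : B →* Ω := τ.comp (Subgroup.inclusion hBQ)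
  have hθN : ∀ x : B, θ x ∈ normalizerIn S θ.range := fun x => hQN₁ (y _).2
  have hφ₂E : φ₂ ∈ E.Hom B := comp_mem' hθE hρ hθN (χ := φ₂) (fun x => rfl)
  have hφ₂r : φ₂.range = B₂ := by
    rw [← hρm]
    ext z
    constructor
    · rintro ⟨b, rfl⟩
      exact ⟨⟨θ b, hθN b⟩, Subgroup.mem_subgroupOf.2 ⟨b, rfl⟩, rfl⟩
    · rintro ⟨⟨v, hvN⟩, hv, rfl⟩
      obtain ⟨b, hb⟩ := Subgroup.mem_subgroupOf.1 hv
      refine ⟨b, ?_⟩
      change ρ ⟨θ b, hθN b⟩ = ρ ⟨v, hvN⟩
      congr 1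
      exact Subtype.ext hb
  have hB₂r := Saturated.fullyNormalized_receptive hS hE hB₂
  obtain ⟨ψ, hψ, hψe⟩ := hB₂r.2 B φ₂ hφ₂E hφ₂r
  have hτconj : ∀ (u : Q) (b : B) (h : (u : Ω) * (b : Ω) * (u : Ω)⁻¹ ∈ B),
      φ₂ ⟨_, h⟩ = τ u * φ₂ b * (τ u)⁻¹ := by
    intro u b h
    have e : (Subgroup.inclusion hBQ ⟨_, h⟩ : Q) = u * (Subgroup.inclusion hBQ b) * u⁻¹ := rfl
    change τ (Subgroup.inclusion hBQ ⟨_, h⟩) = _
    rw [e, map_mul, map_mul, map_inv]
    rfl
  have hQext : Q ≤ extender S B φ₂ := by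
    intro u hu
    refine extender_closure_mem (hQS hu) (hQNB hu) (map_mem_S hτF ⟨u, hu⟩) ?_
    intro x hx
    exact hτconj ⟨u, hu⟩ x hx
  let w : Q →* Ω := ψ.comp (Subgroup.inclusion hQext)
  have hw : w ∈ E.Hom Q := res_mem hψ hQext
  have hwB : ∀ b : B, w (Subgroup.inclusion hBQ b) = τ (Subgroup.inclusion hBQ b) := by
    intro b
    exact hψe b b.2 (hQext (hBQ b.2))
  have hEFa : E.autGroup Q ≤ F.autGroup Q := Subgroup.closure_mono (fun α hα => hEF Q hα)
  by_cases hk : ∃ k ∈ centralizerIn S B₂, k ∈ Subgroup.normalizer (ζ.range : Set Ω) ∧ k ∉ ζ.range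
  · -- a new element of the normalizer of the image of `Q`
    obtain ⟨k, hkK, hkN, hkQ⟩ := hk
    have hkS : k ∈ S := hkK.1
    obtain ⟨ζi, hζi, hζir, -, -⟩ := exists_inv hζ rfl
    have hconj : E.IsConj ζ.range Q := ⟨ζi, hζi, hζir⟩
    obtain ⟨ϖ, hϖ, hϖv, hϖm⟩ := Saturated.exists_map_to_fullyNormalized hS hE hQE hconj
    have hQ₂S : ζ.range ≤ S := range_le hζ
    have hQ₂N₂ : ζ.range ≤ normalizerIn S ζ.range := le_normalizerIn hQ₂S
    have hkN₂ : k ∈ normalizerIn S ζ.range := ⟨hkS, hkN⟩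
    have hζN₂ : ∀ x : Q, ζ x ∈ normalizerIn S ζ.range := fun x => hQ₂N₂ ⟨x, rfl⟩
    let Θ₀ : Q →* Ω := ϖ.comp (ζ.codRestrict _ hζN₂)
    have hΘ₀ : Θ₀ ∈ E.Hom Q := comp_mem' hζ hϖ hζN₂ (χ := Θ₀) (fun x => rfl)
    have hΘ₀v : ∀ x, Θ₀ x ∈ Q := by
      intro x
      exact hϖm.le ⟨⟨ζ x, hζN₂ x⟩, Subgroup.mem_subgroupOf.2 ⟨x, rfl⟩, rfl⟩
    let Θ : MulAut Q := Saturated2.autOfHom Θ₀ (E.injective_of_mem hΘ₀) hΘ₀v
    have hΘE : Θ ∈ E.autGroup Q := Saturated2.autOfHom_mem hΘ₀ hΘ₀v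
    let γ : MulAut Q := Θ * y
    have hγ : γ ∈ F.autGroup Q := Subgroup.mul_mem _ (hEFa hΘE) hy
    have hγv : ∀ x : Q, ((γ x : Q) : Ω) = ϖ ⟨τ x, hζN₂ (y x)⟩ := fun x => rfl
    let c₀ : Ω := ϖ ⟨k, hkN₂⟩
    have hc₀N : c₀ ∈ normalizerIn S Q := hϖv _
    have hc₀S : c₀ ∈ S := hc₀N.1
    have hc₀Q : c₀ ∉ Q := by
      intro h
      rw [← hϖm] at h
      obtain ⟨⟨z, hzN⟩, hz, hze⟩ := h
      have h1 := E.injective_of_mem hϖ hze
      have h2 : z = k := congrArg Subtype.val h1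
      exact hkQ (h2 ▸ (Subgroup.mem_subgroupOf.1 hz))
    have hcomm : ∀ b : B, c₀ * ((γ (Subgroup.inclusion hBQ b) : Q) : Ω) = ((γ (Subgroup.inclusion hBQ b) : Q) : Ω) * c₀ := by
      intro b
      have hb₂ : φ₂ b ∈ B₂ := hφ₂r ▸ (⟨b, rfl⟩ : φ₂ b ∈ φ₂.range)
      have h1 : φ₂ b * k = k * φ₂ b := Subgroup.mem_centralizer_iff.1 hkK.2 _ hb₂
      have h2 : (⟨φ₂ b, hζN₂ (y (Subgroup.inclusion hBQ b))⟩ : normalizerIn S ζ.range) * ⟨k, hkN₂⟩ =
          ⟨k, hkN₂⟩ * ⟨φ₂ b, hζN₂ (y (Subgroup.inclusion hBQ b))⟩ := Subtype.ext h1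
      have h3 := congrArg ϖ h2
      rw [map_mul, map_mul] at h3
      exact h3.symm
    let ν₀ : MulAut Q := γ⁻¹ * normConj c₀ hc₀N.2 * γ
    have hν₀ : ν₀ ∈ F.autGroup Q :=
      Subgroup.mul_mem _ (Subgroup.mul_mem _ (Subgroup.inv_mem _ hγ)
        (autInducedBy_le_autGroup hQS (normConj_mem_autInducedBy hc₀S hc₀N.2))) hγ
    have hν₀form : ∀ x : Q, ((γ (ν₀ x) : Q) : Ω) = c₀ * ((γ x : Q) : Ω) * c₀⁻¹ := by
      intro x
      change ((γ (γ⁻¹ (normConj c₀ hc₀N.2 (γ x))) : Q) : Ω) = _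
      rw [MulAut.apply_inv_self]
      rfl
    have hν₀fix : ∀ x : Q, (x : Ω) ∈ B → ν₀ x = x := by
      intro x hx
      apply γ.injective
      apply Subtype.ext
      rw [hν₀form]
      have h1 := hcomm ⟨x, hx⟩
      have e : (Subgroup.inclusion hBQ ⟨(x : Ω), hx⟩ : Q) = x := rfl
      rw [e] at h1
      rw [h1]
      group
    obtain ⟨d, hdS, hd⟩ := mem_autInducedBy_iff.1 (hU ν₀ hν₀ hν₀fix)
    have hdN := mem_normalizer_of_aut hd
    have hdQ : d ∉ Q := by
      intro hdq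
      apply hc₀Q
      let g : Q := γ ⟨d, hdq⟩
      have h1 : ∀ x : Q, c₀ * ((γ x : Q) : Ω) * c₀⁻¹ = (g : Ω) * ((γ x : Q) : Ω) * (g : Ω)⁻¹ := by
        intro x
        rw [← hν₀form]
        have e : ν₀ x = ⟨d, hdq⟩ * x * ⟨d, hdq⟩⁻¹ := Subtype.ext (hd x)
        rw [e, map_mul, map_mul, map_inv]
        rfl
      have h2 : (g : Ω)⁻¹ * c₀ ∈ centralizerIn S Q := by
        refine ⟨S.mul_mem (S.inv_mem (hQS g.2)) hc₀S, Subgroup.mem_centralizer_iff.2 fun z hz => ?_⟩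
        have h3 := h1 (γ⁻¹ ⟨z, hz⟩)
        rw [MulAut.apply_inv_self] at h3
        have h4 : c₀ * z = (g : Ω) * z * (g : Ω)⁻¹ * c₀ := by
          rw [← h3]
          group
        calc z * ((g : Ω)⁻¹ * c₀) = (g : Ω)⁻¹ * ((g : Ω) * z * (g : Ω)⁻¹ * c₀) := by group
          _ = (g : Ω)⁻¹ * (c₀ * z) := by rw [h4]
          _ = (g : Ω)⁻¹ * c₀ * z := by group
      have h5 := Q.mul_mem g.2 (hC h2)
      simpa using h5
    have hγext : γ ∈ Alperin.extendingAuts F Q := by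
      refine Alperin.mem_extendingAuts_of_receptive hQr hγ hdS hc₀S hdN hdQ ?_
      intro x hx
      have e : (⟨d * (x : Ω) * d⁻¹, hx⟩ : Q) = ν₀ x := Subtype.ext (hd x).symm
      rw [e, hν₀form]
    have hfin := Subgroup.mul_mem _ (Subgroup.inv_mem _ hΘE) (hExt hγext)
    have e : Θ⁻¹ * γ = y := inv_mul_cancel_left Θ y
    rwa [e] at hfin
  · push Not at hk
    have hnormK : ζ.range ≤ Subgroup.normalizer (centralizerIn S B₂ : Set Ω) := by
      rintro _ ⟨u, rfl⟩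
      have hN : ζ u ∈ normalizerIn S B₂ := hρv _
      exact mem_normalizer_centralizerIn hN.1 hN.2
    have hKle : centralizerIn S B₂ ≤ ζ.range := by
      by_contra hne
      have hMS : ζ.range ⊔ centralizerIn S B₂ ≤ S := sup_le (range_le hζ) centralizerIn_le
      haveI : Finite (ζ.range ⊔ centralizerIn S B₂ : Subgroup Ω) := finite_of_le hMS
      have hMp : IsPGroup p (ζ.range ⊔ centralizerIn S B₂ : Subgroup Ω) := isPGroup_of_le hS hMS
      have hne2 : ζ.range ≠ ζ.range ⊔ centralizerIn S B₂ := fun h => hne (by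
        rw [h]
        exact le_sup_right)
      have hlt := Alperin.lt_normalizerIn hMp le_sup_left hne2
      obtain ⟨c, hcN, hcQ⟩ := SetLike.exists_of_lt hlt
      obtain ⟨a, ha, b, hb, rfl⟩ := GroupSylow.exists_mul_of_mem_sup hnormK hcN.1
      have hbN : b ∈ Subgroup.normalizer (ζ.range : Set Ω) := by
        have h1 := Subgroup.mul_mem _ (Subgroup.inv_mem _ (Subgroup.le_normalizer ha)) hcN.2
        simpa using h1
      exact hcQ (ζ.range.mul_mem ha (hk b hb hbN))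
    have hτQ₂ : ∀ u : Q, τ u ∈ ζ.range := fun u => ⟨y u, rfl⟩
    have hwv : ∀ u : Q, w u ∈ ζ.range := by
      intro u
      have ht : (τ u)⁻¹ * w u ∈ centralizerIn S B₂ := by
        refine ⟨S.mul_mem (S.inv_mem (map_mem_S hτF u)) (map_mem_S (hEF Q hw) u),
          Subgroup.mem_centralizer_iff.2 fun h hh => ?_⟩
        rw [← hφ₂r] at hh
        obtain ⟨b, rfl⟩ := hh
        have h1 := hτconj u b (hQconjB u b)
        have h2 : φ₂ ⟨_, hQconjB u b⟩ = w u * φ₂ b * (w u)⁻¹ := by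
          have e : (Subgroup.inclusion hBQ ⟨_, hQconjB u b⟩ : Q) = u * (Subgroup.inclusion hBQ b) * u⁻¹ := rfl
          have h3 := hwB ⟨_, hQconjB u b⟩
          change τ (Subgroup.inclusion hBQ ⟨_, hQconjB u b⟩) = _
          rw [← h3, e, map_mul, map_mul, map_inv]
          have h4 : w (Subgroup.inclusion hBQ b) = φ₂ b := hwB b
          rw [h4]
        rw [h1] at h2
        have h5 : τ u * φ₂ b * (τ u)⁻¹ * w u = w u * φ₂ b := by
          rw [h2]
          group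
        calc φ₂ b * ((τ u)⁻¹ * w u) = (τ u)⁻¹ * (τ u * φ₂ b * (τ u)⁻¹ * w u) := by group
          _ = (τ u)⁻¹ * (w u * φ₂ b) := by rw [h5]
          _ = (τ u)⁻¹ * w u * φ₂ b := by group
      have h1 := ζ.range.mul_mem (hτQ₂ u) (hKle ht)
      simpa using h1
    haveI : Finite ζ.range := finite_of_le (range_le hζ)
    have hwr : w.range = ζ.range := range_eq_of_card hw hwv (card_eq_of_range hζ rfl).ge
    obtain ⟨wi, hwi, hwir, hwi1, hwi2⟩ := exists_inv hw hwr
    let ν₁ : Q →* Ω := wi.comp (τ.codRestrict ζ.range hτQ₂)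
    have hν₁ : ν₁ ∈ F.Hom Q := comp_mem' hτF (hEF _ hwi) hτQ₂ (χ := ν₁) (fun x => rfl)
    have hν₁v : ∀ x, ν₁ x ∈ Q := by
      intro x
      exact hwir.le ⟨_, rfl⟩
    let ν : MulAut Q := Saturated2.autOfHom ν₁ (F.injective_of_mem hν₁) hν₁v
    have hνF : ν ∈ F.autGroup Q := Saturated2.autOfHom_mem hν₁ hν₁v
    have hνfix : ∀ x : Q, (x : Ω) ∈ B → ν x = x := by
      intro x hx
      apply Subtype.ext
      have e : (Subgroup.inclusion hBQ ⟨(x : Ω), hx⟩ : Q) = x := rfl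
      have h1 := hwB ⟨x, hx⟩
      rw [e] at h1
      change wi ⟨τ x, hτQ₂ x⟩ = x
      have e2 : (⟨τ x, hτQ₂ x⟩ : ζ.range) = ⟨w x, hwv x⟩ := Subtype.ext h1.symm
      rw [e2]
      exact hwi1 x (hwv x)
    have hνE : ν ∈ E.autGroup Q := autInducedBy_le_autGroup hQS (hU ν hνF hνfix)
    have hνH := autGroup_mem_hom hQS hνE
    have hτE : τ ∈ E.Hom Q := by
      refine comp_mem' hνH hw (fun x => (ν x).2) (χ := τ) (fun x => ?_)
      have h1 := hwi2 ⟨τ x, hτQ₂ x⟩ (hν₁v x)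
      exact h1.symm
    obtain ⟨ζi, hζi, -, hζi1, -⟩ := exists_inv hζ rfl
    apply mem_autGroup_of_mem
    refine comp_mem' hτE hζi hτQ₂ (χ := Q.subtype.comp y.toMonoidHom) (fun x => ?_)
    exact (hζi1 (y x) (hτQ₂ x)).symm

/-- Small abelian subgroups of the hyperfocal subgroup control fusion. -/
theorem le_of_small (hS : IsPGroup p S) (hE : E.IsSaturated p) (hF : F.IsSaturated p) (hEF : E ≤ F)
    (hSm : ∀ A : Subgroup Ω, A ≤ F.hyperfocalSubgroup p → (∀ a ∈ A, ∀ b ∈ A, a * b = b * a) →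
      (∀ a ∈ A, a ^ SmallElements.smallExp p = 1) → ∀ φ : A →* Ω, φ ∈ F.Hom A → φ ∈ E.Hom A) :
    F ≤ E := by
  have key : ∀ n : ℕ, ∀ P : Subgroup Ω, Nat.card S - Nat.card P = n → ∀ φ : P →* Ω, φ ∈ F.Hom P → φ ∈ E.Hom P := by
    intro n
    induction n using Nat.strong_induction_on with
    | _ n ih =>
      intro P hn φ hφ
      have hPS : P ≤ S := source_le hφ
      obtain ⟨Q, hPQ, hQa, hQr⟩ := hF P hPS
      have hIH : ∀ R : Subgroup Ω, Nat.card P < Nat.card R → ∀ θ : R →* Ω, θ ∈ F.Hom R → θ ∈ E.Hom R := by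
        intro R hR θ hθ
        have hRS : R ≤ S := source_le hθ
        have hRc : Nat.card R ≤ Nat.card S := Subgroup.card_le_of_le hRS
        exact ih (Nat.card S - Nat.card R) (by omega) R rfl θ hθ
      have hcard : Nat.card P = Nat.card Q := IsConj.card_eq hPQ
      refine Alperin.hom_mem_of_larger hS hQa hQr hPQ hIH ?_ φ hφ
      refine autGroup_le_of_small hS hE hF hEF hSm (Alperin.isFullyNormalized_of_good hS hQa hQr) ?_
      rw [← hcard]
      exact hIH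
  intro P φ hφ
  exact key _ P rfl φ hφ

end System

end Cfsg.Agent.Lib.Fusion.SmallControl
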