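/-
Thompson transfer for saturated fusion systems on `2`-groups. A sign-valued transfer of an involution `g`, computed
coset by coset: non-fixed cosets cancel in pairs; the fixed cosets of value `1` are moved in pairs by `C_S(g)`, when
`g` is fully normalized.
-/
import Mathlib
import Cfsg.Agent.Lib.Fusion.CharTransfer

set_option autoImplicit false
set_option linter.style.haveILetI false

universe u

namespace Cfsg.Agent.Lib.Fusion.ThompsonTransfer

open Cfsg Cfsg.FusionSystem Cfsg.Agent.Lib.Fusion.Basic Cfsg.Agent.Lib.Fusion.Saturated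
open Cfsg.Agent.Lib.Fusion.CharTransfer
open MulAction

section Group

variable {U : Type*} [Group U] [Finite U]

/-- The transfer of an involution in a sign character: it is `(-1)^[U:H]`, provided no coset fixed by `g` of value `1`
is fixed by `C`. -/
theorem transfer_eq_neg_one_pow {H : Subgroup U} (lam : H →* ℤˣ) (g : U) (hg : g * g = 1) (C : Subgroup U)
    (hCp : IsPGroup 2 C) (hCg : ∀ c ∈ C, c * g = g * c)
    (hno : ∀ (x : U) (h : x⁻¹ * g * x ∈ H), lam ⟨_, h⟩ = 1 → (∀ c ∈ C, x⁻¹ * c * x ∈ H) → False) :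
    lam.transfer g = (-1) ^ H.index := by
  classical
  haveI : Fintype (U ⧸ H) := Fintype.ofFinite _
  let R : U ⧸ H → U := fun q => Quotient.out q
  have hR : ∀ q, ((R q : U) : U ⧸ H) = q := fun q => QuotientGroup.out_eq' q
  rw [transfer_eq_prod_trEl lam R hR g]
  let f : U ⧸ H → ℤˣ := fun q => lam (trEl R hR g q)
  have hgg : ∀ q : U ⧸ H, g • g • q = q := by
    intro q
    rw [← mul_smul, hg, one_smul]
  -- values on fixed cosets through any representative
  have hfx : ∀ (q : U ⧸ H) (x : U), ((x : U) : U ⧸ H) = q → g • q = q →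
      ∃ h : x⁻¹ * g * x ∈ H, lam ⟨_, h⟩ = f q := by
    intro q x hx hq
    have hx2 : (R q)⁻¹ * x ∈ H := QuotientGroup.eq.1 ((hR q).trans hx.symm)
    have e1 : x⁻¹ * g * x = ((R q)⁻¹ * x)⁻¹ * ((R q)⁻¹ * g * R q) * ((R q)⁻¹ * x) := by group
    have h1 : (R q)⁻¹ * g * R q ∈ H := by
      have := (trEl R hR g q).2
      rw [trEl_coe, hq] at this
      exact this
    have hf : f q = lam ⟨_, h1⟩ := by
      show lam (trEl R hR g q) = _
      congr 1
      apply Subtype.ext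
      rw [trEl_coe, hq]
    have hmem : x⁻¹ * g * x ∈ H := by
      rw [e1]
      exact H.mul_mem (H.mul_mem (H.inv_mem hx2) h1) hx2
    refine ⟨hmem, ?_⟩
    have e2 : (⟨x⁻¹ * g * x, hmem⟩ : H) = (⟨_, hx2⟩ : H)⁻¹ * ⟨_, h1⟩ * ⟨_, hx2⟩ := Subtype.ext e1
    rw [e2, map_mul, map_mul, map_inv, hf]
    exact mul_inv_cancel_comm _ _
  -- the exceptional set
  let P : U ⧸ H → Prop := fun q => g • q = q ∧ f q = 1
  have hPsmul : ∀ (c : U), c ∈ C → ∀ q, P q → P (c • q) := by
    rintro c hc q ⟨hq, hfq⟩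
    have h1 : g • c • q = c • q := by
      rw [← mul_smul, ← hCg c hc, mul_smul, hq]
    refine ⟨h1, ?_⟩
    obtain ⟨hm, hv⟩ := hfx q (R q) (hR q) hq
    obtain ⟨hm2, hv2⟩ := hfx (c • q) (c * R q)
      (by rw [← smul_eq_mul, ← MulAction.Quotient.smul_coe, hR]) h1
    rw [← hv2]
    have e : (⟨(c * R q)⁻¹ * g * (c * R q), hm2⟩ : H) = ⟨_, hm⟩ := by
      apply Subtype.ext
      show (c * R q)⁻¹ * g * (c * R q) = (R q)⁻¹ * g * R q
      have h3 : c⁻¹ * g * c = g := by
        rw [mul_assoc, ← hCg c hc]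
        group
      calc (c * R q)⁻¹ * g * (c * R q) = (R q)⁻¹ * (c⁻¹ * g * c) * R q := by group
        _ = _ := by rw [h3]
    rw [e, hv, hfq]
  let W : SubMulAction C (U ⧸ H) :=
    { carrier := {q | P q}
      smul_mem' := fun c q hq => hPsmul c c.2 q hq }
  have hWeven : Nat.card W ≡ Nat.card (fixedPoints C W) [MOD 2] := hCp.card_modEq_card_fixedPoints W
  have hfixedEmpty : IsEmpty (fixedPoints C W) := by
    constructor
    rintro ⟨⟨q, hq⟩, hfix⟩
    obtain ⟨hm, hv⟩ := hfx q (R q) (hR q) hq.1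
    refine hno (R q) hm (hv.trans hq.2) (fun c hc => ?_)
    have h1 : (⟨c, hc⟩ : C) • (⟨q, hq⟩ : W) = ⟨q, hq⟩ := hfix ⟨c, hc⟩
    have h2 : c • q = q := congrArg Subtype.val h1
    have h3 : ((c * R q : U) : U ⧸ H) = ((R q : U) : U ⧸ H) := by
      rw [hR, ← smul_eq_mul, ← MulAction.Quotient.smul_coe, hR, h2]
    have h4 := QuotientGroup.eq.1 h3.symm
    rw [mul_assoc]
    exact h4
  have hcard0 : Nat.card (fixedPoints C W) = 0 := Nat.card_of_isEmpty
  rw [hcard0] at hWeven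
  -- the product
  let s : Finset (U ⧸ H) := Finset.univ.filter P
  have hcardW : s.card = Nat.card W := by
    rw [Nat.card_eq_fintype_card]
    rw [Fintype.card_of_subtype s (fun q => by simp [s]; rfl)]
  have hprod1 : ∏ q ∈ s, (-f q) = 1 := by
    have h1 : ∀ q ∈ s, -f q = -1 := by
      intro q hq
      have hq' : P q := (Finset.mem_filter.1 hq).2
      rw [hq'.2]
    rw [Finset.prod_congr rfl h1, Finset.prod_const, hcardW]
    have h2 : Even (Nat.card W) := by
      have := hWeven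
      rw [Nat.ModEq] at this
      exact Nat.even_iff.2 this
    exact h2.neg_one_pow
  have hprod2 : ∏ q ∈ Finset.univ.filter (fun q => ¬ P q), (-f q) = 1 := by
    refine Finset.prod_involution (fun a _ => g • a) ?_ ?_ ?_ ?_
    · intro a _
      rw [neg_mul_neg]
      show lam (trEl R hR g a) * lam (trEl R hR g (g • a)) = 1
      rw [← map_mul]
      have e : trEl R hR g a * trEl R hR g (g • a) = 1 := by
        apply Subtype.ext
        show (trEl R hR g a : U) * (trEl R hR g (g • a) : U) = 1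
        rw [trEl_coe, trEl_coe, hgg]
        calc (R (g • a))⁻¹ * g * R a * ((R a)⁻¹ * g * R (g • a)) = (R (g • a))⁻¹ * (g * g) * R (g • a) := by group
          _ = 1 := by rw [hg]; group
      rw [e, map_one]
    · intro a ha hne hfix
      have hnP : ¬ P a := (Finset.mem_filter.1 ha).2
      have hne1 : f a ≠ 1 := fun h => hnP ⟨hfix, h⟩
      have h1 : f a = -1 := (Int.units_eq_one_or _).resolve_left hne1
      apply hne
      rw [h1, neg_neg]
    · intro a ha
      have hnP : ¬ P a := (Finset.mem_filter.1 ha).2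
      refine Finset.mem_filter.2 ⟨Finset.mem_univ _, fun hP => ?_⟩
      have h1 : g • a = a := by
        have := hP.1
        rw [hgg] at this
        exact this.symm
      rw [h1] at hP
      exact hnP hP
    · intro a _
      exact hgg a
  have hmain : ∏ q, (-f q) = 1 := by
    rw [← Finset.prod_filter_mul_prod_filter_not Finset.univ P]
    rw [hprod1, hprod2, one_mul]
  have hmain2 : ∏ q, (-f q) = (-1) ^ (Fintype.card (U ⧸ H)) * ∏ q, f q := by
    have h1 : ∀ q, -f q = (-1) * f q := fun q => by simp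
    simp_rw [h1]
    rw [Finset.prod_mul_distrib, Finset.prod_const]
    rfl
  rw [hmain] at hmain2
  have hidx : H.index = Fintype.card (U ⧸ H) := by
    rw [Subgroup.index, Nat.card_eq_fintype_card]
  rw [hidx]
  show ∏ q, f q = _
  have hsq : ((-1 : ℤˣ) ^ Fintype.card (U ⧸ H)) * ((-1 : ℤˣ) ^ Fintype.card (U ⧸ H)) = 1 := by
    rw [← mul_pow]
    simp
  calc ∏ q, f q = ((-1 : ℤˣ) ^ Fintype.card (U ⧸ H) * (-1 : ℤˣ) ^ Fintype.card (U ⧸ H)) * ∏ q, f q := by
        rw [hsq, one_mul]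
    _ = (-1 : ℤˣ) ^ Fintype.card (U ⧸ H) * ((-1 : ℤˣ) ^ Fintype.card (U ⧸ H) * ∏ q, f q) := by rw [mul_assoc]
    _ = _ := by rw [← hmain2, mul_one]

end Group

section Fusion

variable {Ω : Type u} [Group Ω] {S : Subgroup Ω} {F : FusionSystem S}

/-- The sign character with kernel a subgroup of index `2`. -/
theorem exists_sign {U : Type*} [Group U] (H : Subgroup U) (hH : H.index = 2) :
    ∃ π : U →* ℤˣ, ∀ s, π s = 1 ↔ s ∈ H := by
  classical
  refine ⟨MonoidHom.mk' (fun s => if s ∈ H then 1 else -1) ?_, fun s => ?_⟩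
  · intro a b
    by_cases ha : a ∈ H <;> by_cases hb : b ∈ H <;>
      simp [ha, hb, Subgroup.mul_mem_iff_of_index_two hH]
  · simp only [MonoidHom.mk'_apply]
    by_cases hs : s ∈ H
    · simp [hs]
    · simp only [hs, if_false, iff_false]
      decide

theorem mem_normalizer_of_comm {P : Subgroup Ω} {y : Ω} (hc : ∀ h ∈ P, y * h = h * y) :
    y ∈ Subgroup.normalizer (P : Set Ω) := by
  refine Subgroup.mem_normalizer_iff.2 (fun h => ?_)
  constructor
  · intro hh
    have e : y * h * y⁻¹ = h := by rw [hc h hh]; group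
    rwa [e]
  · intro hh
    have h1 : y * (y * h * y⁻¹) = (y * h * y⁻¹) * y := hc _ hh
    have e2 : y * h * y⁻¹ * y = y * h := by group
    rw [e2] at h1
    have e3 : y * h * y⁻¹ = h := mul_left_cancel h1
    rwa [e3] at hh

/-- In the cyclic group generated by an element of square `1`. -/
theorem mem_zpowers_two {i a : Ω} (hi : i * i = 1) (ha : a ∈ Subgroup.zpowers i) : a = 1 ∨ a = i := by
  obtain ⟨k, rfl⟩ := ha
  have h2 : i ^ (2 : ℤ) = 1 := by
    rw [zpow_two]; exact hi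
  obtain ⟨m, rfl | rfl⟩ := Int.even_or_odd' k
  · left
    show i ^ (2 * m) = 1
    rw [zpow_mul, h2, one_zpow]
  · right
    show i ^ (2 * m + 1) = i
    rw [zpow_add, zpow_mul, h2, one_zpow, one_mul, zpow_one]

variable [Finite S]

theorem exists_conj_data {i i₀ x : Ω} {φ : Subgroup.zpowers i →* Ω} {Q : Subgroup Ω} {ρ : Q →* Ω}
    (hφ : φ ∈ F.Hom (Subgroup.zpowers i)) (hφi : φ ⟨i, Subgroup.mem_zpowers i⟩ = i₀) (hρ : ρ ∈ F.Hom Q) (hxS : x ∈ S)
    (hxQ : x⁻¹ * i₀ * x ∈ Q) :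
    F.IsConjElt i (ρ ⟨_, hxQ⟩) ∧ F.IsConj (Subgroup.zpowers i₀) (Subgroup.zpowers (ρ ⟨_, hxQ⟩)) := by
  have hi₀S : i₀ ∈ S := by
    rw [← hφi]; exact map_mem_S hφ _
  have hZS : Subgroup.zpowers i₀ ≤ S := by
    rw [Subgroup.zpowers_le]; exact hi₀S
  have hc := F.conj_mem hZS (S.inv_mem hxS)
  have hv : ∀ a : Subgroup.zpowers i₀, conjHom (Subgroup.zpowers i₀) x⁻¹ a ∈ Q := by
    intro a
    obtain ⟨k, hk⟩ := a.2
    have hk' : i₀ ^ k = a := hk
    have e : conjHom (Subgroup.zpowers i₀) x⁻¹ a = (x⁻¹ * i₀ * x) ^ k := by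
      show x⁻¹ * (a : Ω) * x⁻¹⁻¹ = _
      rw [← hk', inv_inv]
      have := conj_zpow (a := x⁻¹) (b := i₀) (i := k)
      rw [inv_inv] at this
      exact this.symm
    rw [e]
    exact Q.zpow_mem hxQ k
  have hμ := F.comp_mem hc hρ hv
  set μ := ρ.comp ((conjHom (Subgroup.zpowers i₀) x⁻¹).codRestrict Q hv) with hμdef
  have hμi : μ ⟨i₀, Subgroup.mem_zpowers i₀⟩ = ρ ⟨_, hxQ⟩ := by
    show ρ ⟨x⁻¹ * i₀ * x⁻¹⁻¹, _⟩ = _
    congr 1
    apply Subtype.ext
    show x⁻¹ * i₀ * x⁻¹⁻¹ = x⁻¹ * i₀ * x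
    rw [inv_inv]
  constructor
  · have hv2 : ∀ a : Subgroup.zpowers i, φ a ∈ Subgroup.zpowers i₀ := by
      intro a
      obtain ⟨k, hk⟩ := a.2
      have e : a = (⟨i, Subgroup.mem_zpowers i⟩ : Subgroup.zpowers i) ^ k := Subtype.ext hk.symm
      rw [e, map_zpow, hφi]
      exact Subgroup.zpow_mem _ (Subgroup.mem_zpowers _) k
    refine ⟨μ.comp (φ.codRestrict _ hv2), F.comp_mem hφ hμ hv2, ?_⟩
    show μ ⟨φ ⟨i, _⟩, _⟩ = _
    rw [← hμi]
    congr 1
    exact Subtype.ext hφi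
  · refine ⟨μ, hμ, ?_⟩
    apply le_antisymm
    · rintro _ ⟨a, rfl⟩
      obtain ⟨k, hk⟩ := a.2
      have e : a = (⟨i₀, Subgroup.mem_zpowers i₀⟩ : Subgroup.zpowers i₀) ^ k := Subtype.ext hk.symm
      rw [e, map_zpow, hμi]
      exact Subgroup.zpow_mem _ (Subgroup.mem_zpowers _) k
    · rw [Subgroup.zpowers_le]
      exact ⟨_, hμi⟩

/-- Thompson transfer. -/
theorem not_mem_hyperfocal (hS : IsPGroup 2 S) (hF : F.IsSaturated 2) (T : Subgroup Ω) (hT : T.relIndex S = 2)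
    (i : Ω) (hi : i ∈ S) (hi2 : orderOf i = 2)
    (h : ∀ j : Ω, F.IsConjElt i j → F.IsFullyNormalized (Subgroup.zpowers j) → j ∉ T) :
    i ∉ F.hyperfocalSubgroup 2 := by
  classical
  obtain ⟨π, hπ⟩ := exists_sign (T.subgroupOf S) hT
  have hπ' : ∀ s : S, π s = 1 ↔ (s : Ω) ∈ T := fun s => (hπ s).trans Subgroup.mem_subgroupOf
  obtain ⟨ι, i1, Q, ρ, hρ, hp, hmain⟩ := exists_stable_transfer.{u, 0} (F := F) hS hF
  -- the stable hom
  let V : S →* ℤˣ := ∏ k, (π.comp (rOf (ρ k) (map_mem_S (hρ k)))).transfer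
  have hVapply : ∀ s : S, V s = ∏ k, (π.comp (rOf (ρ k) (map_mem_S (hρ k)))).transfer s := by
    intro s
    show (∏ k, (π.comp (rOf (ρ k) (map_mem_S (hρ k)))).transfer) s = _
    rw [MonoidHom.finsetProd_apply]
  have hV : ∀ {P : Subgroup Ω} {φ : P →* Ω} (hφ : φ ∈ F.Hom P) (a : P),
      V ⟨a, source_le hφ a.2⟩ = V ⟨φ a, map_mem_S hφ a⟩ := by
    intro P φ hφ a
    rw [hVapply, hVapply]
    exact hmain π hφ a
  -- a fully normalized conjugate of `i`
  have hZS : Subgroup.zpowers i ≤ S := by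
    rw [Subgroup.zpowers_le]; exact hi
  obtain ⟨Z₀, ⟨φ, hφ, hφr⟩, hZ₀⟩ := exists_fullyNormalized (F := F) hZS
  set i₀ : Ω := φ ⟨i, Subgroup.mem_zpowers i⟩ with hi₀
  have hi₀S : i₀ ∈ S := map_mem_S hφ _
  have hrange : Subgroup.zpowers i₀ = Z₀ := by
    rw [← hφr]
    apply le_antisymm
    · rw [Subgroup.zpowers_le]
      exact ⟨_, rfl⟩
    · rintro _ ⟨a, rfl⟩
      obtain ⟨k, hk⟩ := a.2
      have e : a = (⟨i, Subgroup.mem_zpowers i⟩ : Subgroup.zpowers i) ^ k := Subtype.ext hk.symm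
      rw [e, map_zpow]
      exact Subgroup.zpow_mem _ (Subgroup.mem_zpowers _) k
  have hFN : F.IsFullyNormalized (Subgroup.zpowers i₀) := hrange ▸ hZ₀
  have hii : i * i = 1 := by
    rw [← pow_two, ← hi2, pow_orderOf_eq_one]
  have hi1 : i ≠ 1 := by
    rintro rfl
    rw [orderOf_one] at hi2
    omega
  have hi₀i₀ : i₀ * i₀ = 1 := by
    rw [hi₀, ← map_mul]
    have e : (⟨i, Subgroup.mem_zpowers i⟩ : Subgroup.zpowers i) * ⟨i, Subgroup.mem_zpowers i⟩ = 1 := Subtype.ext hii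
    rw [e, map_one]
  have hi₀1 : i₀ ≠ 1 := by
    intro h1
    have h2 := F.injective_of_mem hφ (h1.trans (map_one φ).symm)
    exact hi1 (congrArg Subtype.val h2)
  let g : S := ⟨i₀, hi₀S⟩
  let C : Subgroup S := (normalizerIn S (Subgroup.zpowers i₀)).subgroupOf S
  have hCp : IsPGroup 2 C := hS.to_subgroup C
  have hcomm : ∀ {c : Ω}, c ∈ normalizerIn S (Subgroup.zpowers i₀) → c * i₀ = i₀ * c := by
    intro c hc
    have h1 : c * i₀ * c⁻¹ ∈ Subgroup.zpowers i₀ :=
      (Subgroup.mem_normalizer_iff.1 hc.2 i₀).1 (Subgroup.mem_zpowers i₀)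
    rcases mem_zpowers_two hi₀i₀ h1 with h2 | h2
    · exfalso
      apply hi₀1
      have h3 : c * i₀ = c := by
        calc c * i₀ = c * i₀ * c⁻¹ * c := by group
          _ = c := by rw [h2, one_mul]
      exact mul_left_cancel (h3.trans (mul_one c).symm)
    · calc c * i₀ = c * i₀ * c⁻¹ * c := by group
        _ = i₀ * c := by rw [h2]
  have hCg : ∀ c ∈ C, c * g = g * c := fun c hc =>
    Subtype.ext (hcomm (Subgroup.mem_subgroupOf.1 hc))
  -- each transfer
  have hk : ∀ k, (π.comp (rOf (ρ k) (map_mem_S (hρ k)))).transfer g = (-1) ^ ((Q k).subgroupOf S).index := by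
    intro k
    refine transfer_eq_neg_one_pow _ g (Subtype.ext hi₀i₀) C hCp hCg (fun x hxH hv hall => ?_)
    have hxQ : (x : Ω)⁻¹ * i₀ * x ∈ Q k := hxH
    obtain ⟨hc1, hc2⟩ := exists_conj_data hφ rfl (hρ k) x.2 hxQ
    set j : Ω := ρ k ⟨_, hxQ⟩ with hj
    have hjS : j ∈ S := map_mem_S (hρ k) _
    have hjT : j ∈ T := (hπ' ⟨j, hjS⟩).1 hv
    refine h j hc1 ⟨?_, fun R hR => ?_⟩ hjT
    · rw [Subgroup.zpowers_le]; exact hjS
    · refine (hFN.2 R (Basic.IsConj.trans hc2 hR)).trans ?_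
      haveI : Finite (normalizerIn S (Subgroup.zpowers j)) := finite_of_le normalizerIn_le
      have hmemQ : ∀ c : normalizerIn S (Subgroup.zpowers i₀), (x : Ω)⁻¹ * c * x ∈ Q k := by
        intro c
        exact Subgroup.mem_subgroupOf.1 (hall ⟨c, c.2.1⟩ (Subgroup.mem_subgroupOf.2 c.2))
      have hcj : ∀ c : normalizerIn S (Subgroup.zpowers i₀),
          ρ k ⟨_, hmemQ c⟩ * j = j * ρ k ⟨_, hmemQ c⟩ := by
        intro c
        rw [hj, ← map_mul, ← map_mul]
        congr 1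
        apply Subtype.ext
        show (x : Ω)⁻¹ * c * x * ((x : Ω)⁻¹ * i₀ * x) = (x : Ω)⁻¹ * i₀ * x * ((x : Ω)⁻¹ * c * x)
        have h1 := hcomm c.2
        calc (x : Ω)⁻¹ * c * x * ((x : Ω)⁻¹ * i₀ * x) = (x : Ω)⁻¹ * (c * i₀) * x := by group
          _ = (x : Ω)⁻¹ * (i₀ * c) * x := by rw [h1]
          _ = _ := by group
      have hν : ∀ c : normalizerIn S (Subgroup.zpowers i₀),
          ρ k ⟨_, hmemQ c⟩ ∈ normalizerIn S (Subgroup.zpowers j) := by
        intro c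
        refine ⟨map_mem_S (hρ k) _, mem_normalizer_of_comm (fun a ha => ?_)⟩
        obtain ⟨m, rfl⟩ := ha
        exact (Commute.zpow_right (hcj c) m)
      refine Nat.card_le_card_of_injective (fun c => (⟨_, hν c⟩ : normalizerIn S (Subgroup.zpowers j))) ?_
      intro c d hcd
      have h1 : ρ k ⟨_, hmemQ c⟩ = ρ k ⟨_, hmemQ d⟩ := congrArg Subtype.val hcd
      have h2 := F.injective_of_mem (hρ k) h1
      have h3 : (x : Ω)⁻¹ * c * x = (x : Ω)⁻¹ * d * x := congrArg Subtype.val h2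
      apply Subtype.ext
      exact mul_left_cancel (mul_right_cancel h3)
  have hVg : V g = -1 := by
    rw [hVapply, Finset.prod_congr rfl (fun k _ => hk k), Finset.prod_pow_eq_pow_sum]
    exact (Nat.not_even_iff_odd.1 (fun he => hp (even_iff_two_dvd.1 he))).neg_one_pow
  have hVi : V ⟨i, hi⟩ = -1 := by
    rw [← hVg]
    exact hV hφ ⟨i, Subgroup.mem_zpowers i⟩
  intro hmem
  have hle : F.hyperfocalSubgroup 2 ≤ (V.ker).map S.subtype := by
    refine (Subgroup.closure_le _).2 ?_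
    rintro y ⟨P, α, x, hP, -, rfl⟩
    have hhom := autGroup_mem_hom hP α.2
    have h1 := hV hhom x
    have hx : (x : Ω) ∈ S := hP x.2
    have hαx : (((α : MulAut P) x : P) : Ω) ∈ S := hP ((α : MulAut P) x).2
    refine ⟨(⟨x, hx⟩ : S)⁻¹ * ⟨_, hαx⟩, MonoidHom.mem_ker.2 ?_, rfl⟩
    rw [map_mul, map_inv]
    have h2 : V ⟨x, hx⟩ = V ⟨_, hαx⟩ := h1
    rw [h2, inv_mul_cancel]
  obtain ⟨s, hs, hse⟩ := hle hmem
  have e : s = ⟨i, hi⟩ := Subtype.ext hse
  have hs' : V s = 1 := MonoidHom.mem_ker.1 hs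
  rw [e, hVi] at hs'
  exact absurd hs' (by decide)

end Fusion

end Cfsg.Agent.Lib.Fusion.ThompsonTransfer
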