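/-
The case `p = 2`: the structure of an abelian group with a class of transvections.
-/
import Mathlib
import Cfsg.Agent.Lib.Fusion.CenterIndex

set_option autoImplicit false
set_option linter.style.haveILetI false

namespace Cfsg.Agent.Lib.Fusion.TwoCore

open Cfsg Cfsg.FusionSystem Cfsg.Agent.Lib.Fusion.Basic Cfsg.Agent.Lib.Fusion.Saturated
  Cfsg.Agent.Lib.Fusion.Saturated2 Cfsg.Agent.Lib.Fusion.Essential
  Cfsg.Agent.Lib.Fusion.EssentialPair Cfsg.Agent.Lib.Fusion.AbelianMax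
  Cfsg.Agent.Lib.Fusion.TorusCore Cfsg.Agent.Lib.Fusion.Transvection
  Cfsg.Agent.Lib.Fusion.PearlCore Cfsg.Agent.Lib.Fusion.CenterIndex
open scoped commutatorElement

section Core

variable {V : Type*} [Group V]

/-- Elements of the group generated by an involution. -/
theorem mem_zpowers_two {z y : V} (hz : z ^ 2 = 1) (h : y ∈ Subgroup.zpowers z) : y = 1 ∨ y = z := by
  obtain ⟨n, rfl⟩ := h
  rcases Int.even_or_odd' n with ⟨k, rfl | rfl⟩
  · left
    simp only [zpow_mul, zpow_ofNat, hz, one_zpow]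
  · right
    show z ^ (2 * k + 1) = z
    rw [zpow_add, zpow_mul, zpow_ofNat, hz, one_zpow, one_mul, zpow_one]

/-- **The class of transvections** in an abelian group at the prime `2`. -/
theorem tri_core (hV : ∀ u v : V, u * v = v * u) {G : Subgroup (MulAut V)} {t : MulAut V} (htG : t ∈ G)
    {z : V} (hz2 : z ^ 2 = 1) (hz1 : z ≠ 1) (htz : t z = z) (hst : ∀ y, t y = y ∨ t y = y * z)
    (hpair : ∀ α ∈ G, α * t * α⁻¹ ≠ t → t (α z) ≠ α z) {α₀ : MulAut V} (hα₀ : α₀ ∈ G)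
    (hopp : α₀ * t * α₀⁻¹ ≠ t) :
    ∃ (x : V) (C : Subgroup V), x ^ 2 = 1 ∧ t x ≠ x ∧ (∀ c ∈ C, t c = c) ∧ z ∉ C ∧
      (∀ y, t y = y → y ∈ C ∨ y * z ∈ C) ∧ (∀ y, t y = y ∨ t (y * x) = y * x) ∧
      (∀ β ∈ G, ∀ c ∈ C, β c ∈ C) ∧
      (∀ β ∈ G, β z = z ∨ β z = x ∨ β z = z * x) ∧
      (∀ β ∈ G, β x = z ∨ β x = x ∨ β x = z * x) ∧
      (∀ β ∈ G, ∃ β₀ ∈ G, β₀ * t = t * β₀ ∧ ∀ c ∈ C, β c = β₀ c) := by
  have hzz : z * z = 1 := by rw [← pow_two, hz2]
  have hsq : ∀ β : MulAut V, β z * β z = 1 := fun β => by rw [← map_mul, hzz, map_one]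
  -- conjugates
  have hcz : ∀ β : MulAut V, (β * t * β⁻¹) (β z) = β z := by
    intro β
    show β (t (β⁻¹ (β z))) = β z
    rw [MulAut.inv_apply_self, htz]
  have hcs : ∀ (β : MulAut V) y, (β * t * β⁻¹) y = y ∨ (β * t * β⁻¹) y = y * β z := by
    intro β y
    show β (t (β⁻¹ y)) = y ∨ β (t (β⁻¹ y)) = y * β z
    rcases hst (β⁻¹ y) with h | h
    · left
      rw [h, MulAut.apply_inv_self]
    · right
      rw [h, map_mul, MulAut.apply_inv_self]
  have hcpair : ∀ β ∈ G, ∀ γ ∈ G, β * t * β⁻¹ ≠ γ * t * γ⁻¹ → (β * t * β⁻¹) (γ z) ≠ γ z := by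
    intro β hβ γ hγ hne h
    have hα : β⁻¹ * γ ∈ G := G.mul_mem (G.inv_mem hβ) hγ
    have h1 : (β⁻¹ * γ) * t * (β⁻¹ * γ)⁻¹ ≠ t := by
      intro h2
      apply hne
      have e : γ * t * γ⁻¹ = β * ((β⁻¹ * γ) * t * (β⁻¹ * γ)⁻¹) * β⁻¹ := by group
      rw [e, h2]
    apply hpair _ hα h1
    show t (β⁻¹ (γ z)) = β⁻¹ (γ z)
    have h2 : β (t (β⁻¹ (γ z))) = γ z := h
    have h3 : (β⁻¹ : MulAut V) (β (t (β⁻¹ (γ z)))) = (β⁻¹ : MulAut V) (γ z) := by rw [h2]
    rw [MulAut.inv_apply_self] at h3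
    exact h3
  have hcpair' : ∀ β ∈ G, ∀ γ ∈ G, β * t * β⁻¹ ≠ γ * t * γ⁻¹ → (β * t * β⁻¹) (γ z) = γ z * β z := by
    intro β hβ γ hγ hne
    rcases hcs β (γ z) with h | h
    · exact absurd h (hcpair β hβ γ hγ hne)
    · exact h
  have hone : (1 : MulAut V) * t * 1⁻¹ = t := by simp
  have hone' : t = (1 : MulAut V) * t * 1⁻¹ := hone.symm
  -- moved points
  have hmoved : ∀ β : MulAut V, ∃ y, (β * t * β⁻¹) y ≠ y := by
    intro β
    refine ⟨β (α₀ z), ?_⟩
    show β (t (β⁻¹ (β (α₀ z)))) ≠ β (α₀ z)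
    rw [MulAut.inv_apply_self]
    exact fun h => hpair _ hα₀ hopp (β.injective h)
  have hinj1 : ∀ β γ : MulAut V, β * t * β⁻¹ = γ * t * γ⁻¹ → β z = γ z := by
    intro β γ h
    obtain ⟨y, hy⟩ := hmoved β
    have h1 := hcs β y
    have h2 := hcs γ y
    rw [← h] at h2
    rcases h1 with h1 | h1
    · exact absurd h1 hy
    · rcases h2 with h2 | h2
      · exact absurd h2 hy
      · rw [h1] at h2
        exact mul_left_cancel h2
  have hinj2 : ∀ β ∈ G, ∀ γ ∈ G, β z = γ z → β * t * β⁻¹ = γ * t * γ⁻¹ := by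
    intro β hβ γ hγ h
    by_contra hne
    apply hcpair β hβ γ hγ hne
    rw [← h]
    exact hcz β
  set x : V := α₀ z with hxdef
  set t₂ : MulAut V := α₀ * t * α₀⁻¹ with ht₂def
  have hxx : x * x = 1 := hsq α₀
  have hx2 : x ^ 2 = 1 := by rw [pow_two, hxx]
  have htx : t x = x * z := by
    rcases hst x with h | h
    · exact absurd h (hpair _ hα₀ hopp)
    · exact h
  have ht₂z : t₂ z = z * x := by
    exact hcpair' α₀ hα₀ 1 G.one_mem (by rw [hone]; exact hopp)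
  have ht₂x : t₂ x = x := hcz α₀
  have hxne : t x ≠ x := hpair _ hα₀ hopp
  have hxz : x ≠ z := by
    intro h
    apply hxne
    rw [h, htz]
  have hzxcomm : z * x = x * z := hV z x
  -- the class
  have htt₂G : t * α₀ ∈ G := G.mul_mem htG hα₀
  have hγz : (t * α₀) z = x * z := htx
  have hclass : ∀ β ∈ G, β z = z ∨ β z = x ∨ β z = z * x := by
    intro β hβ
    by_contra hcon
    push Not at hcon
    obtain ⟨h1, h2, h3⟩ := hcon
    have hne1 : β * t * β⁻¹ ≠ 1 * t * 1⁻¹ := fun h => h1 (by simpa using hinj1 _ _ h)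
    have hne2 : β * t * β⁻¹ ≠ α₀ * t * α₀⁻¹ := fun h => h2 (by simpa using hinj1 _ _ h)
    have hne3 : β * t * β⁻¹ ≠ (t * α₀) * t * (t * α₀)⁻¹ := fun h => h3 (by
      have := hinj1 _ _ h
      rw [this, hγz, hzxcomm])
    have e1 := hcpair' β hβ 1 G.one_mem hne1
    have e2 := hcpair' β hβ α₀ hα₀ hne2
    apply hcpair β hβ _ htt₂G hne3
    rw [hγz, map_mul]
    simp only [MulAut.one_apply] at e1
    rw [e1, e2]
    calc x * β z * (z * β z) = x * (β z * z) * β z := by group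
      _ = x * (z * β z) * β z := by rw [hV (β z) z]
      _ = x * z * (β z * β z) := by group
      _ = x * z := by rw [hsq, mul_one]
  have hclassx : ∀ β ∈ G, β x = z ∨ β x = x ∨ β x = z * x := fun β hβ => hclass _ (G.mul_mem hβ hα₀)
  -- the fixed points
  let C : Subgroup V :=
    { carrier := {c | t c = c ∧ t₂ c = c}
      mul_mem' := by
        rintro u v ⟨h1, h2⟩ ⟨h3, h4⟩
        exact ⟨by rw [map_mul, h1, h3], by rw [map_mul, h2, h4]⟩
      one_mem' := ⟨map_one _, map_one _⟩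
      inv_mem' := by
        rintro u ⟨h1, h2⟩
        exact ⟨by rw [map_inv, h1], by rw [map_inv, h2]⟩ }
  have hCmem : ∀ c, c ∈ C ↔ t c = c ∧ t₂ c = c := fun c => Iff.rfl
  have hCall : ∀ c ∈ C, ∀ β ∈ G, (β * t * β⁻¹) c = c := by
    intro c hc β hβ
    obtain ⟨h1, h2⟩ := (hCmem c).1 hc
    rcases hclass β hβ with h | h | h
    · have := hinj2 β hβ 1 G.one_mem (by simpa using h)
      rw [this, hone]
      exact h1
    · have := hinj2 β hβ α₀ hα₀ h
      rw [this]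
      exact h2
    · have := hinj2 β hβ _ htt₂G (by rw [h, hγz, hzxcomm])
      rw [this]
      show t (α₀ (t (α₀⁻¹ (t⁻¹ c)))) = c
      have h3 : t⁻¹ c = c := by
        conv_lhs => rw [← h1]
        exact MulAut.inv_apply_self _ t c
      rw [h3]
      have h4 : α₀ (t (α₀⁻¹ c)) = c := h2
      rw [h4, h1]
  have hCinv : ∀ β ∈ G, ∀ c ∈ C, β c ∈ C := by
    intro β hβ c hc
    refine (hCmem _).2 ⟨?_, ?_⟩
    · have h1 := hCall c hc β⁻¹ (G.inv_mem hβ)
      have h2 : β⁻¹ (t (β⁻¹⁻¹ c)) = c := h1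
      rw [inv_inv] at h2
      have h3 := congrArg β h2
      rw [MulAut.apply_inv_self] at h3
      exact h3
    · have h1 := hCall c hc (β⁻¹ * α₀) (G.mul_mem (G.inv_mem hβ) hα₀)
      have h2 : β⁻¹ (α₀ (t (α₀⁻¹ (β c)))) = c := by
        have e : (β⁻¹ * α₀) * t * (β⁻¹ * α₀)⁻¹ = β⁻¹ * (α₀ * t * α₀⁻¹) * β := by group
        rw [e] at h1
        exact h1
      show α₀ (t (α₀⁻¹ (β c))) = β c
      have h3 := congrArg β h2
      rw [MulAut.apply_inv_self] at h3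
      exact h3
  have hκC : ∀ c ∈ C, t₂ c = c ∧ (t * t₂ * t) c = c := by
    intro c hc
    obtain ⟨h1, h2⟩ := (hCmem c).1 hc
    refine ⟨h2, ?_⟩
    show t (t₂ (t c)) = c
    rw [h1, h2, h1]
  refine ⟨x, C, hx2, hxne, fun c hc => ((hCmem c).1 hc).1, ?_, ?_, ?_, hCinv, hclass, hclassx, ?_⟩
  · intro h
    have h1 := ((hCmem z).1 h).2
    rw [ht₂z] at h1
    have h2 : x = 1 := by
      have := mul_left_cancel (a := z) (b := x) (c := 1) (by rw [h1, mul_one])
      exact this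
    apply hxne
    rw [h2, map_one]
  · intro y hy
    rcases hcs α₀ y with h | h
    · left
      exact (hCmem y).2 ⟨hy, h⟩
    · right
      refine (hCmem _).2 ⟨by rw [map_mul, hy, htz], ?_⟩
      have h2 : t₂ y = y * x := h
      rw [map_mul, h2, ht₂z]
      calc y * x * (z * x) = y * (x * z) * x := by group
        _ = y * (z * x) * x := by rw [hzxcomm]
        _ = y * z * (x * x) := by group
        _ = y * z := by rw [hxx, mul_one]
  · intro y
    rcases hst y with h | h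
    · left
      exact h
    · right
      rw [map_mul, h, htx]
      calc y * z * (x * z) = y * (z * x) * z := by group
        _ = y * (x * z) * z := by rw [hzxcomm]
        _ = y * x * (z * z) := by group
        _ = y * x := by rw [hzz, mul_one]
  · intro β hβ
    -- choose `κ`
    have htst : t * t = 1 := by
      ext y
      show t (t y) = y
      rcases hst y with h | h
      · rw [h, h]
      · rw [h, map_mul, h, htz, mul_assoc, hzz, mul_one]
    have ht₂G : t₂ ∈ G := G.mul_mem (G.mul_mem hα₀ htG) (G.inv_mem hα₀)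
    have hκ₀ : ∀ κ ∈ G, κ z = β z → (∀ c ∈ C, κ c = c) →
        ∃ β₀ ∈ G, β₀ * t = t * β₀ ∧ ∀ c ∈ C, β c = β₀ c := by
      intro κ hκ hκz hκc
      have hβ₀ : κ⁻¹ * β ∈ G := G.mul_mem (G.inv_mem hκ) hβ
      refine ⟨κ⁻¹ * β, hβ₀, ?_, fun c hc => ?_⟩
      · have h1 := hinj2 (κ⁻¹ * β) hβ₀ 1 G.one_mem (by
          show κ⁻¹ (β z) = z
          rw [← hκz, MulAut.inv_apply_self])
        rw [hone, mul_inv_eq_iff_eq_mul] at h1
        exact h1
      · have h2 := hκc _ (hCinv _ hβ₀ c hc)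
        have h3 : κ (κ⁻¹ (β c)) = κ⁻¹ (β c) := h2
        rw [MulAut.apply_inv_self] at h3
        rw [h3]
        rfl
    rcases hclass β hβ with h | h | h
    · exact hκ₀ 1 G.one_mem (by simpa using h.symm) (fun c _ => rfl)
    · refine hκ₀ (t * t₂ * t) (G.mul_mem (G.mul_mem htG ht₂G) htG) ?_ (fun c hc => (hκC c hc).2)
      rw [h]
      show t (t₂ (t z)) = x
      rw [htz, ht₂z, map_mul, htz, htx]
      calc z * (x * z) = z * (z * x) := by rw [hzxcomm]
        _ = (z * z) * x := by group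
        _ = x := by rw [hzz, one_mul]
    · exact hκ₀ t₂ ht₂G (by rw [h, ht₂z]) (fun c hc => (hκC c hc).1)

end Core

section Fusion

variable {Ω : Type*} [Group Ω] {S : Subgroup Ω} [Finite S] {F : FusionSystem S}

/-- **The structure of an essential subgroup at the prime `2`.** -/
theorem pearl2 (hS : IsPGroup 2 S) (hF : F.IsSaturated 2) (hna : ¬ IsMulCommutative ↥S)
    (hidx : (Subgroup.center ↥S).index = 2 ^ 2) {E : Subgroup Ω} (hE : F.IsEssential 2 E) {z : Ω}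
    (hzZ : z ∈ cen S) (hz1 : z ≠ 1) (hzp : z ^ 2 = 1)
    (hcomm : ∀ s ∈ S, ∀ t ∈ S, s * t * s⁻¹ * t⁻¹ ∈ Subgroup.zpowers z) :
    ∃ (x : Ω) (C : Subgroup Ω), x ∈ E ∧ C ≤ cen S ∧ x ∉ cen S ∧ x ^ 2 = 1 ∧ z ∉ C ∧
      (∀ y ∈ cen S, y ∈ C ∨ y * z ∈ C) ∧ (∀ y ∈ E, y ∈ cen S ∨ y * x ∈ cen S) ∧
      (∀ β ∈ F.autGroup E, ∀ c : E, (c : Ω) ∈ C → ((β c : E) : Ω) ∈ C) ∧
      (∀ β ∈ F.autGroup E, ∀ w : E, (w : Ω) = z → ((β w : E) : Ω) = z ∨ ((β w : E) : Ω) = x ∨
        ((β w : E) : Ω) = z * x) ∧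
      (∀ β ∈ F.autGroup E, ∀ w : E, (w : Ω) = x → ((β w : E) : Ω) = z ∨ ((β w : E) : Ω) = x ∨
        ((β w : E) : Ω) = z * x) ∧
      (∀ β ∈ F.autGroup E, ∃ d ∈ F.autGroup S, ∀ c : E, (c : Ω) ∈ C →
        ((β c : E) : Ω) = ((d ⟨c, hE.1.1 c.2⟩ : S) : Ω)) := by
  classical
  obtain ⟨a, ha, haE, hN, D, hfix⟩ := data_of_essential hS hF hna hidx hE hzZ hz1 hzp hcomm
  obtain ⟨α₀, hα₀, hopp⟩ := D.exists_opp
  have hst : ∀ y, D.t y = y ∨ D.t y = y * D.zV := by
    intro y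
    rcases mem_zpowers_two D.zV_pow (D.t_stab y) with h | h
    · left
      rw [inv_mul_eq_one] at h
      exact h.symm
    · right
      rw [inv_mul_eq_iff_eq_mul] at h
      exact h
  have hne : α₀ * D.t * α₀⁻¹ ≠ D.t := fun h => hopp (by rw [h]; exact Subgroup.mem_zpowers _)
  have hpair : ∀ α ∈ F.autGroup E, α * D.t * α⁻¹ ≠ D.t → D.t (α D.zV) ≠ α D.zV := by
    intro α hα hne' h
    have hnot : α * D.t * α⁻¹ ∉ Subgroup.zpowers D.t := by
      intro hm
      rcases mem_zpowers_two D.t_pow_p hm with h1 | h1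
      · apply D.t_ne_one
        have e : D.t = α⁻¹ * (α * D.t * α⁻¹) * α := by group
        rw [e, h1]
        group
      · exact hne' h1
    exact (D.pair_ne hα hnot).1 (by rw [h, inv_mul_cancel])
  obtain ⟨xV, CV, hx2, hxne, hCt, hzC, hCdec, hxdec, hCinv, hclz, hclx, hext⟩ :=
    tri_core D.hV D.t_mem D.zV_pow D.zV_ne D.t_zV hst hpair hα₀ hne
  have hfix' : ∀ y : E, D.t y = y ↔ (y : Ω) ∈ cen S := fun y =>
    ⟨fun h => (hfix y).1 (congrArg Subtype.val h), fun h => Subtype.ext ((hfix y).2 h)⟩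
  have hZE : cen S ≤ E := cen_le_of_centric hE.1
  have hmemC : ∀ c : E, (c : Ω) ∈ CV.map E.subtype ↔ c ∈ CV := by
    intro c
    constructor
    · rintro ⟨c', hc', e⟩
      have : c' = c := Subtype.ext e
      rwa [← this]
    · intro h
      exact ⟨c, h, rfl⟩
  have hCE : ∀ c ∈ CV.map E.subtype, c ∈ E := by
    rintro _ ⟨c, -, rfl⟩
    exact c.2
  refine ⟨xV, CV.map E.subtype, xV.2, ?_, ?_, ?_, ?_, ?_, ?_, ?_, ?_, ?_, ?_⟩
  · rintro _ ⟨c, hc, rfl⟩
    exact (hfix' c).1 (hCt c hc)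
  · intro h
    exact hxne ((hfix' xV).2 h)
  · have := congrArg Subtype.val hx2
    simpa using this
  · intro h
    exact hzC ((hmemC D.zV).1 h)
  · intro y hy
    rcases hCdec ⟨y, hZE hy⟩ ((hfix' ⟨y, hZE hy⟩).2 hy) with h | h
    · left
      exact (hmemC ⟨y, hZE hy⟩).2 h
    · right
      exact (hmemC (⟨y, hZE hy⟩ * D.zV)).2 h
  · intro y hy
    rcases hxdec ⟨y, hy⟩ with h | h
    · left
      exact (hfix' ⟨y, hy⟩).1 h
    · right
      exact (hfix' _).1 h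
  · intro β hβ c hc
    exact (hmemC _).2 (hCinv β hβ c ((hmemC c).1 hc))
  · intro β hβ w hw
    have e : w = D.zV := Subtype.ext hw
    rw [e]
    rcases hclz β hβ with h | h | h
    · left
      rw [h]
      rfl
    · right
      left
      rw [h]
    · right
      right
      rw [h]
      rfl
  · intro β hβ w hw
    have e : w = xV := Subtype.ext hw
    rw [e]
    rcases hclx β hβ with h | h | h
    · left
      rw [h]
      rfl
    · right
      left
      rw [h]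
    · right
      right
      rw [h]
      rfl
  · intro β hβ
    obtain ⟨β₀, hβ₀, hβc, hβv⟩ := hext β hβ
    obtain ⟨ψ, hψ, hψv⟩ := D.exists_extend hβ₀ (fun v => by
      show (β₀ * D.t) v = (D.t * β₀) v
      rw [hβc])
    obtain ⟨d, hd, hdv⟩ := exists_aut_of_hom hN hψ
    refine ⟨d, hd, fun c hc => ?_⟩
    rw [hβv c ((hmemC c).1 hc), hdv]
    exact (hψv c).symm

/-- The focal subgroup is bounded through essential subgroups. -/
theorem foc_le {p : ℕ} [Fact p.Prime] (hS : IsPGroup p S) (hF : F.IsSaturated p) (T : Subgroup Ω)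
    (hbase : ∀ {P : Subgroup Ω} {φ : P →* Ω}, (P = S ∨ F.IsEssential p P) → φ ∈ F.Hom P →
      φ.range = P → ∀ x : P, (x : Ω)⁻¹ * φ x ∈ T) : F.focalSubgroup ≤ T := by
  refine (Subgroup.closure_le _).2 ?_
  rintro _ ⟨P, φ, x, hφ, rfl⟩
  refine alperin_induction_essential hS hF (fun P φ => ∀ x : P, (x : Ω)⁻¹ * φ x ∈ T) ?_ ?_ ?_ ?_ hφ x
  · intro P R φ _ hφ h x
    exact hφ ⟨x, h x.2⟩
  · intro P Q φ ψ _ _ h1 h2 h x
    have e : (x : Ω)⁻¹ * (ψ.comp (φ.codRestrict Q h)) x =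
        ((x : Ω)⁻¹ * φ x) * ((φ x)⁻¹ * ψ ⟨φ x, h x⟩) := by
      show (x : Ω)⁻¹ * ψ ⟨φ x, h x⟩ = _
      group
    rw [e]
    exact T.mul_mem (h1 x) (h2 ⟨φ x, h x⟩)
  · intro P Q φ ψ _ _ hr hinv h1 y
    have hy : (y : Ω) ∈ φ.range := by
      rw [hr]
      exact y.2
    obtain ⟨x, hx⟩ := hy
    have e1 : y = ⟨φ x, by rw [hx]; exact y.2⟩ := Subtype.ext hx.symm
    have e2 := hinv x (by rw [hx]; exact y.2)
    rw [e1, e2]
    have e3 : (φ x)⁻¹ * (x : Ω) = ((x : Ω)⁻¹ * φ x)⁻¹ := by group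
    show (φ x)⁻¹ * (x : Ω) ∈ T
    rw [e3]
    exact T.inv_mem (h1 x)
  · intro P φ hP hφ hr x
    exact hbase hP hφ hr x

end Fusion

end Cfsg.Agent.Lib.Fusion.TwoCore
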