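/-
Saturated fusion systems with `O_2(F) = 1` and `hyp(F) = S` over `2`-groups with `|S : Z(S)| ≤ 4`: the
group `S` is dihedral of order `8`.
-/
import Mathlib
import Cfsg.Agent.Lib.Fusion.TwoCore
import Cfsg.Agent.Lib.Fusion.GenExtra
import Cfsg.Agent.Lib.Fusion.Focal
import Cfsg.Agent.S0206

set_option autoImplicit false
set_option linter.style.haveILetI false

namespace Cfsg.Agent.Lib.Fusion.TwoMain

open Cfsg Cfsg.FusionSystem Cfsg.Agent.Lib.Fusion.Basic Cfsg.Agent.Lib.Fusion.Saturated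
  Cfsg.Agent.Lib.Fusion.Saturated2 Cfsg.Agent.Lib.Fusion.Essential
  Cfsg.Agent.Lib.Fusion.EssentialPair Cfsg.Agent.Lib.Fusion.AbelianMax
  Cfsg.Agent.Lib.Fusion.TorusCore Cfsg.Agent.Lib.Fusion.Transvection
  Cfsg.Agent.Lib.Fusion.PearlCore Cfsg.Agent.Lib.Fusion.CenterIndex
  Cfsg.Agent.Lib.Fusion.TwoCore
open scoped commutatorElement

section V4

variable {V : Type*} [Group V]

/-- Four elements of a group of order four. -/
theorem four (hcard : Nat.card V = 4) (h2 : ∀ v : V, v * v = 1) {a b : V} (ha : a ≠ 1) (hb : b ≠ 1)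
    (hab : a ≠ b) (y : V) : y = 1 ∨ y = a ∨ y = b ∨ y = a * b := by
  classical
  haveI : Finite V := Nat.finite_of_card_ne_zero (by omega)
  haveI : Fintype V := Fintype.ofFinite V
  have hab1 : a * b ≠ 1 := by
    intro h
    apply hab
    have : a * a = a * b := by rw [h2, h]
    exact mul_left_cancel this
  have hab2 : a * b ≠ a := fun h => hb (mul_eq_left.1 h)
  have hab3 : a * b ≠ b := fun h => ha (mul_eq_right.1 h)
  have hc : ({1, a, b, a * b} : Finset V).card = 4 := by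
    rw [Finset.card_insert_of_notMem, Finset.card_insert_of_notMem, Finset.card_insert_of_notMem,
      Finset.card_singleton]
    · simpa using hab3.symm
    · simpa using ⟨hab, hb⟩
    · simpa using ⟨ha.symm, hb.symm, hab1.symm⟩
  have hu : ({1, a, b, a * b} : Finset V) = Finset.univ := by
    apply Finset.eq_univ_of_card
    rw [hc, ← Nat.card_eq_fintype_card, hcard]
  have hy : y ∈ ({1, a, b, a * b} : Finset V) := by
    rw [hu]
    exact Finset.mem_univ y
  simpa using hy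

/-- An automorphism of the four-group of odd order with a fixed vector, or not of order three. -/
theorem v4_lemma (hcard : Nat.card V = 4) (h2 : ∀ v : V, v * v = 1)
    (f : V ≃* V) {m : ℕ} (hm : Odd m) (hf : f ^ m = 1) {v : V} (hv : v ≠ 1)
    (hsq : f v ≠ v → f (f v) ≠ v * f v) : f = 1 := by
  classical
  have hf2 : (∀ y, f (f y) = y) → f = 1 := by
    intro h
    have h3 : f * f = 1 := MulEquiv.ext h
    obtain ⟨k, rfl⟩ := hm
    rw [pow_succ, pow_mul, pow_two, h3, one_pow, one_mul] at hf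
    exact hf
  have hf1 : ∀ y, y = 1 → f y = 1 := fun y hy => by rw [hy, map_one]
  by_cases huv : f v = v
  · -- a second vector
    obtain ⟨w, hw1, hwv⟩ : ∃ w : V, w ≠ 1 ∧ w ≠ v := by
      haveI : Finite V := Nat.finite_of_card_ne_zero (by omega)
      haveI : Fintype V := Fintype.ofFinite V
      by_contra hcon
      push Not at hcon
      have h3 : (Finset.univ : Finset V) ⊆ {1, v} := by
        intro y _
        by_cases hy : y = 1
        · simp [hy]
        · simp [hcon y hy]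
      have h4 := Finset.card_le_card h3
      have h5 : ({1, v} : Finset V).card ≤ 2 := Finset.card_le_two
      rw [Finset.card_univ, ← Nat.card_eq_fintype_card, hcard] at h4
      omega
    have hvw : v ≠ w := hwv.symm
    have hall := four hcard h2 hv hw1 hvw
    have hfw : f w = w ∨ f w = v * w := by
      rcases hall (f w) with h | h | h | h
      · exact absurd ((map_eq_one_iff f f.injective).1 h) hw1
      · exfalso
        rw [← huv] at h
        exact hwv (f.injective h)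
      · exact Or.inl h
      · exact Or.inr h
    rcases hfw with h | h
    · ext y
      rcases hall y with rfl | rfl | rfl | rfl
      · simp
      · simpa using huv
      · simpa using h
      · simp [map_mul, huv, h]
    · apply hf2
      intro y
      rcases hall y with rfl | rfl | rfl | rfl
      · simp
      · rw [huv, huv]
      · rw [h, map_mul, huv, h, ← mul_assoc, h2, one_mul]
      · rw [map_mul, map_mul, huv, huv, h, map_mul, huv, h, ← mul_assoc v v w, h2, one_mul]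
  · have hu1 : f v ≠ 1 := fun h => hv ((map_eq_one_iff f f.injective).1 h)
    have hne : v ≠ f v := fun h => huv h.symm
    have hall := four hcard h2 hv hu1 hne
    have hfu : f (f v) = v := by
      rcases hall (f (f v)) with h | h | h | h
      · exact absurd ((map_eq_one_iff f f.injective).1 h) hu1
      · exact h
      · exact absurd (f.injective h) huv
      · exact absurd h (hsq huv)
    apply hf2
    intro y
    rcases hall y with rfl | rfl | rfl | rfl
    · simp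
    · exact hfu
    · rw [hfu]
    · rw [map_mul, map_mul, hfu]

end V4

section Fusion

variable {Ω : Type*} [Group Ω] {S : Subgroup Ω} [Finite S] {F : FusionSystem S}

/-- The quotient by the centre has exponent two. -/
theorem quot_sq (hna : ¬ IsMulCommutative ↥S) (hidx : (Subgroup.center ↥S).index = 2 ^ 2)
    (v : ↥S ⧸ Subgroup.center ↥S) : v * v = 1 := by
  classical
  have hcard : Nat.card (↥S ⧸ Subgroup.center ↥S) = 2 ^ 2 := hidx
  have hd : orderOf v ∣ 2 ^ 2 := by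
    rw [← hcard]
    exact orderOf_dvd_natCard v
  obtain ⟨k, hk, hk'⟩ := (Nat.dvd_prime_pow Nat.prime_two).1 hd
  have hk1 : k ≤ 1 := by
    by_contra hlt
    have hk2 : k = 2 := by omega
    have hc : IsCyclic (↥S ⧸ Subgroup.center ↥S) :=
      isCyclic_of_orderOf_eq_card v (by rw [hk', hk2, hcard])
    exact hna ⟨⟨fun a b => commutative_of_cyclic_center_quotient
      (QuotientGroup.mk' (Subgroup.center ↥S)) (by rw [QuotientGroup.ker_mk']) a b⟩⟩
  rw [← pow_two]
  apply orderOf_dvd_iff_pow_eq_one.1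
  rw [hk']
  exact pow_dvd_pow 2 hk1

/-- `Aut_F(S)` acts trivially on `S / Z(S)`. -/
theorem triv (hS : IsPGroup 2 S) (hF : F.IsSaturated 2) (hna : ¬ IsMulCommutative ↥S)
    (hidx : (Subgroup.center ↥S).index = 2 ^ 2) {z : Ω} (hzp : z ^ 2 = 1)
    (hcomm : ∀ s ∈ S, ∀ t ∈ S, s * t * s⁻¹ * t⁻¹ ∈ Subgroup.zpowers z)
    (hsqz : ∀ c ∈ cen S, c ^ 2 ≠ z) {E₀ : Subgroup Ω} (D₀ : Data S E₀ 2) {x₀ : Ω} (hx₀ : x₀ ∈ E₀)
    (hx₀Z : x₀ ∉ cen S) (hx₀2 : x₀ ^ 2 = 1) (hE₀dec : ∀ y ∈ E₀, y ∈ cen S ∨ y * x₀ ∈ cen S)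
    {d : MulAut S} (hd : d ∈ F.autGroup S) (s : S) : (s : Ω)⁻¹ * ((d s : S) : Ω) ∈ cen S := by
  classical
  have hV2 := quot_sq hna hidx
  have hcard : Nat.card (↥S ⧸ Subgroup.center ↥S) = 4 := hidx
  have hmap : (Subgroup.center ↥S).map d.toMonoidHom = Subgroup.center ↥S :=
    Subgroup.characteristic_iff_map_eq.1 inferInstance d
  let f : (↥S ⧸ Subgroup.center ↥S) ≃* (↥S ⧸ Subgroup.center ↥S) :=
    QuotientGroup.congr (Subgroup.center ↥S) (Subgroup.center ↥S) d hmap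
  have hfmk : ∀ y : S, f (y : ↥S ⧸ Subgroup.center ↥S) = ((d y : S) : ↥S ⧸ Subgroup.center ↥S) :=
    fun y => rfl
  have hfpow : ∀ (k : ℕ) (y : S), (f ^ k) (y : ↥S ⧸ Subgroup.center ↥S) =
      (((d ^ k) y : S) : ↥S ⧸ Subgroup.center ↥S) := by
    intro k
    induction k with
    | zero =>
      intro y
      rfl
    | succ k ih =>
      intro y
      rw [pow_succ, pow_succ]
      show (f ^ k) (f (y : ↥S ⧸ Subgroup.center ↥S)) = _
      rw [hfmk, ih]
      rfl
  haveI : Finite (MulAut S) := MulEquiv.finite_left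
  have hn : orderOf d ≠ 0 := (orderOf_pos d).ne'
  obtain ⟨a, m, hm, hnm⟩ := Nat.exists_eq_two_pow_mul_odd hn
  have hpow : (d ^ m) ^ (2 ^ a) = 1 := by
    rw [← pow_mul, mul_comm, ← hnm, pow_orderOf_eq_one]
  obtain ⟨g, hg, hgv⟩ := inner_of_pow hS hF (Subgroup.pow_mem _ hd m) hpow
  have hcomm' : ∀ u v : ↥S ⧸ Subgroup.center ↥S, u * v = v * u := by
    intro u v
    have h3 := hV2 (u * v)
    have h4 : u * v * (v * u) = 1 := by
      calc u * v * (v * u) = u * (v * v) * u := by group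
        _ = u * u := by rw [hV2, mul_one]
        _ = 1 := hV2 u
    exact mul_left_cancel (a := u * v) (h3.trans h4.symm)
  have hfm : f ^ m = 1 := by
    apply MulEquiv.ext
    intro v
    obtain ⟨y, rfl⟩ := QuotientGroup.mk_surjective v
    rw [hfpow]
    have e : ((d ^ m) y : S) = ⟨g, hg⟩ * y * (⟨g, hg⟩ : S)⁻¹ := Subtype.ext (hgv y)
    rw [e, QuotientGroup.mk_mul, QuotientGroup.mk_mul, QuotientGroup.mk_inv, hcomm' (QuotientGroup.mk _)]
    simp
  have hES := D₀.le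
  let X : S := ⟨x₀, hES hx₀⟩
  have hXX : X * X = 1 := by
    apply Subtype.ext
    show x₀ * x₀ = 1
    rw [← pow_two, hx₀2]
  have hv : (X : ↥S ⧸ Subgroup.center ↥S) ≠ 1 := by
    intro h
    rw [QuotientGroup.eq_one_iff, ← center_eq] at h
    exact hx₀Z h
  have hsq : f (X : ↥S ⧸ Subgroup.center ↥S) ≠ (X : ↥S ⧸ Subgroup.center ↥S) →
      f (f (X : ↥S ⧸ Subgroup.center ↥S)) ≠
        (X : ↥S ⧸ Subgroup.center ↥S) * f (X : ↥S ⧸ Subgroup.center ↥S) := by
    intro hne h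
    rw [hfmk, hfmk] at h
    rw [hfmk] at hne
    have hX1 : d X * d X = 1 := by rw [← map_mul, hXX, map_one]
    have hX2 : d (d X) * d (d X) = 1 := by rw [← map_mul, hX1, map_one]
    rw [← QuotientGroup.mk_mul, eq_comm, QuotientGroup.eq] at h
    set c : S := (X * d X)⁻¹ * d (d X) with hc
    have hcZ : (c : Ω) ∈ cen S := by
      rw [← center_eq] at h
      exact h
    have hccomm : ∀ u : S, u * c = c * u := fun u =>
      Subtype.ext ((mem_cen.1 hcZ).2 u u.2)
    have e1 : d (d X) = X * d X * c := by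
      rw [hc]
      group
    have e2 : (X * d X * c) * (X * d X * c) = (X * d X) * (X * d X) * (c * c) := by
      calc (X * d X * c) * (X * d X * c) = (X * d X) * (c * (X * d X)) * c := by group
        _ = (X * d X) * ((X * d X) * c) * c := by rw [← hccomm (X * d X)]
        _ = _ := by group
    have hX2' := hX2
    rw [e1, e2] at hX2'
    have hcomm1 := hcomm x₀ (hES hx₀) _ (d X).2
    have hcomm2 : (((X * d X) * (X * d X) : S) : Ω) = x₀ * (d X : S) * x₀⁻¹ * ((d X : S) : Ω)⁻¹ := by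
      have i1 : x₀⁻¹ = x₀ := by
        rw [inv_eq_iff_mul_eq_one, ← pow_two, hx₀2]
      have i2 : ((d X : S) : Ω)⁻¹ = ((d X : S) : Ω) := by
        rw [inv_eq_iff_mul_eq_one]
        exact congrArg Subtype.val hX1
      rw [i1, i2]
      exact (mul_assoc _ _ _).symm
    rw [← hcomm2] at hcomm1
    rcases mem_zpowers_two hzp hcomm1 with h1 | h1
    · -- commuting elements
      have h3 : x₀ * ((d X : S) : Ω) = ((d X : S) : Ω) * x₀ := by
        have h4 : (X * d X) * (X * d X) = 1 := Subtype.ext h1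
        have h5 : X * d X = d X * X := by
          calc X * d X = X * d X * ((X * d X) * (d X * X)) := by
                have : (X * d X) * (d X * X) = 1 := by
                  calc (X * d X) * (d X * X) = X * (d X * d X) * X := by group
                    _ = 1 := by rw [hX1, mul_one, hXX]
                rw [this, mul_one]
            _ = ((X * d X) * (X * d X)) * (d X * X) := by group
            _ = d X * X := by rw [h4, one_mul]
        exact congrArg Subtype.val h5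
      have hx₁E : ((d X : S) : Ω) ∈ E₀ := by
        by_contra hcon
        exact hx₀Z (D₀.central_of_comm hx₀ (d X).2 hcon h3.symm)
      rcases hE₀dec _ hx₁E with h4 | h4
      · apply hx₀Z
        have h5 := map_cen d⁻¹ h4
        rw [MulAut.inv_apply_self] at h5
        exact h5
      · apply hne
        rw [eq_comm, QuotientGroup.eq, ← center_eq]
        have e3 : ((X⁻¹ * d X : S) : Ω) = ((d X : S) : Ω) * x₀ := by
          show x₀⁻¹ * ((d X : S) : Ω) = _
          have i1 : x₀⁻¹ = x₀ := by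
            rw [inv_eq_iff_mul_eq_one, ← pow_two, hx₀2]
          rw [i1, h3]
        show ((X⁻¹ * d X : S) : Ω) ∈ cen S
        rw [e3]
        exact h4
    · -- the square
      apply hsqz _ hcZ
      have h4 : z * ((c : Ω) * c) = 1 := by
        rw [← h1]
        exact congrArg Subtype.val hX2'
      rw [pow_two]
      have h5 : z⁻¹ = z := by
        rw [inv_eq_iff_mul_eq_one, ← pow_two, hzp]
      rw [← h5]
      exact eq_inv_of_mul_eq_one_right h4
  have hf1 := v4_lemma hcard hV2 f hm hfm hv hsq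
  have h6 : f (s : ↥S ⧸ Subgroup.center ↥S) = (s : ↥S ⧸ Subgroup.center ↥S) := by
    rw [hf1]
    rfl
  rw [hfmk, eq_comm, QuotientGroup.eq, ← center_eq] at h6
  exact h6

/-- The data of an essential subgroup at the prime `2`. -/
structure Bundle (F : FusionSystem S) (E : Subgroup Ω) (z x : Ω) (C : Subgroup Ω) : Prop where
  hE : F.IsEssential 2 E
  hx : x ∈ E
  hC : C ≤ cen S
  hxZ : x ∉ cen S
  hx2 : x ^ 2 = 1
  hzC : z ∉ C
  hZdec : ∀ y ∈ cen S, y ∈ C ∨ y * z ∈ C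
  hEdec : ∀ y ∈ E, y ∈ cen S ∨ y * x ∈ cen S
  hCinv : ∀ β ∈ F.autGroup E, ∀ c : E, (c : Ω) ∈ C → ((β c : E) : Ω) ∈ C
  hWz : ∀ β ∈ F.autGroup E, ∀ w : E, (w : Ω) = z → ((β w : E) : Ω) = z ∨ ((β w : E) : Ω) = x ∨
    ((β w : E) : Ω) = z * x
  hWx : ∀ β ∈ F.autGroup E, ∀ w : E, (w : Ω) = x → ((β w : E) : Ω) = z ∨ ((β w : E) : Ω) = x ∨
    ((β w : E) : Ω) = z * x
  hext : ∀ β ∈ F.autGroup E, ∃ d ∈ F.autGroup S, ∀ c : E, (c : Ω) ∈ C →
    ((β c : E) : Ω) = ((d ⟨c, hE.1.1 c.2⟩ : S) : Ω)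

/-- Restriction of an automorphism acting trivially on `S / Z(S)`. -/
theorem exists_rest {E : Subgroup Ω} (hES : E ≤ S) (hZE : cen S ≤ E) {d : MulAut S}
    (hd : d ∈ F.autGroup S) (htriv : ∀ s : S, (s : Ω)⁻¹ * ((d s : S) : Ω) ∈ cen S) :
    ∃ β ∈ F.autGroup E, ∀ y : E, ((β y : E) : Ω) = ((d ⟨y, hES y.2⟩ : S) : Ω) := by
  haveI : Finite E := finite_of_le hES
  have h1 := res_mem (autGroup_mem_hom le_rfl hd) hES
  have hv : ∀ y, ((S.subtype.comp d.toMonoidHom).comp (Subgroup.inclusion hES)) y ∈ E := by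
    intro y
    have h2 := htriv ⟨y, hES y.2⟩
    have e : ((S.subtype.comp d.toMonoidHom).comp (Subgroup.inclusion hES)) y =
        (y : Ω) * ((y : Ω)⁻¹ * ((d ⟨y, hES y.2⟩ : S) : Ω)) := by
      simp
      rfl
    rw [e]
    exact E.mul_mem y.2 (hZE h2)
  exact ⟨autOfHom _ (F.injective_of_mem h1) hv, autOfHom_mem h1 hv, fun y => rfl⟩

namespace Bundle

variable {E : Subgroup Ω} {z x : Ω} {C : Subgroup Ω} (B : Bundle F E z x C)

include B

theorem hES : E ≤ S := B.hE.1.1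

theorem hZE : cen S ≤ E := cen_le_of_centric B.hE.1

theorem sqz (hzz : z * z = 1) (hzZ : z ∈ cen S) (c : Ω) (hc : c ∈ cen S) : c ^ 2 ≠ z := by
  intro h
  apply B.hzC
  rcases B.hZdec c hc with h1 | h1
  · rw [← h, pow_two]
    exact C.mul_mem h1 h1
  · have h2 := C.mul_mem h1 h1
    have e : c * z * (c * z) = c ^ 2 := by
      have h3 : c * z = z * c := ((mem_cen.1 hzZ).2 c (mem_cen.1 hc).1)
      calc c * z * (c * z) = c * (z * c) * z := by group
        _ = c * (c * z) * z := by rw [h3]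
        _ = c * c * (z * z) := by group
        _ = c ^ 2 := by rw [hzz, mul_one, pow_two]
    rw [e, h] at h2
    exact h2

/-- Behaviour of an automorphism of `S`. -/
theorem d_C {d : MulAut S} (hd : d ∈ F.autGroup S)
    (htriv : ∀ s : S, (s : Ω)⁻¹ * ((d s : S) : Ω) ∈ cen S) {c : Ω} (hc : c ∈ C) (hcS : c ∈ S) :
    ((d ⟨c, hcS⟩ : S) : Ω) ∈ C := by
  obtain ⟨β, hβ, hβv⟩ := exists_rest B.hES B.hZE hd htriv
  have h1 := B.hCinv β hβ ⟨c, B.hZE (B.hC hc)⟩ hc
  rw [hβv] at h1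
  exact h1

theorem d_x {d : MulAut S} (hd : d ∈ F.autGroup S)
    (htriv : ∀ s : S, (s : Ω)⁻¹ * ((d s : S) : Ω) ∈ cen S) (hzZ : z ∈ cen S) :
    ((d ⟨x, B.hES B.hx⟩ : S) : Ω) = x ∨ ((d ⟨x, B.hES B.hx⟩ : S) : Ω) = z * x := by
  obtain ⟨β, hβ, hβv⟩ := exists_rest B.hES B.hZE hd htriv
  rcases B.hWx β hβ ⟨x, B.hx⟩ rfl with h1 | h1 | h1 <;> rw [hβv] at h1
  · exfalso
    apply B.hxZ
    have h2 := map_cen d⁻¹ (y := d ⟨x, B.hES B.hx⟩) (by
      show ((d ⟨x, B.hES B.hx⟩ : S) : Ω) ∈ cen S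
      rw [h1]
      exact hzZ)
    rw [MulAut.inv_apply_self] at h2
    exact h2
  · exact Or.inl h1
  · exact Or.inr h1

theorem d_Z {d : MulAut S} (hd : d ∈ F.autGroup S)
    (htriv : ∀ s : S, (s : Ω)⁻¹ * ((d s : S) : Ω) ∈ cen S) (hzZ : z ∈ cen S)
    (hdz : ((d ⟨z, (mem_cen.1 hzZ).1⟩ : S) : Ω) = z) {y : Ω} (hy : y ∈ cen S) :
    y⁻¹ * ((d ⟨y, (mem_cen.1 hy).1⟩ : S) : Ω) ∈ C := by
  have hzS := (mem_cen.1 hzZ).1
  have hyS := (mem_cen.1 hy).1
  rcases B.hZdec y hy with h1 | h1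
  · exact C.mul_mem (C.inv_mem h1) (B.d_C hd htriv h1 hyS)
  · have h2 := C.mul_mem (C.inv_mem h1) (B.d_C hd htriv h1 (S.mul_mem hyS hzS))
    have e : (⟨y * z, S.mul_mem hyS hzS⟩ : S) = ⟨y, hyS⟩ * ⟨z, hzS⟩ := rfl
    rw [e, map_mul] at h2
    have e2 : (y * z)⁻¹ * ((d ⟨y, hyS⟩ * d ⟨z, hzS⟩ : S) : Ω) = y⁻¹ * ((d ⟨y, hyS⟩ : S) : Ω) := by
      show (y * z)⁻¹ * (((d ⟨y, hyS⟩ : S) : Ω) * ((d ⟨z, hzS⟩ : S) : Ω)) = _
      rw [hdz]
      have h3 : y⁻¹ * ((d ⟨y, hyS⟩ : S) : Ω) * z = z * (y⁻¹ * ((d ⟨y, hyS⟩ : S) : Ω)) :=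
        (mem_cen.1 hzZ).2 _ (S.mul_mem (S.inv_mem hyS) (d ⟨y, hyS⟩).2)
      calc (y * z)⁻¹ * (((d ⟨y, hyS⟩ : S) : Ω) * z)
          = z⁻¹ * (y⁻¹ * ((d ⟨y, hyS⟩ : S) : Ω) * z) := by group
        _ = z⁻¹ * (z * (y⁻¹ * ((d ⟨y, hyS⟩ : S) : Ω))) := by rw [h3]
        _ = _ := by group
    rw [e2] at h2
    exact h2

/-- The basic computation for essential subgroups. -/
theorem base_ess (T : Subgroup Ω) (hzz : z * z = 1) (hzZ : z ∈ cen S) (hzT : z ∈ T) (hxT : x ∈ T)
    (hCT : ∀ d ∈ F.autGroup S, ∀ c (hc : c ∈ cen S), c ∈ C → c⁻¹ * ((d ⟨c, (mem_cen.1 hc).1⟩ : S) : Ω) ∈ T)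
    {φ : E →* Ω} (hφ : φ ∈ F.Hom E) (hr : φ.range = E) (y : E) : (y : Ω)⁻¹ * φ y ∈ T := by
  classical
  have hzE := B.hZE hzZ
  haveI : Finite E := finite_of_le B.hES
  have hv : ∀ u, φ u ∈ E := fun u => by
    have h0 : φ u ∈ φ.range := ⟨u, rfl⟩
    rwa [hr] at h0
  set β : MulAut E := autOfHom φ (F.injective_of_mem hφ) hv with hβdef
  have hβ : β ∈ F.autGroup E := autOfHom_mem hφ hv
  have hβv : ∀ u : E, φ u = ((β u : E) : Ω) := fun u => rfl
  obtain ⟨d, hd, hdv⟩ := B.hext β hβ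
  rw [hβv]
  -- the elements `w`
  have hWT : ∀ w : E, (w : Ω) = z ∨ (w : Ω) = x ∨ (w : Ω) = z * x ∨ (w : Ω) = 1 →
      (w : Ω) ∈ T ∧ ((β w : E) : Ω) ∈ T := by
    have hmemW : ∀ u : Ω, u = z ∨ u = x ∨ u = z * x → u ∈ T := by
      rintro _ (rfl | rfl | rfl)
      · exact hzT
      · exact hxT
      · exact T.mul_mem hzT hxT
    have hz' : ((β ⟨z, hzE⟩ : E) : Ω) ∈ T := hmemW _ (B.hWz β hβ ⟨z, hzE⟩ rfl)
    have hx' : ((β ⟨x, B.hx⟩ : E) : Ω) ∈ T := hmemW _ (B.hWx β hβ ⟨x, B.hx⟩ rfl)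
    intro w hw
    rcases hw with h | h | h | h
    · have e : w = ⟨z, hzE⟩ := Subtype.ext h
      rw [e]
      exact ⟨hzT, hz'⟩
    · have e : w = ⟨x, B.hx⟩ := Subtype.ext h
      rw [e]
      exact ⟨hxT, hx'⟩
    · have e : w = ⟨z, hzE⟩ * ⟨x, B.hx⟩ := Subtype.ext h
      rw [e, map_mul]
      exact ⟨T.mul_mem hzT hxT, T.mul_mem hz' hx'⟩
    · have e : w = 1 := Subtype.ext h
      rw [e, map_one]
      exact ⟨T.one_mem, T.one_mem⟩
  have hcw : ∀ (c : E) (w : E), (c : Ω) ∈ C → ((w : E) : Ω) ∈ T → ((β w : E) : Ω) ∈ T →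
      ((c * w : E) : Ω)⁻¹ * ((β (c * w) : E) : Ω) ∈ T := by
    intro c w hc hw hβw
    have hcZ : (c : Ω) ∈ cen S := B.hC hc
    have h1 := hCT d hd c hcZ hc
    have h2 := hdv c hc
    rw [map_mul]
    have e : ((c * w : E) : Ω)⁻¹ * ((β c * β w : E) : Ω) =
        (w : Ω)⁻¹ * (((c : Ω)⁻¹ * ((β c : E) : Ω)) * ((β w : E) : Ω)) := by
      simp only [Subgroup.coe_mul]
      group
    rw [e, h2]
    exact T.mul_mem (T.inv_mem hw) (T.mul_mem h1 hβw)
  -- decomposition
  have hzz' : z⁻¹ = z := by rw [inv_eq_iff_mul_eq_one, hzz]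
  have hx2' : x * x = 1 := by rw [← pow_two, B.hx2]
  have hx' : x⁻¹ = x := by rw [inv_eq_iff_mul_eq_one, hx2']
  have hyE := y.2
  rcases B.hEdec y y.2 with h1 | h1
  · rcases B.hZdec y h1 with h2 | h2
    · have e : y = ⟨y, B.hZE (B.hC h2)⟩ * 1 := by simp
      rw [e]
      obtain ⟨h3, h4⟩ := hWT 1 (Or.inr (Or.inr (Or.inr rfl)))
      exact hcw _ _ h2 h3 h4
    · have e : y = ⟨(y : Ω) * z, B.hZE (B.hC h2)⟩ * ⟨z, hzE⟩ := by
        apply Subtype.ext
        show (y : Ω) = (y : Ω) * z * z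
        rw [mul_assoc, hzz, mul_one]
      rw [e]
      obtain ⟨h3, h4⟩ := hWT ⟨z, hzE⟩ (Or.inl rfl)
      exact hcw _ _ h2 h3 h4
  · rcases B.hZdec _ h1 with h2 | h2
    · have e : y = ⟨(y : Ω) * x, B.hZE (B.hC h2)⟩ * ⟨x, B.hx⟩ := by
        apply Subtype.ext
        show (y : Ω) = (y : Ω) * x * x
        rw [mul_assoc, hx2', mul_one]
      rw [e]
      obtain ⟨h3, h4⟩ := hWT ⟨x, B.hx⟩ (Or.inr (Or.inl rfl))
      exact hcw _ _ h2 h3 h4
    · have e : y = ⟨(y : Ω) * x * z, B.hZE (B.hC h2)⟩ * ⟨z * x, E.mul_mem hzE B.hx⟩ := by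
        apply Subtype.ext
        show (y : Ω) = (y : Ω) * x * z * (z * x)
        calc (y : Ω) = y * (x * x) := by rw [hx2', mul_one]
          _ = y * x * (z * z) * x := by rw [hzz]; group
          _ = _ := by group
      rw [e]
      obtain ⟨h3, h4⟩ := hWT ⟨z * x, E.mul_mem hzE B.hx⟩ (Or.inr (Or.inr (Or.inl rfl)))
      exact hcw _ _ h2 h3 h4

/-- Two bundles with `x ∈ P` agree. -/
theorem eq_of_mem {P : Subgroup Ω} {x' : Ω} {C' : Subgroup Ω} (B' : Bundle F P z x' C') (hxP : x ∈ P) :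
    E = P := by
  have hZE := B.hZE
  have hZP := B'.hZE
  have h1 : E ≤ P := by
    intro y hy
    rcases B.hEdec y hy with h | h
    · exact hZP h
    · have h2 := P.mul_mem (hZP h) (P.inv_mem hxP)
      rwa [mul_inv_cancel_right] at h2
  have hx'E : x' ∈ E := by
    rcases B'.hEdec x hxP with h | h
    · exact absurd h B.hxZ
    · have h2 := E.mul_mem (E.inv_mem B.hx) (hZE h)
      rwa [inv_mul_cancel_left] at h2
  apply le_antisymm h1
  intro y hy
  rcases B'.hEdec y hy with h | h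
  · exact hZE h
  · have h2 := E.mul_mem (hZE h) (E.inv_mem hx'E)
    rwa [mul_inv_cancel_right] at h2

end Bundle

/-- The cases for elements of the subgroup generated by two involutions and central elements. -/
theorem closure_cases {x₀ x₁ z : Ω} {N : Subgroup Ω} (hN : N ≤ cen S) (hzZ : z ∈ cen S) (hx₀S : x₀ ∈ S)
    (hx₁S : x₁ ∈ S) (hx₀2 : x₀ * x₀ = 1) (hx₁2 : x₁ * x₁ = 1) (hzz : z * z = 1)
    (hc : x₀ * x₁ = z * (x₁ * x₀)) {t : Ω}
    (ht : t ∈ Subgroup.closure (({z, x₀, x₁} : Set Ω) ∪ (N : Set Ω))) :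
    (t ∈ N ∨ z * t ∈ N) ∨ (x₀ * t ∈ N ∨ z * (x₀ * t) ∈ N) ∨ (x₁ * t ∈ N ∨ z * (x₁ * t) ∈ N) ∨
      (x₀ * x₁ * t ∈ N ∨ z * (x₀ * x₁ * t) ∈ N) := by
  -- the predicate
  have hQz : ∀ u, (u ∈ N ∨ z * u ∈ N) → (z * u ∈ N ∨ z * (z * u) ∈ N) := by
    intro u hu
    have e : z * (z * u) = u := by rw [← mul_assoc, hzz, one_mul]
    rw [e]
    exact hu.symm
  have hzcomm : ∀ u ∈ S, z * u = u * z := fun u hu => ((mem_cen.1 hzZ).2 u hu).symm
  have hQn : ∀ n ∈ N, ∀ u, (u ∈ N ∨ z * u ∈ N) → (n * u ∈ N ∨ z * (n * u) ∈ N) := by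
    intro n hn u hu
    rcases hu with h | h
    · exact Or.inl (N.mul_mem hn h)
    · right
      have e : z * (n * u) = n * (z * u) := by
        rw [← mul_assoc, hzcomm n (mem_cen.1 (hN hn)).1, mul_assoc]
      rw [e]
      exact N.mul_mem hn h
  have hc' : x₁ * x₀ = z * (x₀ * x₁) := by
    rw [hc, ← mul_assoc, hzz, one_mul]
  have hzx₀ := hzcomm x₀ hx₀S
  have hzx₁ := hzcomm x₁ hx₁S
  have hstep : ∀ g ∈ (({z, x₀, x₁} : Set Ω) ∪ (N : Set Ω)), ∀ y,
      ((y ∈ N ∨ z * y ∈ N) ∨ (x₀ * y ∈ N ∨ z * (x₀ * y) ∈ N) ∨ (x₁ * y ∈ N ∨ z * (x₁ * y) ∈ N) ∨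
        (x₀ * x₁ * y ∈ N ∨ z * (x₀ * x₁ * y) ∈ N)) →
      ((g * y ∈ N ∨ z * (g * y) ∈ N) ∨ (x₀ * (g * y) ∈ N ∨ z * (x₀ * (g * y)) ∈ N) ∨
        (x₁ * (g * y) ∈ N ∨ z * (x₁ * (g * y)) ∈ N) ∨
        (x₀ * x₁ * (g * y) ∈ N ∨ z * (x₀ * x₁ * (g * y)) ∈ N)) := by
    rintro g ((hg | hg | hg) | hg) y hy
    · rw [show g = z from hg]
      rcases hy with h | h | h | h
      · exact Or.inl (hQz _ h)
      · right
        left
        have e : x₀ * (z * y) = z * (x₀ * y) := by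
          rw [← mul_assoc, ← hzx₀, mul_assoc]
        rw [e]
        exact hQz _ h
      · right
        right
        left
        have e : x₁ * (z * y) = z * (x₁ * y) := by
          rw [← mul_assoc, ← hzx₁, mul_assoc]
        rw [e]
        exact hQz _ h
      · right
        right
        right
        have e : x₀ * x₁ * (z * y) = z * (x₀ * x₁ * y) := by
          rw [← mul_assoc, mul_assoc x₀, ← hzx₁, ← mul_assoc x₀, ← hzx₀, mul_assoc z, mul_assoc z]
        rw [e]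
        exact hQz _ h
    · rw [show g = x₀ from hg]
      rcases hy with h | h | h | h
      · right
        left
        have e : x₀ * (x₀ * y) = y := by rw [← mul_assoc, hx₀2, one_mul]
        rw [e]
        exact h
      · left
        exact h
      · right
        right
        right
        have e : x₀ * x₁ * (x₀ * y) = z * (x₁ * y) := by
          calc x₀ * x₁ * (x₀ * y) = z * (x₁ * x₀) * (x₀ * y) := by rw [hc]
            _ = z * x₁ * (x₀ * x₀) * y := by group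
            _ = z * (x₁ * y) := by rw [hx₀2]; group
        rw [e]
        exact hQz _ h
      · right
        right
        left
        have e : x₁ * (x₀ * y) = z * (x₀ * x₁ * y) := by
          rw [← mul_assoc, hc']
          group
        rw [e]
        exact hQz _ h
    · rw [show g = x₁ from hg]
      rcases hy with h | h | h | h
      · right
        right
        left
        have e : x₁ * (x₁ * y) = y := by rw [← mul_assoc, hx₁2, one_mul]
        rw [e]
        exact h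
      · right
        right
        right
        have e : x₀ * x₁ * (x₁ * y) = x₀ * y := by
          calc x₀ * x₁ * (x₁ * y) = x₀ * (x₁ * x₁) * y := by group
            _ = x₀ * y := by rw [hx₁2, mul_one]
        rw [e]
        exact h
      · left
        exact h
      · right
        left
        have e : x₀ * (x₁ * y) = x₀ * x₁ * y := by group
        rw [e]
        exact h
    · have hgS := (mem_cen.1 (hN hg)).1
      have hgc : ∀ u ∈ S, u * g = g * u := fun u hu => (mem_cen.1 (hN hg)).2 u hu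
      rcases hy with h | h | h | h
      · exact Or.inl (hQn g hg _ h)
      · right
        left
        have e : x₀ * (g * y) = g * (x₀ * y) := by
          rw [← mul_assoc, hgc x₀ hx₀S, mul_assoc]
        rw [e]
        exact hQn g hg _ h
      · right
        right
        left
        have e : x₁ * (g * y) = g * (x₁ * y) := by
          rw [← mul_assoc, hgc x₁ hx₁S, mul_assoc]
        rw [e]
        exact hQn g hg _ h
      · right
        right
        right
        have e : x₀ * x₁ * (g * y) = g * (x₀ * x₁ * y) := by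
          rw [← mul_assoc, hgc _ (S.mul_mem hx₀S hx₁S), mul_assoc]
        rw [e]
        exact hQn g hg _ h
  have hinvg : ∀ g ∈ (({z, x₀, x₁} : Set Ω) ∪ (N : Set Ω)), g⁻¹ ∈ (({z, x₀, x₁} : Set Ω) ∪ (N : Set Ω)) := by
    rintro g ((hg | hg | hg) | hg)
    · left
      left
      rw [show g = z from hg, inv_eq_iff_mul_eq_one, hzz]
    · left
      right
      left
      rw [show g = x₀ from hg, inv_eq_iff_mul_eq_one, hx₀2]
    · left
      right
      right
      rw [show g = x₁ from hg, Set.mem_singleton_iff, inv_eq_iff_mul_eq_one, hx₁2]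
    · right
      exact N.inv_mem hg
  refine Subgroup.closure_induction_left (p := fun t _ => (t ∈ N ∨ z * t ∈ N) ∨
      (x₀ * t ∈ N ∨ z * (x₀ * t) ∈ N) ∨ (x₁ * t ∈ N ∨ z * (x₁ * t) ∈ N) ∨
      (x₀ * x₁ * t ∈ N ∨ z * (x₀ * x₁ * t) ∈ N)) ?_ ?_ ?_ ht
  · exact Or.inl (Or.inl N.one_mem)
  · intro g hg y _ hy
    exact hstep g hg y hy
  · intro g hg y _ hy
    exact hstep g⁻¹ (hinvg g hg) y hy

/-- **The main theorem**, for `p = 2`. -/
theorem main_two (hS : IsPGroup 2 S) (hF : F.IsSaturated 2) (hS1 : S ≠ ⊥) (hcore : F.core = ⊥)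
    (hhyp : F.hyperfocalSubgroup 2 = S) (hZ : (Subgroup.center ↥S).index ≤ 2 ^ 2) :
    Cfsg.IsExtraspecial 2 ↥S ∧ Nat.card S = 2 ^ 3 ∧ Nonempty (↥S ≃* DihedralGroup 4) := by
  classical
  obtain ⟨E₀, hE₀⟩ := exists_essential hS hF hS1 hcore
  have hna : ¬ IsMulCommutative ↥S := by
    intro hab
    have hES := hE₀.1.1
    apply Cfsg.Agent.Lib.Fusion.EssentialGen.essential_ne hS hF hE₀
    refine le_antisymm hES fun s hs => (hE₀.1.2 E₀ (Cfsg.Agent.Lib.Fusion.Basic.IsConj.refl hES))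
      ⟨hs, Subgroup.mem_centralizer_iff.2 fun y hy => ?_⟩
    exact congrArg Subtype.val (hab.is_comm.comm (⟨y, hES hy⟩ : S) ⟨s, hs⟩)
  have hidx := index_center_eq hS hna hZ
  obtain ⟨hab₀, hi₀, w, hw, hwZ, hdec⟩ := essential_abelian hS hF hna hidx hE₀
  have D₀ : Data S E₀ 2 := ⟨hS, hE₀.1.1, hab₀, hi₀⟩
  have hE₀ne : E₀ ≠ S := Cfsg.Agent.Lib.Fusion.EssentialGen.essential_ne hS hF hE₀
  obtain ⟨a₀, ha₀, ha₀E⟩ : ∃ a ∈ S, a ∉ E₀ := by
    by_contra hcon
    push Not at hcon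
    exact hE₀ne (le_antisymm hE₀.1.1 hcon)
  obtain ⟨z, hzZ, hz1, hzp, hcomm, s₁, hs₁, t₁, ht₁, hzc⟩ := exists_z hidx D₀ hw hwZ hdec ha₀ ha₀E
  have hzS : z ∈ S := (mem_cen.1 hzZ).1
  have hzz : z * z = 1 := by rw [← pow_two, hzp]
  have hzi : z⁻¹ = z := by rw [inv_eq_iff_mul_eq_one, hzz]
  have hfoc : S ≤ F.focalSubgroup := by
    rw [Cfsg.Agent.Lib.Fusion.Focal.focal_eq hS hF, hhyp]
    exact le_sup_left
  have hb : ∀ E, F.IsEssential 2 E → ∃ x C, Bundle F E z x C := by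
    intro E hE
    obtain ⟨x, C, h1, h2, h3, h4, h5, h6, h7, h8, h9, h10, h11⟩ :=
      pearl2 hS hF hna hidx hE hzZ hz1 hzp hcomm
    exact ⟨x, C, ⟨hE, h1, h2, h3, h4, h5, h6, h7, h8, h9, h10, h11⟩⟩
  obtain ⟨x₀, C₀, B₀⟩ := hb E₀ hE₀
  have hsqz := B₀.sqz hzz hzZ
  have htriv : ∀ d ∈ F.autGroup S, ∀ s : S, (s : Ω)⁻¹ * ((d s : S) : Ω) ∈ cen S := fun d hd s =>
    triv hS hF hna hidx hzp hcomm hsqz D₀ B₀.hx B₀.hxZ B₀.hx2 B₀.hEdec hd s
  have hdz : ∀ d ∈ F.autGroup S, ((d ⟨z, hzS⟩ : S) : Ω) = z := by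
    intro d _
    have e : (⟨z, hzS⟩ : S) = ⟨s₁, hs₁⟩ * ⟨t₁, ht₁⟩ * (⟨s₁, hs₁⟩ : S)⁻¹ * (⟨t₁, ht₁⟩ : S)⁻¹ :=
      Subtype.ext hzc
    have h1 : ((d ⟨z, hzS⟩ : S) : Ω) ∈ Subgroup.zpowers z := by
      rw [e, map_mul, map_mul, map_mul, map_inv, map_inv]
      exact hcomm _ (d _).2 _ (d _).2
    rcases mem_zpowers_two hzp h1 with h | h
    · exfalso
      apply hz1
      have h2 : d ⟨z, hzS⟩ = 1 := Subtype.ext h
      rw [map_eq_one_iff d d.injective] at h2
      exact congrArg Subtype.val h2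
    · exact h
  have hhomS : ∀ {P : Subgroup Ω} {φ : P →* Ω}, P = S → φ ∈ F.Hom P → φ.range = P →
      ∀ x : P, ∃ d ∈ F.autGroup S, ∃ hx : (x : Ω) ∈ S, φ x = ((d ⟨x, hx⟩ : S) : Ω) := by
    intro P φ hPS hφ hr x
    subst hPS
    have hv : ∀ u, φ u ∈ P := fun u => by
      have h0 : φ u ∈ φ.range := ⟨u, rfl⟩
      rwa [hr] at h0
    exact ⟨autOfHom φ (F.injective_of_mem hφ) hv, autOfHom_mem hφ hv, x.2, rfl⟩
  by_cases h2 : ∃ E₁, F.IsEssential 2 E₁ ∧ E₁ ≠ E₀
  swap
  · exfalso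
    push Not at h2
    have hle : F.focalSubgroup ≤ E₀ := by
      refine foc_le hS hF E₀ ?_
      intro P φ hP hφ hr x
      rcases hP with hPS | hP
      · obtain ⟨d, hd, hx, e⟩ := hhomS hPS hφ hr x
        rw [e]
        exact B₀.hZE (htriv d hd ⟨x, hx⟩)
      · have hPE := h2 P hP
        subst hPE
        have h0 : φ x ∈ φ.range := ⟨x, rfl⟩
        rw [hr] at h0
        exact P.mul_mem (P.inv_mem x.2) h0
    exact hE₀ne (le_antisymm hE₀.1.1 (hfoc.trans hle))
  obtain ⟨E₁, hE₁, hne⟩ := h2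
  obtain ⟨x₁, C₁, B₁⟩ := hb E₁ hE₁
  have hx₀S := B₀.hES B₀.hx
  have hx₁S := B₁.hES B₁.hx
  have hx₁E₀ : x₁ ∉ E₀ := fun h => hne (B₁.eq_of_mem B₀ h)
  have hx₀E₁ : x₀ ∉ E₁ := fun h => hne (B₀.eq_of_mem B₁ h).symm
  have hx₀x₀ : x₀ * x₀ = 1 := by rw [← pow_two, B₀.hx2]
  have hx₁x₁ : x₁ * x₁ = 1 := by rw [← pow_two, B₁.hx2]
  have hc₁ : x₀ * x₁ * x₀⁻¹ * x₁⁻¹ = z := by
    rcases mem_zpowers_two hzp (hcomm x₀ hx₀S x₁ hx₁S) with h | h
    · exfalso
      rw [mul_inv_eq_one, mul_inv_eq_iff_eq_mul] at h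
      exact B₀.hxZ (D₀.central_of_comm B₀.hx hx₁S hx₁E₀ h.symm)
    · exact h
  have hc : x₀ * x₁ = z * (x₁ * x₀) := by
    rw [← hc₁]
    group
  have hzcomm : ∀ u ∈ S, z * u = u * z := fun u hu => ((mem_cen.1 hzZ).2 u hu).symm
  have hdecS : ∀ s ∈ S, ∃ c ∈ cen S, s = c ∨ s = c * x₀ ∨ s = c * x₁ ∨ s = c * (x₀ * x₁) := by
    intro s hs
    obtain ⟨e, he, k, hek⟩ := D₀.exists_decomp hx₁S hx₁E₀ hs
    have hk : x₁ ^ k = 1 ∨ x₁ ^ k = x₁ :=
      mem_zpowers_two B₁.hx2 (Subgroup.npow_mem_zpowers x₁ k)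
    rcases B₀.hEdec e he with h | h
    · refine ⟨e, h, ?_⟩
      rcases hk with hk | hk
      · left
        rw [hek, hk, mul_one]
      · right
        right
        left
        rw [hek, hk]
    · refine ⟨e * x₀, h, ?_⟩
      have e1 : e * x₀ * x₀ = e := by rw [mul_assoc, hx₀x₀, mul_one]
      rcases hk with hk | hk
      · right
        left
        rw [hek, hk, mul_one, e1]
      · right
        right
        right
        rw [hek, hk, ← mul_assoc, e1]
  have hthird : ∀ P, F.IsEssential 2 P → P = E₀ ∨ P = E₁ := by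
    intro P hP
    obtain ⟨x₂, C₂, B₂⟩ := hb P hP
    obtain ⟨c, hcZ, h⟩ := hdecS x₂ (B₂.hES B₂.hx)
    have hcP := B₂.hZE hcZ
    rcases h with h | h | h | h
    · exact absurd (h ▸ hcZ) B₂.hxZ
    · left
      have h3 : x₀ ∈ P := by
        have h4 := P.mul_mem (P.inv_mem hcP) B₂.hx
        rwa [h, inv_mul_cancel_left] at h4
      exact (B₀.eq_of_mem B₂ h3).symm
    · right
      have h3 : x₁ ∈ P := by
        have h4 := P.mul_mem (P.inv_mem hcP) B₂.hx
        rwa [h, inv_mul_cancel_left] at h4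
      exact (B₁.eq_of_mem B₂ h3).symm
    · exfalso
      apply hsqz c⁻¹ ((cen S).inv_mem hcZ)
      have h3 : x₂ * x₂ = 1 := by rw [← pow_two, B₂.hx2]
      rw [h] at h3
      have hcc : x₀ * x₁ * c = c * (x₀ * x₁) := (mem_cen.1 hcZ).2 _ (S.mul_mem hx₀S hx₁S)
      have e2 : (x₀ * x₁) * (x₀ * x₁) = z := by
        calc (x₀ * x₁) * (x₀ * x₁) = z * (x₁ * x₀) * (x₀ * x₁) := by rw [← hc]
          _ = z * (x₁ * (x₀ * x₀) * x₁) := by group
          _ = z := by rw [hx₀x₀, mul_one, hx₁x₁, mul_one]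
      have e : c * (x₀ * x₁) * (c * (x₀ * x₁)) = c * c * z := by
        calc c * (x₀ * x₁) * (c * (x₀ * x₁)) = c * ((x₀ * x₁) * c) * (x₀ * x₁) := by group
          _ = c * (c * (x₀ * x₁)) * (x₀ * x₁) := by rw [hcc]
          _ = c * c * ((x₀ * x₁) * (x₀ * x₁)) := by group
          _ = c * c * z := by rw [e2]
      rw [e] at h3
      have h4 : z = (c * c)⁻¹ := eq_inv_of_mul_eq_one_right h3
      rw [h4, pow_two, mul_inv_rev]
  set N : Subgroup Ω := C₀ ⊓ C₁ with hNdef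
  set T : Subgroup Ω := Subgroup.closure (({z, x₀, x₁} : Set Ω) ∪ (N : Set Ω)) with hTdef
  have hzT : z ∈ T := Subgroup.subset_closure (Or.inl (Or.inl rfl))
  have hx₀T : x₀ ∈ T := Subgroup.subset_closure (Or.inl (Or.inr (Or.inl rfl)))
  have hx₁T : x₁ ∈ T := Subgroup.subset_closure (Or.inl (Or.inr (Or.inr rfl)))
  have hNT : ∀ n ∈ N, n ∈ T := fun n hn => Subgroup.subset_closure (Or.inr hn)
  have hNd : ∀ d ∈ F.autGroup S, ∀ c (hc : c ∈ cen S), c⁻¹ * ((d ⟨c, (mem_cen.1 hc).1⟩ : S) : Ω) ∈ N :=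
    fun d hd c hc => ⟨B₀.d_Z hd (htriv d hd) hzZ (hdz d hd) hc, B₁.d_Z hd (htriv d hd) hzZ (hdz d hd) hc⟩
  have hbaseS : ∀ d ∈ F.autGroup S, ∀ x : S, (x : Ω)⁻¹ * ((d x : S) : Ω) ∈ T := by
    intro d hd x
    have hx0' : ((d ⟨x₀, hx₀S⟩ : S) : Ω) ∈ T := by
      rcases B₀.d_x hd (htriv d hd) hzZ with h | h <;> rw [h]
      · exact hx₀T
      · exact T.mul_mem hzT hx₀T
    have hx1' : ((d ⟨x₁, hx₁S⟩ : S) : Ω) ∈ T := by
      rcases B₁.d_x hd (htriv d hd) hzZ with h | h <;> rw [h]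
      · exact hx₁T
      · exact T.mul_mem hzT hx₁T
    have hcw : ∀ (c w : S), (c : Ω) ∈ cen S → (w : Ω) ∈ T → ((d w : S) : Ω) ∈ T →
        ((c * w : S) : Ω)⁻¹ * ((d (c * w) : S) : Ω) ∈ T := by
      intro c w hc hw hdw
      have h1 := hNT _ (hNd d hd c hc)
      rw [map_mul]
      have e : ((c * w : S) : Ω)⁻¹ * ((d c * d w : S) : Ω) =
          (w : Ω)⁻¹ * (((c : Ω)⁻¹ * ((d c : S) : Ω)) * ((d w : S) : Ω)) := by
        simp only [Subgroup.coe_mul]
        group
      rw [e]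
      exact T.mul_mem (T.inv_mem hw) (T.mul_mem h1 hdw)
    obtain ⟨c, hcZ, h⟩ := hdecS x x.2
    have hcS := (mem_cen.1 hcZ).1
    rcases h with h | h | h | h
    · have e : x = ⟨c, hcS⟩ * 1 := Subtype.ext (by simpa using h)
      rw [e]
      exact hcw _ _ hcZ T.one_mem (by rw [map_one]; exact T.one_mem)
    · have e : x = ⟨c, hcS⟩ * ⟨x₀, hx₀S⟩ := Subtype.ext h
      rw [e]
      exact hcw _ _ hcZ hx₀T hx0'
    · have e : x = ⟨c, hcS⟩ * ⟨x₁, hx₁S⟩ := Subtype.ext h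
      rw [e]
      exact hcw _ _ hcZ hx₁T hx1'
    · have e : x = ⟨c, hcS⟩ * (⟨x₀, hx₀S⟩ * ⟨x₁, hx₁S⟩) := Subtype.ext h
      rw [e]
      refine hcw _ _ hcZ (T.mul_mem hx₀T hx₁T) ?_
      rw [map_mul]
      exact T.mul_mem hx0' hx1'
  have hle : F.focalSubgroup ≤ T := by
    refine foc_le hS hF T ?_
    intro P φ hP hφ hr x
    rcases hP with hPS | hP
    · obtain ⟨d, hd, hx, e⟩ := hhomS hPS hφ hr x
      rw [e]
      exact hbaseS d hd ⟨x, hx⟩
    · rcases hthird P hP with h | h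
      · subst h
        exact B₀.base_ess T hzz hzZ hzT hx₀T
          (fun d hd c hc _ => hNT _ (hNd d hd c hc)) hφ hr x
      · subst h
        exact B₁.base_ess T hzz hzZ hzT hx₁T
          (fun d hd c hc _ => hNT _ (hNd d hd c hc)) hφ hr x
  have hST : S ≤ T := hfoc.trans hle
  have hNZ : N ≤ cen S := inf_le_left.trans B₀.hC
  have hgen : ∀ g y, y ∈ cen S → (g * y ∈ N ∨ z * (g * y) ∈ N) → g ∈ cen S := by
    intro g y hy h
    have h1 : g * y ∈ cen S := by
      rcases h with h | h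
      · exact hNZ h
      · have h2 := (cen S).mul_mem ((cen S).inv_mem hzZ) (hNZ h)
        rwa [inv_mul_cancel_left] at h2
    have h2 := (cen S).mul_mem h1 ((cen S).inv_mem hy)
    rwa [mul_inv_cancel_right] at h2
  have hZT : ∀ y ∈ cen S, y ∈ N ∨ z * y ∈ N := by
    intro y hy
    rcases closure_cases hNZ hzZ hx₀S hx₁S hx₀x₀ hx₁x₁ hzz hc (hST (mem_cen.1 hy).1) with h | h | h | h
    · exact h
    · exact absurd (hgen _ _ hy h) B₀.hxZ
    · exact absurd (hgen _ _ hy h) B₁.hxZ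
    · exfalso
      have h1 := hgen _ _ hy h
      apply hx₁E₀
      have h2 := E₀.mul_mem (E₀.inv_mem B₀.hx) (B₀.hZE h1)
      rwa [inv_mul_cancel_left] at h2
  have hC₀N : ∀ (C : Subgroup Ω), z ∉ C → N ≤ C → C ≤ cen S → C ≤ N := by
    intro C hzC hNC hCZ c hc
    rcases hZT c (hCZ hc) with h | h
    · exact h
    · exfalso
      apply hzC
      have h1 := C.mul_mem (hNC h) (C.inv_mem hc)
      rwa [mul_inv_cancel_right] at h1
  have hC₀1 : C₀ = C₁ := by
    apply le_antisymm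
    · exact (hC₀N C₀ B₀.hzC inf_le_left B₀.hC).trans inf_le_right
    · exact (hC₀N C₁ B₁.hzC inf_le_right B₁.hC).trans inf_le_left
  have hCn : F.IsNormal C₀ := by
    rw [Cfsg.Agent.Lib.Fusion.NormalEssential.isNormal_iff_essential hS hF]
    intro P hP
    rcases hP with hP | hP
    · subst hP
      refine ⟨B₀.hC.trans inf_le_left, fun α hα => ?_⟩
      exact map_eq_of_forall (G := F.autGroup P)
        (fun α hα c hc => B₀.d_C hα (htriv α hα) hc c.2) hα
    · refine ⟨B₀.hC.trans (cen_le_of_centric hP.1), fun α hα => ?_⟩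
      haveI : Finite P := finite_of_le hP.1.1
      rcases hthird P hP with h | h
      · subst h
        exact map_eq_of_forall (G := F.autGroup P) B₀.hCinv hα
      · subst h
        rw [hC₀1]
        exact map_eq_of_forall (G := F.autGroup P) B₁.hCinv hα
  have hCbot : C₀ = ⊥ := by
    rw [eq_bot_iff, ← hcore]
    exact le_core hCn
  have hZ12 : ∀ y ∈ cen S, y = 1 ∨ y = z := by
    intro y hy
    rcases B₀.hZdec y hy with h | h
    · rw [hCbot, Subgroup.mem_bot] at h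
      exact Or.inl h
    · rw [hCbot, Subgroup.mem_bot] at h
      right
      rw [← hzi]
      exact eq_inv_of_mul_eq_one_left h
  set zS : S := ⟨z, hzS⟩ with hzSdef
  have hzSp : zS ^ 2 = 1 := Subtype.ext hzp
  have hzS1 : zS ≠ 1 := fun h => hz1 (congrArg Subtype.val h)
  have hcenS : Subgroup.center ↥S = Subgroup.zpowers zS := by
    apply le_antisymm
    · intro y hy
      rw [← center_eq] at hy
      rcases hZ12 _ hy with h | h
      · have : y = 1 := Subtype.ext h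
        rw [this]
        exact Subgroup.one_mem _
      · have : y = zS := Subtype.ext h
        rw [this]
        exact Subgroup.mem_zpowers _
    · rw [Subgroup.zpowers_le, ← center_eq]
      exact hzZ
  have hcard₁ : Nat.card (Subgroup.center ↥S) = 2 := by
    rw [hcenS, Nat.card_zpowers, orderOf_eq_prime hzSp hzS1]
  have hcardS : Nat.card S = 2 ^ 3 := by
    have := Subgroup.card_mul_index (Subgroup.center ↥S)
    rw [hcard₁, hidx] at this
    rw [← this]
    norm_num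
  have hcc : ∀ x y : ↥S, ⁅x, y⁆ ∈ Subgroup.center ↥S := by
    intro x y
    rw [← center_eq]
    exact comm_mem_cen hidx x.2 y.2
  refine ⟨Cfsg.Agent.Lib.Fusion.GenExtra.isExtraspecial_of hS hcard₁ hcc (fun u => ?_) ?_, hcardS, ?_⟩
  · have h1 := quot_sq hna hidx (u : ↥S ⧸ Subgroup.center ↥S)
    rw [← QuotientGroup.mk_mul, QuotientGroup.eq_one_iff] at h1
    rwa [pow_two]
  · by_contra hcon
    push Not at hcon
    exact hna ⟨⟨fun u v => commutatorElement_eq_one_iff_mul_comm.1 (hcon u v)⟩⟩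
  · -- the dihedral group
    let X₀ : S := ⟨x₀, hx₀S⟩
    let X₁ : S := ⟨x₁, hx₁S⟩
    have hX₀2 : X₀ ^ 2 = 1 := Subtype.ext B₀.hx2
    have hX₁2 : X₁ ^ 2 = 1 := Subtype.ext B₁.hx2
    have hX₀1 : X₀ ≠ 1 := by
      intro h
      apply B₀.hxZ
      have h1 : x₀ = 1 := congrArg Subtype.val h
      rw [h1]
      exact (cen S).one_mem
    have hX₁1 : X₁ ≠ 1 := by
      intro h
      apply B₁.hxZ
      have h1 : x₁ = 1 := congrArg Subtype.val h
      rw [h1]
      exact (cen S).one_mem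
    have hXne : X₀ ≠ X₁ := by
      intro h
      apply hx₁E₀
      have h1 : x₀ = x₁ := congrArg Subtype.val h
      rw [← h1]
      exact B₀.hx
    have hXX : (X₀ * X₁) ^ 2 = zS := by
      apply Subtype.ext
      rw [pow_two]
      show x₀ * x₁ * (x₀ * x₁) = z
      calc x₀ * x₁ * (x₀ * x₁) = z * (x₁ * x₀) * (x₀ * x₁) := by rw [← hc]
        _ = z * (x₁ * (x₀ * x₀) * x₁) := by group
        _ = z := by rw [hx₀x₀, mul_one, hx₁x₁, mul_one]
    have hord : orderOf (X₀ * X₁) = 4 := by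
      have h1 := orderOf_eq_prime_pow (p := 2) (n := 1) (x := X₀ * X₁)
        (by
          intro h
          apply hzS1
          rw [← hXX]
          simpa using h)
        (by
          have e : (X₀ * X₁) ^ 2 ^ (1 + 1) = ((X₀ * X₁) ^ 2) ^ 2 := by
            rw [← pow_mul]
            norm_num
          rw [e, hXX, hzSp])
      simpa using h1
    have hclosure : Subgroup.closure ({X₀, X₁} : Set ↥S) = ⊤ := by
      rw [eq_top_iff]
      rintro s -
      have hX₀m : X₀ ∈ Subgroup.closure ({X₀, X₁} : Set ↥S) := Subgroup.subset_closure (Or.inl rfl)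
      have hX₁m : X₁ ∈ Subgroup.closure ({X₀, X₁} : Set ↥S) := Subgroup.subset_closure (Or.inr rfl)
      have hzm : zS ∈ Subgroup.closure ({X₀, X₁} : Set ↥S) := by
        rw [← hXX]
        exact Subgroup.pow_mem _ (Subgroup.mul_mem _ hX₀m hX₁m) 2
      have hcm : ∀ c ∈ cen S, ∀ (hcS : c ∈ S), (⟨c, hcS⟩ : S) ∈ Subgroup.closure ({X₀, X₁} : Set ↥S) := by
        intro c hc hcS
        rcases hZ12 c hc with h | h
        · have : (⟨c, hcS⟩ : S) = 1 := Subtype.ext h
          rw [this]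
          exact Subgroup.one_mem _
        · have : (⟨c, hcS⟩ : S) = zS := Subtype.ext h
          rw [this]
          exact hzm
      obtain ⟨c, hcZ, h⟩ := hdecS s s.2
      have hc' := hcm c hcZ (mem_cen.1 hcZ).1
      rcases h with h | h | h | h
      · have e : s = ⟨c, (mem_cen.1 hcZ).1⟩ := Subtype.ext h
        rw [e]
        exact hc'
      · have e : s = ⟨c, (mem_cen.1 hcZ).1⟩ * X₀ := Subtype.ext h
        rw [e]
        exact Subgroup.mul_mem _ hc' hX₀m
      · have e : s = ⟨c, (mem_cen.1 hcZ).1⟩ * X₁ := Subtype.ext h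
        rw [e]
        exact Subgroup.mul_mem _ hc' hX₁m
      · have e : s = ⟨c, (mem_cen.1 hcZ).1⟩ * (X₀ * X₁) := Subtype.ext h
        rw [e]
        exact Subgroup.mul_mem _ hc' (Subgroup.mul_mem _ hX₀m hX₁m)
    obtain ⟨e⟩ := Cfsg.Agent.S0206.result X₀ X₁ (orderOf_eq_prime hX₀2 hX₀1) (orderOf_eq_prime hX₁2 hX₁1) hXne
    rw [hord] at e
    exact ⟨((MulEquiv.subgroupCongr hclosure).trans Subgroup.topEquiv).symm.trans e⟩

end Fusion

end Cfsg.Agent.Lib.Fusion.TwoMain
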